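import Groth.Agent.Lib.Helper53.ToposFinColim

/-!
# Helper library for the `ToposFin` family: objects of finite presentation (SGA 4 VI 1.24)
-/

set_option autoImplicit false
universe u

open CategoryTheory CategoryTheory.Limits Opposite

namespace Groth.Agent.Helper53.TF

open ToposFin

variable {C : Type u} [SmallCategory C] {J : GrothendieckTopology C}

/-- Morphisms to a filtered colimit factor through a member of the diagram. -/
def HasLift (X : Sh J) : Prop :=
  ∀ (I : Type u) [SmallCategory I] [IsFiltered I] (D : I ⥤ Sh J) (φ : X ⟶ colimit D),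
    ∃ (i : I) (ψ : X ⟶ D.obj i), ψ ≫ colimit.ι D i = φ

lemma post_ι_apply {X : Sh J} {I : Type u} [SmallCategory I] (D : I ⥤ Sh J) (i : I)
    (φ : X ⟶ D.obj i) : colimit.post D (coyoneda.obj (op X))
      ((colimit.cocone (D ⋙ coyoneda.obj (op X))).ι.app i φ) = φ ≫ colimit.ι D i :=
  ConcreteCategory.congr_hom (colimit.ι_post D (coyoneda.obj (op X)) i) φ

theorem isFP_iff (X : Sh J) : IsFP X ↔ IsQC X ∧ HasLift X := by
  constructor
  · intro h
    refine ⟨isQC_of_injective (fun I _ _ D => (h I D).1), fun I _ _ D φ => ?_⟩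
    obtain ⟨x, hx⟩ := (h I D).2 φ
    obtain ⟨i, ψ, rfl⟩ := Types.jointly_surjective_of_isColimit
      (colimit.isColimit (D ⋙ coyoneda.obj (op X))) x
    exact ⟨i, ψ, (post_ι_apply D i ψ).symm.trans hx⟩
  · rintro ⟨h1, h2⟩ I _ _ D
    refine ⟨injective_post_of_isQC h1 I D, fun φ => ?_⟩
    obtain ⟨i, ψ, hψ⟩ := h2 I D φ
    exact ⟨(colimit.cocone (D ⋙ coyoneda.obj (op X))).ι.app i ψ, (post_ι_apply D i ψ).trans hψ⟩

lemma hasQCGenerators_of_hasCoherentGenerators (hE : HasCoherentGenerators J) :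
    HasQCGenerators J := by
  intro X
  obtain ⟨ι, F, π, hF, hπ⟩ := hE X
  exact ⟨ι, F, π, fun i => (hF i).1, hπ⟩

theorem isFP_of_isCoherent (hE : HasQCGenerators J) {X : Sh J} (hX : IsCoherent X) : IsFP X :=
  fun _ _ _ D => bijective_post_of_coherent D hE hX

lemma isCoherent_sigma_finite {κ : Type u} [Finite κ] (F : κ → Sh J)
    (h : ∀ k, IsCoherent (F k)) : IsCoherent (∐ F) :=
  ⟨isQC_of_finite_JE F (Sigma.ι F) (JE_cofan_inj _ (coproductIsCoproduct F)) (fun k => (h k).1),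
    isQS_of_JE_cover F (Sigma.ι F) (JE_cofan_inj _ (coproductIsCoproduct F)) (fun k => (h k).2)
      (fun i => isQCHom_cofan_inj _ (coproductIsCoproduct F) i)⟩

/-- A retract of a coherent object is coherent. -/
lemma isCoherent_of_retract {X Q : Sh J} (i : X ⟶ Q) (p : Q ⟶ X) (h : i ≫ p = 𝟙 X)
    (hQ : IsCoherent Q) : IsCoherent X := by
  have : IsSplitEpi p := ⟨⟨i, h⟩⟩
  have : IsSplitMono i := ⟨⟨p, h⟩⟩
  exact ⟨isQC_of_epi p hQ.1, isQS_of_mono i hQ.2⟩

/-- A retract of an object of finite presentation is of finite presentation. -/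
theorem isFP_of_retract {X Q : Sh J} (i : X ⟶ Q) (p : Q ⟶ X) (h : i ≫ p = 𝟙 X)
    (hQ : IsFP Q) : IsFP X := by
  rw [isFP_iff] at hQ ⊢
  have : IsSplitEpi p := ⟨⟨i, h⟩⟩
  refine ⟨isQC_of_epi p hQ.1, fun I _ _ D φ => ?_⟩
  obtain ⟨j, ψ, hψ⟩ := hQ.2 I D (p ≫ φ)
  refine ⟨j, i ≫ ψ, ?_⟩
  rw [Category.assoc, hψ, ← Category.assoc, h, Category.id_comp]

/-- The coequalizer of a pair `X₁ ⇉ X₀` with `X₀` of finite presentation and `X₁` quasi-compact is
of finite presentation. -/
theorem isFP_coequalizer {X₀ X₁ : Sh J} (a b : X₁ ⟶ X₀) (h₀ : IsFP X₀) (h₁ : IsQC X₁) :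
    IsFP (coequalizer a b) := by
  rw [isFP_iff] at h₀ ⊢
  refine ⟨isQC_of_epi (coequalizer.π a b) h₀.1, fun I _ _ D φ => ?_⟩
  obtain ⟨i, ψ₀, hψ₀⟩ := h₀.2 I D (coequalizer.π a b ≫ φ)
  have hab : (a ≫ ψ₀) ≫ (colimit.cocone D).ι.app i = (b ≫ ψ₀) ≫ (colimit.cocone D).ι.app i := by
    change (a ≫ ψ₀) ≫ colimit.ι D i = (b ≫ ψ₀) ≫ colimit.ι D i
    rw [Category.assoc, Category.assoc, hψ₀, ← Category.assoc, ← Category.assoc,
      coequalizer.condition]
  obtain ⟨j, f, hf⟩ := exists_map_eq_of_isQC D h₁ (colimit.isColimit D) _ _ hab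
  have hc : a ≫ ψ₀ ≫ D.map f = b ≫ ψ₀ ≫ D.map f := by
    simpa only [Category.assoc] using hf
  refine ⟨j, coequalizer.desc (ψ₀ ≫ D.map f) hc, ?_⟩
  apply coequalizer.hom_ext
  rw [← Category.assoc, coequalizer.π_desc, Category.assoc, colimit.w, hψ₀]

section Presentation

variable {X X₀ : Sh J} (p₀ : X₀ ⟶ X) {L : Type u} {H : L → Sh J} (h : ∀ l, H l ⟶ pullback p₀ p₀)

/-- First projection of the finite part of the relation. -/
noncomputable def relA (t : Finset L) : (∐ fun l : t => H l) ⟶ X₀ :=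
  Sigma.desc (fun l : t => h l ≫ pullback.fst p₀ p₀)

/-- Second projection of the finite part of the relation. -/
noncomputable def relB (t : Finset L) : (∐ fun l : t => H l) ⟶ X₀ :=
  Sigma.desc (fun l : t => h l ≫ pullback.snd p₀ p₀)

lemma ι_relA (t : Finset L) (l : t) :
    Sigma.ι (fun l : t => H l) l ≫ relA p₀ h t = h l ≫ pullback.fst p₀ p₀ := by
  simp [relA]

lemma ι_relB (t : Finset L) (l : t) :
    Sigma.ι (fun l : t => H l) l ≫ relB p₀ h t = h l ≫ pullback.snd p₀ p₀ := by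
  simp [relB]

lemma rel_condition {s t : Finset L} (hst : s ≤ t) :
    relA p₀ h s ≫ coequalizer.π (relA p₀ h t) (relB p₀ h t) =
      relB p₀ h s ≫ coequalizer.π (relA p₀ h t) (relB p₀ h t) := by
  apply Sigma.hom_ext
  intro l
  have e1 : Sigma.ι (fun l : s => H l) l ≫ relA p₀ h s =
      Sigma.ι (fun l : t => H l) ⟨l.1, hst l.2⟩ ≫ relA p₀ h t := by
    rw [ι_relA, ι_relA]
  have e2 : Sigma.ι (fun l : s => H l) l ≫ relB p₀ h s =
      Sigma.ι (fun l : t => H l) ⟨l.1, hst l.2⟩ ≫ relB p₀ h t := by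
    rw [ι_relB, ι_relB]
  rw [← Category.assoc, ← Category.assoc, e1, e2, Category.assoc, Category.assoc,
    coequalizer.condition]

/-- The filtered diagram of finitely presented quotients. -/
noncomputable def presFunctor : Finset L ⥤ Sh J where
  obj t := coequalizer (relA p₀ h t) (relB p₀ h t)
  map {s t} f := coequalizer.desc (coequalizer.π _ _) (rel_condition p₀ h (leOfHom f))
  map_id s := by
    apply coequalizer.hom_ext
    rw [coequalizer.π_desc, Category.comp_id]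
  map_comp f g := by
    apply coequalizer.hom_ext
    rw [coequalizer.π_desc, coequalizer.π_desc_assoc, coequalizer.π_desc]

/-- The projection from `X₀` to the finitely presented quotient. -/
noncomputable def presπ (t : Finset L) : X₀ ⟶ (presFunctor p₀ h).obj t :=
  coequalizer.π (relA p₀ h t) (relB p₀ h t)

instance (t : Finset L) : Epi (presπ p₀ h t) :=
  coequalizer.π_epi

lemma presπ_map {s t : Finset L} (f : s ⟶ t) :
    presπ p₀ h s ≫ (presFunctor p₀ h).map f = presπ p₀ h t :=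
  coequalizer.π_desc _ _

lemma rel_presπ (t : Finset L) : relA p₀ h t ≫ presπ p₀ h t = relB p₀ h t ≫ presπ p₀ h t :=
  coequalizer.condition _ _

lemma rel_p₀ (t : Finset L) : relA p₀ h t ≫ p₀ = relB p₀ h t ≫ p₀ := by
  apply Sigma.hom_ext
  intro l
  rw [← Category.assoc, ← Category.assoc, ι_relA, ι_relB, Category.assoc, Category.assoc,
    pullback.condition]

/-- The legs of the cocone over the diagram of finitely presented quotients. -/
noncomputable def presLeg (t : Finset L) : (presFunctor p₀ h).obj t ⟶ X :=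
  coequalizer.desc p₀ (rel_p₀ p₀ h t)

lemma presπ_leg (t : Finset L) : presπ p₀ h t ≫ presLeg p₀ h t = p₀ :=
  coequalizer.π_desc _ _

/-- The cocone over the diagram of finitely presented quotients. -/
noncomputable def presCocone : Cocone (presFunctor p₀ h) where
  pt := X
  ι :=
    { app := fun t => presLeg p₀ h t
      naturality := by
        intro s t f
        rw [← cancel_epi (presπ p₀ h s)]
        change presπ p₀ h s ≫ (presFunctor p₀ h).map f ≫ presLeg p₀ h t =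
          presπ p₀ h s ≫ presLeg p₀ h s ≫ 𝟙 X
        rw [Category.comp_id, presπ_leg, ← Category.assoc, presπ_map, presπ_leg] }

lemma presCocone_ι_app (t : Finset L) : (presCocone p₀ h).ι.app t = presLeg p₀ h t := rfl

/-- The diagram of finitely presented quotients has colimit `X`. -/
theorem presCocone_isColimit [Epi p₀] (hh : JE h) : Nonempty (IsColimit (presCocone p₀ h)) := by
  classical
  refine ⟨IsColimit.ofExistsUnique (fun s => ?_)⟩
  have hsw : ∀ t : Finset L, presπ p₀ h t ≫ s.ι.app t = presπ p₀ h ∅ ≫ s.ι.app ∅ := by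
    intro t
    have hle : (∅ : Finset L) ≤ t := Finset.empty_subset _
    rw [← s.w (homOfLE hle), ← Category.assoc, presπ_map]
  have hJE : JE (fun _ : PUnit.{u + 1} => p₀) := by
    intro Z a b hab
    rw [← cancel_epi p₀]
    exact hab PUnit.unit
  obtain ⟨a, ha⟩ : ∃ a : X₀ ⟶ s.pt, ∀ t, presπ p₀ h t ≫ s.ι.app t = a :=
    ⟨presπ p₀ h ∅ ≫ s.ι.app ∅, hsw⟩
  have hcond : pullback.fst p₀ p₀ ≫ a = pullback.snd p₀ p₀ ≫ a := by
    apply hh
    intro l
    have e1 := ι_relA p₀ h {l} ⟨l, Finset.mem_singleton_self l⟩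
    have e2 := ι_relB p₀ h {l} ⟨l, Finset.mem_singleton_self l⟩
    have e3 := congrArg (fun m => Sigma.ι (fun l' : ({l} : Finset L) => H l')
      ⟨l, Finset.mem_singleton_self l⟩ ≫ m ≫ s.ι.app {l}) (rel_presπ p₀ h {l})
    simp only [] at e3
    rw [← Category.assoc, ← Category.assoc, ← Category.assoc, ← Category.assoc, e1, e2,
      Category.assoc, Category.assoc, Category.assoc, Category.assoc, ha] at e3
    exact e3
  obtain ⟨d, hd⟩ : ∃ d : X ⟶ s.pt, p₀ ≫ d = a := by
    obtain ⟨d, hd⟩ := JE.exists_desc hJE (fun _ => a) (fun _ _ => hcond)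
    exact ⟨d, hd PUnit.unit⟩
  have key : ∀ t, presLeg p₀ h t ≫ d = s.ι.app t := by
    intro t
    rw [← cancel_epi (presπ p₀ h t), ← Category.assoc, presπ_leg, hd, ha]
  have huniq : ∀ d' : X ⟶ s.pt, (∀ t, presLeg p₀ h t ≫ d' = s.ι.app t) → d' = d := by
    intro d' hd''
    have h1 : p₀ ≫ d' = a := by
      rw [← ha ∅, ← hd'' ∅, ← Category.assoc, presπ_leg]
    rw [← cancel_epi p₀]
    exact h1.trans hd.symm
  exact ⟨d, key, fun d' hd'' => huniq d' hd''⟩

/-- If `X` has the lifting property, it is a retract of one of its finitely presented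
quotients. -/
theorem exists_retract_pres [Epi p₀] (hh : JE h) (hX : HasLift X) :
    ∃ (t : Finset L) (i : X ⟶ coequalizer (relA p₀ h t) (relB p₀ h t))
      (p : coequalizer (relA p₀ h t) (relB p₀ h t) ⟶ X), i ≫ p = 𝟙 X := by
  obtain ⟨hc⟩ := presCocone_isColimit p₀ h hh
  let e : colimit (presFunctor p₀ h) ≅ X :=
    (colimit.isColimit (presFunctor p₀ h)).coconePointUniqueUpToIso hc
  have he : ∀ t, colimit.ι (presFunctor p₀ h) t ≫ e.hom = presLeg p₀ h t := fun t =>
    IsColimit.comp_coconePointUniqueUpToIso_hom (colimit.isColimit (presFunctor p₀ h)) hc t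
  obtain ⟨t, ψ, hψ⟩ := hX (Finset L) (presFunctor p₀ h) e.inv
  refine ⟨t, ψ, presLeg p₀ h t, ?_⟩
  change ψ ≫ presLeg p₀ h t = 𝟙 X
  rw [← he t, ← Category.assoc, hψ, e.inv_hom_id]

end Presentation

/-- SGA 4 VI 1.24, direct implication: an object of finite presentation is a retract of the
coequalizer of a pair of morphisms between coherent objects. -/
theorem exists_retract_of_isFP (hE : HasCoherentGenerators J) {X : Sh J} (hX : IsFP X) :
    ∃ (X₀ X₁ : Sh J) (a b : X₁ ⟶ X₀) (i : X ⟶ coequalizer a b) (p : coequalizer a b ⟶ X),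
      IsCoherent X₀ ∧ IsCoherent X₁ ∧ i ≫ p = 𝟙 X := by
  classical
  rw [isFP_iff] at hX
  obtain ⟨ι, F, π, hF, hπ⟩ := hE X
  obtain ⟨s, hs⟩ := (isQC_iff X).1 hX.1 ι F π ((epi_sigmaDesc_iff π).1 hπ)
  have hepi : Epi (Sigma.desc (fun k : s => π k)) := (epi_sigmaDesc_iff _).2 hs
  obtain ⟨L, H, h, hH, hh⟩ := hE (pullback (Sigma.desc (fun k : s => π k))
    (Sigma.desc (fun k : s => π k)))
  obtain ⟨t, i, p, hip⟩ := exists_retract_pres (Sigma.desc (fun k : s => π k)) h
    ((epi_sigmaDesc_iff h).1 hh) hX.2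
  exact ⟨_, _, _, _, i, p, isCoherent_sigma_finite _ (fun k => hF k),
    isCoherent_sigma_finite _ (fun l => hH l), hip⟩

/-- SGA 4 VI 1.24, converse implication. -/
theorem isFP_of_retract_coequalizer (hE : HasQCGenerators J) {X X₀ X₁ : Sh J} (a b : X₁ ⟶ X₀)
    (i : X ⟶ coequalizer a b) (p : coequalizer a b ⟶ X) (h₀ : IsCoherent X₀) (h₁ : IsCoherent X₁)
    (hip : i ≫ p = 𝟙 X) : IsFP X :=
  isFP_of_retract i p hip (isFP_coequalizer a b (isFP_of_isCoherent hE h₀) h₁.1)

/-- An epimorphism is the coequalizer of (any epimorphic cover of) its kernel pair. -/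
noncomputable def coequalizerIsoOfKernelCover {X X₀ X₁ : Sh J} (p₀ : X₀ ⟶ X) [Epi p₀]
    (e : X₁ ⟶ pullback p₀ p₀) [Epi e] :
    coequalizer (e ≫ pullback.fst p₀ p₀) (e ≫ pullback.snd p₀ p₀) ≅ X := by
  have hq : (e ≫ pullback.fst p₀ p₀) ≫ p₀ = (e ≫ pullback.snd p₀ p₀) ≫ p₀ := by
    rw [Category.assoc, Category.assoc, pullback.condition]
  have hJE : JE (fun _ : PUnit.{u + 1} => p₀) := by
    intro Z a b hab
    rw [← cancel_epi p₀]
    exact hab PUnit.unit
  have hcond : pullback.fst p₀ p₀ ≫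
      coequalizer.π (e ≫ pullback.fst p₀ p₀) (e ≫ pullback.snd p₀ p₀) =
      pullback.snd p₀ p₀ ≫ coequalizer.π (e ≫ pullback.fst p₀ p₀) (e ≫ pullback.snd p₀ p₀) := by
    rw [← cancel_epi e, ← Category.assoc, ← Category.assoc, coequalizer.condition]
  have hd := JE.exists_desc hJE
    (fun _ => coequalizer.π (e ≫ pullback.fst p₀ p₀) (e ≫ pullback.snd p₀ p₀)) (fun _ _ => hcond)
  refine ⟨coequalizer.desc p₀ hq, hd.choose, ?_, ?_⟩
  · apply coequalizer.hom_ext
    rw [← Category.assoc, coequalizer.π_desc, hd.choose_spec PUnit.unit, Category.comp_id]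
  · rw [← cancel_epi p₀, ← Category.assoc, hd.choose_spec PUnit.unit, coequalizer.π_desc,
      Category.comp_id]

section GenSet

variable {S : Set (Sh J)}

lemma exists_fin_cover_of_gen (hgen : Gen S) {X : Sh J} (hX : IsQC X) :
    ∃ (n : ℕ) (G : Fin n → Sh J) (γ : ∀ k, G k ⟶ X), (∀ k, G k ∈ S) ∧ JE γ := by
  classical
  obtain ⟨ι, F, π, hF, hπ⟩ := hgen X
  obtain ⟨s, hs⟩ := (isQC_iff X).1 hX ι F π hπ
  refine ⟨s.card, fun k => F (s.equivFin.symm k), fun k => π (s.equivFin.symm k),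
    fun k => hF _, ?_⟩
  intro Z a b hab
  apply hs
  intro i
  have key : ∀ j : s, j = i → π j ≫ a = π j ≫ b → π i ≫ a = π i ≫ b := by
    rintro _ rfl h
    exact h
  exact key _ (Equiv.symm_apply_apply _ i) (hab (s.equivFin i))

lemma hasCoherentGenerators_of_gen (hqc : ∀ K ∈ S, IsQC K) (hgen : Gen S) (hpb : PBClosed S) :
    HasCoherentGenerators J := by
  intro X
  obtain ⟨ι, F, π, hF, hπ⟩ := hgen X
  exact ⟨ι, F, π, fun i => isCoherent_of_mem hqc hgen hpb (hF i), (epi_sigmaDesc_iff π).2 hπ⟩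

variable (hcolim : ∀ (K : Type) [SmallCategory K] [FinCategory K] (D : K ⥤ Sh J),
      (∀ k, D.obj k ∈ S) → colimit D ∈ S)

include hcolim

lemma sigma_fin_mem {n : ℕ} (G : Fin n → Sh J) (hG : ∀ k, G k ∈ S) : ∐ G ∈ S :=
  hcolim (Discrete (Fin n)) (Discrete.functor G) (fun k => hG k.as)

lemma coequalizer_mem {X₀ X₁ : Sh J} (a b : X₁ ⟶ X₀) (h₀ : X₀ ∈ S) (h₁ : X₁ ∈ S) :
    coequalizer a b ∈ S :=
  hcolim WalkingParallelPair (parallelPair a b) (by
    rintro (_ | _)
    · exact h₁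
    · exact h₀)

/-- SGA 4 VI 1.24.1: a generating set of quasi-compact objects stable under fibre products and
finite colimits contains every coherent object. -/
theorem mem_of_isCoherent (hqc : ∀ K ∈ S, IsQC K)
    (hiso : ∀ ⦃K L : Sh J⦄, K ∈ S → Nonempty (K ≅ L) → L ∈ S) (hgen : Gen S)
    {X : Sh J} (hX : IsCoherent X) : X ∈ S := by
  obtain ⟨n, G, γ, hG, hγ⟩ := exists_fin_cover_of_gen hgen hX.1
  have h₀ : ∐ G ∈ S := sigma_fin_mem hcolim G hG
  have hepi : Epi (Sigma.desc γ) := (epi_sigmaDesc_iff γ).2 hγ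
  have hR : IsQC (pullback (Sigma.desc γ) (Sigma.desc γ)) :=
    hX.2 _ _ _ _ (hqc _ h₀) (hqc _ h₀)
  obtain ⟨m, H, h, hH, hh⟩ := exists_fin_cover_of_gen hgen hR
  have h₁ : ∐ H ∈ S := sigma_fin_mem hcolim H hH
  have hepi' : Epi (Sigma.desc h) := (epi_sigmaDesc_iff h).2 hh
  exact hiso (coequalizer_mem hcolim _ _ h₀ h₁)
    ⟨coequalizerIsoOfKernelCover (Sigma.desc γ) (Sigma.desc h)⟩

/-- SGA 4 VI 1.24.1: objects of finite presentation are coherent when coherent objects are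
stable under finite colimits. -/
theorem isCoherent_of_isFP_of_gen (hqc : ∀ K ∈ S, IsQC K)
    (hiso : ∀ ⦃K L : Sh J⦄, K ∈ S → Nonempty (K ≅ L) → L ∈ S) (hgen : Gen S) (hpb : PBClosed S)
    {X : Sh J} (hX : IsFP X) : IsCoherent X := by
  obtain ⟨X₀, X₁, a, b, i, p, h₀, h₁, hip⟩ :=
    exists_retract_of_isFP (hasCoherentGenerators_of_gen hqc hgen hpb) hX
  have hQ : coequalizer a b ∈ S := coequalizer_mem hcolim a b
    (mem_of_isCoherent hcolim hqc hiso hgen h₀) (mem_of_isCoherent hcolim hqc hiso hgen h₁)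
  exact isCoherent_of_retract i p hip (isCoherent_of_mem hqc hgen hpb hQ)

end GenSet

end Groth.Agent.Helper53.TF
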