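import Mathlib
import Groth.Agent.Lib.Helper53.ToposFinFP
import Groth.Agent.Lib.Helper19.CechAcyclic

/-!
# Finite coproducts of members of a generating set `S` of a topos (helper library, SGA 4 VI §5)

`T S L`: `L` is (isomorphic to) a finite coproduct of members of `S`.  When `S` is stable under fibre
products, `T S` is stable under fibre products over members of `S`, hence the Čech nerve of
`K' ⟶ K` with `K ∈ S`, `T S K'` stays in `T S`.
-/

set_option autoImplicit false
universe u

open CategoryTheory CategoryTheory.Limits Opposite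

namespace Groth.Agent.Helper53.TFC

open ToposFin Groth.Agent.Helper53.TF Groth.Agent.Lib.Helper19

variable {C : Type u} [SmallCategory C] {J : GrothendieckTopology C}

/-- finite coproducts of members of `S`, up to isomorphism. -/
inductive T (S : Set (Sh J)) : Sh J → Prop
  | init {L : Sh J} : IsInitial L → T S L
  | mem {L : Sh J} : L ∈ S → T S L
  | iso {L L' : Sh J} : (L ≅ L') → T S L' → T S L
  | coprod {A B L : Sh J} (inl : A ⟶ L) (inr : B ⟶ L) :
      IsColimit (BinaryCofan.mk inl inr) → T S A → T S B → T S L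

variable {S : Set (Sh J)}

lemma T.of_pullback_coprod {B B₁ B₂ P : Sh J} (inl : B₁ ⟶ B) (inr : B₂ ⟶ B)
    (hc : IsColimit (BinaryCofan.mk inl inr)) (q : P ⟶ B)
    (h₁ : T S (pullback q inl)) (h₂ : T S (pullback q inr)) : T S P := by
  have hvk := FinitaryExtensive.vanKampen _ hc
  rw [BinaryCofan.isVanKampen_iff] at hvk
  have := (hvk (BinaryCofan.mk (pullback.fst q inl) (pullback.fst q inr))
    (pullback.snd q inl) (pullback.snd q inr) q pullback.condition.symm
    pullback.condition.symm).2
    ⟨IsPullback.of_hasPullback q inl, IsPullback.of_hasPullback q inr⟩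
  exact T.coprod _ _ this.some h₁ h₂

lemma T.pullback_mem (hpb : PBClosed S) {M A : Sh J} (hM : M ∈ S) (hA : A ∈ S) (α : A ⟶ M)
    {B : Sh J} (hB : T S B) : ∀ (β : B ⟶ M) {P : Sh J} (p : P ⟶ A) (q : P ⟶ B),
      IsPullback p q α β → T S P := by
  induction hB with
  | init hI => intro β P p q _; exact T.init (isInitial_of_hom_to q hI)
  | mem hB =>
    intro β P p q h
    obtain ⟨P', p', q', hP', h'⟩ := hpb α β hA hB hM
    exact T.iso (h.isoIsPullback _ _ h') (T.mem hP')
  | iso e _ ih =>
    intro β P p q h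
    refine ih (e.inv ≫ β) p (q ≫ e.hom) ?_
    exact IsPullback.of_iso h (Iso.refl _) (Iso.refl _) e (Iso.refl _) (by simp) (by simp)
      (by simp) (by simp)
  | coprod inl inr hc _ _ ih₁ ih₂ =>
    intro β P p q h
    refine T.of_pullback_coprod inl inr hc q ?_ ?_
    · exact ih₁ (inl ≫ β) (pullback.fst q inl ≫ p) (pullback.snd q inl)
        ((IsPullback.of_hasPullback q inl).paste_horiz h)
    · exact ih₂ (inr ≫ β) (pullback.fst q inr ≫ p) (pullback.snd q inr)
        ((IsPullback.of_hasPullback q inr).paste_horiz h)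

lemma T.pullback (hpb : PBClosed S) {M : Sh J} (hM : M ∈ S) {A : Sh J} (hA : T S A) :
    ∀ (α : A ⟶ M) {B : Sh J} (_ : T S B) (β : B ⟶ M) {P : Sh J} (p : P ⟶ A) (q : P ⟶ B),
      IsPullback p q α β → T S P := by
  induction hA with
  | init hI => intro α B hB β P p q _; exact T.init (isInitial_of_hom_to p hI)
  | mem hA => intro α B hB β P p q h; exact T.pullback_mem hpb hM hA α hB β p q h
  | iso e _ ih =>
    intro α B hB β P p q h
    refine ih (e.inv ≫ α) hB β (p ≫ e.hom) q ?_
    exact IsPullback.of_iso h (Iso.refl _) e (Iso.refl _) (Iso.refl _) (by simp) (by simp)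
      (by simp) (by simp)
  | coprod inl inr hc _ _ ih₁ ih₂ =>
    intro α B hB β P p q h
    refine T.of_pullback_coprod inl inr hc p ?_ ?_
    · exact ih₁ (inl ≫ α) hB β (pullback.snd p inl) (pullback.fst p inl ≫ q)
        ((IsPullback.of_hasPullback p inl).paste_horiz h.flip).flip
    · exact ih₂ (inr ≫ α) hB β (pullback.snd p inr) (pullback.fst p inr ≫ q)
        ((IsPullback.of_hasPullback p inr).paste_horiz h.flip).flip

section Wide

variable {K' K : Sh J} (f : K' ⟶ K)

/-- the `(n+1)`-fold fibre power of `K'` over `K` (the terms of the Čech nerve of `f`). -/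
noncomputable abbrev WP (n : ℕ) : Sh J :=
  widePullback K (fun _ : Fin (n + 1) => K') (fun _ => f)

/-- forget the last factor. -/
noncomputable def wr (n : ℕ) : WP f (n + 1) ⟶ WP f n :=
  WidePullback.lift (WidePullback.base _)
    (fun i : Fin (n + 1) => WidePullback.π _ (Fin.castSucc i)) (by simp)

@[reassoc (attr := simp)]
lemma wr_π (n : ℕ) (i : Fin (n + 1)) :
    wr f n ≫ WidePullback.π _ i = WidePullback.π _ (Fin.castSucc i) :=
  WidePullback.lift_π _ _ _ _ _

@[reassoc (attr := simp)]
lemma wr_base (n : ℕ) : wr f n ≫ WidePullback.base _ = WidePullback.base _ :=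
  WidePullback.lift_base _ _ _ _

lemma isPullback_WP (n : ℕ) :
    IsPullback (wr f n) (WidePullback.π (fun _ : Fin (n + 2) => f) (Fin.last (n + 1)))
      (WidePullback.base (fun _ : Fin (n + 1) => f)) f := by
  have hw : ∀ (s : PullbackCone (WidePullback.base (fun _ : Fin (n + 1) => f)) f)
      (j : Fin (n + 2)),
      (Fin.lastCases s.snd (fun i => s.fst ≫ WidePullback.π _ i) j : s.pt ⟶ K') ≫ f =
        s.fst ≫ WidePullback.base _ := by
    intro s j
    refine Fin.lastCases ?_ (fun i => ?_) j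
    · simpa using s.condition.symm
    · simp
  refine ⟨⟨by simp⟩, ⟨PullbackCone.IsLimit.mk _
    (fun s => WidePullback.lift (s.fst ≫ WidePullback.base _)
      (fun j => Fin.lastCases s.snd (fun i => s.fst ≫ WidePullback.π _ i) j) (hw s)) ?_ ?_ ?_⟩⟩
  · intro s
    apply WidePullback.hom_ext
    · intro j
      rw [Category.assoc, wr_π, WidePullback.lift_π, Fin.lastCases_castSucc]
    · rw [Category.assoc, wr_base, WidePullback.lift_base]
  · intro s
    rw [WidePullback.lift_π, Fin.lastCases_last]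
  · intro s m h₁ h₂
    apply WidePullback.hom_ext
    · intro j
      rw [WidePullback.lift_π]
      refine Fin.lastCases ?_ (fun i => ?_) j
      · rw [Fin.lastCases_last]; exact h₂
      · rw [Fin.lastCases_castSucc, ← h₁, Category.assoc, wr_π]
    · rw [WidePullback.lift_base, ← h₁, Category.assoc, wr_base]

/-- the `0`-th term of the Čech nerve is `K'`. -/
noncomputable def wp0Iso : WP f 0 ≅ K' where
  hom := WidePullback.π _ 0
  inv := WidePullback.lift f (fun _ => 𝟙 K') (by simp)
  hom_inv_id := by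
    apply WidePullback.hom_ext
    · intro j
      obtain rfl : j = 0 := Fin.fin_one_eq_zero j
      rw [Category.assoc, WidePullback.lift_π, Category.comp_id, Category.id_comp]
    · rw [Category.assoc, WidePullback.lift_base, Category.id_comp, WidePullback.π_arrow]
  inv_hom_id := WidePullback.lift_π _ _ _ _ _

lemma T_WP (hpb : PBClosed S) (hK : K ∈ S) (hK' : T S K') : ∀ n, T S (WP f n)
  | 0 => T.iso (wp0Iso f) hK'
  | n + 1 => T.pullback hpb hK (T_WP hpb hK hK' n) (WidePullback.base _) hK' f (wr f n)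
      (WidePullback.π _ (Fin.last (n + 1))) (isPullback_WP f n)

end Wide

section Coherent

lemma isCoherent_of_isInitial {L : Sh J} (hI : IsInitial L) : IsCoherent L :=
  ⟨isQC_of_isInitial hI, fun _ _ a _ _ _ =>
    isQC_of_isInitial (isInitial_of_hom_to (pullback.fst _ _ ≫ a) hI)⟩

lemma isCoherent_of_binaryCofan {A B L : Sh J} (inl : A ⟶ L) (inr : B ⟶ L)
    (hc : IsColimit (BinaryCofan.mk inl inr)) (hA : IsCoherent A) (hB : IsCoherent B) :
    IsCoherent L := by
  let F : ULift.{u} WalkingPair → Sh J := fun k => WalkingPair.casesOn k.down A B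
  let π : ∀ k, F k ⟶ L := fun k => match k with
    | ⟨.left⟩ => inl
    | ⟨.right⟩ => inr
  have hJE : JE π := by
    intro Z a b hab
    exact BinaryCofan.IsColimit.hom_ext hc (hab ⟨.left⟩) (hab ⟨.right⟩)
  have hcoh : ∀ k, IsCoherent (F k) := by
    rintro ⟨_ | _⟩
    · exact hA
    · exact hB
  let c : Cofan (fun j : WalkingPair => (WalkingPair.casesOn j A B : Sh J)) :=
    BinaryCofan.mk inl inr
  have hc' : IsColimit c := hc
  have hqc : ∀ k, IsQCHom (π k) := by
    rintro ⟨_ | _⟩
    · exact isQCHom_cofan_inj c hc' .left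
    · exact isQCHom_cofan_inj c hc' .right
  exact ⟨isQC_of_finite_JE F π hJE (fun k => (hcoh k).1),
    isQS_of_JE_cover F π hJE (fun k => (hcoh k).2) hqc⟩

lemma isCoherent_of_T (hqc : ∀ K ∈ S, IsQC K) (hgen : Gen S) (hpb : PBClosed S) {L : Sh J}
    (hL : T S L) : IsCoherent L := by
  induction hL with
  | init hI => exact isCoherent_of_isInitial hI
  | mem h => exact isCoherent_of_mem hqc hgen hpb h
  | iso e _ ih => exact isCoherent_of_iso e.symm ih
  | coprod inl inr hc _ _ ih₁ ih₂ => exact isCoherent_of_binaryCofan inl inr hc ih₁ ih₂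

/-- a quasi-compact object is covered by a member of `T S`, refining any given epimorphism. -/
lemma exists_T_cover_aux {X : Sh J} : ∀ (n : ℕ) (G : Fin n → Sh J) (γ : ∀ k, G k ⟶ X),
    (∀ k, G k ∈ S) → ∃ (L : Sh J) (g : L ⟶ X), T S L ∧ ∀ k, ∃ h : G k ⟶ L, h ≫ g = γ k
  | 0, _, _, _ => ⟨⊥_ _, initial.to X, T.init initialIsInitial, fun k => k.elim0⟩
  | n + 1, G, γ, hG => by
    obtain ⟨L, g, hL, hg⟩ := exists_T_cover_aux n (fun k => G k.succ) (fun k => γ k.succ)
      (fun k => hG _)
    refine ⟨G 0 ⨿ L, coprod.desc (γ 0) g,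
      T.coprod coprod.inl coprod.inr (coprodIsCoprod _ _) (T.mem (hG 0)) hL, fun k => ?_⟩
    refine Fin.cases ⟨coprod.inl, coprod.inl_desc _ _⟩ (fun j => ?_) k
    obtain ⟨h, hh⟩ := hg j
    exact ⟨h ≫ coprod.inr, by rw [Category.assoc, coprod.inr_desc, hh]⟩

lemma exists_T_cover (hgen : Gen S) {K'' K : Sh J} (hK : IsQC K) (f : K'' ⟶ K) [Epi f] :
    ∃ (L : Sh J) (g : L ⟶ K''), T S L ∧ Epi (g ≫ f) := by
  obtain ⟨ι, F, π, hF, hπ⟩ := hgen K''
  have hπf : JE (fun i => π i ≫ f) := by
    intro Z a b hab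
    rw [← cancel_epi f]
    exact hπ _ _ (fun i => by simpa using hab i)
  obtain ⟨s, hs⟩ := (isQC_iff K).1 hK ι F _ hπf
  classical
  obtain ⟨L, g, hL, hg⟩ := exists_T_cover_aux (S := S) s.card
    (fun k => F (s.equivFin.symm k)) (fun k => π (s.equivFin.symm k)) (fun k => hF _)
  refine ⟨L, g, hL, ⟨fun {Z} a b hab => ?_⟩⟩
  apply hs
  intro i
  obtain ⟨h, hh⟩ := hg (s.equivFin i)
  have key : ∀ j : s, j = i → ∀ h : F j ⟶ L, h ≫ g = π j →
      (π i ≫ f) ≫ a = (π i ≫ f) ≫ b := by
    rintro _ rfl h hh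
    rw [← hh]
    simp only [Category.assoc] at hab ⊢
    rw [hab]
  exact key _ (Equiv.symm_apply_apply _ i) h hh

end Coherent

end Groth.Agent.Helper53.TFC
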