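import Mathlib
import Groth.Agent.Lib.Helper53.ToposCechT

/-!
# Ext-vanishing on finite coproducts of members of `S` (helper library, SGA 4 VI §5)
-/

set_option autoImplicit false
universe u

open CategoryTheory CategoryTheory.Limits Opposite Abelian

namespace Groth.Agent.Helper53.TFC

open ToposFin Groth.Agent.Helper53.TF Groth.Agent.Lib.Helper19
open Groth.Agent.Lib.Helper19.CechHom

variable {C : Type u} [SmallCategory C] {J : GrothendieckTopology C} {S : Set (Sh J)}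

section General

variable {𝒜 : Type*} [Category 𝒜] [Abelian 𝒜] [HasExt.{u} 𝒜]

lemma ext_eq_zero_of_isZero {Z F : 𝒜} (hZ : IsZero Z) {n : ℕ} (x : Ext.{u} Z F n) : x = 0 := by
  rw [← Ext.mk₀_id_comp x, hZ.eq_of_src (𝟙 Z) 0, Ext.mk₀_zero, Ext.zero_comp]

lemma subsingleton_ext_of_iso {Z Z' F : 𝒜} (e : Z ≅ Z') {n : ℕ}
    (h : Subsingleton (Ext.{u} Z' F n)) : Subsingleton (Ext.{u} Z F n) := by
  refine subsingleton_of_forall_eq 0 fun x => ?_
  have h1 : (Ext.mk₀ e.inv).comp x (zero_add n) = 0 := Subsingleton.elim _ _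
  rw [← Ext.mk₀_id_comp x, ← e.hom_inv_id, ← Ext.mk₀_comp_mk₀_assoc, h1, Ext.comp_zero]

lemma subsingleton_ext_of_binaryCofan {A B L F : 𝒜} (inl : A ⟶ L) (inr : B ⟶ L)
    (hc : IsColimit (BinaryCofan.mk inl inr)) {n : ℕ}
    (hA : Subsingleton (Ext.{u} A F n)) (hB : Subsingleton (Ext.{u} B F n)) :
    Subsingleton (Ext.{u} L F n) := by
  refine subsingleton_of_forall_eq 0 fun x => ?_
  obtain ⟨r₁, hr₁l, hr₁r⟩ : ∃ r₁ : L ⟶ A, inl ≫ r₁ = 𝟙 A ∧ inr ≫ r₁ = 0 :=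
    ⟨BinaryCofan.IsColimit.desc' hc (𝟙 A) 0 |>.1, (BinaryCofan.IsColimit.desc' hc (𝟙 A) 0).2.1,
      (BinaryCofan.IsColimit.desc' hc (𝟙 A) 0).2.2⟩
  obtain ⟨r₂, hr₂l, hr₂r⟩ : ∃ r₂ : L ⟶ B, inl ≫ r₂ = 0 ∧ inr ≫ r₂ = 𝟙 B :=
    ⟨BinaryCofan.IsColimit.desc' hc 0 (𝟙 B) |>.1, (BinaryCofan.IsColimit.desc' hc 0 (𝟙 B)).2.1,
      (BinaryCofan.IsColimit.desc' hc 0 (𝟙 B)).2.2⟩
  have htot : 𝟙 L = r₁ ≫ inl + r₂ ≫ inr := by
    apply BinaryCofan.IsColimit.hom_ext hc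
    · change inl ≫ 𝟙 L = inl ≫ (r₁ ≫ inl + r₂ ≫ inr)
      rw [Preadditive.comp_add, ← Category.assoc, ← Category.assoc, hr₁l, hr₂l]
      simp
    · change inr ≫ 𝟙 L = inr ≫ (r₁ ≫ inl + r₂ ≫ inr)
      rw [Preadditive.comp_add, ← Category.assoc, ← Category.assoc, hr₁r, hr₂r]
      simp
  have h1 : (Ext.mk₀ inl).comp x (zero_add n) = 0 := Subsingleton.elim _ _
  have h2 : (Ext.mk₀ inr).comp x (zero_add n) = 0 := Subsingleton.elim _ _
  rw [← Ext.mk₀_id_comp x, htot, Ext.mk₀_add, Ext.add_comp, ← Ext.mk₀_comp_mk₀_assoc,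
    ← Ext.mk₀_comp_mk₀_assoc, h1, h2, Ext.comp_zero, Ext.comp_zero, add_zero]

end General

/-- Ext-vanishing in a fixed degree on members of `S` extends to `T S`. -/
lemma subsingleton_ext_of_T (F : Sheaf J AddCommGrpCat.{u}) (n : ℕ)
    (h : ∀ K ∈ S, Subsingleton (Ext.{u} ((G J).obj K) F n)) {L : Sh J} (hL : T S L) :
    Subsingleton (Ext.{u} ((G J).obj L) F n) := by
  induction hL with
  | init hI =>
    have : PreservesColimitsOfSize.{0, 0} (G J) := (CechTop.adjG J).leftAdjoint_preservesColimits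
    have hI' : IsInitial ((G J).obj _) := IsInitial.isInitialObj (G J) _ hI
    have hz : IsZero ((G J).obj _) :=
      IsZero.of_iso (isZero_zero _) (hI'.uniqueUpToIso HasZeroObject.zeroIsInitial)
    exact subsingleton_of_forall_eq 0 fun x => ext_eq_zero_of_isZero hz x
  | mem hK => exact h _ hK
  | iso e _ ih => exact subsingleton_ext_of_iso ((G J).mapIso e) ih
  | coprod inl inr hc _ _ ih₁ ih₂ =>
    have : PreservesColimitsOfSize.{0, 0} (G J) := (CechTop.adjG J).leftAdjoint_preservesColimits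
    have hc' : IsColimit (BinaryCofan.mk ((G J).map inl) ((G J).map inr)) :=
      (isColimitMapCoconeBinaryCofanEquiv (G J) inl inr) (isColimitOfPreserves (G J) hc)
    exact subsingleton_ext_of_binaryCofan _ _ hc' ih₁ ih₂

end Groth.Agent.Helper53.TFC
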