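import Mathlib
import Groth.Agent.Lib.Helper53.ToposCechExt

/-!
# Cartan's criterion relative to a generating set and filtered colimits (SGA 4 VI 5.1–5.3)
-/

set_option autoImplicit false
universe u

open CategoryTheory CategoryTheory.Limits Opposite Abelian

namespace Groth.Agent.Helper53.TFC

open ToposFin Groth.Agent.Helper53.TF Groth.Agent.Lib.Helper19
open Groth.Agent.Lib.Helper19.CechHom Groth.Agent.Lib.Helper19.CechTop
open Groth.Agent.Lib.Helper19.CechAcyclic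

variable {C : Type u} [SmallCategory C] {J : GrothendieckTopology C} {S : Set (Sh J)}

section Filtered

variable (J)

/-- sheafification commutes with the forgetful functor to sets. -/
noncomputable def uIso :
    (Functor.whiskeringRight Cᵒᵖ _ _).obj (forget AddCommGrpCat.{u}) ⋙ presheafToSheaf J (Type u) ≅
      presheafToSheaf J AddCommGrpCat.{u} ⋙ U J :=
  sheafComposeNatIso J (forget AddCommGrpCat.{u}) (sheafificationAdjunction J AddCommGrpCat.{u})
    (sheafificationAdjunction J (Type u))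

instance preservesFilteredColimits_U : PreservesFilteredColimitsOfSize.{u, u} (U J) :=
  ⟨fun Λ _ _ => ⟨fun {D} => by
    let ι := sheafToPresheaf J AddCommGrpCat.{u}
    let a := presheafToSheaf J AddCommGrpCat.{u}
    have h1 : PreservesColimit (D ⋙ ι) (a ⋙ U J) :=
      preservesColimit_of_natIso _ (uIso J)
    have hc := isColimitOfPreserves a (colimit.isColimit (D ⋙ ι))
    have hc' : IsColimit ((U J).mapCocone (a.mapCocone (colimit.cocone (D ⋙ ι)))) :=
      isColimitOfPreserves (a ⋙ U J) (colimit.isColimit (D ⋙ ι))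
    have h2 : PreservesColimit ((D ⋙ ι) ⋙ a) (U J) :=
      preservesColimit_of_preserves_colimit_cocone hc hc'
    have e : (D ⋙ ι) ⋙ a ≅ D :=
      Functor.associator _ _ _ ≪≫
        Functor.isoWhiskerLeft D (asIso (sheafificationAdjunction J AddCommGrpCat.{u}).counit) ≪≫
        Functor.rightUnitor D
    exact preservesColimit_of_iso_diagram (U J) e⟩⟩

variable {J}
variable {Λ : Type u} [SmallCategory Λ] [IsFiltered Λ] (D : Λ ⥤ Sheaf J AddCommGrpCat.{u})

lemma exists_lift_G (hE : HasQCGenerators J) {X : Sh J} (hX : IsCoherent X)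
    (x : (G J).obj X ⟶ colimit D) :
    ∃ (i : Λ) (y : (G J).obj X ⟶ D.obj i), y ≫ colimit.ι D i = x := by
  have hc : IsColimit ((U J).mapCocone (colimit.cocone D)) :=
    isColimitOfPreserves (U J) (colimit.isColimit D)
  obtain ⟨i, ψ, hψ⟩ := exists_lift_of_coherent (D ⋙ U J) hE hX hc ((adjG J).homEquiv _ _ x)
  refine ⟨i, ((adjG J).homEquiv _ _).symm ψ, ?_⟩
  apply ((adjG J).homEquiv _ _).injective
  rw [Adjunction.homEquiv_naturality_right, Equiv.apply_symm_apply]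
  exact hψ

lemma exists_map_eq_zero_G {X : Sh J} (hX : IsQC X) {i : Λ}
    (y : (G J).obj X ⟶ D.obj i) (h : y ≫ colimit.ι D i = 0) :
    ∃ (j : Λ) (f : i ⟶ j), y ≫ D.map f = 0 := by
  have hc : IsColimit ((U J).mapCocone (colimit.cocone D)) :=
    isColimitOfPreserves (U J) (colimit.isColimit D)
  obtain ⟨j, f, hf⟩ := exists_map_eq_of_isQC (D ⋙ U J) hX hc
    ((adjG J).homEquiv _ _ y) ((adjG J).homEquiv _ _ 0) (by
      change (adjG J).homEquiv _ _ y ≫ (U J).map (colimit.ι D i) =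
        (adjG J).homEquiv _ _ 0 ≫ (U J).map (colimit.ι D i)
      rw [← Adjunction.homEquiv_naturality_right, ← Adjunction.homEquiv_naturality_right, h,
        zero_comp])
  refine ⟨j, f, ?_⟩
  apply ((adjG J).homEquiv _ _).injective
  rw [Adjunction.homEquiv_naturality_right]
  refine hf.trans ?_
  change (adjG J).homEquiv _ _ 0 ≫ (U J).map (D.map f) = _
  rw [← Adjunction.homEquiv_naturality_right, zero_comp]

end Filtered

section Cartan

/-- Čech-acyclicity for the covers `K' ⟶ K` with `K ∈ S` and `K'` a finite coproduct of members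
of `S`. -/
def CechAcycS (S : Set (Sh J)) (F : Sheaf J AddCommGrpCat.{u}) : Prop :=
  ∀ (K' K : Sh J) (f : K' ⟶ K), K ∈ S → T S K' → Epi f → ∀ q : ℕ, HomExactAt F f q

lemma freeCx_X {K' K : Sh J} (f : K' ⟶ K) (n : ℕ) :
    (freeCx f).X n = (G J).obj (WP f n) := rfl

lemma subsingleton_ext_freeCx (hpb : PBClosed S) (F : Sheaf J AddCommGrpCat.{u}) (m : ℕ)
    (h : ∀ K ∈ S, Subsingleton (Ext.{u} ((G J).obj K) F m))
    {K' K : Sh J} (f : K' ⟶ K) (hK : K ∈ S) (hK' : T S K') (n : ℕ) :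
    Subsingleton (Ext.{u} ((freeCx f).X n) F m) :=
  subsingleton_ext_of_T F m h (T_WP f hpb hK hK' n)

/-- Leray direction: `S`-acyclic sheaves are Čech-acyclic. -/
theorem cechAcycS_of_acyclic (hpb : PBClosed S) (F : Sheaf J AddCommGrpCat.{u})
    (hF : ∀ K ∈ S, ∀ q : ℕ, Subsingleton (Ext.{u} ((G J).obj K) F (q + 1))) :
    CechAcycS S F := by
  intro K' K f hK hK' hf q x hx
  exact AcyclicRes.hom_exact_of_quasiIso (freeAug f) F
    (fun n m => subsingleton_ext_freeCx hpb F (m + 1) (fun K hK => hF K hK m) f hK hK' n)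
    (fun m => hF K hK m) q x hx

/-- Step 2: the quotient of a Čech-acyclic sheaf (with vanishing `H^1` on `S`) in an injective
one is Čech-acyclic. -/
theorem cechAcycS_X₃ (hpb : PBClosed S) {Sx : ShortComplex (Sheaf J AddCommGrpCat.{u})}
    (hS : Sx.ShortExact) [Injective Sx.X₂] (hF : CechAcycS S Sx.X₁)
    (h1 : ∀ K ∈ S, Subsingleton (Ext.{u} ((G J).obj K) Sx.X₁ 1)) :
    CechAcycS S Sx.X₃ := by
  intro K' K f hK hK' hf q x hx
  have := hS.mono_f
  obtain ⟨y, hy⟩ := ExtShift.lift_of_ext_one_subsingleton ((freeCx f).X (q + 1)) hS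
    (subsingleton_ext_freeCx hpb _ 1 h1 f hK hK' (q + 1)) x
  have hdy : ((freeCx f).d (q + 2) (q + 1) ≫ y) ≫ Sx.g = 0 := by
    rw [Category.assoc, hy, hx]
  let z : (freeCx f).X (q + 2) ⟶ Sx.X₁ := hS.exact.lift _ hdy
  have hz : z ≫ Sx.f = (freeCx f).d (q + 2) (q + 1) ≫ y := hS.exact.lift_f _ hdy
  have hdz : (freeCx f).d (q + 3) (q + 2) ≫ z = 0 := by
    rw [← cancel_mono Sx.f, Category.assoc, hz, HomologicalComplex.d_comp_d_assoc, zero_comp,
      zero_comp]
  obtain ⟨w, hw⟩ := hF K' K f hK hK' hf (q + 1) z hdz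
  have hy'1 : (freeCx f).d (q + 2) (q + 1) ≫ (y - w ≫ Sx.f) = 0 := by
    rw [Preadditive.comp_sub, ← Category.assoc, hw, hz, sub_self]
  have hy'2 : (y - w ≫ Sx.f) ≫ Sx.g = x := by
    rw [Preadditive.sub_comp, Category.assoc, Sx.zero, comp_zero, sub_zero, hy]
  obtain ⟨v, hv⟩ := homExactAt_of_injective Sx.X₂ f q (y - w ≫ Sx.f) hy'1
  exact ⟨v ≫ Sx.g, by rw [← Category.assoc, hv, hy'2]⟩

/-- Step 1: a Čech-acyclic sheaf has vanishing `H^1(K, -)` for `K ∈ S`. -/
theorem ext_one_subsingleton_S (hqc : ∀ K ∈ S, IsQC K) (hgen : Gen S)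
    (F : Sheaf J AddCommGrpCat.{u}) (hF : CechAcycS S F)
    (K : Sh J) (hK : K ∈ S) : Subsingleton (Ext.{u} ((G J).obj K) F 1) := by
  have hS := injSeq_shortExact F
  apply ExtShift.ext_one_subsingleton_of_lift ((G J).obj K) hS
  intro s
  have := hS.mono_f
  have := hS.epi_g
  obtain ⟨K'', f'', hf'', t'', ht''⟩ := CechTop.exists_epi_lift (injSeq F).g s
  obtain ⟨K', g, hK', hgf⟩ := exists_T_cover (S := S) hgen (hqc K hK) f''
  obtain ⟨f, hf_def⟩ : ∃ f : K' ⟶ K, f = g ≫ f'' := ⟨_, rfl⟩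
  have hf : Epi f := hf_def ▸ hgf
  obtain ⟨t', ht'_def⟩ : ∃ t' : (G J).obj K' ⟶ (injSeq F).X₂, t' = (G J).map g ≫ t'' := ⟨_, rfl⟩
  have ht' : t' ≫ (injSeq F).g = (G J).map f ≫ s := by
    rw [ht'_def, hf_def, Category.assoc, ht'', Functor.map_comp, Category.assoc]
  obtain ⟨t, ht_def⟩ : ∃ t : (freeCx f).X 0 ⟶ (injSeq F).X₂, t = p0 f ≫ t' := ⟨_, rfl⟩
  have ht : t ≫ (injSeq F).g = aug0 f ≫ s := by
    rw [ht_def, ← p0_comp, Category.assoc, Category.assoc, ht']
  have hdt : ((freeCx f).d 1 0 ≫ t) ≫ (injSeq F).g = 0 := by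
    rw [Category.assoc, ht, ← Category.assoc, d_comp_aug0, zero_comp]
  obtain ⟨z, hz⟩ : ∃ z : (freeCx f).X 1 ⟶ F, z ≫ (injSeq F).f = (freeCx f).d 1 0 ≫ t :=
    ⟨_, hS.exact.lift_f _ hdt⟩
  have hdz : (freeCx f).d 2 1 ≫ z = 0 := by
    rw [← cancel_mono (injSeq F).f, Category.assoc, hz, HomologicalComplex.d_comp_d_assoc,
      zero_comp, zero_comp]
  obtain ⟨w, hw0⟩ := hF K' K f hK hK' hf 0 z hdz
  have hw : (freeCx f).d 1 0 ≫ w = z := hw0
  have ht1 : (freeCx f).d 1 0 ≫ (t - w ≫ (injSeq F).f) = 0 := by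
    rw [Preadditive.comp_sub, ← Category.assoc, hw, hz, sub_self]
  have ht2 : (t - w ≫ (injSeq F).f) ≫ (injSeq F).g = aug0 f ≫ s := by
    rw [Preadditive.sub_comp, Category.assoc, (injSeq F).zero, comp_zero, sub_zero, ht]
  obtain ⟨b, hb⟩ : ∃ b : (G J).obj K ⟶ (injSeq F).X₂, aug0 f ≫ b = t - w ≫ (injSeq F).f :=
    ⟨_, (aug0_exact f).g_desc _ ht1⟩
  refine ⟨b, ?_⟩
  rw [← cancel_epi (aug0 f), ← Category.assoc, hb, ht2]

/-- Step 3 (Cartan): Čech-acyclic sheaves are `S`-acyclic. -/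
theorem ext_subsingleton_of_cechAcycS (hqc : ∀ K ∈ S, IsQC K) (hgen : Gen S)
    (hpb : PBClosed S) : ∀ (q : ℕ) (F : Sheaf J AddCommGrpCat.{u}), CechAcycS S F →
    ∀ K ∈ S, Subsingleton (Ext.{u} ((G J).obj K) F (q + 1))
  | 0, F, hF, K, hK => ext_one_subsingleton_S hqc hgen F hF K hK
  | q + 1, F, hF, K, hK =>
    ExtShift.ext_succ_succ_subsingleton ((G J).obj K) (injSeq_shortExact F) q
      (ext_subsingleton_of_cechAcycS hqc hgen hpb q (injSeq F).X₃
        (cechAcycS_X₃ hpb (injSeq_shortExact F) hF (ext_one_subsingleton_S hqc hgen F hF)) K hK)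

end Cartan

section Colim

variable {Λ : Type u} [SmallCategory Λ] [IsFiltered Λ] (D : Λ ⥤ Sheaf J AddCommGrpCat.{u})

/-- Čech-acyclicity passes to filtered colimits. -/
theorem cechAcycS_colimit (hqc : ∀ K ∈ S, IsQC K) (hgen : Gen S) (hpb : PBClosed S)
    (hD : ∀ i, CechAcycS S (D.obj i)) : CechAcycS S (colimit D) := by
  intro K' K f hK hK' hf q x hx
  have hE : HasQCGenerators J := hasQCGenerators_of_gen hqc hgen
  have hcoh : ∀ n, IsCoherent (WP f n) := fun n =>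
    isCoherent_of_T hqc hgen hpb (T_WP f hpb hK hK' n)
  obtain ⟨i, y, hy⟩ : ∃ (i : Λ) (y : (freeCx f).X (q + 1) ⟶ D.obj i),
      y ≫ colimit.ι D i = x := exists_lift_G D hE (hcoh (q + 1)) x
  have h0 : ((freeCx f).d (q + 2) (q + 1) ≫ y) ≫ colimit.ι D i = 0 := by
    rw [Category.assoc, hy, hx]
  obtain ⟨j, u, hu⟩ : ∃ (j : Λ) (u : i ⟶ j),
      ((freeCx f).d (q + 2) (q + 1) ≫ y) ≫ D.map u = 0 :=
    exists_map_eq_zero_G D (hcoh (q + 2)).1 ((freeCx f).d (q + 2) (q + 1) ≫ y) h0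
  obtain ⟨z, hz⟩ := hD j K' K f hK hK' hf q (y ≫ D.map u) (by
    rw [← Category.assoc]; exact hu)
  refine ⟨z ≫ colimit.ι D j, ?_⟩
  rw [← Category.assoc, hz, Category.assoc, colimit.w, hy]

/-- **SGA 4 VI 5.3 / S3879**: a filtered colimit of `S`-acyclic sheaves is `S`-acyclic. -/
theorem acyclic_colimit (hqc : ∀ K ∈ S, IsQC K) (hgen : Gen S) (hpb : PBClosed S)
    (hD : ∀ i, ∀ K ∈ S, ∀ q : ℕ, Subsingleton (Ext.{u} ((G J).obj K) (D.obj i) (q + 1)))
    (K : Sh J) (hK : K ∈ S) (q : ℕ) :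
    Subsingleton (Ext.{u} ((G J).obj K) (colimit D) (q + 1)) :=
  ext_subsingleton_of_cechAcycS hqc hgen hpb q _
    (cechAcycS_colimit D hqc hgen hpb (fun i => cechAcycS_of_acyclic hpb _ (hD i))) K hK

end Colim

end Groth.Agent.Helper53.TFC
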