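import Groth.Agent.Lib.Helper53.ToposFinSite
import Mathlib.CategoryTheory.Sites.RegularEpi
import Mathlib.CategoryTheory.Limits.Types.Filtered
import Mathlib.CategoryTheory.Filtered.Basic

/-!
# Helper library for the `ToposFin` family: filtered colimits and finite presentation
(SGA 4 VI 1.23)
-/

set_option autoImplicit false
universe u

open CategoryTheory CategoryTheory.Limits Opposite

namespace Groth.Agent.Helper53.TF

open ToposFin

variable {C : Type u} [SmallCategory C] {J : GrothendieckTopology C}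

lemma desc_aux {ι : Type u} {X Z : Sh J} {G : ι → Sh J} {γ : ∀ k, G k ⟶ X}
    (a : ∀ k, G k ⟶ Z)
    (ha : ∀ k l, pullback.fst (γ k) (γ l) ≫ a k = pullback.snd (γ k) (γ l) ≫ a l)
    {T : Sh J} (g₁ g₂ : T ⟶ ∐ G) (hg : g₁ ≫ Sigma.desc γ = g₂ ≫ Sigma.desc γ)
    {Q : Sh J} (τ : Q ⟶ T) (k l : ι) (u : Q ⟶ G k) (v : Q ⟶ G l)
    (e1 : τ ≫ g₁ = u ≫ Sigma.ι G k) (e2 : τ ≫ g₂ = v ≫ Sigma.ι G l) :
    τ ≫ g₁ ≫ Sigma.desc a = τ ≫ g₂ ≫ Sigma.desc a := by
  have e3 : u ≫ γ k = v ≫ γ l := by
    have h1 : u ≫ γ k = (u ≫ Sigma.ι G k) ≫ Sigma.desc γ := by simp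
    have h2 : v ≫ γ l = (v ≫ Sigma.ι G l) ≫ Sigma.desc γ := by simp
    rw [h1, h2, ← e1, ← e2, Category.assoc, Category.assoc, hg]
  have e4 : u ≫ a k = v ≫ a l := by
    have := congrArg (fun t => pullback.lift u v e3 ≫ t) (ha k l)
    simpa only [pullback.lift_fst_assoc, pullback.lift_snd_assoc] using this
  have h1 : u ≫ a k = (u ≫ Sigma.ι G k) ≫ Sigma.desc a := by simp
  have h2 : v ≫ a l = (v ≫ Sigma.ι G l) ≫ Sigma.desc a := by simp
  rw [h1, h2, ← e1, ← e2] at e4
  simpa only [Category.assoc] using e4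

/-- Descent of morphisms along a jointly epimorphic family (epimorphic families in a topos are
effective). -/
theorem JE.exists_desc {ι : Type u} {X Z : Sh J} {G : ι → Sh J} {γ : ∀ k, G k ⟶ X} (hγ : JE γ)
    (a : ∀ k, G k ⟶ Z)
    (ha : ∀ k l, pullback.fst (γ k) (γ l) ≫ a k = pullback.snd (γ k) (γ l) ≫ a l) :
    ∃ d : X ⟶ Z, ∀ k, γ k ≫ d = a k := by
  have hepi : Epi (Sigma.desc γ) := (epi_sigmaDesc_iff γ).2 hγ
  have hreg : IsRegularEpi (Sigma.desc γ) := IsRegularEpiCategory.regularEpiOfEpi _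
  have heff : EffectiveEpi (Sigma.desc γ) := (isRegularEpi_iff_effectiveEpi _).1 hreg
  have key : ∀ {T : Sh J} (g₁ g₂ : T ⟶ ∐ G), g₁ ≫ Sigma.desc γ = g₂ ≫ Sigma.desc γ →
      g₁ ≫ Sigma.desc a = g₂ ≫ Sigma.desc a := by
    intro T g₁ g₂ hg
    have hι : JE (Sigma.ι G) := JE_cofan_inj _ (coproductIsCoproduct G)
    have h1 : JE (fun k => pullback.fst g₁ (Sigma.ι G k)) := hι.pullback_fst g₁
    have h2 : ∀ k, JE (fun l => pullback.fst (pullback.fst g₁ (Sigma.ι G k) ≫ g₂) (Sigma.ι G l)) :=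
      fun k => hι.pullback_fst _
    have h3 := h1.comp h2
    apply h3
    rintro ⟨k, l⟩
    refine desc_aux a ha g₁ g₂ hg _ k l
      (pullback.fst (pullback.fst g₁ (Sigma.ι G k) ≫ g₂) (Sigma.ι G l) ≫
        pullback.snd g₁ (Sigma.ι G k))
      (pullback.snd (pullback.fst g₁ (Sigma.ι G k) ≫ g₂) (Sigma.ι G l)) ?_ ?_
    · simp only [Category.assoc, pullback.condition]
    · simp only [Category.assoc, pullback.condition]
  refine ⟨EffectiveEpi.desc (Sigma.desc γ) (Sigma.desc a) key, fun k => ?_⟩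
  have h := EffectiveEpi.fac (Sigma.desc γ) (Sigma.desc a) key
  calc γ k ≫ EffectiveEpi.desc (Sigma.desc γ) (Sigma.desc a) key
      = Sigma.ι G k ≫ Sigma.desc γ ≫ EffectiveEpi.desc (Sigma.desc γ) (Sigma.desc a) key := by
        rw [Sigma.ι_desc_assoc]
    _ = a k := by rw [h, Sigma.ι_desc]

section Filtered

variable {I : Type u} [SmallCategory I] (D : I ⥤ Sh J)

/-- The sieve over which two sections of `D.obj i` become equal further in the diagram. -/
def eqSieve (i : I) {U : C} (s t : (D.obj i).obj.obj (op U)) : Sieve U where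
  arrows V h := ∃ (j : I) (f : i ⟶ j),
    (D.map f).hom.app _ ((D.obj i).obj.map h.op s) = (D.map f).hom.app _ ((D.obj i).obj.map h.op t)
  downward_closed := by
    rintro V W h ⟨j, f, hf⟩ g
    refine ⟨j, f, ?_⟩
    have h1 := NatTrans.naturality_apply (D.map f).hom g.op ((D.obj i).obj.map h.op s)
    have h2 := NatTrans.naturality_apply (D.map f).hom g.op ((D.obj i).obj.map h.op t)
    rw [op_comp, (D.obj i).obj.map_comp, ConcreteCategory.comp_apply,
      ConcreteCategory.comp_apply, h1, h2, hf]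

variable [IsFiltered I]

/-- Two sections of a member of a filtered diagram of sheaves which agree in the colimit agree
locally further in the diagram. -/
theorem eqSieve_mem {c : Cocone D} (hc : IsColimit c) (i : I) {U : C}
    (s t : (D.obj i).obj.obj (op U))
    (h : (c.ι.app i).hom.app _ s = (c.ι.app i).hom.app _ t) : eqSieve D i s t ∈ J U := by
  let E := colimit.cocone (D ⋙ sheafToPresheaf J (Type u))
  have hE : IsColimit E := colimit.isColimit _
  let c' := Sheaf.sheafifyCocone E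
  have hc' : IsColimit c' := Sheaf.isColimitSheafifyCocone E hE
  have h' : (c'.ι.app i).hom.app _ s = (c'.ι.app i).hom.app _ t := by
    have e1 := IsColimit.comp_coconePointUniqueUpToIso_hom hc hc' i
    rw [← e1]
    change (hc.coconePointUniqueUpToIso hc').hom.hom.app _ ((c.ι.app i).hom.app _ s) =
      (hc.coconePointUniqueUpToIso hc').hom.hom.app _ ((c.ι.app i).hom.app _ t)
    rw [h]
  rw [Sheaf.sheafifyCocone_ι_app_val] at h'
  have hx := Presheaf.equalizerSieve_mem J (toSheafify J E.pt) (X := op U)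
    ((E.ι.app i).app (op U) s) ((E.ι.app i).app (op U) t) h'
  refine J.superset_covering ?_ hx
  intro V g hg
  have n1 := NatTrans.naturality_apply (E.ι.app i) g.op s
  have n2 := NatTrans.naturality_apply (E.ι.app i) g.op t
  have hg' : (E.ι.app i).app (op V) ((D.obj i).obj.map g.op s) =
      (E.ι.app i).app (op V) ((D.obj i).obj.map g.op t) := by
    have : E.pt.map g.op ((E.ι.app i).app (op U) s) = E.pt.map g.op ((E.ι.app i).app (op U) t) := hg
    exact n1.trans (this.trans n2.symm)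
  have hEV := isColimitOfPreserves ((evaluation Cᵒᵖ (Type u)).obj (op V)) hE
  obtain ⟨j, f, hf⟩ := (Types.FilteredColimit.isColimit_eq_iff' hEV _ _).1 hg'
  exact ⟨j, f, hf⟩

omit [IsFiltered I] in
lemma exists_common_refinement {I : Type*} [Category I] [IsFiltered I] (i : I) {κ : Type*}
    (s : Finset κ) (j : κ → I) (f : ∀ k, i ⟶ j k) :
    ∃ (m : I) (g : i ⟶ m), ∀ k ∈ s, ∃ (gk : j k ⟶ m), f k ≫ gk = g := by
  classical
  induction s using Finset.induction_on with
  | empty => exact ⟨i, 𝟙 i, fun k hk => absurd hk (Finset.notMem_empty k)⟩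
  | insert k₀ s _ ih =>
    obtain ⟨m, g, hg⟩ := ih
    obtain ⟨m', u, v, huv⟩ := IsFiltered.span g (f k₀)
    refine ⟨m', g ≫ u, fun k hk => ?_⟩
    rcases Finset.mem_insert.1 hk with rfl | hk'
    · exact ⟨v, huv.symm⟩
    · obtain ⟨gk, hgk⟩ := hg k hk'
      exact ⟨gk ≫ u, by rw [← Category.assoc, hgk]⟩

/-- SGA 4 VI 1.23 (i), injectivity: for quasi-compact `X`, two morphisms `X ⟶ D.obj i` which agree
in the filtered colimit agree further in the diagram. -/
theorem exists_map_eq_of_isQC {X : Sh J} (hX : IsQC X) {c : Cocone D} (hc : IsColimit c) {i : I}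
    (a b : X ⟶ D.obj i) (h : a ≫ c.ι.app i = b ≫ c.ι.app i) :
    ∃ (j : I) (f : i ⟶ j), a ≫ D.map f = b ≫ D.map f := by
  let Idx := Σ (p : Σ j : I, (i ⟶ j)) (V : C),
    {σ : eps J V ⟶ X // σ ≫ a ≫ D.map p.2 = σ ≫ b ≫ D.map p.2}
  let π : ∀ q : Idx, eps J q.2.1 ⟶ X := fun q => q.2.2.1
  have hJE : JE π := by
    rw [JE_iff_coverSieve]
    intro U x
    have hx : (c.ι.app i).hom.app _ (a.hom.app _ x) = (c.ι.app i).hom.app _ (b.hom.app _ x) :=
      congrArg (fun φ : X ⟶ c.pt => φ.hom.app (op U) x) h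
    refine J.superset_covering ?_ (eqSieve_mem D hc i _ _ hx)
    rintro V g ⟨j, f, hf⟩
    have hσ : (epsEquiv V X).symm (X.obj.map g.op x) ≫ a ≫ D.map f =
        (epsEquiv V X).symm (X.obj.map g.op x) ≫ b ≫ D.map f := by
      rw [epsEquiv_symm_comp, epsEquiv_symm_comp]
      congr 1
      have n1 := NatTrans.naturality_apply a.hom g.op x
      have n2 := NatTrans.naturality_apply b.hom g.op x
      change (D.map f).hom.app _ (a.hom.app _ (X.obj.map g.op x)) =
        (D.map f).hom.app _ (b.hom.app _ (X.obj.map g.op x))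
      rw [n1, n2]
      exact hf
    refine ⟨⟨⟨j, f⟩, V, ⟨_, hσ⟩⟩, epsUnit J V, ?_⟩
    change ((epsEquiv V X).symm (X.obj.map g.op x)).hom.app _ (epsUnit J V) = _
    rw [← epsEquiv_eq, Equiv.apply_symm_apply]
  obtain ⟨s, hs⟩ := isQC_exists_finset hX π hJE
  obtain ⟨m, g, hg⟩ := exists_common_refinement i s (fun q : Idx => q.1.1) (fun q => q.1.2)
  refine ⟨m, g, ?_⟩
  apply hs
  rintro ⟨q, hq⟩
  obtain ⟨gk, hgk⟩ := hg q hq
  change q.2.2.1 ≫ a ≫ D.map g = q.2.2.1 ≫ b ≫ D.map g
  have := q.2.2.2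
  have e : ∀ φ : X ⟶ D.obj i, q.2.2.1 ≫ φ ≫ D.map (q.1.2 ≫ gk) =
      (q.2.2.1 ≫ φ ≫ D.map q.1.2) ≫ D.map gk := by
    intro φ
    rw [D.map_comp]
    simp only [Category.assoc]
  rw [← hgk, e a, e b, this]

end Filtered

section Injective

/-- SGA 4 VI 1.23 (i), one direction. -/
theorem injective_post_of_isQC {X : Sh J} (hX : IsQC X) (I : Type u) [SmallCategory I]
    [IsFiltered I] (D : I ⥤ Sh J) :
    Function.Injective (colimit.post D (coyoneda.obj (op X))) := by
  intro x y hxy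
  obtain ⟨i, a, b, rfl, rfl⟩ := Types.FilteredColimit.jointly_surjective_of_isColimit₂
    (colimit.isColimit (D ⋙ coyoneda.obj (op X))) x y
  have e : ∀ φ : X ⟶ D.obj i, colimit.post D (coyoneda.obj (op X))
      ((colimit.cocone (D ⋙ coyoneda.obj (op X))).ι.app i φ) = φ ≫ colimit.ι D i := by
    intro φ
    exact ConcreteCategory.congr_hom (colimit.ι_post D (coyoneda.obj (op X)) i) φ
  rw [e a, e b] at hxy
  obtain ⟨j, f, hf⟩ := exists_map_eq_of_isQC D hX (colimit.isColimit D) a b hxy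
  exact (Types.FilteredColimit.isColimit_eq_iff' (colimit.isColimit _) a b).2 ⟨j, f, hf⟩

variable {X : Sh J} {ι : Type u} {F : ι → Sh J} (π : ∀ i, F i ⟶ X)

/-- The coproduct map for a finite subfamily. -/
noncomputable def sigmaSub (s : Finset ι) : (∐ fun i : s => F i) ⟶ X :=
  Sigma.desc (fun i : s => π i)

lemma ι_sigmaSub (s : Finset ι) (i : s) :
    Sigma.ι (fun i : s => F i) i ≫ sigmaSub π s = π i := by
  simp [sigmaSub]

lemma ck_condition {s t : Finset ι} (hst : s ≤ t) :
    sigmaSub π s ≫ (pushout.inl (sigmaSub π t) (sigmaSub π t)) =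
      sigmaSub π s ≫ pushout.inr (sigmaSub π t) (sigmaSub π t) := by
  apply Sigma.hom_ext
  intro i
  have : Sigma.ι (fun i : s => F i) i ≫ sigmaSub π s =
      Sigma.ι (fun i : t => F i) ⟨i.1, hst i.2⟩ ≫ sigmaSub π t := by
    rw [ι_sigmaSub, ι_sigmaSub]
  rw [← Category.assoc, ← Category.assoc, this, Category.assoc, Category.assoc, pushout.condition]

/-- The diagram of cokernel pairs of the finite subfamilies. -/
noncomputable def ckFunctor : Finset ι ⥤ Sh J where
  obj s := pushout (sigmaSub π s) (sigmaSub π s)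
  map {s t} h := pushout.desc (pushout.inl _ _) (pushout.inr _ _) (ck_condition π (leOfHom h))
  map_id s := by
    apply pushout.hom_ext
    · rw [pushout.inl_desc, Category.comp_id]
    · rw [pushout.inr_desc, Category.comp_id]
  map_comp f g := by
    apply pushout.hom_ext
    · rw [pushout.inl_desc, pushout.inl_desc_assoc, pushout.inl_desc]
    · rw [pushout.inr_desc, pushout.inr_desc_assoc, pushout.inr_desc]

lemma inl_ckFunctor_map {s t : Finset ι} (h : s ⟶ t) :
    pushout.inl (sigmaSub π s) (sigmaSub π s) ≫ (ckFunctor π).map h =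
      pushout.inl (sigmaSub π t) (sigmaSub π t) :=
  pushout.inl_desc _ _ _

lemma inr_ckFunctor_map {s t : Finset ι} (h : s ⟶ t) :
    pushout.inr (sigmaSub π s) (sigmaSub π s) ≫ (ckFunctor π).map h =
      pushout.inr (sigmaSub π t) (sigmaSub π t) :=
  pushout.inr_desc _ _ _

/-- SGA 4 VI 1.23 (i), converse direction. -/
theorem isQC_of_injective {X : Sh J}
    (h : ∀ (I : Type u) [SmallCategory I] [IsFiltered I] (D : I ⥤ Sh J),
      Function.Injective (colimit.post D (coyoneda.obj (op X)))) : IsQC X := by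
  classical
  rw [isQC_iff]
  intro ι F π hπ
  have hinj := h (Finset ι) (ckFunctor π)
  let a : X ⟶ (ckFunctor π).obj ∅ := pushout.inl _ _
  let b : X ⟶ (ckFunctor π).obj ∅ := pushout.inr _ _
  have hab : a ≫ colimit.ι (ckFunctor π) ∅ = b ≫ colimit.ι (ckFunctor π) ∅ := by
    apply hπ
    intro i
    have hle : (∅ : Finset ι) ≤ {i} := Finset.empty_subset _
    have hw := colimit.w (ckFunctor π) (homOfLE hle)
    have e1 : a ≫ colimit.ι (ckFunctor π) ∅ =
        pushout.inl (sigmaSub π {i}) (sigmaSub π {i}) ≫ colimit.ι (ckFunctor π) {i} := by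
      rw [← hw, ← Category.assoc]
      exact congrArg (· ≫ colimit.ι (ckFunctor π) {i}) (inl_ckFunctor_map π (homOfLE hle))
    have e2 : b ≫ colimit.ι (ckFunctor π) ∅ =
        pushout.inr (sigmaSub π {i}) (sigmaSub π {i}) ≫ colimit.ι (ckFunctor π) {i} := by
      rw [← hw, ← Category.assoc]
      exact congrArg (· ≫ colimit.ι (ckFunctor π) {i}) (inr_ckFunctor_map π (homOfLE hle))
    rw [e1, e2]
    have e3 := ι_sigmaSub π {i} ⟨i, Finset.mem_singleton_self i⟩
    change Sigma.ι (fun j : ({i} : Finset ι) => F j) ⟨i, Finset.mem_singleton_self i⟩ ≫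
      sigmaSub π {i} = π i at e3
    rw [← e3, Category.assoc, Category.assoc, pushout.condition_assoc]
  have e : ∀ φ : X ⟶ (ckFunctor π).obj ∅, colimit.post (ckFunctor π) (coyoneda.obj (op X))
      ((colimit.cocone (ckFunctor π ⋙ coyoneda.obj (op X))).ι.app ∅ φ) =
        φ ≫ colimit.ι (ckFunctor π) ∅ := by
    intro φ
    exact ConcreteCategory.congr_hom (colimit.ι_post (ckFunctor π) (coyoneda.obj (op X)) ∅) φ
  have hxy := hinj ((e a).trans (hab.trans (e b).symm))
  obtain ⟨t, f, hf⟩ := (Types.FilteredColimit.isColimit_eq_iff'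
    (colimit.isColimit (ckFunctor π ⋙ coyoneda.obj (op X))) (i := ∅) a b).1 hxy
  refine ⟨t, ?_⟩
  have hf' : pushout.inl (sigmaSub π t) (sigmaSub π t) = pushout.inr (sigmaSub π t) (sigmaSub π t) := by
    have h1 : a ≫ (ckFunctor π).map f = b ≫ (ckFunctor π).map f := hf
    exact (inl_ckFunctor_map π f).symm.trans (h1.trans (inr_ckFunctor_map π f))
  intro Z α β hαβ
  have hc : sigmaSub π t ≫ α = sigmaSub π t ≫ β := by
    apply Sigma.hom_ext
    intro i
    rw [← Category.assoc, ← Category.assoc, ι_sigmaSub]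
    exact hαβ i
  have h1 : pushout.inl (sigmaSub π t) (sigmaSub π t) ≫ pushout.desc α β hc = α :=
    pushout.inl_desc _ _ _
  have h2 : pushout.inr (sigmaSub π t) (sigmaSub π t) ≫ pushout.desc α β hc = β :=
    pushout.inr_desc _ _ _
  exact h1.symm.trans ((congrArg (· ≫ pushout.desc α β hc) hf').trans h2)

end Injective

section Surjective

variable {I : Type u} [SmallCategory I] [IsFiltered I] (D : I ⥤ Sh J)

omit [IsFiltered I] in
lemma JE_cocone_legs {c : Cocone D} (hc : IsColimit c) : JE (fun i => c.ι.app i) :=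
  fun _ _ _ hab => hc.hom_ext hab

/-- SGA 4 VI 1.23 (ii), surjectivity: a morphism from a coherent object to a filtered colimit
factors through a member of the diagram. -/
theorem exists_lift_of_coherent (hE : HasQCGenerators J) {X : Sh J} (hX : IsCoherent X)
    {c : Cocone D} (hc : IsColimit c) (φ : X ⟶ c.pt) :
    ∃ (i : I) (ψ : X ⟶ D.obj i), ψ ≫ c.ι.app i = φ := by
  classical
  have h1 := (JE_cocone_legs D hc).pullback_fst φ
  obtain ⟨κ, hκ, G, t, γ, hG, hγ⟩ := exists_finite_qc_refinement hE hX.1 _ h1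
  have := Fintype.ofFinite κ
  obtain ⟨m₀, hm₀⟩ := IsFiltered.sup_objs_exists (Finset.univ.image t)
  let u : ∀ k, t k ⟶ m₀ := fun k => (hm₀ (Finset.mem_image_of_mem t (Finset.mem_univ k))).some
  obtain ⟨a, ha⟩ : ∃ a : ∀ k, G k ⟶ D.obj m₀,
      ∀ k, a k ≫ c.ι.app m₀ = (γ k ≫ pullback.fst φ (c.ι.app (t k))) ≫ φ := by
    refine ⟨fun k => γ k ≫ pullback.snd φ (c.ι.app (t k)) ≫ D.map (u k), fun k => ?_⟩
    simp only [Category.assoc, c.w, pullback.condition]
  have hov : ∀ p : κ × κ, ∃ (j : I) (f : m₀ ⟶ j),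
      (pullback.fst (γ p.1 ≫ pullback.fst φ (c.ι.app (t p.1)))
        (γ p.2 ≫ pullback.fst φ (c.ι.app (t p.2))) ≫ a p.1) ≫ D.map f =
      (pullback.snd (γ p.1 ≫ pullback.fst φ (c.ι.app (t p.1)))
        (γ p.2 ≫ pullback.fst φ (c.ι.app (t p.2))) ≫ a p.2) ≫ D.map f := by
    intro p
    apply exists_map_eq_of_isQC D (hX.2 _ _ _ _ (hG p.1) (hG p.2)) hc
    rw [Category.assoc, Category.assoc, ha, ha]
    exact congrArg (· ≫ φ) pullback.condition |>.trans (Category.assoc _ _ _) |> fun h =>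
      (Category.assoc _ _ _).symm.trans h
  choose j f hf using hov
  obtain ⟨m, g, hg⟩ := exists_common_refinement m₀ (Finset.univ : Finset (κ × κ)) j f
  obtain ⟨ψ, hψ⟩ := JE.exists_desc hγ (fun k => a k ≫ D.map g) (by
    intro k l
    obtain ⟨gk, hgk⟩ := hg (k, l) (Finset.mem_univ _)
    have := congrArg (· ≫ D.map gk) (hf (k, l))
    simp only [Category.assoc] at this
    rw [← hgk, D.map_comp]
    exact this)
  refine ⟨m, ψ, ?_⟩
  apply hγ
  intro k
  rw [← Category.assoc, hψ k, Category.assoc, c.w, ha]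

/-- SGA 4 VI 1.23 (ii). -/
theorem bijective_post_of_coherent (hE : HasQCGenerators J) {X : Sh J} (hX : IsCoherent X) :
    Function.Bijective (colimit.post D (coyoneda.obj (op X))) := by
  refine ⟨injective_post_of_isQC hX.1 I D, fun φ => ?_⟩
  obtain ⟨i, ψ, hψ⟩ := exists_lift_of_coherent D hE hX (colimit.isColimit D) φ
  refine ⟨(colimit.cocone (D ⋙ coyoneda.obj (op X))).ι.app i ψ, ?_⟩
  exact (ConcreteCategory.congr_hom (colimit.ι_post D (coyoneda.obj (op X)) i) ψ).trans hψ

end Surjective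

end Groth.Agent.Helper53.TF
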