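import Groth.Agent.Lib.Helper53.GeomRedBC
import Groth.Agent.Lib.Helper21.SepClosedBase

/-!
# Connected components along morphisms of sheaves whose base change to an atlas is open,
surjective with connected fibres; application to base change of the ground field.  By helper53.
-/

set_option autoImplicit false
set_option linter.style.haveILetI false
universe u
open CategoryTheory CategoryTheory.Limits AlgebraicGeometry Opposite

namespace Groth.Agent.Helper53.AlgSpConn

open AlgSp
open Groth.Agent.Lib.Helper78.AlgSpBasic Groth.Agent.Lib.Helper51 Groth.Agent.Lib.Helper52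
open Groth.Agent.Helper53.GeomRedBC

section General

variable {S : Scheme.{u}} {Y' Y : Sp S} {g : Y' ⟶ Y} {V V' : Over S}
  {b : (yon S).obj V ⟶ Y} {b' : (yon S).obj V' ⟶ Y'} {ψ : V' ⟶ V}

theorem map_ofPt_eq (sq : IsPullback b' ((yon S).map ψ) g b) (v' : ↥V'.left) :
    Points.map g (Points.ofPt b' v') = Points.ofPt b (ψ.left v') := by
  rw [Points.map_ofPt, sq.w, ofPt_yon_map_comp]

theorem exists_lift_point (sq : IsPullback b' ((yon S).map ψ) g b) (v : ↥V.left)
    (y' : Points Y') (h : Points.map g y' = Points.ofPt b v) :
    ∃ v' : ↥V'.left, ψ.left v' = v ∧ Points.ofPt b' v' = y' := by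
  rw [Points.ofPt_eq_map_ofScheme] at h
  obtain ⟨w, hw1, hw2⟩ := exists_point_of_isPullback sq y' _ h
  obtain ⟨v', rfl⟩ := (Points.schemeEquiv V').surjective w
  change Points.map _ (Points.ofScheme V' v') = _ at hw1
  change Points.map _ (Points.ofScheme V' v') = _ at hw2
  rw [map_yon_map_ofScheme] at hw2
  refine ⟨v', ofScheme_injective V hw2, ?_⟩
  rw [Points.ofPt_eq_map_ofScheme, hw1]

theorem surjective_map (sq : IsPullback b' ((yon S).map ψ) g b)
    (hbs : RepWith @Surjective b) (hψs : Function.Surjective ψ.left) :
    Function.Surjective (Points.map g) := by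
  intro y
  obtain ⟨v, rfl⟩ := surjective_ofPt_of_repWith_surjective b hbs y
  obtain ⟨v', rfl⟩ := hψs v
  exact ⟨Points.ofPt b' v', map_ofPt_eq sq v'⟩

theorem isOpenMap_map (sq : IsPullback b' ((yon S).map ψ) g b)
    (hb : RepWith @Etale b) (hbs : RepWith @Surjective b) (hψo : IsOpenMap ψ.left) :
    IsOpenMap (Points.map g) := by
  intro W hW
  rw [← (isQuotientMap_ofPt b hb hbs).isOpen_preimage]
  have : Points.ofPt b ⁻¹' (Points.map g '' W) = ψ.left '' (Points.ofPt b' ⁻¹' W) := by
    ext v
    constructor
    · rintro ⟨y', hy', hv⟩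
      obtain ⟨v', hv1, hv2⟩ := exists_lift_point sq v y' hv
      exact ⟨v', by rw [Set.mem_preimage, hv2]; exact hy', hv1⟩
    · rintro ⟨v', hv', rfl⟩
      exact ⟨Points.ofPt b' v', hv', map_ofPt_eq sq v'⟩
  rw [this]
  exact hψo _ (hW.preimage (Points.continuous_ofPt b'))

theorem isConnected_fibre (sq : IsPullback b' ((yon S).map ψ) g b)
    (hbs : RepWith @Surjective b) (hψc : ∀ v, _root_.IsConnected (ψ.left ⁻¹' {v})) (y : Points Y) :
    _root_.IsConnected (Points.map g ⁻¹' {y}) := by
  obtain ⟨v, rfl⟩ := surjective_ofPt_of_repWith_surjective b hbs y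
  have : Points.map g ⁻¹' {Points.ofPt b v} = Points.ofPt b' '' (ψ.left ⁻¹' {v}) := by
    ext y'
    constructor
    · intro hy'
      obtain ⟨v', hv1, hv2⟩ := exists_lift_point sq v y' hy'
      exact ⟨v', hv1, hv2⟩
    · rintro ⟨v', hv', rfl⟩
      change Points.map g (Points.ofPt b' v') = _
      rw [map_ofPt_eq sq v']
      exact congrArg (Points.ofPt b) hv'
  rw [this]
  exact (hψc v).image _ (Points.continuous_ofPt b').continuousOn

theorem isQuotientMap_map (sq : IsPullback b' ((yon S).map ψ) g b)
    (hb : RepWith @Etale b) (hbs : RepWith @Surjective b) (hψo : IsOpenMap ψ.left)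
    (hψs : Function.Surjective ψ.left) : Topology.IsQuotientMap (Points.map g) :=
  (isOpenMap_map sq hb hbs hψo).isQuotientMap (Points.continuous_map g)
    (surjective_map sq hbs hψs)

theorem connectedComponentsMap_bijective (sq : IsPullback b' ((yon S).map ψ) g b)
    (hb : RepWith @Etale b) (hbs : RepWith @Surjective b) (hψo : IsOpenMap ψ.left)
    (hψs : Function.Surjective ψ.left) (hψc : ∀ v, _root_.IsConnected (ψ.left ⁻¹' {v})) :
    Function.Bijective (Continuous.connectedComponentsMap (Points.continuous_map g)) :=
  (isQuotientMap_map sq hb hbs hψo hψs).isCoinducing.connectedComponentsMap_bijective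
    (isConnected_fibre sq hbs hψc)

theorem connectedSpace_of_connectedSpace (sq : IsPullback b' ((yon S).map ψ) g b)
    (hb : RepWith @Etale b) (hbs : RepWith @Surjective b) (hψo : IsOpenMap ψ.left)
    (hψs : Function.Surjective ψ.left) (hψc : ∀ v, _root_.IsConnected (ψ.left ⁻¹' {v}))
    (hY : ConnectedSpace (Points Y)) : ConnectedSpace (Points Y') := by
  have hq := isQuotientMap_map sq hb hbs hψo hψs
  obtain ⟨y⟩ := hY.toNonempty
  obtain ⟨a, rfl⟩ := surjective_map sq hbs hψs y
  rw [connectedSpace_iff_connectedComponent]
  refine ⟨a, ?_⟩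
  rw [← hq.preimage_connectedComponent (isConnected_fibre sq hbs hψc) a,
    PreconnectedSpace.connectedComponent_eq_univ, Set.preimage_univ]

theorem connectedSpace_of_surjective {f : Y' ⟶ Y} (hs : Function.Surjective (Points.map f))
    (hY' : ConnectedSpace (Points Y')) : ConnectedSpace (Points Y) :=
  hs.connectedSpace (Points.continuous_map f)

end General

section Squares

variable {S : Scheme.{u}}

/-- the base change of a chart is a pullback of the chart along the projection. -/
theorem isPullback_prodChart (T : Over S) {X : Sp S} {U : Over S} (a : (yon S).obj U ⟶ X) :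
    IsPullback (prodChart T a) ((yon S).map (prod.fst : U ⨯ T ⟶ U))
      (prod.fst : X ⨯ (yon S).obj T ⟶ X) a := by
  have h1 : IsPullback (prod.map a (𝟙 ((yon S).obj T))) prod.fst prod.fst a :=
    (IsPullback.of_prod_fst_with_id a ((yon S).obj T)).flip
  refine h1.of_iso (asIso (prodComparison (yon S) U T)).symm (Iso.refl _) (Iso.refl _)
    (Iso.refl _) ?_ ?_ ?_ ?_
  · simp [prodChart]
  · simp [prodComparison_fst]
  · simp
  · simp

theorem isPullback_prodChart_map {T' T : Over S} (φ : T' ⟶ T) {X : Sp S} {U : Over S}
    (a : (yon S).obj U ⟶ X) :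
    IsPullback (prodChart T' a) ((yon S).map (prod.map (𝟙 U) φ))
      (prod.map (𝟙 X) ((yon S).map φ)) (prodChart T a) := by
  have s := isPullback_prodChart T' a
  have t := isPullback_prodChart T a
  have e1 : (yon S).map (prod.map (𝟙 U) φ) ≫ (yon S).map (prod.fst : U ⨯ T ⟶ U) =
      (yon S).map (prod.fst : U ⨯ T' ⟶ U) := by
    rw [← Functor.map_comp, prod.map_fst, Category.comp_id]
  have e2 : prod.map (𝟙 X) ((yon S).map φ) ≫ (prod.fst : X ⨯ (yon S).obj T ⟶ X) = prod.fst := by
    rw [prod.map_fst, Category.comp_id]
  refine IsPullback.of_bot ?_ ?_ t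
  · rw [e1, e2]
    exact s
  · apply Limits.prod.hom_ext
    · rw [Category.assoc, e2, Category.assoc, prodChart_fst, prodChart_fst, ← Category.assoc, e1]
    · rw [Category.assoc, prod.map_snd, ← Category.assoc, prodChart_snd, Category.assoc,
        prodChart_snd, ← Functor.map_comp, ← Functor.map_comp, prod.map_snd]

end Squares

section Field

variable {k : Type u} [Field k]

/-- the morphism `Spec L ⟶ Spec K` over `Spec k` of a tower `k ⊆ K ⊆ L`. -/
noncomputable def spKMap (K L : Type u) [Field K] [Field L] [Algebra k K] [Algebra k L]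
    [Algebra K L] [IsScalarTower k K L] : spK (k := k) L ⟶ spK (k := k) K :=
  Over.homMk (Spec.map (CommRingCat.ofHom (algebraMap K L))) (by
    show Spec.map _ ≫ Spec.map _ = Spec.map _
    rw [← Spec.map_comp, ← CommRingCat.ofHom_comp, ← IsScalarTower.algebraMap_eq])

theorem spKMap_left (K L : Type u) [Field K] [Field L] [Algebra k K] [Algebra k L]
    [Algebra K L] [IsScalarTower k K L] :
    (spKMap (k := k) K L).left = Spec.map (CommRingCat.ofHom (algebraMap K L)) := rfl

/-- `(𝟙 U × φ).left` is a base change of `φ.left`. -/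
theorem isPullback_prod_map_left {T' T : Over (Spec (CommRingCat.of k))} (φ : T' ⟶ T)
    (U : Over (Spec (CommRingCat.of k))) :
    IsPullback (prod.snd : U ⨯ T' ⟶ T').left (prod.map (𝟙 U) φ).left φ.left
      (prod.snd : U ⨯ T ⟶ T).left :=
  (Groth.Agent.Lib.Helper78.AlgSpFibre.isPullback_prod_snd_with_id φ U).map (Over.forget _)

variable (K L : Type u) [Field K] [Field L] [Algebra k K] [Algebra k L]
    [Algebra K L] [IsScalarTower k K L]

theorem surjective_prod_map_left (U : Over (Spec (CommRingCat.of k))) :
    Function.Surjective (prod.map (𝟙 U) (spKMap (k := k) K L)).left := by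
  have h : Surjective (spKMap (k := k) K L).left := by
    rw [spKMap_left]
    exact surjective_spK L
  exact (MorphismProperty.of_isPullback (P := @Surjective)
    (isPullback_prod_map_left (spKMap (k := k) K L) U) h).surj

theorem isOpenMap_prod_map_left (U : Over (Spec (CommRingCat.of k))) :
    IsOpenMap (prod.map (𝟙 U) (spKMap (k := k) K L)).left := by
  have h : UniversallyOpen (spKMap (k := k) K L).left :=
    (inferInstance : UniversallyOpen (Spec.map (CommRingCat.ofHom (algebraMap K L))))
  have := MorphismProperty.of_isPullback (P := @UniversallyOpen)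
    (isPullback_prod_map_left (spKMap (k := k) K L) U) h
  exact (prod.map (𝟙 U) (spKMap (k := k) K L)).left.isOpenMap

theorem isConnected_fibre_prod_map_left [IsSepClosed K] (U : Over (Spec (CommRingCat.of k)))
    (v : ↥(U ⨯ spK (k := k) K).left) :
    _root_.IsConnected ((prod.map (𝟙 U) (spKMap (k := k) K L)).left ⁻¹' {v}) := by
  have h : GeometricallyConnected (spKMap (k := k) K L).left := by
    rw [spKMap_left]
    exact Groth.Agent.Lib.Helper21.geometricallyConnected_SpecMap_of_separableClosure_eq_bot K L
      (Groth.Agent.Lib.Helper21.separableClosure_eq_bot_of_isSepClosed K L)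
  have := MorphismProperty.of_isPullback (P := @GeometricallyConnected)
    (isPullback_prod_map_left (spKMap (k := k) K L) U) h
  exact (prod.map (𝟙 U) (spKMap (k := k) K L)).left.isConnected_preimage_singleton v

variable {X : Sp (Spec (CommRingCat.of k))} (hX : IsAlgSpace X)

include hX in
/-- `X_L ⟶ X_K` is surjective on points. -/
theorem surjective_map_bc :
    Function.Surjective (Points.map (prod.map (𝟙 X) ((yon _).map (spKMap (k := k) K L)))) := by
  obtain ⟨U, a, ha, has⟩ := hX.atlas
  exact surjective_map (isPullback_prodChart_map (spKMap (k := k) K L) a)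
    (repWith_prodChart _ @Surjective a has) (surjective_prod_map_left K L U)

include hX in
/-- for `K` separably closed, `X_L` is connected when `X_K` is. -/
theorem connectedSpace_bc_of_sepClosed [IsSepClosed K]
    (h : ConnectedSpace (Points (X ⨯ (yon _).obj (spK (k := k) K)))) :
    ConnectedSpace (Points (X ⨯ (yon _).obj (spK (k := k) L))) := by
  obtain ⟨U, a, ha, has⟩ := hX.atlas
  exact connectedSpace_of_connectedSpace (isPullback_prodChart_map (spKMap (k := k) K L) a)
    (repWith_prodChart _ @Etale a ha) (repWith_prodChart _ @Surjective a has)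
    (isOpenMap_prod_map_left K L U) (surjective_prod_map_left K L U)
    (isConnected_fibre_prod_map_left K L U) h

include hX in
/-- `X_K` is connected when `X_L` is. -/
theorem connectedSpace_bc_of_tower
    (h : ConnectedSpace (Points (X ⨯ (yon _).obj (spK (k := k) L)))) :
    ConnectedSpace (Points (X ⨯ (yon _).obj (spK (k := k) K))) :=
  connectedSpace_of_surjective (surjective_map_bc K L hX) h

end Field

section SepClosed

variable {k : Type u} [Field k] (K : Type u) [Field K] [Algebra k K]

theorem prodLeftIso_hom_fst (U : Over (Spec (CommRingCat.of k))) :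
    (Over.prodLeftIsoPullback U (spK K)).hom ≫ pullback.fst U.hom (spK K).hom =
      (prod.fst : U ⨯ spK K ⟶ U).left :=
  Over.prodLeftIsoPullback_hom_fst U (spK K)

theorem isOpenMap_prod_fst_left (U : Over (Spec (CommRingCat.of k))) :
    IsOpenMap (prod.fst : U ⨯ spK K ⟶ U).left := by
  have h : UniversallyOpen (pullback.fst U.hom (spK K).hom) :=
    (inferInstance : UniversallyOpen (pullback.fst U.hom
      (Spec.map (CommRingCat.ofHom (algebraMap k K)))))
  have : UniversallyOpen (prod.fst : U ⨯ spK K ⟶ U).left := by
    rw [← prodLeftIso_hom_fst]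
    exact (MorphismProperty.cancel_left_of_respectsIso @UniversallyOpen
      (Over.prodLeftIsoPullback U (spK K)).hom _).2 h
  exact (prod.fst : U ⨯ spK K ⟶ U).left.isOpenMap

theorem isConnected_fibre_prod_fst_left [IsSepClosed k] (U : Over (Spec (CommRingCat.of k)))
    (u : ↥U.left) : _root_.IsConnected ((prod.fst : U ⨯ spK K ⟶ U).left ⁻¹' {u}) := by
  have h : GeometricallyConnected (pullback.fst U.hom (spK K).hom) :=
    Groth.Agent.Lib.Helper21.geometricallyConnected_bcπ_of_isSepClosed U.hom K
  have : GeometricallyConnected (prod.fst : U ⨯ spK K ⟶ U).left := by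
    rw [← prodLeftIso_hom_fst]
    haveI : MorphismProperty.RespectsIso @GeometricallyConnected :=
      MorphismProperty.IsStableUnderBaseChange.respectsIso
    exact (MorphismProperty.cancel_left_of_respectsIso @GeometricallyConnected
      (Over.prodLeftIsoPullback U (spK K)).hom _).2 h
  exact (prod.fst : U ⨯ spK K ⟶ U).left.isConnected_preimage_singleton u

variable {X : Sp (Spec (CommRingCat.of k))} (hX : IsAlgSpace X)

include hX in
theorem connectedComponentsMap_bc_bijective [IsSepClosed k] :
    Function.Bijective (Continuous.connectedComponentsMap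
      (Points.continuous_map (prod.fst : X ⨯ (yon _).obj (spK K) ⟶ X))) := by
  obtain ⟨U, a, ha, has⟩ := hX.atlas
  exact connectedComponentsMap_bijective (isPullback_prodChart (spK K) a) ha has
    (isOpenMap_prod_fst_left K U) (surjective_prod_fst_left K U)
    (isConnected_fibre_prod_fst_left K U)

include hX in
theorem connectedSpace_bc_iff [IsSepClosed k] :
    ConnectedSpace (Points (X ⨯ (yon _).obj (spK K))) ↔ ConnectedSpace (Points X) := by
  obtain ⟨U, a, ha, has⟩ := hX.atlas
  constructor
  · exact connectedSpace_of_surjective (surjective_map_prod_fst K hX)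
  · exact connectedSpace_of_connectedSpace (isPullback_prodChart (spK K) a) ha has
      (isOpenMap_prod_fst_left K U) (surjective_prod_fst_left K U)
      (isConnected_fibre_prod_fst_left K U)

end SepClosed

end Groth.Agent.Helper53.AlgSpConn
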