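import Groth.Agent.Lib.Helper53.AlgSpConn
import Groth.Agent.Lib.Helper21.ResMap

/-!
# Connected components along not necessarily representable morphisms; products with a
geometrically connected algebraic space over a field.  By helper53.
-/

set_option autoImplicit false
set_option linter.style.haveILetI false
universe u
open CategoryTheory CategoryTheory.Limits AlgebraicGeometry Opposite

namespace Groth.Agent.Helper53.AlgSpConn2

open AlgSp
open Groth.Agent.Lib.Helper78.AlgSpBasic Groth.Agent.Lib.Helper51 Groth.Agent.Lib.Helper52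
open Groth.Agent.Helper53.GeomRedBC Groth.Agent.Helper53.AlgSpConn

section General

variable {S : Scheme.{u}} {Y' Y Z : Sp S} {g : Y' ⟶ Y} {V : Over S}
  {b : (yon S).obj V ⟶ Y} {b' : Z ⟶ Y'} {ψ : Z ⟶ (yon S).obj V}

/-- the map from the points of a sheaf over `h_V` to the points of `V`. -/
noncomputable def toPt (ψ : Z ⟶ (yon S).obj V) : Points Z → ↥V.left :=
  fun z => Points.toScheme V (Points.map ψ z)

theorem map_eq_ofScheme_toPt (ψ : Z ⟶ (yon S).obj V) (z : Points Z) :
    Points.map ψ z = Points.ofScheme V (toPt ψ z) :=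
  (Points.ofScheme_toScheme V _).symm

theorem map_map_eq (sq : IsPullback b' ψ g b) (z : Points Z) :
    Points.map g (Points.map b' z) = Points.ofPt b (toPt ψ z) := by
  rw [← Points.map_comp, sq.w, Points.map_comp, map_eq_ofScheme_toPt, ← Points.ofPt_eq_map_ofScheme]

theorem exists_lift_point (sq : IsPullback b' ψ g b) (v : ↥V.left)
    (y' : Points Y') (h : Points.map g y' = Points.ofPt b v) :
    ∃ z : Points Z, toPt ψ z = v ∧ Points.map b' z = y' := by
  rw [Points.ofPt_eq_map_ofScheme] at h
  obtain ⟨w, hw1, hw2⟩ := exists_point_of_isPullback sq y' _ h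
  refine ⟨w, ?_, hw1⟩
  unfold toPt
  rw [hw2, Points.toScheme_ofScheme]

theorem surjective_map (sq : IsPullback b' ψ g b)
    (hbs : RepWith @Surjective b) (hψs : Function.Surjective (toPt ψ)) :
    Function.Surjective (Points.map g) := by
  intro y
  obtain ⟨v, rfl⟩ := surjective_ofPt_of_repWith_surjective b hbs y
  obtain ⟨z, rfl⟩ := hψs v
  exact ⟨Points.map b' z, map_map_eq sq z⟩

theorem isOpenMap_map (sq : IsPullback b' ψ g b)
    (hb : RepWith @Etale b) (hbs : RepWith @Surjective b) (hψo : IsOpenMap (toPt ψ)) :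
    IsOpenMap (Points.map g) := by
  intro W hW
  rw [← (isQuotientMap_ofPt b hb hbs).isOpen_preimage]
  have : Points.ofPt b ⁻¹' (Points.map g '' W) = toPt ψ '' (Points.map b' ⁻¹' W) := by
    ext v
    constructor
    · rintro ⟨y', hy', hv⟩
      obtain ⟨z, hz1, hz2⟩ := exists_lift_point sq v y' hv
      exact ⟨z, by rw [Set.mem_preimage, hz2]; exact hy', hz1⟩
    · rintro ⟨z, hz, rfl⟩
      exact ⟨Points.map b' z, hz, map_map_eq sq z⟩
  rw [this]
  exact hψo _ (hW.preimage (Points.continuous_map b'))

theorem isConnected_fibre (sq : IsPullback b' ψ g b)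
    (hbs : RepWith @Surjective b) (hψc : ∀ v, _root_.IsConnected (toPt ψ ⁻¹' {v}))
    (y : Points Y) : _root_.IsConnected (Points.map g ⁻¹' {y}) := by
  obtain ⟨v, rfl⟩ := surjective_ofPt_of_repWith_surjective b hbs y
  have : Points.map g ⁻¹' {Points.ofPt b v} = Points.map b' '' (toPt ψ ⁻¹' {v}) := by
    ext y'
    constructor
    · intro hy'
      obtain ⟨z, hz1, hz2⟩ := exists_lift_point sq v y' hy'
      exact ⟨z, hz1, hz2⟩
    · rintro ⟨z, hz, rfl⟩
      change Points.map g (Points.map b' z) = _
      rw [map_map_eq sq z]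
      exact congrArg (Points.ofPt b) hz
  rw [this]
  exact (hψc v).image _ (Points.continuous_map b').continuousOn

theorem connectedComponentsMap_bijective (sq : IsPullback b' ψ g b)
    (hb : RepWith @Etale b) (hbs : RepWith @Surjective b) (hψo : IsOpenMap (toPt ψ))
    (hψs : Function.Surjective (toPt ψ)) (hψc : ∀ v, _root_.IsConnected (toPt ψ ⁻¹' {v})) :
    Function.Bijective (Continuous.connectedComponentsMap (Points.continuous_map g)) :=
  ((isOpenMap_map sq hb hbs hψo).isQuotientMap (Points.continuous_map g)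
    (surjective_map sq hbs hψs)).isCoinducing.connectedComponentsMap_bijective
    (isConnected_fibre sq hbs hψc)

end General

section Prod

variable {k : Type u} [Field k]

theorem toPt_snd_ofPt_prodChart {S : Scheme.{u}} (V : Over S) {X : Sp S} {U : Over S}
    (a : (yon S).obj U ⟶ X) (w : ↥(U ⨯ V).left) :
    toPt (prod.snd : X ⨯ (yon S).obj V ⟶ (yon S).obj V) (Points.ofPt (prodChart V a) w) =
      (prod.snd : U ⨯ V ⟶ V).left w := by
  unfold toPt
  rw [Points.map_ofPt, prodChart_snd, Points.toScheme_ofPt]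

theorem prodLeftIso_hom_snd (U V : Over (Spec (CommRingCat.of k))) :
    (Over.prodLeftIsoPullback U V).hom ≫ pullback.snd U.hom V.hom =
      (prod.snd : U ⨯ V ⟶ V).left :=
  Over.prodLeftIsoPullback_hom_snd U V

theorem isOpenMap_prod_snd_left (U V : Over (Spec (CommRingCat.of k))) :
    IsOpenMap (prod.snd : U ⨯ V ⟶ V).left := by
  have h : UniversallyOpen (pullback.snd U.hom V.hom) := inferInstance
  have : UniversallyOpen (prod.snd : U ⨯ V ⟶ V).left := by
    rw [← prodLeftIso_hom_snd]
    exact (MorphismProperty.cancel_left_of_respectsIso @UniversallyOpen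
      (Over.prodLeftIsoPullback U V).hom _).2 h
  exact (prod.snd : U ⨯ V ⟶ V).left.isOpenMap

theorem surjective_prod_snd_left (U V : Over (Spec (CommRingCat.of k))) [Nonempty ↥U.left] :
    Function.Surjective (prod.snd : U ⨯ V ⟶ V).left := by
  have hU : Surjective U.hom := by
    constructor
    intro y
    haveI : Subsingleton ↥(Spec (CommRingCat.of k)) :=
      inferInstanceAs (Subsingleton (PrimeSpectrum k))
    obtain ⟨z⟩ := ‹Nonempty ↥U.left›
    exact ⟨z, Subsingleton.elim _ _⟩
  rw [← prodLeftIso_hom_snd]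
  exact (inferInstance : Surjective ((Over.prodLeftIsoPullback U V).hom ≫
    pullback.snd U.hom V.hom)).surj

variable {X : Sp (Spec (CommRingCat.of k))} (hX : IsAlgSpace X)

include hX in
theorem isOpenMap_toPt_snd (V : Over (Spec (CommRingCat.of k))) :
    IsOpenMap (toPt (prod.snd : X ⨯ (yon _).obj V ⟶ (yon _).obj V)) := by
  obtain ⟨U, a, ha, has⟩ := hX.atlas
  have hs := surjective_ofPt_of_repWith_surjective (prodChart V a)
    (repWith_prodChart V @Surjective a has)
  intro W hW
  have : toPt (prod.snd : X ⨯ (yon _).obj V ⟶ (yon _).obj V) '' W =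
      (prod.snd : U ⨯ V ⟶ V).left '' (Points.ofPt (prodChart V a) ⁻¹' W) := by
    ext v
    constructor
    · rintro ⟨z, hz, rfl⟩
      obtain ⟨w, rfl⟩ := hs z
      exact ⟨w, hz, (toPt_snd_ofPt_prodChart V a w).symm⟩
    · rintro ⟨w, hw, rfl⟩
      exact ⟨_, hw, toPt_snd_ofPt_prodChart V a w⟩
  rw [this]
  exact isOpenMap_prod_snd_left U V _ (hW.preimage (Points.continuous_ofPt _))

include hX in
theorem surjective_toPt_snd [Nonempty (Points X)] (V : Over (Spec (CommRingCat.of k))) :
    Function.Surjective (toPt (prod.snd : X ⨯ (yon _).obj V ⟶ (yon _).obj V)) := by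
  obtain ⟨U, a, ha, has⟩ := hX.atlas
  obtain ⟨x⟩ := ‹Nonempty (Points X)›
  obtain ⟨u, -⟩ := surjective_ofPt_of_repWith_surjective a has x
  haveI : Nonempty ↥U.left := ⟨u⟩
  intro v
  obtain ⟨w, rfl⟩ := surjective_prod_snd_left U V v
  exact ⟨_, toPt_snd_ofPt_prodChart V a w⟩

include hX in
theorem isConnected_fibre_toPt_snd
    (hgc : ∀ (K : Type u) [Field K] [Algebra k K],
      ConnectedSpace (Points (X ⨯ (yon _).obj (spK (k := k) K))))
    (V : Over (Spec (CommRingCat.of k))) (v : ↥V.left) :
    _root_.IsConnected (toPt (prod.snd : X ⨯ (yon _).obj V ⟶ (yon _).obj V) ⁻¹' {v}) := by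
  letI : V.left.Over (Spec (CommRingCat.of k)) := ⟨V.hom⟩
  letI : Algebra k (V.left.residueField v) := Curv2.resAlgebra k V.left v
  have hstr : Spec.map (CommRingCat.ofHom (algebraMap k (V.left.residueField v))) =
      V.left.fromSpecResidueField v ≫ V.hom :=
    Groth.Agent.Lib.Helper21.SpecMap_resMap k V.left v
  let j : spK (k := k) (V.left.residueField v) ⟶ V :=
    Over.homMk (V.left.fromSpecResidueField v) hstr.symm
  have hj : ∀ t : ↥(spK (k := k) (V.left.residueField v)).left, j.left t = v := fun t =>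
    Scheme.fromSpecResidueField_apply _ t
  obtain ⟨ι, hι⟩ : ∃ ι : X ⨯ (yon _).obj (spK (k := k) (V.left.residueField v)) ⟶
      X ⨯ (yon _).obj V, ι = prod.map (𝟙 X) ((yon _).map j) := ⟨_, rfl⟩
  have sq : IsPullback prod.snd ι ((yon _).map j) prod.snd := by
    rw [hι]
    exact Groth.Agent.Lib.Helper78.AlgSpFibre.isPullback_prod_snd_with_id ((yon _).map j) X
  haveI := hgc (V.left.residueField v)
  have hfib : toPt (prod.snd : X ⨯ (yon _).obj V ⟶ (yon _).obj V) ⁻¹' {v} =
      Set.range (Points.map ι) := by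
    ext z
    constructor
    · intro hz
      have hz' : toPt (prod.snd : X ⨯ (yon _).obj V ⟶ (yon _).obj V) z = v := hz
      obtain ⟨t₀⟩ : Nonempty ↥(spK (k := k) (V.left.residueField v)).left :=
        inferInstanceAs (Nonempty (PrimeSpectrum (V.left.residueField v)))
      have h1 : Points.map ((yon _).map j) (Points.ofScheme _ t₀) =
          Points.map (prod.snd : X ⨯ (yon _).obj V ⟶ (yon _).obj V) z := by
        rw [map_yon_map_ofScheme, map_eq_ofScheme_toPt, hz', hj]
      obtain ⟨w, -, hw⟩ := exists_point_of_isPullback sq _ z h1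
      exact ⟨w, hw⟩
    · rintro ⟨w, rfl⟩
      change toPt (prod.snd : X ⨯ (yon _).obj V ⟶ (yon _).obj V) (Points.map ι w) = v
      unfold toPt
      rw [← Points.map_comp, ← sq.w, Points.map_comp]
      obtain ⟨t, ht⟩ := (Points.schemeEquiv _).surjective (Points.map prod.snd w)
      rw [← ht]
      change Points.toScheme V (Points.map ((yon _).map j) (Points.ofScheme _ t)) = v
      rw [map_yon_map_ofScheme, Points.toScheme_ofScheme, hj]
  rw [hfib]
  exact isConnected_range (Points.continuous_map ι)

include hX in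
/-- for `X` geometrically connected over `k` and any algebraic space `Y` over `k`, the projection
`X × Y ⟶ Y` induces a bijection on connected components. -/
theorem connectedComponentsMap_prod_snd_bijective
    (hgc : ∀ (K : Type u) [Field K] [Algebra k K],
      ConnectedSpace (Points (X ⨯ (yon _).obj (spK (k := k) K))))
    {Y : Sp (Spec (CommRingCat.of k))} (hY : IsAlgSpace Y) :
    Function.Bijective (Continuous.connectedComponentsMap
      (Points.continuous_map (prod.snd : X ⨯ Y ⟶ Y))) := by
  obtain ⟨V, b, hb, hbs⟩ := hY.atlas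
  have sq : IsPullback (prod.map (𝟙 X) b) (prod.snd : X ⨯ (yon _).obj V ⟶ (yon _).obj V)
      (prod.snd : X ⨯ Y ⟶ Y) b :=
    (Groth.Agent.Lib.Helper78.AlgSpFibre.isPullback_prod_snd_with_id b X).flip
  haveI : Nonempty (Points X) := by
    obtain ⟨w⟩ := (hgc k).toNonempty
    exact ⟨Points.map prod.fst w⟩
  exact connectedComponentsMap_bijective sq hb hbs (isOpenMap_toPt_snd hX V)
    (surjective_toPt_snd hX V) (isConnected_fibre_toPt_snd hX hgc V)

end Prod

end Groth.Agent.Helper53.AlgSpConn2
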