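import Groth.Prelude.Def_AlgSp2

/-!
# Small helpers on points of sheaves.  By helper53.
-/

set_option autoImplicit false
universe u
open CategoryTheory CategoryTheory.Limits AlgebraicGeometry

namespace Groth.Agent.Helper53.AlgSpMisc

/-- a field-valued point may be rewritten along an equality of structure morphisms. -/
theorem exists_of_str_eq {S : Scheme.{u}} {F : AlgSp.Sp S} (K : Type u) [Field K]
    (str str' : Spec (CommRingCat.of K) ⟶ S) (h : str' = str)
    (val : F.obj.obj (Opposite.op (Over.mk str))) :
    ∃ v : F.obj.obj (Opposite.op (Over.mk str')),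
      AlgSp.Points.mk (⟨K, str', v⟩ : AlgSp.FieldPt F) = AlgSp.Points.mk ⟨K, str, val⟩ := by
  subst h
  exact ⟨val, rfl⟩

end Groth.Agent.Helper53.AlgSpMisc
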