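import Groth.Agent.Lib.Helper31.AlgSpThickCart
import Groth.Agent.Lib.Helper7.ThickBridge
import Groth.Agent.Lib.Helper20.SpfSys
import Groth.Agent.Lib.Helper51.AlgSpMonoField

/-!
# Locally of finite type over a scheme covered by spectra of Artinian local rings (helper53)

If `W` is covered by affine opens with Artinian local coordinate rings, a morphism `h : U ⟶ W` is
locally of finite type as soon as all its fibres over field-valued points are.
-/

set_option autoImplicit false
universe u

namespace Groth.Agent.Lib.Helper53.ArtinLft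

open CategoryTheory CategoryTheory.Limits AlgebraicGeometry

/-- The kernel ideal sheaf of `Spec.map θ` is nilpotent when `ker θ` is. -/
theorem isNilpotent_ker_Spec_map {R S : CommRingCat.{u}} (θ : R ⟶ S)
    (hk : IsNilpotent (RingHom.ker θ.hom)) : IsNilpotent (Spec.map θ).ker := by
  obtain ⟨n, hn⟩ := hk
  refine ⟨n, ?_⟩
  apply Scheme.IdealSheafData.ext_of_isAffine
  rw [Scheme.IdealSheafData.ideal_pow, Pi.pow_apply, Groth.Agent.Lib.Helper20.ker_Spec_map_ideal_top,
    Groth.Agent.Lib.Helper20.comap_hom_eq_map_inv, ← Ideal.map_pow, hn, Ideal.zero_eq_bot,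
    Ideal.map_bot]
  rfl

set_option backward.isDefEq.respectTransparency false in
theorem lft_of_artinian_local_cover {U W : Scheme.{u}} (h : U ⟶ W)
    (hW : ∀ w : W, ∃ V : W.Opens, w ∈ V ∧ IsAffineOpen V ∧ IsArtinianRing Γ(W, V) ∧
      IsLocalRing Γ(W, V))
    (hfib : ∀ (κ : Type u) [Field κ] (ι : Spec (CommRingCat.of κ) ⟶ W) (P : Scheme.{u})
      (fst : P ⟶ U) (snd : P ⟶ Spec (CommRingCat.of κ)), IsPullback fst snd h ι →
        LocallyOfFiniteType snd) :
    LocallyOfFiniteType h := by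
  apply IsZariskiLocalAtTarget.of_forall_exists_morphismRestrict (P := @LocallyOfFiniteType)
  intro w
  obtain ⟨V, hwV, hV, hArt, hLoc⟩ := hW w
  refine ⟨V, hwV, ?_⟩
  let iT : Spec (CommRingCat.of (IsLocalRing.ResidueField Γ(W, V))) ⟶ Spec Γ(W, V) :=
    Spec.map (CommRingCat.ofHom (IsLocalRing.residue Γ(W, V)))
  have hiT : IsClosedImmersion iT :=
    IsClosedImmersion.spec_of_surjective _ IsLocalRing.residue_surjective
  have hnil : IsNilpotent iT.ker := by
    apply isNilpotent_ker_Spec_map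
    rw [CommRingCat.hom_ofHom, IsLocalRing.ker_residue, ← IsLocalRing.jacobson_eq_maximalIdeal ⊥ bot_ne_top]
    exact IsArtinianRing.isNilpotent_jacobson_bot
  have sq1 := IsPullback.of_hasPullback (h ∣_ V) (iT ≫ hV.isoSpec.inv)
  have sq2 : IsPullback (pullback.fst (h ∣_ V) (iT ≫ hV.isoSpec.inv))
      (pullback.snd (h ∣_ V) (iT ≫ hV.isoSpec.inv)) ((h ∣_ V) ≫ hV.isoSpec.hom) iT := by
    have := Groth.Agent.Lib.Helper51.isPullback_comp_mono sq1 hV.isoSpec.hom
    simpa using this
  have sq3 := (sq1.flip.paste_vert (isPullback_morphismRestrict h V)).flip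
  have hsnd : LocallyOfFiniteType (pullback.snd (h ∣_ V) (iT ≫ hV.isoSpec.inv)) :=
    hfib _ _ _ _ _ sq3
  have hnil' := Groth.Agent.Lib.Helper7.ThickBridge.isNilpotent_ker_of_isPullback sq2 hnil
  have h' := Groth.Agent.Lib.Helper31.AlgSpFlatAt.locallyOfFiniteType_of_isPullback_of_isNilpotent_ker
    sq2 hnil' hsnd
  have : (h ∣_ V) = ((h ∣_ V) ≫ hV.isoSpec.hom) ≫ hV.isoSpec.inv := by simp
  rw [this]
  infer_instance

end Groth.Agent.Lib.Helper53.ArtinLft
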