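import Mathlib

/-!
# Intersections of translates of a clopen set under a compact group.  By helper53.

Pure topology: `G` a compact topological group acting on a space `P` by homeomorphisms, such that
quasi-compact opens of `P` have open stabilizers and every point of `P` has a quasi-compact open
neighbourhood.  Then for a clopen `U ⊆ P` and any nonempty `G' ⊆ G`, the set `⋂ σ ∈ G', σ • U` is clopen.
-/

open Topology Set
open scoped Pointwise

namespace Groth.Agent.Helper53.ClopenOrbit

theorem isLocallyConstant_smul_inter {G P : Type*} [Group G] [TopologicalSpace G]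
    [IsTopologicalGroup G] [TopologicalSpace P] [MulAction G P] [ContinuousConstSMul G P]
    (hstab : ∀ V : Set P, IsOpen V → IsCompact V → IsOpen (MulAction.stabilizer G V : Set G))
    (U : Set P) (hU : IsClopen U) (N : Set P) (hNo : IsOpen N) (hNc : IsCompact N) :
    IsLocallyConstant (fun σ : G => σ • U ∩ N) := by
  rw [IsLocallyConstant.iff_exists_open]
  intro σ
  set M : Set P := σ⁻¹ • N with hM
  have hMo : IsOpen M := hNo.smul σ⁻¹
  have hMc : IsCompact M := hNc.smul σ⁻¹
  have h1 := hstab M hMo hMc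
  have h2 := hstab (U ∩ M) (hU.isOpen.inter hMo) (hMc.inter_left hU.isClosed)
  have hS : IsOpen ((MulAction.stabilizer G M ⊓ MulAction.stabilizer G (U ∩ M) : Subgroup G) :
      Set G) := h1.inter h2
  refine ⟨σ • ((MulAction.stabilizer G M ⊓ MulAction.stabilizer G (U ∩ M) : Subgroup G) : Set G),
    hS.leftCoset σ, ⟨1, Subgroup.one_mem _, by simp⟩, ?_⟩
  rintro _ ⟨η, hη, rfl⟩
  have hη1 : η • M = M := MulAction.mem_stabilizer_iff.1 hη.1
  have hη2 : η • (U ∩ M) = U ∩ M := MulAction.mem_stabilizer_iff.1 hη.2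
  have hN : N = σ • M := by rw [hM, smul_inv_smul]
  show (σ • η) • U ∩ N = σ • U ∩ N
  rw [smul_eq_mul, mul_smul, hN, ← Set.smul_set_inter, ← Set.smul_set_inter]
  congr 1
  conv_lhs => rw [← hη1]
  rw [← Set.smul_set_inter, hη2]

theorem isClopen_iInter_smul {G P : Type*} [Group G] [TopologicalSpace G]
    [IsTopologicalGroup G] [CompactSpace G] [TopologicalSpace P] [MulAction G P]
    [ContinuousConstSMul G P]
    (hstab : ∀ V : Set P, IsOpen V → IsCompact V → IsOpen (MulAction.stabilizer G V : Set G))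
    (hbasis : ∀ x : P, ∃ N : Set P, IsOpen N ∧ IsCompact N ∧ x ∈ N)
    (U : Set P) (hU : IsClopen U) (G' : Set G) :
    IsClopen (⋂ σ ∈ G', σ • U) := by
  refine ⟨isClosed_biInter fun σ _ => hU.isClosed.smul σ, ?_⟩
  rw [isOpen_iff_forall_mem_open]
  intro x hx
  obtain ⟨N, hNo, hNc, hxN⟩ := hbasis x
  have hlc := isLocallyConstant_smul_inter hstab U hU N hNo hNc
  have hfin : ((fun σ : G => σ • U ∩ N) '' G').Finite :=
    hlc.range_finite.subset (Set.image_subset_range _ _)
  refine ⟨⋂₀ ((fun σ : G => σ • U ∩ N) '' G'), ?_, ?_, ?_⟩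
  · intro z hz
    rw [Set.mem_iInter₂]
    intro σ hσ
    exact (hz _ ⟨σ, hσ, rfl⟩).1
  · refine hfin.isOpen_sInter ?_
    rintro _ ⟨σ, _, rfl⟩
    exact (hU.isOpen.smul σ).inter hNo
  · rintro _ ⟨σ, hσ, rfl⟩
    exact ⟨(Set.mem_iInter₂.1 hx) σ hσ, hxN⟩

end Groth.Agent.Helper53.ClopenOrbit
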