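import Mathlib

/-!
# Coherent rings: finitely generated submodules of finitely presented modules
-/

set_option autoImplicit false
universe u v v' v''

namespace Groth.Agent.Helper53.CohRing

variable (R : Type u) [CommRing R]

/-- every finitely generated submodule of `M` is finitely presented. -/
def SubFP (M : Type v) [AddCommGroup M] [Module R M] : Prop :=
  ∀ N : Submodule R M, N.FG → Module.FinitePresentation R N

variable {R}
variable {M : Type v} {M' : Type v'} {M'' : Type v''} [AddCommGroup M] [Module R M]
  [AddCommGroup M'] [Module R M'] [AddCommGroup M''] [Module R M'']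

lemma subFP_of_equiv (e : M ≃ₗ[R] M') (h : SubFP R M) : SubFP R M' := by
  intro N hN
  have h1 : Module.FinitePresentation R (N.map e.symm.toLinearMap) := h _ (hN.map _)
  exact Module.FinitePresentation.of_equiv (e.symm.submoduleMap N).symm

lemma subFP_of_exact (f : M →ₗ[R] M'') (h1 : SubFP R (LinearMap.ker f)) (h2 : SubFP R M'') :
    SubFP R M := by
  intro N hN
  have : Module.Finite R N := Module.Finite.iff_fg.2 hN
  let g : N →ₗ[R] M'' := f.domRestrict N
  have hfp : Module.FinitePresentation R (LinearMap.range g) := h2 _ (by
    rw [LinearMap.range_eq_map]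
    exact (Module.Finite.fg_top).map g)
  let g' : N →ₗ[R] LinearMap.range g := g.rangeRestrict
  have hs : Function.Surjective g' := LinearMap.surjective_rangeRestrict g
  have hk : (LinearMap.ker g').FG := Module.FinitePresentation.fg_ker g' hs
  -- the kernel embeds in `ker f`
  let j : LinearMap.ker g' →ₗ[R] LinearMap.ker f :=
    { toFun := fun x => ⟨x.1.1, by
        have hx : g' x.1 = 0 := x.2
        rw [LinearMap.mem_ker]
        exact congrArg Subtype.val hx⟩
      map_add' := fun x y => rfl
      map_smul' := fun r x => rfl }
  have hj : Function.Injective j := by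
    intro x y hxy
    apply Subtype.ext
    apply Subtype.ext
    exact congrArg (fun z : LinearMap.ker f => z.1) hxy
  have : Module.Finite R (LinearMap.ker g') := Module.Finite.iff_fg.2 hk
  have hfp2 : Module.FinitePresentation R (LinearMap.range j) := h1 _ (by
    rw [LinearMap.range_eq_map]
    exact (Module.Finite.fg_top).map j)
  have : Module.FinitePresentation R (LinearMap.ker g') :=
    Module.FinitePresentation.of_equiv (LinearEquiv.ofInjective j hj).symm
  exact Module.finitePresentation_of_ker g' hs

lemma subFP_prod (h1 : SubFP R M) (h2 : SubFP R M') : SubFP R (M × M') := by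
  refine subFP_of_exact (LinearMap.snd R M M') ?_ h2
  have e : M ≃ₗ[R] LinearMap.ker (LinearMap.snd R M M') :=
    (LinearEquiv.ofInjective (LinearMap.inl R M M') LinearMap.inl_injective).trans
      (LinearEquiv.ofEq _ _ (LinearMap.range_inl R M M'))
  exact subFP_of_equiv e h1

lemma subFP_pi_fin (hR : SubFP R R) : ∀ n : ℕ, SubFP R (Fin n → R)
  | 0 => fun _ _ => inferInstance
  | n + 1 => subFP_of_equiv (Fin.consLinearEquiv R (fun _ : Fin (n + 1) => R))
      (subFP_prod hR (subFP_pi_fin hR n))

lemma subFP_of_finite_free (hR : SubFP R R) [Module.Finite R M] [Module.Free R M] :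
    SubFP R M := by
  let b := Module.Free.chooseBasis R M
  let e := Fintype.equivFin (Module.Free.ChooseBasisIndex R M)
  exact subFP_of_equiv ((b.reindex e).equivFun).symm (subFP_pi_fin hR _)

lemma subFP_of_finitePresentation (hR : SubFP R R) [Module.FinitePresentation R M] :
    SubFP R M := by
  obtain ⟨n, m, f, g, hf, hfg⟩ := Module.FinitePresentation.exists_fin' R M
  have hker : (LinearMap.ker f).FG := by
    rw [LinearMap.exact_iff.1 hfg, LinearMap.range_eq_map]
    exact (Module.Finite.fg_top).map g
  intro N hN
  let N' : Submodule R (Fin n → R) := N.comap f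
  have hN' : N'.FG := by
    apply Submodule.fg_of_fg_map_of_fg_inf_ker f
    · rw [Submodule.map_comap_eq_of_surjective hf]
      exact hN
    · have : N' ⊓ LinearMap.ker f = LinearMap.ker f := by
        apply inf_eq_right.2
        exact LinearMap.ker_le_comap f
      rw [this]
      exact hker
  have hfp : Module.FinitePresentation R N' := subFP_pi_fin hR n N' hN'
  let q : N' →ₗ[R] N := f.restrict (fun x hx => hx)
  have hq : Function.Surjective q := by
    rintro ⟨y, hy⟩
    obtain ⟨x, rfl⟩ := hf y
    exact ⟨⟨x, hy⟩, rfl⟩
  have hkq : (LinearMap.ker q).FG := by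
    apply Submodule.fg_of_fg_map_injective N'.subtype N'.injective_subtype
    have : (LinearMap.ker q).map N'.subtype = LinearMap.ker f := by
      ext x
      constructor
      · rintro ⟨y, hy, rfl⟩
        have hy' : q y = 0 := hy
        exact congrArg Subtype.val hy'
      · intro hx
        refine ⟨⟨x, LinearMap.ker_le_comap f hx⟩, ?_, rfl⟩
        change q _ = 0
        exact Subtype.ext hx
    rw [this]
    exact hker
  exact Module.finitePresentation_of_surjective q hq hkq

/-- coherence of the ring, ideal form. -/
lemma subFP_self (hR : ∀ I : Ideal R, I.FG → Module.FinitePresentation R I) : SubFP R R :=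
  fun N hN => hR N hN

/-- kernel of a map from a finite module to a finite free module over a coherent ring. -/
lemma fg_ker_of_finite_free (hR : SubFP R R) [Module.Finite R M] [Module.Finite R M']
    [Module.Free R M'] (u : M →ₗ[R] M') : (LinearMap.ker u).FG := by
  have hfp : Module.FinitePresentation R (LinearMap.range u) :=
    subFP_of_finite_free hR _ (by
      rw [LinearMap.range_eq_map]
      exact (Module.Finite.fg_top).map u)
  have := Module.FinitePresentation.fg_ker u.rangeRestrict (LinearMap.surjective_rangeRestrict u)
  rwa [LinearMap.ker_rangeRestrict] at this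

/-- kernel of a map from a finite module to a finitely presented module over a coherent ring. -/
lemma fg_ker_of_finitePresentation (hR : SubFP R R) [Module.Finite R M]
    [Module.FinitePresentation R M'] (u : M →ₗ[R] M') : (LinearMap.ker u).FG := by
  have hfp : Module.FinitePresentation R (LinearMap.range u) :=
    subFP_of_finitePresentation hR _ (by
      rw [LinearMap.range_eq_map]
      exact (Module.Finite.fg_top).map u)
  have := Module.FinitePresentation.fg_ker u.rangeRestrict (LinearMap.surjective_rangeRestrict u)
  rwa [LinearMap.ker_rangeRestrict] at this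

end Groth.Agent.Helper53.CohRing
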