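import Groth.Agent.S10587
import Groth.Agent.S10261
import Groth.Agent.S10294
import Groth.Agent.S10532

/-!
# Morphisms of thickenings: isomorphisms, open immersions, finite locally free.  By helper53.
Combination lemmas for cartesian morphisms of thickenings, given that etaleness / finiteness /
flatness / local finite presentation lift.
-/

set_option autoImplicit false
set_option linter.style.haveILetI false
universe u
open CategoryTheory CategoryTheory.Limits AlgebraicGeometry Opposite

namespace Groth.Agent.Helper53.DeformComb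

open AlgSp
open Groth.Agent.Lib.Helper51 Groth.Agent.Lib.Helper52 Groth.Agent.Lib.Helper30

variable {S : Scheme.{u}}

theorem isEtaleMor_of_repWith_etale {F G : Sp S} (f : F ⟶ G) (hf : RepWith @Etale f) :
    IsEtaleMor f :=
  fun _ _ hφ => (repWith_isMultiplicative (S := S) @Etale).comp_mem _ _ hφ hf

theorem repWith_etale_of_repWith_isOpenImmersion {F G : Sp S} {f : F ⟶ G}
    (hf : RepWith @IsOpenImmersion f) : RepWith @Etale f := by
  refine MorphismProperty.relative_monotone ?_ _ hf
  intro A B k hk
  have : IsOpenImmersion k.left := hk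
  show Etale k.left
  infer_instance

theorem isUnivInjectiveMor_of_mono {F G : Sp S} (f : F ⟶ G) [Mono f] : IsUnivInjectiveMor f := by
  intro Z Z' _ g fst snd sq
  have hm : Mono snd := MorphismProperty.of_isPullback
    (P := MorphismProperty.monomorphisms (Sp S)) sq (MorphismProperty.monomorphisms.infer_property f)
  exact injective_map_of_mono snd

theorem isIso_of_repWith_isOpenImmersion_of_surjective {F G : Sp S} (f : F ⟶ G)
    (hoi : RepWith @IsOpenImmersion f) (hs : Function.Surjective (Points.map f)) : IsIso f := by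
  have hm : Mono f := mono_of_repWith (fun g (_ : IsOpenImmersion g) => inferInstance) hoi
  have he : RepWith @Etale f := repWith_etale_of_repWith_isOpenImmersion hoi
  have hs' : RepWith @Surjective f := repWith_surjective_of_surjective_map hoi.1 hs
  have hepi : Epi f := epi_of_repWith_etale_surjective _ he hs'
  exact isIso_of_mono_of_epi f

section Main

variable {X X' Y Y' : Space S} (iX : X ⟶ X') (iY : Y ⟶ Y') (f : X ⟶ Y) (f' : X' ⟶ Y')
  (hiX : IsThickMor iX.hom) (hiY : IsThickMor iY.hom)
  (sqX : IsPullback iX.hom f.hom f'.hom iY.hom)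
  (hE : IsEtaleMor f.hom → IsEtaleMor f'.hom)

include hiX hiY sqX hE

theorem openImm_iff :
    RepWith @IsOpenImmersion f.hom ↔ RepWith @IsOpenImmersion f'.hom := by
  have w : iX ≫ f' = f ≫ iY := by
    apply ObjectProperty.hom_ext
    exact sqX.w
  have t1 := Groth.Agent.S10587.result iX iY f f' hiX hiY w
  constructor
  · intro hf
    have he : IsEtaleMor f.hom :=
      isEtaleMor_of_repWith_etale _ (repWith_etale_of_repWith_isOpenImmersion hf)
    have hm : Mono f.hom := mono_of_repWith (fun g (_ : IsOpenImmersion g) => inferInstance) hf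
    have hinj : IsUnivInjectiveMor f.hom := isUnivInjectiveMor_of_mono f.hom
    exact Groth.Agent.S10261.result f' (hE he) (t1.2.2.2.1.1 hinj)
  · intro hf'
    exact MorphismProperty.of_isPullback sqX hf'

theorem isIso_iff : IsIso f.hom ↔ IsIso f'.hom := by
  have w : iX ≫ f' = f ≫ iY := by
    apply ObjectProperty.hom_ext
    exact sqX.w
  have t1 := Groth.Agent.S10587.result iX iY f f' hiX hiY w
  constructor
  · intro hf
    have hoi : RepWith @IsOpenImmersion f.hom := Groth.Agent.S10546.repWith_of_isIso _ _
    have hoi' := (openImm_iff iX iY f f' hiX hiY sqX hE).1 hoi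
    have hs : IsSurjectiveMor f.hom := by
      intro y
      refine ⟨Points.map (inv f.hom) y, ?_⟩
      rw [← Points.map_comp, IsIso.inv_hom_id, Points.map_id]
    exact isIso_of_repWith_isOpenImmersion_of_surjective _ hoi' (t1.1.1 hs)
  · intro hf'
    exact sqX.isIso_snd_of_isIso

omit hiX hiY sqX hE in
theorem finLocFree_iff (hFin : IsFiniteMor f.hom ↔ IsFiniteMor f'.hom)
    (hFlat : LocP @Flat f.hom ↔ LocP @Flat f'.hom)
    (hLfp : LocP @LocallyOfFinitePresentation f.hom ↔ LocP @LocallyOfFinitePresentation f'.hom) :
    IsFinLocFreeMor f.hom ↔ IsFinLocFreeMor f'.hom := by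
  rw [(Groth.Agent.S10294.result f).1, (Groth.Agent.S10294.result f').1, hFin, hFlat, hLfp]

omit hE hiX in
theorem finLocFreeOfDeg_iff (hFLF : IsFinLocFreeMor f.hom ↔ IsFinLocFreeMor f'.hom) (d : ℕ) :
    IsFinLocFreeOfDegMor d f.hom ↔ IsFinLocFreeOfDegMor d f'.hom := by
  constructor
  · intro hf
    have hf0 : IsFinLocFreeMor f.hom := ⟨hf.1, fun _ _ g fst snd sq => (hf.2 g fst snd sq).1⟩
    have hf' : IsFinLocFreeMor f'.hom := hFLF.1 hf0
    refine ⟨hf'.1, fun T' W' a fst snd sq' => ⟨hf'.2 a fst snd sq', fun t' => ?_⟩⟩
    -- the thickening `T ⟶ T'` pulled back from `iY`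
    have sqT := hiY.1.isPullback a
    set T := hiY.1.pullback a
    set j : T ⟶ T' := hiY.1.snd a
    set fstT : (yon S).obj T ⟶ Y.obj := hiY.1.fst a
    have hj : thick j.left := hiY.2 a fstT j sqT
    obtain ⟨t, rfl⟩ := hj.2.surj t'
    -- the scheme-level pullback of `snd` along `j`
    have sqW : IsPullback (pullback.fst snd j) (pullback.snd snd j) snd j :=
      IsPullback.of_hasPullback snd j
    have sqWy := sqW.map (yon S)
    have big : IsPullback ((yon S).map (pullback.fst snd j) ≫ fst)
        ((yon S).map (pullback.snd snd j)) f'.hom ((yon S).map j ≫ a) :=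
      sqWy.paste_horiz sq'
    have wk : ((yon S).map (pullback.fst snd j) ≫ fst) ≫ f'.hom =
        ((yon S).map (pullback.snd snd j) ≫ fstT) ≫ iY.hom := by
      rw [Category.assoc ((yon S).map (pullback.snd snd j)), sqT.w]
      exact big.w
    have left : IsPullback (sqX.lift _ _ wk) ((yon S).map (pullback.snd snd j)) f.hom fstT := by
      refine IsPullback.of_right ?_ (sqX.lift_snd _ _ wk) sqX
      rw [sqX.lift_fst, sqT.w]
      exact big
    have hdeg := hf.2 fstT _ _ left
    haveI h1 : IsFinite snd.left := (hf'.2 a fst snd sq').1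
    haveI h2 : Flat snd.left := (hf'.2 a fst snd sq').2.1
    have sqWl : IsPullback (pullback.fst snd j).left (pullback.snd snd j).left snd.left j.left :=
      sqW.map (Over.forget S)
    have e : (pullback.snd snd j).left.finrank t = snd.left.finrank (j.left t) :=
      Scheme.Hom.finrank_of_isPullback _ _ _ _ sqWl t
    have e2 : (pullback.snd snd j).left.finrank t = d := hdeg.2 t
    exact e.symm.trans e2
  · intro hf'
    exact MorphismProperty.of_isPullback (P := RepWith (S := S) (finLocFreeOfDeg d)) sqX hf'

end Main

end Groth.Agent.Helper53.DeformComb
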