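import Groth.Agent.Lib.Helper53.DeformComb
import Groth.Agent.S10596
import Groth.Agent.Lib.Helper78.AlgSpFibre

/-!
# Deformation of monomorphisms along finite order thickenings (diagonal argument).  By helper53.
-/

set_option autoImplicit false
set_option linter.style.haveILetI false
universe u
open CategoryTheory CategoryTheory.Limits AlgebraicGeometry Opposite

namespace Groth.Agent.Helper53.DeformComb

open AlgSp
open Groth.Agent.Lib.Helper51 Groth.Agent.Lib.Helper52 Groth.Agent.Lib.Helper30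

variable {S : Scheme.{u}}

/-- the self fibre product of a morphism of algebraic spaces, as an algebraic space. -/
noncomputable abbrev selfProd {X Y : Space S} (f : X ⟶ Y) : Space S :=
  ⟨pullback f.hom f.hom, Groth.Agent.Lib.Helper78.AlgSpFibre.isAlgSpace_of_isPullback
    (IsPullback.of_hasPullback f.hom f.hom) Y.property.diag X.property X.property⟩

section

variable {X X' Y Y' : Space S} (iX : X ⟶ X') (iY : Y ⟶ Y') (f : X ⟶ Y) (f' : X' ⟶ Y')
  (sqX : IsPullback iX.hom f.hom f'.hom iY.hom)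

/-- the map `X ×_Y X ⟶ X' ×_{Y'} X'`. -/
noncomputable def selfProdMap (w : iX.hom ≫ f'.hom = f.hom ≫ iY.hom) :
    selfProd f ⟶ selfProd f' :=
  ObjectProperty.homMk (pullback.map f.hom f.hom f'.hom f'.hom iX.hom iX.hom iY.hom w.symm w.symm)

theorem selfProdMap_fst (w : iX.hom ≫ f'.hom = f.hom ≫ iY.hom) :
    (selfProdMap iX iY f f' w).hom ≫ pullback.fst f'.hom f'.hom =
      pullback.fst f.hom f.hom ≫ iX.hom :=
  pullback.lift_fst _ _ _

theorem selfProdMap_snd (w : iX.hom ≫ f'.hom = f.hom ≫ iY.hom) :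
    (selfProdMap iX iY f f' w).hom ≫ pullback.snd f'.hom f'.hom =
      pullback.snd f.hom f.hom ≫ iX.hom :=
  pullback.lift_snd _ _ _

include sqX in
/-- the square `X ×_Y X ⟶ X' ×_{Y'} X'` over `snd` is cartesian. -/
theorem isPullback_selfProdMap_snd :
    IsPullback (selfProdMap iX iY f f' sqX.w).hom (pullback.snd f.hom f.hom)
      (pullback.snd f'.hom f'.hom) iX.hom := by
  have h1 : IsPullback (pullback.fst f.hom f.hom ≫ iX.hom) (pullback.snd f.hom f.hom) f'.hom
      (f.hom ≫ iY.hom) := (IsPullback.of_hasPullback f.hom f.hom).paste_horiz sqX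
  have e1 := selfProdMap_fst iX iY f f' sqX.w
  have e2 := selfProdMap_snd iX iY f f' sqX.w
  have h2 : IsPullback ((selfProdMap iX iY f f' sqX.w).hom ≫ pullback.fst f'.hom f'.hom)
      (pullback.snd f.hom f.hom) f'.hom (iX.hom ≫ f'.hom) := by
    rw [e1, sqX.w]; exact h1
  exact IsPullback.of_right h2 e2 (IsPullback.of_hasPullback f'.hom f'.hom)

end

/-- Deformation of monomorphisms along a finite order thickening. -/
theorem mono_iff_finThick {X X' Y Y' B B' : Space S} (iX : X ⟶ X') (iY : Y ⟶ Y') (iB : B ⟶ B')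
    (f : X ⟶ Y) (f' : X' ⟶ Y') (g : Y ⟶ B) (g' : Y' ⟶ B')
    (hcX : IsPullback iX.hom (f ≫ g).hom (f' ≫ g').hom iB.hom)
    (hcY : IsPullback iY.hom g.hom g'.hom iB.hom)
    (w : iX ≫ f' = f ≫ iY)
    (hB : IsFinThickMor iB.hom) (hflat : LocP @Flat (f' ≫ g').hom) :
    Mono f.hom ↔ Mono f'.hom := by
  have w' : iX.hom ≫ f'.hom = f.hom ≫ iY.hom := congrArg (fun φ => φ.hom) w
  have sqX : IsPullback iX.hom f.hom f'.hom iY.hom := IsPullback.of_bot hcX w' hcY
  constructor
  swap
  · intro hm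
    exact MorphismProperty.of_isPullback
      (P := MorphismProperty.monomorphisms (Sp S)) sqX (MorphismProperty.monomorphisms.infer_property _)
  intro hm
  obtain ⟨n, hBn⟩ := hB
  have hBt : IsThickMor iB.hom := hBn.1
  -- the diagonal situation
  let Z := selfProd f
  let Z' := selfProd f'
  let iZ : Z ⟶ Z' := selfProdMap iX iY f f' sqX.w
  let Δ : X ⟶ Z := ObjectProperty.homMk (pullback.diagonal f.hom)
  let Δ' : X' ⟶ Z' := ObjectProperty.homMk (pullback.diagonal f'.hom)
  let gZ : Z ⟶ B := ObjectProperty.homMk (pullback.snd f.hom f.hom ≫ (f ≫ g).hom)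
  let gZ' : Z' ⟶ B' := ObjectProperty.homMk (pullback.snd f'.hom f'.hom ≫ (f' ≫ g').hom)
  have hcZ : IsPullback iZ.hom gZ.hom gZ'.hom iB.hom :=
    (isPullback_selfProdMap_snd iX iY f f' sqX).paste_vert hcX
  have eΔ : (Δ ≫ gZ).hom = (f ≫ g).hom := by
    show pullback.diagonal f.hom ≫ pullback.snd f.hom f.hom ≫ (f ≫ g).hom = _
    rw [pullback.diagonal_snd_assoc]
  have eΔ' : (Δ' ≫ gZ').hom = (f' ≫ g').hom := by
    show pullback.diagonal f'.hom ≫ pullback.snd f'.hom f'.hom ≫ (f' ≫ g').hom = _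
    rw [pullback.diagonal_snd_assoc]
  have hcXΔ : IsPullback iX.hom (Δ ≫ gZ).hom (Δ' ≫ gZ').hom iB.hom := by
    rw [eΔ, eΔ']; exact hcX
  have wΔ : iX ≫ Δ' = Δ ≫ iZ := by
    apply ObjectProperty.hom_ext
    change iX.hom ≫ pullback.diagonal f'.hom = pullback.diagonal f.hom ≫
      (selfProdMap iX iY f f' sqX.w).hom
    apply pullback.hom_ext
    · rw [Category.assoc, Category.assoc, selfProdMap_fst, pullback.diagonal_fst,
        pullback.diagonal_fst_assoc, Category.comp_id]
    · rw [Category.assoc, Category.assoc, selfProdMap_snd, pullback.diagonal_snd,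
        pullback.diagonal_snd_assoc, Category.comp_id]
  have hflatΔ : LocP @Flat (Δ' ≫ gZ').hom := by rw [eΔ']; exact hflat
  have t3 := Groth.Agent.S10596.result iX iZ iB Δ Δ' gZ gZ' hcXΔ hcZ wΔ ⟨n, hBn⟩ hflatΔ 0
  have hiZ : IsThickMor iZ.hom := MorphismProperty.of_isPullback hcZ.flip hBt
  have hiX : IsThickMor iX.hom := MorphismProperty.of_isPullback hcX.flip hBt
  have wΔ' : iX.hom ≫ Δ'.hom = Δ.hom ≫ iZ.hom := congrArg (fun φ => φ.hom) wΔ
  have sqΔ : IsPullback iX.hom Δ.hom Δ'.hom iZ.hom := IsPullback.of_bot hcXΔ wΔ' hcZ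
  have key := isIso_iff iX iZ Δ Δ' hiX hiZ sqΔ t3.2.2.2.2.2.2.2.1
  have h1 : IsIso Δ.hom := (pullback.isIso_diagonal_iff f.hom).2 hm
  have h2 : IsIso Δ'.hom := key.1 h1
  exact (pullback.isIso_diagonal_iff f'.hom).1 h2

end Groth.Agent.Helper53.DeformComb
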