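import Mathlib

/-!
# Dividing sections of the structure sheaf locally and gluing (helper53)
-/

set_option autoImplicit false
universe u

open CategoryTheory CategoryTheory.Limits AlgebraicGeometry TopologicalSpace Opposite

namespace Groth.Agent.Lib.Helper53.DivGlue

/-- restriction of a global section -/
noncomputable abbrev res {E : Scheme.{u}} (V : E.Opens) (a : Γ(E, ⊤)) : Γ(E, V) :=
  E.presheaf.map (homOfLE (le_top : V ≤ ⊤)).op a

/-- multiplication by `b` is injective on sections over every open -/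
def LocNZD {E : Scheme.{u}} (b : Γ(E, ⊤)) : Prop :=
  ∀ (V : E.Opens) (h : Γ(E, V)), res V b * h = 0 → h = 0

theorem res_res {E : Scheme.{u}} {V V' : E.Opens} (i : V' ⟶ V) (a : Γ(E, ⊤)) :
    E.presheaf.map i.op (res V a) = res V' a := by
  unfold res
  rw [← ConcreteCategory.comp_apply, ← E.presheaf.map_comp]
  rfl

/-- from divisibility in the stalk to divisibility on a neighbourhood -/
theorem exists_local_of_stalk {E : Scheme.{u}} (a b : Γ(E, ⊤)) (e : E)
    (h : ∃ q : E.presheaf.stalk e, E.presheaf.germ ⊤ e trivial b * q = E.presheaf.germ ⊤ e trivial a) :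
    ∃ (V : E.Opens) (_ : e ∈ V) (s : Γ(E, V)), res V b * s = res V a := by
  obtain ⟨q, hq⟩ := h
  obtain ⟨V₁, he₁, s₁, hs₁⟩ := E.presheaf.exists_germ_eq q
  have h1 : E.presheaf.germ V₁ e he₁ (res V₁ b * s₁) = E.presheaf.germ V₁ e he₁ (res V₁ a) := by
    rw [map_mul, hs₁]
    unfold res
    rw [TopCat.Presheaf.germ_res_apply, TopCat.Presheaf.germ_res_apply]
    exact hq
  obtain ⟨W, heW, i₁, i₂, hW⟩ := E.presheaf.germ_eq e he₁ he₁ _ _ h1
  refine ⟨W, heW, E.presheaf.map i₁.op s₁, ?_⟩
  rw [map_mul, res_res] at hW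
  rw [hW]
  have : i₂ = i₁ := Subsingleton.elim _ _
  rw [this, res_res]

/-- local divisibility plus local injectivity of multiplication give global divisibility -/
theorem exists_of_local {E : Scheme.{u}} (a b : Γ(E, ⊤))
    (hloc : ∀ e : E, ∃ (V : E.Opens) (_ : e ∈ V) (s : Γ(E, V)), res V b * s = res V a)
    (hnzd : LocNZD b) : ∃ g : Γ(E, ⊤), b * g = a := by
  choose V hV s hs using hloc
  have hcompat : TopCat.Presheaf.IsCompatible E.presheaf V s := by
    intro i j
    have e1 : res (V i ⊓ V j) b * E.presheaf.map (Opens.infLELeft (V i) (V j)).op (s i) =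
        res (V i ⊓ V j) a := by
      rw [← res_res (Opens.infLELeft (V i) (V j)) b, ← map_mul, hs i, res_res]
    have e2 : res (V i ⊓ V j) b * E.presheaf.map (Opens.infLERight (V i) (V j)).op (s j) =
        res (V i ⊓ V j) a := by
      rw [← res_res (Opens.infLERight (V i) (V j)) b, ← map_mul, hs j, res_res]
    have h0 : res (V i ⊓ V j) b * (E.presheaf.map (Opens.infLELeft (V i) (V j)).op (s i) -
        E.presheaf.map (Opens.infLERight (V i) (V j)).op (s j)) = 0 := by
      rw [mul_sub, e1, e2, sub_self]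
    exact sub_eq_zero.mp (hnzd _ _ h0)
  have hcover : (⊤ : E.Opens) ≤ iSup V := fun e _ => Opens.mem_iSup.mpr ⟨e, hV e⟩
  obtain ⟨(g : Γ(E, ⊤)), hg, -⟩ :=
    E.sheaf.existsUnique_gluing' V ⊤ (fun e => homOfLE le_top) hcover s hcompat
  refine ⟨g, ?_⟩
  apply E.sheaf.eq_of_locally_eq' V ⊤ (fun e => homOfLE le_top) hcover
  intro e
  have := hg e
  change E.presheaf.map (homOfLE le_top).op (b * g) = E.presheaf.map (homOfLE le_top).op a
  rw [map_mul]
  change res (V e) b * E.presheaf.map (homOfLE le_top).op g = res (V e) a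
  rw [show E.presheaf.map (homOfLE le_top).op g = s e from hg e]
  exact hs e

end Groth.Agent.Lib.Helper53.DivGlue
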