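import Groth.Agent.Lib.Helper53.DivGlue

/-!
# Division in integrally closed stalks; density and nonzerodivisors; faithfully flat transport (helper53)
-/

set_option autoImplicit false
universe u

open CategoryTheory CategoryTheory.Limits AlgebraicGeometry TopologicalSpace Opposite

namespace Groth.Agent.Lib.Helper53.DivGlue

open Polynomial in
theorem exists_mul_eq_of_scaleRoots {R O : Type*} [CommRing R] [CommRing O] [IsDomain O]
    [IsIntegrallyClosed O] (φ : R →+* O) (a b : R) (p : R[X]) (hp : p.Monic)
    (hroot : (scaleRoots p b).eval a = 0) (hb : φ b ≠ 0) : ∃ q : O, φ b * q = φ a := by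
  have hpt : (p.map φ).Monic := hp.map φ
  have h1 : (scaleRoots p b).map φ = scaleRoots (p.map φ) (φ b) :=
    map_scaleRoots p b φ (by rw [hp.leadingCoeff, map_one]; exact one_ne_zero)
  have h2 : (scaleRoots (p.map φ) (φ b)).eval (φ a) = 0 := by
    rw [← h1, Polynomial.eval_map, Polynomial.eval₂_hom, hroot, map_zero]
  have hfb : algebraMap O (FractionRing O) (φ b) ≠ 0 := by
    intro h
    exact hb ((IsFractionRing.injective O (FractionRing O)) (by rw [h, map_zero]))
  have h3 := scaleRoots_eval₂_mul (p := p.map φ) (algebraMap O (FractionRing O))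
    (algebraMap O (FractionRing O) (φ a) / algebraMap O (FractionRing O) (φ b)) (φ b)
  rw [mul_div_cancel₀ _ hfb, Polynomial.eval₂_hom, h2, map_zero] at h3
  have h4 : eval₂ (algebraMap O (FractionRing O))
      (algebraMap O (FractionRing O) (φ a) / algebraMap O (FractionRing O) (φ b)) (p.map φ) = 0 := by
    rcases mul_eq_zero.mp h3.symm with h | h
    · exact absurd (pow_eq_zero_iff (by
        intro hn; rw [hn, pow_zero] at h; exact one_ne_zero h) |>.mp h) hfb
    · exact h
  have hint : IsIntegral O
      (algebraMap O (FractionRing O) (φ a) / algebraMap O (FractionRing O) (φ b)) :=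
    ⟨p.map φ, hpt, h4⟩
  obtain ⟨q, hq⟩ := IsIntegrallyClosed.algebraMap_eq_of_integral hint
  refine ⟨q, ?_⟩
  apply IsFractionRing.injective O (FractionRing O)
  rw [map_mul, hq, mul_div_cancel₀ _ hfb]

/-- If the nonvanishing locus of `b` is dense then `b` has nonzero germs. -/
theorem germ_ne_zero_of_dense {E : Scheme.{u}} (b : Γ(E, ⊤))
    (hd : Dense (E.basicOpen b : Set E)) (e : E) [Nontrivial (E.presheaf.stalk e)] :
    E.presheaf.germ ⊤ e trivial b ≠ 0 := by
  intro h
  obtain ⟨V, i, heV, hV⟩ := E.toRingedSpace.exists_res_eq_zero_of_germ_eq_zero ⊤ b ⟨e, trivial⟩ h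
  obtain ⟨x, hxV, hxb⟩ := hd.inter_open_nonempty (V : Set E) V.isOpen ⟨e, heV⟩
  have h1 : x ∈ E.basicOpen (E.presheaf.map i.op b) := by
    rw [Scheme.basicOpen_res]
    exact ⟨hxV, hxb⟩
  have h2 : E.presheaf.map i.op b = 0 := hV
  rw [h2, Scheme.basicOpen_zero] at h1
  exact h1

/-- If the nonvanishing locus of `b` is dense in a reduced scheme then multiplication by `b` is
injective on all sections. -/
theorem locNZD_of_dense {E : Scheme.{u}} [IsReduced E] (b : Γ(E, ⊤))
    (hd : Dense (E.basicOpen b : Set E)) : LocNZD b := by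
  intro V h hbh
  rw [← basicOpen_eq_bot_iff]
  by_contra hne
  have hne' : (E.basicOpen h : Set E).Nonempty := by
    rw [Set.nonempty_iff_ne_empty]
    intro h0
    exact hne (SetLike.coe_injective (by rw [h0]; rfl))
  obtain ⟨x, hxh, hxb⟩ := hd.inter_open_nonempty _ (E.basicOpen h).isOpen hne'
  have hxV : x ∈ V := E.basicOpen_le h hxh
  have h1 : x ∈ E.basicOpen (res V b * h) := by
    rw [Scheme.basicOpen_mul, Scheme.basicOpen_res]
    exact ⟨⟨hxV, hxb⟩, hxh⟩
  rw [hbh, Scheme.basicOpen_zero] at h1
  exact h1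

end Groth.Agent.Lib.Helper53.DivGlue
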