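import Groth.Agent.Lib.Helper53.DivGlue2

/-!
# Divisibility in stalks descends along flat morphisms (helper53)
-/

set_option autoImplicit false
universe u

open CategoryTheory CategoryTheory.Limits AlgebraicGeometry TopologicalSpace Opposite

namespace Groth.Agent.Lib.Helper53.DivGlue

theorem exists_of_flat_stalk {P E : Scheme.{u}} (π : P ⟶ E) [Flat π] (z : P) (a b : Γ(E, ⊤))
    (h : ∃ q' : P.presheaf.stalk z, P.presheaf.germ ⊤ z trivial (π.appTop b) * q' =
      P.presheaf.germ ⊤ z trivial (π.appTop a)) :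
    ∃ q : E.presheaf.stalk (π z), E.presheaf.germ ⊤ (π z) trivial b * q =
      E.presheaf.germ ⊤ (π z) trivial a := by
  obtain ⟨q', hq'⟩ := h
  have hb : (π.stalkMap z).hom (E.presheaf.germ ⊤ (π z) trivial b) =
      P.presheaf.germ ⊤ z trivial (π.appTop b) := Scheme.Hom.germ_stalkMap_apply π ⊤ z trivial b
  have ha : (π.stalkMap z).hom (E.presheaf.germ ⊤ (π z) trivial a) =
      P.presheaf.germ ⊤ z trivial (π.appTop a) := Scheme.Hom.germ_stalkMap_apply π ⊤ z trivial a
  algebraize [(π.stalkMap z).hom]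
  have : Module.FaithfullyFlat (E.presheaf.stalk (π z)) (P.presheaf.stalk z) :=
    @Module.FaithfullyFlat.of_flat_of_isLocalHom _ _ _ _ _ _ _
      (Flat.stalkMap π z) (π.toLRSHom.prop z)
  have hmem : E.presheaf.germ ⊤ (π z) trivial a ∈
      (Ideal.map (algebraMap (E.presheaf.stalk (π z)) (P.presheaf.stalk z))
        (Ideal.span {E.presheaf.germ ⊤ (π z) trivial b})).comap
        (algebraMap (E.presheaf.stalk (π z)) (P.presheaf.stalk z)) := by
    rw [Ideal.mem_comap, Ideal.map_span, Set.image_singleton]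
    change (π.stalkMap z).hom (E.presheaf.germ ⊤ (π z) trivial a) ∈
      Ideal.span {(π.stalkMap z).hom (E.presheaf.germ ⊤ (π z) trivial b)}
    rw [ha, hb, ← hq']
    exact Ideal.mul_mem_right _ _ (Ideal.mem_span_singleton_self _)
  rw [Ideal.comap_map_eq_self_of_faithfullyFlat, Ideal.mem_span_singleton'] at hmem
  obtain ⟨q, hq⟩ := hmem
  exact ⟨q, by rw [mul_comm]; exact hq⟩

end Groth.Agent.Lib.Helper53.DivGlue
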