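import Groth.Statements.S10512
import Groth.Agent.Lib.Helper52.Points
import Groth.Agent.Lib.Helper51.AlgSpPoints
import Groth.Agent.Lib.Helper51.AlgSpEtaleMor
import Groth.Agent.Lib.Helper78.AlgSpFibre

/-!
# The small étale site of an algebraic space inside its big étale site: cocontinuity.  By helper53.
An auxiliary topology `K₀` on algebraic spaces over `S`: a sieve covers when every scheme point of
the target has an étale scheme covering whose members lie in the sieve.
-/

set_option autoImplicit false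
universe u
open CategoryTheory CategoryTheory.Limits AlgebraicGeometry Opposite

set_option backward.isDefEq.respectTransparency false

namespace Groth.Agent.Helper53.EtSmallBig

open AlgSp
open Groth.Agent.Lib.Helper51 Groth.Agent.Lib.Helper52

variable {S : Scheme.{u}}

/-- A sieve on an algebraic space is good when, after any map from a scheme, it contains an étale
covering family of that scheme. -/
def Good {Z : Space S} (R : Sieve Z) : Prop :=
  ∀ (T : Over S) (h : (ofScheme S).obj T ⟶ Z),
    ∃ (ι : Type u) (Ti : ι → Over S) (φ : ∀ i, Ti i ⟶ T), (∀ i, Etale (φ i).left) ∧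
      (∀ t : T.left, ∃ i, t ∈ Set.range (φ i).left) ∧ ∀ i, R ((ofScheme S).map (φ i) ≫ h)

variable (S) in
/-- the auxiliary topology. -/
def K₀ : GrothendieckTopology (Space S) where
  sieves Z := {R | Good R}
  top_mem' Z := by
    intro T h
    refine ⟨PUnit, fun _ => T, fun _ => 𝟙 T, fun _ => ?_, fun t => ⟨⟨⟩, t, ?_⟩, fun _ => trivial⟩
    · rw [Over.id_left]; infer_instance
    · rw [Over.id_left]; rfl
  pullback_stable' Z Z' R g hR := by
    intro T h
    obtain ⟨ι, Ti, φ, h1, h2, h3⟩ := hR T (h ≫ g)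
    refine ⟨ι, Ti, φ, h1, h2, fun i => ?_⟩
    show R (((ofScheme S).map (φ i) ≫ h) ≫ g)
    rw [Category.assoc]; exact h3 i
  transitive' Z R hR R' hR' := by
    intro T h
    obtain ⟨ι, Ti, φ, h1, h2, h3⟩ := hR T h
    have := fun i => hR' (h3 i) (Ti i) (𝟙 _)
    choose κ Tij ψ k1 k2 k3 using this
    refine ⟨Σ i, κ i, fun p => Tij p.1 p.2, fun p => ψ p.1 p.2 ≫ φ p.1, ?_, ?_, ?_⟩
    · intro p
      rw [Over.comp_left]
      have := h1 p.1
      have := k1 p.1 p.2
      infer_instance
    · intro t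
      obtain ⟨i, ti, rfl⟩ := h2 t
      obtain ⟨j, tij, rfl⟩ := k2 i ti
      exact ⟨⟨i, j⟩, tij, by rw [Over.comp_left]; rfl⟩
    · intro p
      have h4 := k3 p.1 p.2
      have h5 : R' (((ofScheme S).map (ψ p.1 p.2) ≫ 𝟙 _) ≫ (ofScheme S).map (φ p.1) ≫ h) := h4
      rw [Category.comp_id, ← Category.assoc, ← Functor.map_comp] at h5
      exact h5

theorem spacesPre_le : spacesPre S IsEtaleMor ≤ (K₀ S).toPrecoverage := by
  intro Z R₀ hR₀
  rw [GrothendieckTopology.mem_toPrecoverage_iff]
  intro T h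
  have key : ∀ t : T.left, ∃ (W : Over S) (φ : W ⟶ T), Etale φ.left ∧ t ∈ Set.range φ.left ∧
      (Sieve.generate R₀) ((ofScheme S).map φ ≫ h) := by
    intro t
    obtain ⟨Y', g, hg, y', hy'⟩ := hR₀.2 (Points.ofPt h.hom t)
    have sq : IsPullback (pullback.fst g.hom h.hom) (pullback.snd g.hom h.hom) g.hom h.hom :=
      IsPullback.of_hasPullback _ _
    have hP : IsAlgSpace (pullback g.hom h.hom) :=
      Groth.Agent.Lib.Helper78.AlgSpFibre.isAlgSpace_of_isPullback sq Z.property.diag Y'.property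
        (IsAlgSpace.yon_obj T)
    obtain ⟨p, hp1, hp2⟩ := exists_point_of_isPullback sq y' (Points.ofScheme T t)
      (by rw [hy', Points.ofPt_eq_map_ofScheme])
    obtain ⟨W, a, hae, has⟩ := hP.atlas
    obtain ⟨w, hw⟩ := surjective_ofPt_of_repWith_surjective a has p
    have hsnd : IsEtaleMor (pullback.snd g.hom h.hom) :=
      isEtaleMor_of_isPullback Y'.property Z.property (IsAlgSpace.yon_obj T) sq.flip (hR₀.1 g hg)
    have hcomp : RepWith @Etale (a ≫ pullback.snd g.hom h.hom) := hsnd a hae
    obtain ⟨φ, hφ⟩ := (yon S).map_surjective (a ≫ pullback.snd g.hom h.hom)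
    have hφe : Etale φ.left := (repWith_yon_map_iff @Etale φ).1 (by rw [hφ]; exact hcomp)
    refine ⟨W, φ, hφe, ⟨w, ?_⟩, ?_⟩
    · apply ofScheme_injective T
      rw [← map_yon_map_ofScheme, hφ, Points.map_comp, ← Points.ofPt_eq_map_ofScheme, hw, hp2]
    · refine ⟨Y', ObjectProperty.homMk (a ≫ pullback.fst g.hom h.hom), g, hg, ?_⟩
      apply ObjectProperty.hom_ext
      show (a ≫ pullback.fst g.hom h.hom) ≫ g.hom = (yon S).map φ ≫ h.hom
      rw [Category.assoc, sq.w, ← Category.assoc, hφ]
  choose W φ h1 h2 h3 using key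
  exact ⟨T.left, W, φ, h1, fun t => ⟨t, h2 t⟩, h3⟩

theorem spacesTop_le : spacesTop S IsEtaleMor ≤ K₀ S :=
  Precoverage.toGrothendieck_le_iff_le_toPrecoverage.2 spacesPre_le

/-- Cocontinuity of the inclusion of the small étale site into the big étale site. -/
theorem cocont₀ (Y : Space S) :
    (EtOver.toEtSpOver Y ⋙
        ObjectProperty.ι (fun E : Over Y => IsEtaleMor E.hom.hom)).IsCocontinuous
      (etTop Y.obj) (spacesTopOver IsEtaleMor Y) where
  cover_lift {E R} hR := by
    rw [GrothendieckTopology.mem_over_iff] at hR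
    have hgood : Good (Sieve.overEquiv _ R) := spacesTop_le _ hR
    obtain ⟨ι, Ti, φ, h1, h2, h3⟩ := hgood E.obj.left (𝟙 _)
    let Ei : ι → EtOver Y.obj := fun i => EtOver.mk ((yon S).map (φ i) ≫ E.obj.hom)
      ((repWith_isMultiplicative (S := S) @Etale).comp_mem _ _
        ((repWith_yon_map_iff @Etale (φ i)).2 (h1 i)) E.property)
    let gi : ∀ i, Ei i ⟶ E := fun i => EtOver.homMk (φ i) rfl
    refine (etTop Y.obj).superset_covering ?_ (ofArrows_mem_etTop Ei gi (fun x => h2 x))
    rw [Sieve.ofArrows, Sieve.generate_le_iff]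
    rintro _ _ ⟨i⟩
    have h4 := h3 i
    rw [Category.comp_id, Sieve.overEquiv_iff] at h4
    exact h4

end Groth.Agent.Helper53.EtSmallBig
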