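import Groth.Agent.Lib.Helper53.EtSmallBig
import Groth.Statements.S10513

/-!
# The small étale site of an algebraic space inside its big étale site: continuity.  By helper53.
-/

set_option autoImplicit false
universe u
open CategoryTheory CategoryTheory.Limits AlgebraicGeometry Opposite

set_option backward.isDefEq.respectTransparency false

namespace Groth.Agent.Helper53.EtSmallBig

open AlgSp
open Groth.Agent.Lib.Helper51 Groth.Agent.Lib.Helper52

variable {S : Scheme.{u}}

/-- the inclusion functor of the small étale site into the big site. -/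
noncomputable abbrev G₀ (Y : Space S) : EtOver Y.obj ⥤ Over Y :=
  EtOver.toEtSpOver Y ⋙ ObjectProperty.ι (fun E : Over Y => IsEtaleMor E.hom.hom)

section Pullbacks

variable {Y : Space S} {E₁ E₂ E₀ : EtOver Y.obj} (g₁ : E₁ ⟶ E₀) (g₂ : E₂ ⟶ E₀)

theorem isPullback_G₀ :
    IsPullback ((G₀ Y).map (EtOver.pullbackFst g₁ g₂)) ((G₀ Y).map (EtOver.pullbackSnd g₁ g₂))
      ((G₀ Y).map g₁) ((G₀ Y).map g₂) := by
  have comm : (G₀ Y).map (EtOver.pullbackFst g₁ g₂) ≫ (G₀ Y).map g₁ =
      (G₀ Y).map (EtOver.pullbackSnd g₁ g₂) ≫ (G₀ Y).map g₂ := by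
    rw [← Functor.map_comp, ← Functor.map_comp, EtOver.pullback_condition]
  refine IsPullback.of_map (Over.forget Y) comm ?_
  have comm2 : (Over.forget Y).map ((G₀ Y).map (EtOver.pullbackFst g₁ g₂)) ≫
      (Over.forget Y).map ((G₀ Y).map g₁) =
      (Over.forget Y).map ((G₀ Y).map (EtOver.pullbackSnd g₁ g₂)) ≫
      (Over.forget Y).map ((G₀ Y).map g₂) := by
    exact congrArg (fun k => (Over.forget Y).map k) comm
  refine IsPullback.of_map (ObjectProperty.ι (IsAlgSpace (S := S))) comm2 ?_
  exact (IsPullback.of_hasPullback g₁.hom.left g₂.hom.left).map (yon S)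

instance preservesLimit_cospan_G₀ : PreservesLimit (cospan g₁ g₂) (G₀ Y) :=
  preservesLimit_of_preserves_limit_cone (EtOver.pullbackIsLimit g₁ g₂)
    ((isLimitMapConePullbackConeEquiv _ _).symm (isPullback_G₀ g₁ g₂).isLimit)

instance preservesPullbacks_G₀ : PreservesLimitsOfShape WalkingCospan (G₀ Y) where
  preservesLimit {K} := preservesLimit_of_iso_diagram _ (diagramIsoCospan K).symm

end Pullbacks

theorem map_ofArrows_mem {C D : Type*} [Category C] [Category D] (F : C ⥤ D) {X : C} {ι : Type*}
    (Ei : ι → C) (gi : ∀ i, Ei i ⟶ X) (i : ι) :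
    Presieve.map F (Presieve.ofArrows Ei gi) (F.map (gi i)) :=
  Presieve.map.of (Presieve.ofArrows.mk i)

/-- the image of an étale covering of the small site generates a covering sieve of the big site. -/
theorem generate_map_mem (Z : Space S) {E : EtOver Z.obj} {R : Presieve E} (hR : R ∈ etPre Z.obj E) :
    Sieve.generate (R.map (G₀ Z)) ∈ spacesTopOver IsEtaleMor Z ((G₀ Z).obj E) := by
  obtain ⟨ι, Ei, gi, rfl⟩ := R.exists_eq_ofArrows
  rw [ofArrows_mem_etPre_iff] at hR
  rw [GrothendieckTopology.mem_over_iff]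
  have hcov : Presieve.ofArrows (fun i => (ofScheme S).obj (Ei i).obj.left)
      (fun i => (ofScheme S).map (gi i).hom.left) ∈
      spacesPre S IsEtaleMor ((ofScheme S).obj E.obj.left) := by
    rw [mem_spacesPre_iff]
    constructor
    · rintro _ _ ⟨i⟩
      exact (isEtaleMor_yon_map_iff _).2 (EtOver.etale_left (gi i))
    · intro x
      obtain ⟨t, rfl⟩ := (Points.schemeEquiv E.obj.left).surjective x
      obtain ⟨i, ti, hti⟩ := hR t
      refine ⟨_, _, ⟨i⟩, Points.ofScheme _ ti, ?_⟩
      change Points.map ((yon S).map (gi i).hom.left) (Points.ofScheme _ ti) = Points.ofScheme _ t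
      rw [map_yon_map_ofScheme, hti]
  refine (spacesTop S IsEtaleMor).superset_covering ?_
    (Precoverage.generate_mem_toGrothendieck hcov)
  rw [Sieve.generate_le_iff]
  rintro _ _ ⟨i⟩
  rw [Sieve.overEquiv_iff]
  have hm : Presieve.map (G₀ Z) (Presieve.ofArrows Ei gi) ((G₀ Z).map (gi i)) :=
    map_ofArrows_mem (G₀ Z) Ei gi i
  have h : Sieve.generate (Presieve.map (G₀ Z) (Presieve.ofArrows Ei gi)) ((G₀ Z).map (gi i)) :=
    Sieve.le_generate _ _ _ hm
  have hw : (ofScheme S).map (gi i).hom.left ≫ ((G₀ Z).obj E).hom = ((G₀ Z).obj (Ei i)).hom := by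
    apply ObjectProperty.hom_ext
    exact EtOver.w (gi i)
  let e : Over.mk ((ofScheme S).map (gi i).hom.left ≫ ((G₀ Z).obj E).hom) ⟶ (G₀ Z).obj (Ei i) :=
    Over.homMk (𝟙 _) (by rw [Category.id_comp]; exact hw.symm)
  have he : e ≫ (G₀ Z).map (gi i) = Over.homMk ((ofScheme S).map (gi i).hom.left) rfl := by
    apply Over.OverMorphism.ext
    exact Category.id_comp _
  rw [← he]
  exact Sieve.downward_closed _ h e

/-- Continuity of the inclusion of the small étale site into the big étale site. -/
theorem cont₀ (Y : Space S) :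
    (G₀ Y).IsContinuous (etTop Y.obj) (spacesTopOver IsEtaleMor Y) where
  op_comp_isSheaf_of_types := fun ⟨G, H⟩ => by
    rw [isSheaf_iff_isSheaf_of_type] at H
    unfold etTop
    rw [← Precoverage.toGrothendieck_toCoverage, Presieve.isSheaf_coverage]
    intro E R hR
    have : (G₀ Y).PreservesPairwisePullbacks R :=
      (etPre Y.obj).preservesPairwisePullbacks_of_mem hR
    have : R.HasPairwisePullbacks := (etPre Y.obj).hasPairwisePullbacks_of_mem hR
    rw [Presieve.IsSheafFor.comp_iff_of_preservesPairwisePullbacks]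
    exact H.isSheafFor _ (generate_map_mem Y hR)

end Groth.Agent.Helper53.EtSmallBig
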