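import Mathlib

/-!
# Ext groups and filtered colimits in a Grothendieck abelian category: dimension shifting

If `Hom(A, -)` commutes with `Λ`-indexed filtered colimits and `Λ`-indexed filtered colimits of
injective objects are `A`-acyclic, then every `Ext^q(A, -)` commutes with `Λ`-indexed colimits.
-/

set_option autoImplicit false
universe u v'

open CategoryTheory CategoryTheory.Limits Opposite Abelian ZeroObject

namespace Groth.Agent.Helper53.ExtColim

variable {𝒜 : Type v'} [Category.{u} 𝒜] [Abelian 𝒜] [IsGrothendieckAbelian.{u} 𝒜]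

section InjF

variable (𝒜)

/-- `X ↦ (X ⟶ 0)`. -/
noncomputable def toZeroArrow : 𝒜 ⥤ Arrow 𝒜 where
  obj X := Arrow.mk (0 : X ⟶ 0)
  map φ := Arrow.homMk φ (𝟙 _) (by simp)

/-- the functorial factorization. -/
noncomputable abbrev ffd :
    MorphismProperty.FunctorialFactorizationData (MorphismProperty.monomorphisms 𝒜)
      (MorphismProperty.monomorphisms 𝒜).rlp :=
  MorphismProperty.functorialFactorizationData _ _

/-- a functorial embedding into an injective object. -/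
noncomputable def injF : 𝒜 ⥤ 𝒜 := toZeroArrow 𝒜 ⋙ (ffd 𝒜).Z

/-- the functorial embedding. -/
noncomputable def injι : 𝟭 𝒜 ⟶ injF 𝒜 where
  app X := (ffd 𝒜).i.app (Arrow.mk (0 : X ⟶ 0))
  naturality X Y φ := (ffd 𝒜).i.naturality ((toZeroArrow 𝒜).map φ)

instance (X : 𝒜) : Mono ((injι 𝒜).app X) :=
  (ffd 𝒜).hi (Arrow.mk (0 : X ⟶ 0))

instance (X : 𝒜) : Injective ((injF 𝒜).obj X) :=
  inferInstanceAs (Injective (IsGrothendieckAbelian.monoMapFactorizationDataRlp (0 : X ⟶ 0)).Z)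

end InjF

section Post

variable [HasExt.{u} 𝒜] {A X Y Z : 𝒜} {q : ℕ}

lemma post_post (x : Ext.{u} A X q) (f : X ⟶ Y) (g : Y ⟶ Z) :
    (x.comp (Ext.mk₀ f) (add_zero q)).comp (Ext.mk₀ g) (add_zero q) =
      x.comp (Ext.mk₀ (f ≫ g)) (add_zero q) := by
  rw [Ext.comp_assoc_of_third_deg_zero, Ext.mk₀_comp_mk₀]

lemma delta_nat {S₁ S₂ : ShortComplex 𝒜} (h₁ : S₁.ShortExact) (h₂ : S₂.ShortExact)
    (φ : S₁ ⟶ S₂) (x : Ext.{u} A S₁.X₃ q) :
    (x.comp h₁.extClass rfl).comp (Ext.mk₀ φ.τ₁) (add_zero (q + 1)) =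
      (x.comp (Ext.mk₀ φ.τ₃) (add_zero q)).comp h₂.extClass rfl := by
  rw [Ext.comp_assoc_of_third_deg_zero, ShortComplex.ShortExact.extClass_naturality h₁ h₂ φ,
    Ext.comp_assoc_of_second_deg_zero]

end Post

section Shift

variable (A : 𝒜) {Λ : Type u} [SmallCategory Λ] [IsFiltered Λ]

/-- every class in `Ext^q(A, colim D)` comes from some `Ext^q(A, D i)`. -/
def Surj (q : ℕ) (D : Λ ⥤ 𝒜) : Prop :=
  ∀ x : Ext.{u} A (colimit D) q, ∃ (i : Λ) (y : Ext.{u} A (D.obj i) q),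
    y.comp (Ext.mk₀ (colimit.ι D i)) (add_zero q) = x

/-- a class in `Ext^q(A, D i)` dying in the colimit dies at a later stage. -/
def Inj (q : ℕ) (D : Λ ⥤ 𝒜) : Prop :=
  ∀ (i : Λ) (y : Ext.{u} A (D.obj i) q),
    y.comp (Ext.mk₀ (colimit.ι D i)) (add_zero q) = 0 →
      ∃ (j : Λ) (f : i ⟶ j), y.comp (Ext.mk₀ (D.map f)) (add_zero q) = 0

variable {A}

/-- the embedding of a diagram in a diagram of injectives. -/
noncomputable def emb (D : Λ ⥤ 𝒜) : D ⟶ D ⋙ injF 𝒜 where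
  app i := (injι 𝒜).app (D.obj i)
  naturality i j f := (injι 𝒜).naturality (D.map f)

instance (D : Λ ⥤ 𝒜) : Mono (emb D) :=
  have : ∀ i, Mono ((emb D).app i) := fun i => inferInstanceAs (Mono ((injι 𝒜).app (D.obj i)))
  NatTrans.mono_of_mono_app _

/-- the short exact sequence of diagrams `D ⟶ I(D) ⟶ I(D)/D`. -/
noncomputable abbrev sFun (D : Λ ⥤ 𝒜) : ShortComplex (Λ ⥤ 𝒜) :=
  ShortComplex.mk (emb D) (cokernel.π (emb D)) (cokernel.condition _)

lemma sFun_shortExact (D : Λ ⥤ 𝒜) : (sFun D).ShortExact where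
  exact := ShortComplex.exact_of_g_is_cokernel _ (cokernelIsCokernel (emb D))

/-- the quotient diagram. -/
noncomputable abbrev quo (D : Λ ⥤ 𝒜) : Λ ⥤ 𝒜 := cokernel (emb D)

/-- the sequence at stage `i`. -/
noncomputable abbrev sAt (D : Λ ⥤ 𝒜) (i : Λ) : ShortComplex 𝒜 :=
  (sFun D).map ((evaluation Λ 𝒜).obj i)

lemma sAt_shortExact (D : Λ ⥤ 𝒜) (i : Λ) : (sAt D i).ShortExact :=
  (sFun_shortExact D).map_of_exact _

/-- the colimit sequence. -/
noncomputable abbrev sColim (D : Λ ⥤ 𝒜) : ShortComplex 𝒜 :=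
  (sFun D).map colim

lemma sColim_shortExact (D : Λ ⥤ 𝒜) : (sColim D).ShortExact :=
  (sFun_shortExact D).map_of_exact _

/-- transition map between stages. -/
noncomputable def sAtMap (D : Λ ⥤ 𝒜) {i j : Λ} (f : i ⟶ j) : sAt D i ⟶ sAt D j :=
  (sFun D).mapNatTrans ((evaluation Λ 𝒜).map f)

/-- the map from stage `i` to the colimit. -/
noncomputable def sAtToColim (D : Λ ⥤ 𝒜) (i : Λ) : sAt D i ⟶ sColim D where
  τ₁ := colimit.ι D i
  τ₂ := colimit.ι (D ⋙ injF 𝒜) i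
  τ₃ := colimit.ι (quo D) i
  comm₁₂ := ι_colimMap (emb D) i
  comm₂₃ := ι_colimMap (cokernel.π (emb D)) i

instance (D : Λ ⥤ 𝒜) (i : Λ) : Injective (sAt D i).X₂ :=
  inferInstanceAs (Injective ((injF 𝒜).obj (D.obj i)))

variable (A)

omit [IsGrothendieckAbelian.{u} 𝒜] in
lemma sub_post [HasExt.{u} 𝒜] {X Y : 𝒜} {q : ℕ} (u v : Ext.{u} A X q) (f : X ⟶ Y) :
    (u - v).comp (Ext.mk₀ f) (add_zero q) =
      u.comp (Ext.mk₀ f) (add_zero q) - v.comp (Ext.mk₀ f) (add_zero q) :=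
  map_sub ((Ext.mk₀ f).postcomp A (add_zero q)) u v

/-- dimension shifting. -/
theorem surj_inj_succ (q : ℕ) (hq : ∀ D : Λ ⥤ 𝒜, Surj A q D ∧ Inj A q D)
    (hacyc : ∀ D : Λ ⥤ 𝒜, (∀ i, Injective (D.obj i)) →
      ∀ x : Ext.{u} A (colimit D) (q + 1), x = 0) (D : Λ ⥤ 𝒜) :
    Surj A (q + 1) D ∧ Inj A (q + 1) D := by
  have hinjD : ∀ i, Injective ((D ⋙ injF 𝒜).obj i) := fun i =>
    inferInstanceAs (Injective ((injF 𝒜).obj (D.obj i)))
  constructor
  · intro x
    obtain ⟨x₃, hx₃⟩ : ∃ x₃ : Ext.{u} A (colimit (quo D)) q,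
        x₃.comp (sColim_shortExact D).extClass rfl = x :=
      Ext.covariant_sequence_exact₁ A (sColim_shortExact D) x
        (hacyc (D ⋙ injF 𝒜) hinjD _) rfl
    obtain ⟨i, y₃, hy₃⟩ := (hq (quo D)).1 x₃
    refine ⟨i, y₃.comp (sAt_shortExact D i).extClass rfl, ?_⟩
    have := delta_nat (sAt_shortExact D i) (sColim_shortExact D) (sAtToColim D i) y₃
    refine this.trans ?_
    rw [← hx₃, ← hy₃]
    rfl
  · intro i y hy
    obtain ⟨y₃, hy₃⟩ : ∃ y₃ : Ext.{u} A ((quo D).obj i) q,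
        y₃.comp (sAt_shortExact D i).extClass rfl = y :=
      Ext.covariant_sequence_exact₁ A (sAt_shortExact D i) y
        (Ext.eq_zero_of_injective _) rfl
    -- the image of `y₃` in the colimit comes from `colim I(D)`
    have h1 : (y₃.comp (Ext.mk₀ (colimit.ι (quo D) i)) (add_zero q)).comp
        (sColim_shortExact D).extClass rfl = 0 := by
      have : y.comp (Ext.mk₀ (colimit.ι D i)) (add_zero (q + 1)) =
          (y₃.comp (Ext.mk₀ (colimit.ι (quo D) i)) (add_zero q)).comp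
            (sColim_shortExact D).extClass rfl := by
        rw [← hy₃]
        exact delta_nat (sAt_shortExact D i) (sColim_shortExact D) (sAtToColim D i) y₃
      exact this.symm.trans hy
    obtain ⟨x₂, hx₂⟩ : ∃ x₂ : Ext.{u} A (colimit (D ⋙ injF 𝒜)) q,
        x₂.comp (Ext.mk₀ (colimMap (cokernel.π (emb D)))) (add_zero q) =
          y₃.comp (Ext.mk₀ (colimit.ι (quo D) i)) (add_zero q) :=
      Ext.covariant_sequence_exact₃ A (sColim_shortExact D) _ rfl h1
    obtain ⟨j, y₂, hy₂⟩ := (hq (D ⋙ injF 𝒜)).1 x₂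
    obtain ⟨k, a, b, -⟩ : ∃ (k : Λ) (_ : i ⟶ k) (_ : j ⟶ k), True :=
      ⟨IsFiltered.max i j, IsFiltered.leftToMax i j, IsFiltered.rightToMax i j, trivial⟩
    obtain ⟨w, hw⟩ : ∃ w : Ext.{u} A ((D ⋙ injF 𝒜).obj k) q,
        w = y₂.comp (Ext.mk₀ ((D ⋙ injF 𝒜).map b)) (add_zero q) := ⟨_, rfl⟩
    obtain ⟨z, hz_def⟩ : ∃ z : Ext.{u} A ((quo D).obj k) q,
        z = y₃.comp (Ext.mk₀ ((quo D).map a)) (add_zero q) -
          w.comp (Ext.mk₀ ((cokernel.π (emb D)).app k)) (add_zero q) := ⟨_, rfl⟩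
    have hwι : w.comp (Ext.mk₀ (colimit.ι (D ⋙ injF 𝒜) k)) (add_zero q) = x₂ := by
      rw [hw, post_post, colimit.w, hy₂]
    have hz : z.comp (Ext.mk₀ (colimit.ι (quo D) k)) (add_zero q) = 0 := by
      rw [hz_def, sub_post, post_post, post_post, colimit.w,
        ← ι_colimMap (cokernel.π (emb D)) k, ← post_post, hwι, hx₂, sub_self]
    obtain ⟨l, c, hc⟩ := (hq (quo D)).2 k z hz
    refine ⟨l, a ≫ c, ?_⟩
    have h2 : y.comp (Ext.mk₀ (D.map (a ≫ c))) (add_zero (q + 1)) =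
        (y₃.comp (Ext.mk₀ ((quo D).map (a ≫ c))) (add_zero q)).comp
          (sAt_shortExact D l).extClass rfl := by
      rw [← hy₃]
      exact delta_nat (sAt_shortExact D i) (sAt_shortExact D l) (sAtMap D (a ≫ c)) y₃
    refine h2.trans ?_
    have h3 : y₃.comp (Ext.mk₀ ((quo D).map (a ≫ c))) (add_zero q) =
        (w.comp (Ext.mk₀ ((D ⋙ injF 𝒜).map c)) (add_zero q)).comp
          (Ext.mk₀ ((cokernel.π (emb D)).app l)) (add_zero q) := by
      have e2 : y₃.comp (Ext.mk₀ ((quo D).map a)) (add_zero q) =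
          z + w.comp (Ext.mk₀ ((cokernel.π (emb D)).app k)) (add_zero q) := by
        rw [hz_def]; abel
      rw [(quo D).map_comp, ← post_post, e2, Ext.add_comp, hc, zero_add, post_post, post_post,
        ← (cokernel.π (emb D)).naturality c]
    rw [h3]
    exact (Ext.comp_assoc_of_second_deg_zero _ _ _ _).trans
      (by rw [show (Ext.mk₀ ((cokernel.π (emb D)).app l)).comp
        (sAt_shortExact D l).extClass (zero_add 1) = 0 from
          (sAt_shortExact D l).comp_extClass, Ext.comp_zero]; rfl)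

/-- all degrees. -/
theorem surj_inj (h0 : ∀ D : Λ ⥤ 𝒜, Surj A 0 D ∧ Inj A 0 D)
    (hacyc : ∀ D : Λ ⥤ 𝒜, (∀ i, Injective (D.obj i)) →
      ∀ (q : ℕ) (x : Ext.{u} A (colimit D) (q + 1)), x = 0) :
    ∀ (q : ℕ) (D : Λ ⥤ 𝒜), Surj A q D ∧ Inj A q D
  | 0 => h0
  | q + 1 => surj_inj_succ A q (surj_inj h0 hacyc q) (fun D hD x => hacyc D hD q x)

/-- `Ext^q(A, -)` preserves the colimit of `D`. -/
theorem preservesColimit_extFunctor (q : ℕ) (D : Λ ⥤ 𝒜) (hs : Surj A q D) (hi : Inj A q D) :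
    PreservesColimit D ((extFunctor.{u} q).obj (op A)) := by
  apply preservesColimit_of_preserves_colimit_cocone (colimit.isColimit D)
  have : PreservesColimitsOfShape Λ (forget AddCommGrpCat.{u}) :=
    PreservesFilteredColimitsOfSize.preserves_filtered_colimits Λ
  have : ReflectsColimit (D ⋙ (extFunctor.{u} q).obj (op A)) (forget AddCommGrpCat.{u}) :=
    reflectsColimit_of_reflectsIsomorphisms _ _
  apply isColimitOfReflects (forget AddCommGrpCat.{u})
  apply Types.FilteredColimit.isColimitOf'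
  · intro x
    obtain ⟨i, y, hy⟩ := hs x
    exact ⟨i, y, hy.symm⟩
  · intro i x y hxy
    have key : ∀ x y : Ext.{u} A (D.obj i) q,
        x.comp (Ext.mk₀ (colimit.ι D i)) (add_zero q) =
          y.comp (Ext.mk₀ (colimit.ι D i)) (add_zero q) →
        ∃ (j : Λ) (f : i ⟶ j), x.comp (Ext.mk₀ (D.map f)) (add_zero q) =
          y.comp (Ext.mk₀ (D.map f)) (add_zero q) := by
      intro x y hxy
      obtain ⟨j, f, hf⟩ := hi i (x - y) (by
        rw [sub_post]
        exact sub_eq_zero.2 hxy)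
      exact ⟨j, f, sub_eq_zero.1 ((sub_post A x y (D.map f)).symm.trans hf)⟩
    exact key x y hxy

end Shift

end Groth.Agent.Helper53.ExtColim
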