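import Mathlib

/-!
# Element-wise diagram chasing in an abelian category through the Freyd–Mitchell embedding
-/

set_option autoImplicit false
universe v u

namespace Groth.Agent.Helper53.Chase

open CategoryTheory Limits

variable {𝒜 : Type u} [Category.{v} 𝒜] [Abelian 𝒜]

/-- The Freyd–Mitchell functor. -/
noncomputable abbrev Φ (𝒜 : Type u) [Category.{v} 𝒜] [Abelian 𝒜] :
    𝒜 ⥤ ModuleCat.{max u v} (Abelian.FreydMitchell.EmbeddingRing 𝒜) :=
  Abelian.FreydMitchell.functor 𝒜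

instance : (Φ 𝒜).Additive := Functor.additive_of_preserves_binary_products _

/-- the "elements" of an object. -/
abbrev El (A : 𝒜) : Type (max u v) := ((Φ 𝒜).obj A : Type (max u v))

/-- the action of a morphism on elements. -/
noncomputable def ap {A B : 𝒜} (f : A ⟶ B) :
    El A →ₗ[Abelian.FreydMitchell.EmbeddingRing 𝒜] El B :=
  ((Φ 𝒜).map f).hom

@[simp] lemma ap_comp {A B D : 𝒜} (f : A ⟶ B) (g : B ⟶ D) (x : El A) :
    ap (f ≫ g) x = ap g (ap f x) := by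
  simp [ap]

@[simp] lemma ap_id {A : 𝒜} (x : El A) : ap (𝟙 A) x = x := by
  simp [ap]

@[simp] lemma ap_zero {A B : 𝒜} (x : El A) : ap (0 : A ⟶ B) x = 0 := by
  simp [ap]

@[simp] lemma ap_nsmul {A B : 𝒜} (n : ℕ) (f : A ⟶ B) (x : El A) :
    ap (n • f) x = n • ap f x := by
  simp [ap]

@[simp] lemma ap_add {A B : 𝒜} (f g : A ⟶ B) (x : El A) :
    ap (f + g) x = ap f x + ap g x := by
  simp [ap, Functor.map_add]

lemma ap_nsmul_id {A : 𝒜} (n : ℕ) (x : El A) : ap (n • 𝟙 A) x = n • x := by simp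

lemma ap_eq_zero_of_comp {A B D : 𝒜} {f : A ⟶ B} {g : B ⟶ D} (h : f ≫ g = 0) (x : El A) :
    ap g (ap f x) = 0 := by
  rw [← ap_comp, h, ap_zero]

lemma hom_ext_ap {A B : 𝒜} {f g : A ⟶ B} (h : ∀ x, ap f x = ap g x) : f = g := by
  apply (Φ 𝒜).map_injective
  ext x
  exact h x

lemma eq_zero_of_ap {A B : 𝒜} {f : A ⟶ B} (h : ∀ x, ap f x = 0) : f = 0 :=
  hom_ext_ap (fun x => by rw [h x, ap_zero])

lemma exact_ap (S : ShortComplex 𝒜) (hS : S.Exact) (x : El S.X₂) (hx : ap S.g x = 0) :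
    ∃ y : El S.X₁, ap S.f y = x :=
  (ShortComplex.moduleCat_exact_iff _).1 (hS.map (Φ 𝒜)) x hx

lemma kernel_lift_ap {A B : 𝒜} (f : A ⟶ B) (x : El A) (hx : ap f x = 0) :
    ∃ y : El (kernel f), ap (kernel.ι f) y = x :=
  exact_ap _ (ShortComplex.exact_kernel f) x hx

lemma cokernel_exact_ap {A B : 𝒜} (f : A ⟶ B) (x : El B) (hx : ap (cokernel.π f) x = 0) :
    ∃ y : El A, ap f y = x :=
  exact_ap _ (ShortComplex.exact_cokernel f) x hx

lemma injective_ap {A B : 𝒜} (f : A ⟶ B) [Mono f] : Function.Injective (ap f) :=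
  (ModuleCat.mono_iff_injective _).1 (inferInstanceAs (Mono ((Φ 𝒜).map f)))

lemma surjective_ap {A B : 𝒜} (f : A ⟶ B) [Epi f] : Function.Surjective (ap f) :=
  (ModuleCat.epi_iff_surjective _).1 (inferInstanceAs (Epi ((Φ 𝒜).map f)))

lemma mono_of_injective_ap {A B : 𝒜} (f : A ⟶ B) (h : Function.Injective (ap f)) : Mono f :=
  (Φ 𝒜).mono_of_mono_map ((ModuleCat.mono_iff_injective _).2 h)

lemma epi_of_surjective_ap {A B : 𝒜} (f : A ⟶ B) (h : Function.Surjective (ap f)) : Epi f :=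
  (Φ 𝒜).epi_of_epi_map ((ModuleCat.epi_iff_surjective _).2 h)

lemma eq_zero_of_ap_mono {A B : 𝒜} (f : A ⟶ B) [Mono f] (x : El A) (hx : ap f x = 0) : x = 0 :=
  injective_ap f (by rw [hx, map_zero])

/-- "the image of `a` is contained in the image of `b`". -/
def Dom {A B K : 𝒜} (a : A ⟶ K) (b : B ⟶ K) : Prop :=
  ∀ ⦃T : 𝒜⦄ (c : K ⟶ T), b ≫ c = 0 → a ≫ c = 0

lemma dom_iff {A B K : 𝒜} (a : A ⟶ K) (b : B ⟶ K) : Dom a b ↔ a ≫ cokernel.π b = 0 := by
  constructor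
  · intro h
    exact h _ (cokernel.condition b)
  · intro h T c hc
    rw [← cokernel.π_desc b c hc, reassoc_of% h, zero_comp]

lemma Dom.exists_ap {A B K : 𝒜} {a : A ⟶ K} {b : B ⟶ K} (h : Dom a b) (x : El A) :
    ∃ z : El B, ap b z = ap a x := by
  apply cokernel_exact_ap
  rw [← ap_comp, (dom_iff a b).1 h, ap_zero]

lemma dom_of_ap {A B K : 𝒜} {a : A ⟶ K} {b : B ⟶ K} (h : ∀ x : El A, ∃ z : El B, ap b z = ap a x) :
    Dom a b := by
  intro T c hc
  apply eq_zero_of_ap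
  intro x
  obtain ⟨z, hz⟩ := h x
  rw [ap_comp, ← hz, ap_eq_zero_of_comp hc]

lemma Dom.trans {A B D K : 𝒜} {a : A ⟶ K} {b : B ⟶ K} {d : D ⟶ K} (h₁ : Dom a b) (h₂ : Dom b d) :
    Dom a d := fun _ c hc => h₁ c (h₂ c hc)

lemma Dom.refl {A K : 𝒜} (a : A ⟶ K) : Dom a a := fun _ _ h => h

lemma dom_comp_left {A B K : 𝒜} (t : A ⟶ B) (b : B ⟶ K) : Dom (t ≫ b) b := by
  intro T c hc
  rw [Category.assoc, hc, comp_zero]

lemma Dom.comp_right {A B K L : 𝒜} {a : A ⟶ K} {b : B ⟶ K} (h : Dom a b) (i : K ⟶ L) :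
    Dom (a ≫ i) (b ≫ i) := by
  intro T c hc
  rw [Category.assoc] at hc ⊢
  exact h _ hc

lemma Dom.precomp {A A' B K : 𝒜} {a : A ⟶ K} {b : B ⟶ K} (h : Dom a b) (t : A' ⟶ A) :
    Dom (t ≫ a) b := (dom_comp_left t a).trans h

lemma Dom.of_epi_comp {A B B' K : 𝒜} {a : A ⟶ K} {b : B ⟶ K} (e : B' ⟶ B) [Epi e]
    (h : Dom a b) : Dom a (e ≫ b) := by
  intro T c hc
  apply h
  rw [Category.assoc] at hc
  exact (cancel_epi e).1 (by rw [hc, comp_zero])

lemma epi_of_dom_id {B K : 𝒜} {b : B ⟶ K} (h : Dom (𝟙 K) b) : Epi b := by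
  apply Preadditive.epi_of_cancel_zero
  intro T c hc
  simpa using h c hc

/-- `Dom` between monomorphisms gives a factorisation. -/
lemma Dom.exists_fac {A B K : 𝒜} {a : A ⟶ K} {b : B ⟶ K} [Mono b] (h : Dom a b) :
    ∃ l : A ⟶ B, l ≫ b = a := by
  have hk := Abelian.monoIsKernelOfCokernel _ (colimit.isColimit (parallelPair b 0))
  exact ⟨hk.lift (KernelFork.ofι a ((dom_iff a b).1 h)), hk.fac _ WalkingParallelPair.zero⟩

lemma Dom.imageSubobject_le {A B K : 𝒜} {a : A ⟶ K} {b : B ⟶ K} (h : Dom a b) :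
    imageSubobject a ≤ imageSubobject b := by
  have h' : Dom a (imageSubobject b).arrow := by
    intro T c hc
    apply h
    rw [← imageSubobject_arrow_comp b, Category.assoc, hc, comp_zero]
  obtain ⟨l, hl⟩ := h'.exists_fac
  exact CategoryTheory.Limits.imageSubobject_le a l hl

end Groth.Agent.Helper53.Chase
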