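import Groth.Agent.Lib.Helper53.FPKan

/-!
# Additivity and coproduct preservation of extensions from f.p. modules (helper53)
-/

set_option autoImplicit false
universe w v₁ v₂ u₁ u₂ u v' u'

open CategoryTheory CategoryTheory.Limits Opposite

namespace Groth.Agent.Helper53.FPDense

section Add

variable {C : Type (u + 1)} [Category.{u} C] [Preadditive C] (P : ObjectProperty C)
  [∀ X, IsFiltered (CostructuredArrow P.ι X)]
  [ObjectProperty.EssentiallySmall.{u} P] [P.ι.IsDense]
  {B : Type u'} [Category.{v'} B] [Preadditive B]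

lemma additive_of_additive_restriction (F' : C ⥤ B) [PreservesFilteredColimitsOfSize.{u, u} F']
    [(P.ι ⋙ F').Additive] : F'.Additive := by
  refine ⟨fun {X Y} {f g} => ?_⟩
  have hE : IsColimit ((Functor.LeftExtension.mk F' (𝟙 (P.ι ⋙ F'))).coconeAt X) :=
    isPointwiseLeftKanExtension_of_preserves P F' X
  apply hE.hom_ext
  intro j
  have key : F'.map j.hom ≫ F'.map (f + g) = F'.map j.hom ≫ (F'.map f + F'.map g) := by
    obtain ⟨Q, ψ, a, b, ha, hb⟩ : ∃ (Q : P.FullSubcategory) (ψ : P.ι.obj Q ⟶ Y)
        (a b : j.left ⟶ Q), P.ι.map a ≫ ψ = j.hom ≫ f ∧ P.ι.map b ≫ ψ = j.hom ≫ g := by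
      let y₁ : CostructuredArrow P.ι Y := CostructuredArrow.mk (j.hom ≫ f)
      let y₂ : CostructuredArrow P.ι Y := CostructuredArrow.mk (j.hom ≫ g)
      exact ⟨(IsFiltered.max y₁ y₂).left, (IsFiltered.max y₁ y₂).hom,
        (IsFiltered.leftToMax y₁ y₂).left, (IsFiltered.rightToMax y₁ y₂).left,
        CostructuredArrow.w (IsFiltered.leftToMax y₁ y₂),
        CostructuredArrow.w (IsFiltered.rightToMax y₁ y₂)⟩
    have h1 : (P.ι ⋙ F').map (a + b) = (P.ι ⋙ F').map a + (P.ι ⋙ F').map b :=
      Functor.map_add _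
    have h2 : j.hom ≫ (f + g) = P.ι.map (a + b) ≫ ψ := by
      rw [Preadditive.comp_add, ← ha, ← hb, Functor.map_add, Preadditive.add_comp]
    rw [← F'.map_comp, h2, F'.map_comp]
    have h1' : F'.map (P.ι.map (a + b)) =
        F'.map (P.ι.map a) + F'.map (P.ι.map b) := h1
    rw [h1', Preadditive.add_comp, ← F'.map_comp, ← F'.map_comp, ha, hb, Preadditive.comp_add,
      F'.map_comp, F'.map_comp]
  have e : ((Functor.LeftExtension.mk F' (𝟙 (P.ι ⋙ F'))).coconeAt X).ι.app j =
      F'.map j.hom := by
    show 𝟙 _ ≫ F'.map j.hom = _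
    simp
  rw [e]
  exact key

end Add

section Coprod

open CoproductsFromFiniteFiltered

variable {C : Type u₁} [Category.{v₁} C] {B : Type u₂} [Category.{v₂} B]
  [HasFiniteCoproducts C] {α : Type w}
  (G : C ⥤ B) [PreservesFiniteCoproducts G]
  (K : Discrete α ⥤ C)

/-- inclusion of a summand in the finite subcoproduct -/
noncomputable def inS (S : Finset (Discrete α)) (x : S) :
    K.obj x.1 ⟶ (liftToFinsetObj K).obj S :=
  Sigma.ι (fun x : S => K.obj x) x

/-- the finite coproduct cofan is preserved -/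
noncomputable def isColimitMapFinite (S : Finset (Discrete α)) :
    IsColimit (G.mapCocone (Cofan.mk (∐ fun x : S => K.obj x) (Sigma.ι fun x : S => K.obj x))) :=
  isColimitOfPreserves G (coproductIsCoproduct (fun x : S => K.obj x))

/-- component of the descent cocone -/
noncomputable def descFinite (s : Cocone (K ⋙ G)) (S : Finset (Discrete α)) :
    G.obj ((liftToFinsetObj K).obj S) ⟶ s.pt :=
  (isColimitMapFinite G K S).desc
    (Cocone.mk s.pt (Discrete.natTrans (fun x => s.ι.app x.as.1)))

lemma ι_descFinite (s : Cocone (K ⋙ G)) (S : Finset (Discrete α)) (x : S) :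
    G.map (inS K S x) ≫ descFinite G K s S = s.ι.app x.1 :=
  (isColimitMapFinite G K S).fac
    (Cocone.mk s.pt (Discrete.natTrans (fun x => s.ι.app x.as.1))) ⟨x⟩

lemma descFinite_ext (S : Finset (Discrete α)) {T : B}
    (f g : G.obj ((liftToFinsetObj K).obj S) ⟶ T)
    (h : ∀ x : S, G.map (inS K S x) ≫ f = G.map (inS K S x) ≫ g) : f = g :=
  (isColimitMapFinite G K S).hom_ext (fun ⟨x⟩ => h x)

omit [PreservesFiniteCoproducts G] in
lemma inS_map {S T : Finset (Discrete α)} (h : S ⟶ T) (x : S) :
    inS K S x ≫ (liftToFinsetObj K).map h = inS K T ⟨x.1, h.down.down x.2⟩ := by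
  simp [liftToFinsetObj, inS]

/-- the descent cocone -/
noncomputable def descCoconeFinset (s : Cocone (K ⋙ G)) : Cocone (liftToFinsetObj K ⋙ G) where
  pt := s.pt
  ι :=
    { app := fun S => descFinite G K s S
      naturality := by
        intro S T h
        have goal : G.map ((liftToFinsetObj K).map h) ≫ descFinite G K s T =
            descFinite G K s S := by
          apply descFinite_ext G K S
          intro x
          rw [← G.map_comp_assoc, inS_map, ι_descFinite, ι_descFinite]
        exact goal.trans (Category.comp_id _).symm }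

variable [HasColimitsOfShape (Finset (Discrete α)) C]
  [PreservesColimitsOfShape (Finset (Discrete α)) G]

omit [PreservesFiniteCoproducts G] in
lemma inS_colimit (S : Finset (Discrete α)) (x : S) :
    inS K S x ≫ colimit.ι (liftToFinsetObj K) S =
      (liftToFinsetColimitCocone K).cocone.ι.app x.1 := by
  have hx : ({x.1} : Finset (Discrete α)) ≤ S := Finset.singleton_subset_iff.2 x.2
  have h1 := colimit.w (liftToFinsetObj K) (homOfLE hx)
  have h2 := inS_map K (homOfLE hx) ⟨x.1, Finset.mem_singleton_self _⟩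
  show _ = inS K {x.1} ⟨x.1, _⟩ ≫ colimit.ι (liftToFinsetObj K) {x.1}
  rw [← h1, ← Category.assoc, h2]

lemma preservesColimit_discrete_of_finite_filtered : PreservesColimit K G := by
  apply preservesColimit_of_preserves_colimit_cocone (liftToFinsetColimitCocone K).isColimit
  have hL := isColimitOfPreserves G (colimit.isColimit (liftToFinsetObj K))
  refine
    { desc := fun s => hL.desc (descCoconeFinset G K s)
      fac := ?_
      uniq := ?_ }
  · intro s j
    obtain ⟨d, hd⟩ : ∃ d : G.obj (colimit (liftToFinsetObj K)) ⟶ s.pt,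
      d = hL.desc (descCoconeFinset G K s) := ⟨_, rfl⟩
    obtain ⟨cj, hcj⟩ : ∃ cj : K.obj j ⟶ colimit (liftToFinsetObj K),
      cj = (liftToFinsetColimitCocone K).cocone.ι.app j := ⟨_, rfl⟩
    have h1 : G.map (colimit.ι (liftToFinsetObj K) {j}) ≫ d = descFinite G K s {j} := by
      rw [hd]
      exact hL.fac (descCoconeFinset G K s) {j}
    have h2 := ι_descFinite G K s {j} ⟨j, Finset.mem_singleton_self _⟩
    have h3 : inS K {j} ⟨j, Finset.mem_singleton_self _⟩ ≫
        colimit.ι (liftToFinsetObj K) {j} = cj := by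
      rw [hcj]
      exact inS_colimit K {j} ⟨j, _⟩
    have h4 : G.map cj ≫ d = s.ι.app j := by
      rw [← h3, G.map_comp, Category.assoc, h1]
      exact h2
    rw [hd, hcj] at h4
    exact h4
  · intro s m hm
    apply hL.hom_ext
    intro S
    obtain ⟨d, hd⟩ : ∃ d : G.obj (colimit (liftToFinsetObj K)) ⟶ s.pt,
      d = hL.desc (descCoconeFinset G K s) := ⟨_, rfl⟩
    obtain ⟨m', hm'⟩ : ∃ m' : G.obj (colimit (liftToFinsetObj K)) ⟶ s.pt, m' = m := ⟨_, rfl⟩
    have h1 : G.map (colimit.ι (liftToFinsetObj K) S) ≫ d = descFinite G K s S := by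
      rw [hd]
      exact hL.fac (descCoconeFinset G K s) S
    have goal : G.map (colimit.ι (liftToFinsetObj K) S) ≫ m' =
        G.map (colimit.ι (liftToFinsetObj K) S) ≫ d := by
      rw [h1]
      apply descFinite_ext G K S
      intro x
      obtain ⟨cx, hcx⟩ : ∃ cx : K.obj x.1 ⟶ colimit (liftToFinsetObj K),
        cx = (liftToFinsetColimitCocone K).cocone.ι.app x.1 := ⟨_, rfl⟩
      have h3 : inS K S x ≫ colimit.ι (liftToFinsetObj K) S = cx := by
        rw [hcx]
        exact inS_colimit K S x
      have h5 : G.map cx ≫ m' = s.ι.app x.1 := by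
        rw [hcx, hm']
        exact hm x.1
      rw [ι_descFinite, ← G.map_comp_assoc, h3, h5]
    rw [hd, hm'] at goal
    exact goal

end Coprod

end Groth.Agent.Helper53.FPDense
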