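import Groth.Agent.Lib.Helper53.FPKan

/-!
# Presenting an arrow as a filtered colimit of arrows between f.p. objects; colimits of cokernels
(helper53)
-/

set_option autoImplicit false
universe w v u v' u'

open CategoryTheory CategoryTheory.Limits Opposite

namespace Groth.Agent.Helper53.FPDense

section LemmaX

variable {I : Type w} [Category.{v} I] {B : Type*} [Category B] [HasZeroMorphisms B]
  {P Q R : I ⥤ B} (a : P ⟶ Q) (q : Q ⟶ R)
  (cM : Cocone P) (cN : Cocone Q) (cC : Cocone R)
  (hM : IsColimit cM) (hN : IsColimit cN) (hC : IsColimit cC)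
  (f : cM.pt ⟶ cN.pt) (π : cN.pt ⟶ cC.pt)
  (hf : ∀ i, cM.ι.app i ≫ f = a.app i ≫ cN.ι.app i)
  (hπ : ∀ i, cN.ι.app i ≫ π = q.app i ≫ cC.ι.app i)
  (w : ∀ i, a.app i ≫ q.app i = 0)
  (hq : ∀ i, IsColimit (CokernelCofork.ofπ (q.app i) (w i)))

include hM hf hπ w in
lemma colimCoker_condition : f ≫ π = 0 := by
  apply hM.hom_ext
  intro i
  rw [reassoc_of% (hf i), hπ i, reassoc_of% (w i), zero_comp, comp_zero]

include hf w in
/-- component of the descent -/
noncomputable def colimCokerDescApp {T : B} (g : cN.pt ⟶ T) (hg : f ≫ g = 0) (i : I) :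
    R.obj i ⟶ T :=
  (hq i).desc (CokernelCofork.ofπ (cN.ι.app i ≫ g) (by
    rw [← reassoc_of% (hf i), hg, comp_zero]))

lemma colimCokerDescApp_fac {T : B} (g : cN.pt ⟶ T) (hg : f ≫ g = 0) (i : I) :
    q.app i ≫ colimCokerDescApp a q cM cN f hf w hq g hg i = cN.ι.app i ≫ g :=
  (hq i).fac (CokernelCofork.ofπ (cN.ι.app i ≫ g) _) WalkingParallelPair.one

include hq in
lemma epi_q (i : I) {T : B} (x y : R.obj i ⟶ T) (h : q.app i ≫ x = q.app i ≫ y) : x = y :=
  Cofork.IsColimit.hom_ext (hq i) h

/-- descent cocone -/
noncomputable def colimCokerDescCocone {T : B} (g : cN.pt ⟶ T) (hg : f ≫ g = 0) : Cocone R where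
  pt := T
  ι :=
    { app := fun i => colimCokerDescApp a q cM cN f hf w hq g hg i
      naturality := by
        intro i i' m
        have goal : R.map m ≫ colimCokerDescApp a q cM cN f hf w hq g hg i' =
            colimCokerDescApp a q cM cN f hf w hq g hg i := by
          apply epi_q a q w hq i
          rw [colimCokerDescApp_fac, ← q.naturality_assoc, colimCokerDescApp_fac,
            ← Category.assoc, cN.w m]
        exact goal.trans (Category.comp_id _).symm }

/-- descent morphism -/
noncomputable def colimCokerDesc {T : B} (g : cN.pt ⟶ T) (hg : f ≫ g = 0) : cC.pt ⟶ T :=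
  hC.desc (colimCokerDescCocone a q cM cN f hf w hq g hg)

lemma colimCokerDesc_fac {T : B} (g : cN.pt ⟶ T) (hg : f ≫ g = 0) (i : I) :
    cC.ι.app i ≫ colimCokerDesc a q cM cN cC hC f hf w hq g hg =
      colimCokerDescApp a q cM cN f hf w hq g hg i :=
  hC.fac (colimCokerDescCocone a q cM cN f hf w hq g hg) i

include hπ hN hC hq in
theorem colimCoker_isColimit :
    Nonempty (IsColimit (CokernelCofork.ofπ π
      (colimCoker_condition a q cM cN cC hM f π hf hπ w))) := by
  refine ⟨CokernelCofork.IsColimit.ofπ _ _
    (fun {T} g hg => colimCokerDesc a q cM cN cC hC f hf w hq g hg) ?_ ?_⟩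
  · intro T g hg
    apply hN.hom_ext
    intro i
    rw [reassoc_of% (hπ i), colimCokerDesc_fac]
    exact colimCokerDescApp_fac a q cM cN f hf w hq g hg i
  · intro T g hg m hm
    apply hC.hom_ext
    intro i
    rw [colimCokerDesc_fac]
    apply epi_q a q w hq i
    rw [← reassoc_of% (hπ i), hm]
    exact (colimCokerDescApp_fac a q cM cN f hf w hq g hg i).symm

end LemmaX

section CokerFunctor

variable {I : Type*} [Category I] {D : Type*} [Category D] [HasZeroMorphisms D] [HasCokernels D]
  {Pf Qf : I ⥤ D} (a : Pf ⟶ Qf)

/-- pointwise cokernel functor -/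
noncomputable def cokerFunctor : I ⥤ D where
  obj i := cokernel (a.app i)
  map {i i'} m := cokernel.map (a.app i) (a.app i') (Pf.map m) (Qf.map m) (by simp)
  map_id := by
    intro i
    ext
    simp
  map_comp := by
    intro i j k m n
    ext
    simp

/-- projection to pointwise cokernel functor -/
noncomputable def cokerFunctorπ : Qf ⟶ cokerFunctor a where
  app i := cokernel.π (a.app i)
  naturality := by
    intro i j m
    simp [cokerFunctor]

lemma cokerFunctor_w (i : I) : a.app i ≫ (cokerFunctorπ a).app i = 0 :=
  cokernel.condition (a.app i)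

/-- pointwise it is a cokernel -/
noncomputable def cokerFunctor_isColimit (i : I) :
    IsColimit (CokernelCofork.ofπ ((cokerFunctorπ a).app i) (cokerFunctor_w a i)) :=
  cokernelIsCokernel (a.app i)

end CokerFunctor

section KerFunctor

variable {I : Type*} [Category I] {D : Type*} [Category D] [HasZeroMorphisms D] [HasKernels D]
  {Pf Qf : I ⥤ D} (a : Pf ⟶ Qf)

/-- pointwise kernel functor -/
noncomputable def kerFunctor : I ⥤ D where
  obj i := kernel (a.app i)
  map {i i'} m := kernel.map (a.app i) (a.app i') (Pf.map m) (Qf.map m) (by simp)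
  map_id := by
    intro i
    ext
    simp
  map_comp := by
    intro i j k m n
    ext
    simp

/-- inclusion of pointwise kernel functor -/
noncomputable def kerFunctorι : kerFunctor a ⟶ Pf where
  app i := kernel.ι (a.app i)
  naturality := by
    intro i j m
    simp [kerFunctor]

lemma kerFunctor_w (i : I) : (kerFunctorι a).app i ≫ a.app i = 0 :=
  kernel.condition (a.app i)

/-- pointwise it is a kernel -/
noncomputable def kerFunctor_isLimit (i : I) :
    IsLimit (KernelFork.ofι ((kerFunctorι a).app i) (kerFunctor_w a i)) :=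
  kernelIsKernel (a.app i)

end KerFunctor

section AD

variable {C : Type (u + 1)} [Category.{u} C] (P : ObjectProperty C)
  [∀ X, IsFiltered (CostructuredArrow P.ι X)]
  [ObjectProperty.EssentiallySmall.{u} P] [P.ι.IsDense]

/-- small model of the comma category -/
abbrev SMc (M : C) := SmallModel.{u} (CostructuredArrow P.ι M)

/-- the equivalence with the small model -/
noncomputable abbrev eMc (M : C) : CostructuredArrow P.ι M ≌ SMc P M :=
  equivSmallModel.{u} (CostructuredArrow P.ι M)

instance (M : C) : IsFiltered (SMc P M) :=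
  IsFiltered.of_equivalence (eMc P M)

variable {M N : C} (f : M ⟶ N)

/-- the index category presenting the arrow `f` -/
noncomputable abbrev ADI := Comma ((eMc P M).inverse ⋙ CostructuredArrow.map f) (eMc P N).inverse

noncomputable example : SmallCategory (ADI P f) := inferInstance
example : IsFiltered (ADI P f) := inferInstance

/-- source functor -/
noncomputable def adP : ADI P f ⥤ P.FullSubcategory :=
  Comma.fst _ _ ⋙ (eMc P M).inverse ⋙ CostructuredArrow.proj P.ι M

/-- target functor -/
noncomputable def adQ : ADI P f ⥤ P.FullSubcategory :=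
  Comma.snd _ _ ⋙ (eMc P N).inverse ⋙ CostructuredArrow.proj P.ι N

/-- the natural transformation presenting `f` -/
noncomputable def adA : adP P f ⟶ adQ P f where
  app i := i.hom.left
  naturality := by
    intro i i' m
    have h := congrArg CommaMorphism.left m.w
    exact h

/-- the colimit cocone on the source -/
noncomputable def adCM : Cocone (adP P f ⋙ P.ι) where
  pt := M
  ι :=
    { app := fun i => ((eMc P M).inverse.obj i.left).hom
      naturality := by
        intro i i' m
        have h := CostructuredArrow.w ((eMc P M).inverse.map m.left)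
        exact h.trans (Category.comp_id _).symm }

/-- the colimit cocone on the target -/
noncomputable def adCN : Cocone (adQ P f ⋙ P.ι) where
  pt := N
  ι :=
    { app := fun i => ((eMc P N).inverse.obj i.right).hom
      naturality := by
        intro i i' m
        have h := CostructuredArrow.w ((eMc P N).inverse.map m.right)
        exact h.trans (Category.comp_id _).symm }

/-- `adCM` is colimit -/
noncomputable def adCM_isColimit : IsColimit (adCM P f) := by
  have h := (Functor.Final.isColimitWhiskerEquiv
    (Comma.fst ((eMc P M).inverse ⋙ CostructuredArrow.map f) (eMc P N).inverse ⋙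
      (eMc P M).inverse) _).symm (P.ι.denseAt M)
  exact IsColimit.ofIsoColimit h (Cocone.ext (Iso.refl _) (by
    intro i
    show (𝟙 _ ≫ ((eMc P M).inverse.obj i.left).hom) ≫ 𝟙 _ = ((eMc P M).inverse.obj i.left).hom
    simp))

/-- `adCN` is colimit -/
noncomputable def adCN_isColimit : IsColimit (adCN P f) := by
  have h := (Functor.Final.isColimitWhiskerEquiv
    (Comma.snd ((eMc P M).inverse ⋙ CostructuredArrow.map f) (eMc P N).inverse ⋙
      (eMc P N).inverse) _).symm (P.ι.denseAt N)
  exact IsColimit.ofIsoColimit h (Cocone.ext (Iso.refl _) (by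
    intro i
    show (𝟙 _ ≫ ((eMc P N).inverse.obj i.right).hom) ≫ 𝟙 _ = ((eMc P N).inverse.obj i.right).hom
    simp))

lemma ad_comm (i : ADI P f) :
    (adCM P f).ι.app i ≫ f = P.ι.map ((adA P f).app i) ≫ (adCN P f).ι.app i :=
  (CostructuredArrow.w i.hom).symm

end AD

end Groth.Agent.Helper53.FPDense
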