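import Groth.Agent.Lib.Helper53.FPArrow

/-!
# Extensions from f.p. modules preserve cokernels (helper53)
-/

set_option autoImplicit false
universe u v' u'

open CategoryTheory CategoryTheory.Limits Opposite

namespace Groth.Agent.Helper53.FPDense

section Cok

variable {C : Type (u + 1)} [Category.{u} C] [Preadditive C] (P : ObjectProperty C)
  [∀ X, IsFiltered (CostructuredArrow P.ι X)]
  [ObjectProperty.EssentiallySmall.{u} P] [P.ι.IsDense]
  [HasFilteredColimitsOfSize.{u, u} C]
  [HasCokernels P.FullSubcategory] [PreservesColimitsOfShape WalkingParallelPair P.ι]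
  {B : Type u'} [Category.{v'} B] [Preadditive B]
  (F' : C ⥤ B) [PreservesFilteredColimitsOfSize.{u, u} F'] [F'.PreservesZeroMorphisms]
  [PreservesColimitsOfShape WalkingParallelPair (P.ι ⋙ F')]
  {M N : C} (f : M ⟶ N)

/-- the colimit of the pointwise cokernels -/
noncomputable def adCK : Cocone (cokerFunctor (adA P f) ⋙ P.ι) :=
  colimit.cocone _

/-- the projection -/
noncomputable def adπ : N ⟶ (adCK P f).pt :=
  (adCN_isColimit P f).desc
    { pt := (adCK P f).pt
      ι :=
        { app := fun i => P.ι.map ((cokerFunctorπ (adA P f)).app i) ≫ (adCK P f).ι.app i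
          naturality := by
            intro i j m
            have h1 := (cokerFunctorπ (adA P f)).naturality m
            have h2 := (adCK P f).w m
            have goal : P.ι.map ((adQ P f).map m) ≫
                P.ι.map ((cokerFunctorπ (adA P f)).app j) ≫ (adCK P f).ι.app j =
                P.ι.map ((cokerFunctorπ (adA P f)).app i) ≫ (adCK P f).ι.app i := by
              rw [← P.ι.map_comp_assoc, h1, P.ι.map_comp_assoc]
              congr 1
            exact goal.trans (Category.comp_id _).symm } }

lemma adπ_fac (i : ADI P f) :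
    (adCN P f).ι.app i ≫ adπ P f =
      P.ι.map ((cokerFunctorπ (adA P f)).app i) ≫ (adCK P f).ι.app i :=
  (adCN_isColimit P f).fac _ i

lemma ad_w (i : ADI P f) :
    (Functor.whiskerRight (adA P f) P.ι).app i ≫
      (Functor.whiskerRight (cokerFunctorπ (adA P f)) P.ι).app i = 0 := by
  have h : P.ι.map ((adA P f).app i) ≫ P.ι.map ((cokerFunctorπ (adA P f)).app i) = 0 := by
    rw [← P.ι.map_comp, cokerFunctor_w, P.ι.map_zero]
  exact h

/-- pointwise cokernel in `C` -/
noncomputable def ad_hq (i : ADI P f) :
    IsColimit (CokernelCofork.ofπ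
      ((Functor.whiskerRight (cokerFunctorπ (adA P f)) P.ι).app i) (ad_w P f i)) :=
  isColimitCoforkMapOfIsColimit' P.ι (cokerFunctor_w (adA P f) i)
    (cokerFunctor_isColimit (adA P f) i)

lemma ad_cond : f ≫ adπ P f = 0 :=
  colimCoker_condition (Functor.whiskerRight (adA P f) P.ι)
    (Functor.whiskerRight (cokerFunctorπ (adA P f)) P.ι)
    (adCM P f) (adCN P f) (adCK P f) (adCM_isColimit P f) f (adπ P f)
    (ad_comm P f) (adπ_fac P f) (ad_w P f)

lemma ad_isColimit : Nonempty (IsColimit (CokernelCofork.ofπ (adπ P f) (ad_cond P f))) :=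
  colimCoker_isColimit (Functor.whiskerRight (adA P f) P.ι)
    (Functor.whiskerRight (cokerFunctorπ (adA P f)) P.ι)
    (adCM P f) (adCN P f) (adCK P f) (adCM_isColimit P f) (adCN_isColimit P f)
    (colimit.isColimit _) f (adπ P f)
    (ad_comm P f) (adπ_fac P f) (ad_w P f) (ad_hq P f)

lemma adB_w (i : ADI P f) :
    (Functor.whiskerRight (Functor.whiskerRight (adA P f) P.ι) F').app i ≫
      (Functor.whiskerRight (Functor.whiskerRight (cokerFunctorπ (adA P f)) P.ι) F').app i = 0 := by
  have h : (P.ι ⋙ F').map ((adA P f).app i) ≫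
      (P.ι ⋙ F').map ((cokerFunctorπ (adA P f)).app i) = 0 := by
    rw [← (P.ι ⋙ F').map_comp, cokerFunctor_w, (P.ι ⋙ F').map_zero]
  exact h

/-- pointwise cokernel in `B` -/
noncomputable def adB_hq (i : ADI P f) :
    IsColimit (CokernelCofork.ofπ
      ((Functor.whiskerRight (Functor.whiskerRight (cokerFunctorπ (adA P f)) P.ι) F').app i)
      (adB_w P F' f i)) :=
  isColimitCoforkMapOfIsColimit' (P.ι ⋙ F') (cokerFunctor_w (adA P f) i)
    (cokerFunctor_isColimit (adA P f) i)

lemma adB_comm (i : ADI P f) :
    (F'.mapCocone (adCM P f)).ι.app i ≫ F'.map f =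
      (Functor.whiskerRight (Functor.whiskerRight (adA P f) P.ι) F').app i ≫
        (F'.mapCocone (adCN P f)).ι.app i := by
  exact (F'.map_comp _ _).symm.trans
    ((congrArg (fun g => F'.map g) (ad_comm P f i)).trans (F'.map_comp _ _))

lemma adB_fac (i : ADI P f) :
    (F'.mapCocone (adCN P f)).ι.app i ≫ F'.map (adπ P f) =
      (Functor.whiskerRight (Functor.whiskerRight (cokerFunctorπ (adA P f)) P.ι) F').app i ≫
        (F'.mapCocone (adCK P f)).ι.app i := by
  exact (F'.map_comp _ _).symm.trans
    ((congrArg (fun g => F'.map g) (adπ_fac P f i)).trans (F'.map_comp _ _))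

lemma adB_cond : F'.map f ≫ F'.map (adπ P f) = 0 := by
  rw [← F'.map_comp, ad_cond, F'.map_zero]

lemma adB_isColimit :
    Nonempty (IsColimit (CokernelCofork.ofπ (F'.map (adπ P f)) (adB_cond P F' f))) :=
  colimCoker_isColimit (Functor.whiskerRight (Functor.whiskerRight (adA P f) P.ι) F')
    (Functor.whiskerRight (Functor.whiskerRight (cokerFunctorπ (adA P f)) P.ι) F')
    (F'.mapCocone (adCM P f)) (F'.mapCocone (adCN P f)) (F'.mapCocone (adCK P f))
    (isColimitOfPreserves F' (adCM_isColimit P f)) (isColimitOfPreserves F' (adCN_isColimit P f))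
    (isColimitOfPreserves F' (colimit.isColimit _)) (F'.map f) (F'.map (adπ P f))
    (adB_comm P F' f) (adB_fac P F' f) (adB_w P F' f) (adB_hq P F' f)

include P in
theorem preservesCokernel_of_restriction : PreservesColimit (parallelPair f 0) F' := by
  obtain ⟨h1⟩ := ad_isColimit P f
  obtain ⟨h2⟩ := adB_isColimit P F' f
  exact preservesColimit_of_preserves_colimit_cocone h1
    ((isColimitMapCoconeCoforkEquiv' F' (ad_cond P f)).symm h2)

end Cok

section Closure

variable (A : Type u) [CommRing A]

instance isClosedUnderCokernels_fpAlg :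
    (fpAlg A).IsClosedUnderColimitsOfShape WalkingParallelPair where
  colimitsOfShape_le := by
    rintro X ⟨p⟩
    have h0 : Module.FinitePresentation A (p.diag.obj WalkingParallelPair.zero) :=
      p.prop_diag_obj _
    have h1 : Module.FinitePresentation A (p.diag.obj WalkingParallelPair.one) :=
      p.prop_diag_obj _
    have e : X ≅ coequalizer (p.diag.map WalkingParallelPairHom.left)
        (p.diag.map WalkingParallelPairHom.right) :=
      p.isColimit.coconePointUniqueUpToIso (colimit.isColimit _) ≪≫
        HasColimit.isoOfNatIso (diagramIsoParallelPair p.diag)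
    have h2 := finitePresentation_coequalizer A (p.diag.map WalkingParallelPairHom.left)
        (p.diag.map WalkingParallelPairHom.right)
    exact Module.FinitePresentation.of_equiv e.symm.toLinearEquiv

example : HasCokernels (fpAlg A).FullSubcategory := inferInstance
example : PreservesColimitsOfShape WalkingParallelPair (fpAlg A).ι := inferInstance

end Closure

end Groth.Agent.Helper53.FPDense
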