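import Mathlib

/-!
# `ModuleCat A` is locally finitely presentable; finitely presented modules are dense (helper53)
-/

set_option autoImplicit false
universe u

open CategoryTheory CategoryTheory.Limits Opposite

namespace Groth.Agent.Helper53.FPDense

variable (A : Type u) [CommRing A]

/-- `Hom(A, -)` is the forgetful functor. -/
noncomputable def coyonedaIso :
    coyoneda.obj (op (ModuleCat.of A A)) ≅ forget (ModuleCat.{u} A) :=
  NatIso.ofComponents (fun M =>
    { hom := ↾fun f => f.hom (1 : A)
      inv := ↾fun m => ModuleCat.ofHom (LinearMap.toSpanSingleton A M m)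
      hom_inv_id := by
        ext f
        apply ModuleCat.hom_ext
        apply LinearMap.ext_ring
        simp
      inv_hom_id := by
        ext m
        simp }) (by
    intro M N f
    ext g
    simp)

instance : IsFinitelyPresentable.{u} (ModuleCat.of A A) := by
  rw [isFinitelyPresentable_iff_preservesFilteredColimits]
  exact ⟨fun J _ _ => preservesColimitsOfShape_of_natIso (coyonedaIso A).symm⟩


lemma isStrongGenerator_singleton :
    (ObjectProperty.singleton (ModuleCat.of A A)).IsStrongGenerator := by
  apply ObjectProperty.IsStrongGenerator.mk_of_exists_extremalEpi.{u}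
  intro X
  refine ⟨X, fun _ => ModuleCat.of A A, fun _ => by simp [ObjectProperty.singleton_iff], _,
    coproductIsCoproduct _,
    Sigma.desc (fun x => ModuleCat.ofHom (LinearMap.toSpanSingleton A X x)), ?_⟩
  have : Epi (Sigma.desc (fun x : X => ModuleCat.ofHom (LinearMap.toSpanSingleton A X x))) := by
    rw [ModuleCat.epi_iff_surjective]
    intro x
    refine ⟨(Sigma.ι (fun _ : X => ModuleCat.of A A) x).hom (1 : A), ?_⟩
    have h := congrArg (fun f => f.hom (1 : A))
      (Sigma.ι_desc (fun x : X => ModuleCat.ofHom (LinearMap.toSpanSingleton A X x)) x)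
    simpa using h
  haveI : StrongEpi (Sigma.desc (fun x : X => ModuleCat.ofHom (LinearMap.toSpanSingleton A X x))) :=
    strongEpi_of_epi _
  infer_instance

instance : IsLocallyFinitelyPresentable.{u} (ModuleCat.{u} A) := by
  unfold IsLocallyFinitelyPresentable
  rw [IsCardinalLocallyPresentable.iff_exists_isStrongGenerator]
  refine ⟨ObjectProperty.singleton (ModuleCat.of A A), inferInstance,
    isStrongGenerator_singleton A, ?_⟩
  rw [ObjectProperty.singleton_le_iff]
  exact (inferInstance : IsFinitelyPresentable.{u} (ModuleCat.of A A))

end Groth.Agent.Helper53.FPDense
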