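import Groth.Agent.Lib.Helper53.FPDense

set_option autoImplicit false
universe u

open CategoryTheory CategoryTheory.Limits Opposite

namespace Groth.Agent.Helper53.FPDense

variable (A : Type u) [CommRing A]

attribute [local instance] Cardinal.fact_isRegular_aleph0

/-- algebraic finite presentation as an object property -/
abbrev fpAlg : ObjectProperty (ModuleCat.{u} A) := fun M => Module.FinitePresentation A M

/-- categorical finite presentation -/
abbrev fpCat : ObjectProperty (ModuleCat.{u} A) :=
  ObjectProperty.isFinitelyPresentable.{u} (ModuleCat.{u} A)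

instance : (fpAlg A).IsClosedUnderIsomorphisms where
  of_iso {M N} e hM := by
    have : Module.FinitePresentation A M := hM
    exact Module.FinitePresentation.of_equiv e.toLinearEquiv

lemma isFinitelyPresentable_of_isColimit_finite {K : Type} [SmallCategory K] [Finite (Arrow K)]
    {Y : K ⥤ ModuleCat.{u} A} (c : Cocone Y) (hc : IsColimit c)
    (h : ∀ k, IsFinitelyPresentable.{u} (Y.obj k)) : IsFinitelyPresentable.{u} c.pt := by
  have := h
  exact isCardinalPresentable_of_isColimit c hc Cardinal.aleph0 (by
    rw [hasCardinalLT_aleph0_iff]; infer_instance)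

lemma isFinitelyPresentable_pi (n : ℕ) :
    IsFinitelyPresentable.{u} (ModuleCat.of A (Fin n → A)) := by
  have h1 : IsFinitelyPresentable.{u} (⨁ (fun _ : Fin n => ModuleCat.of A A)) := by
    refine isFinitelyPresentable_of_isColimit_finite A _
      (biproduct.isColimit (fun _ : Fin n => ModuleCat.of A A)) ?_
    intro k
    dsimp
    infer_instance
  exact isCardinalPresentable_of_iso (ModuleCat.biproductIsoPi (fun _ : Fin n => ModuleCat.of A A)) _

lemma fpAlg_le_fpCat : fpAlg A ≤ fpCat A := by
  intro M hM
  have : Module.FinitePresentation A M := hM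
  obtain ⟨n, m, f, g, hf, hfg⟩ := Module.FinitePresentation.exists_fin' A M
  let S : ShortComplex (ModuleCat.{u} A) :=
    ShortComplex.moduleCatMk g f (by
      apply LinearMap.ext
      intro x
      exact hfg.apply_apply_eq_zero x)
  have hS : S.Exact := by
    rw [ShortComplex.ShortExact.moduleCat_exact_iff_function_exact]
    exact hfg
  have : Epi S.g := by
    rw [ModuleCat.epi_iff_surjective]
    exact hf
  have hc := hS.gIsCokernel
  have := isFinitelyPresentable_of_isColimit_finite A _ hc (by
    intro k
    rcases k with _ | _
    · exact isFinitelyPresentable_pi A m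
    · exact isFinitelyPresentable_pi A n)
  exact this

lemma finitePresentation_sigma {ι : Type u} [Finite ι] (Z : ι → ModuleCat.{u} A)
    (h : ∀ i, Module.FinitePresentation A (Z i)) : Module.FinitePresentation A ↑(∐ Z) := by
  classical
  have := Fintype.ofFinite ι
  have e1 := (ModuleCat.coprodIsoDirectSum Z).toLinearEquiv
  have e2 := DirectSum.linearEquivFunOnFintype A ι (fun i => Z i)
  exact Module.FinitePresentation.of_equiv (e1.trans e2).symm

lemma finitePresentation_coequalizer {P Q : ModuleCat.{u} A} (s t : P ⟶ Q)
    [Module.Finite A P] [Module.FinitePresentation A Q] :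
    Module.FinitePresentation A ↑(coequalizer s t) := by
  have hc := Preadditive.isColimitCokernelCoforkOfCofork (colimit.isColimit (parallelPair s t))
  let S : ShortComplex (ModuleCat.{u} A) := ShortComplex.mk (s - t) (coequalizer.π s t) (by
    rw [Preadditive.sub_comp, coequalizer.condition, sub_self])
  have hS : S.Exact := ShortComplex.exact_of_g_is_cokernel S hc
  have hsurj : Function.Surjective (coequalizer.π s t).hom := by
    rw [← ModuleCat.epi_iff_surjective]
    infer_instance
  refine Module.finitePresentation_of_surjective (coequalizer.π s t).hom hsurj ?_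
  have hk : LinearMap.ker (coequalizer.π s t).hom = LinearMap.range (s - t).hom :=
    hS.moduleCat_range_eq_ker.symm
  rw [hk, LinearMap.range_eq_map]
  exact (Module.Finite.fg_top).map _

lemma finitePresentation_of_isColimit {J : Type u} [SmallCategory J] [Finite (Arrow J)]
    {F : J ⥤ ModuleCat.{u} A} (c : Cocone F) (hc : IsColimit c)
    (h : ∀ j, Module.FinitePresentation A (F.obj j)) : Module.FinitePresentation A c.pt := by
  have hJ : Finite J := Finite.of_injective (fun j : J => Arrow.mk (𝟙 j)) (by
    intro j j' hjj'
    exact congrArg (fun a : Arrow J => a.left) hjj')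
  have hJ2 : Finite (Σ p : J × J, (p.1 ⟶ p.2)) :=
    Finite.of_injective (fun f => (Arrow.mk f.2 : Arrow J)) (by
      rintro ⟨⟨a, b⟩, f⟩ ⟨⟨a', b'⟩, f'⟩ hff'
      cases hff'
      rfl)
  let cc := colimitCoconeOfCoequalizerAndCoproduct F
  have e : c.pt ≅ cc.cocone.pt := hc.coconePointUniqueUpToIso cc.isColimit
  have h1 : Module.FinitePresentation A ↑(∐ (fun j => F.obj j)) :=
    finitePresentation_sigma A _ h
  have h2 : Module.FinitePresentation A
      ↑(∐ (fun f : (Σ p : J × J, (p.1 ⟶ p.2)) => F.obj f.1.1)) :=
    finitePresentation_sigma A _ (fun f => h _)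
  have h2' : Module.Finite A
      ↑(colimit.cocone (Discrete.functor fun f : (Σ p : J × J, (p.1 ⟶ p.2)) => F.obj f.1.1)).pt :=
    (inferInstance : Module.Finite A ↑(∐ (fun f : (Σ p : J × J, (p.1 ⟶ p.2)) => F.obj f.1.1)))
  have h1' : Module.FinitePresentation A
      ↑(colimit.cocone (Discrete.functor fun j => F.obj j)).pt := h1
  have h3 : Module.FinitePresentation A cc.cocone.pt :=
    finitePresentation_coequalizer A _ _
  exact Module.FinitePresentation.of_equiv e.symm.toLinearEquiv


lemma fpCat_le_fpAlg : fpCat A ≤ fpAlg A := by
  have h := IsStrongGenerator.colimitsCardinalClosure_eq_isCardinalPresentable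
    (κ := Cardinal.aleph0) (isStrongGenerator_singleton A) (by
      rw [ObjectProperty.singleton_le_iff]
      exact (inferInstance : IsFinitelyPresentable.{u} (ModuleCat.of A A)))
  show isCardinalPresentable _ _ ≤ _
  rw [h]
  apply ObjectProperty.colimitsCardinalClosure_le
  · intro J _ hJ
    constructor
    rintro X ⟨p⟩
    have : Finite (Arrow J) := by rwa [hasCardinalLT_aleph0_iff] at hJ
    exact finitePresentation_of_isColimit A _ p.isColimit p.prop_diag_obj
  · rw [ObjectProperty.singleton_le_iff]
    exact (inferInstance : Module.FinitePresentation A A)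

lemma fpAlg_eq_fpCat : fpAlg A = fpCat A :=
  le_antisymm (fpAlg_le_fpCat A) (fpCat_le_fpAlg A)

end Groth.Agent.Helper53.FPDense

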