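import Groth.Agent.Lib.Helper53.FPEq

/-!
# Functors on modules preserving filtered colimits are left Kan extensions from f.p. modules
(helper53)
-/

set_option autoImplicit false
universe u v' u'

open CategoryTheory CategoryTheory.Limits Opposite

namespace Groth.Agent.Helper53.FPDense

section General

variable {C : Type (u + 1)} [Category.{u} C] (P : ObjectProperty C)
  [∀ X, IsFiltered (CostructuredArrow P.ι X)]
  [ObjectProperty.EssentiallySmall.{u} P]
  {B : Type u'} [Category.{v'} B]

instance essentiallySmall_costructuredArrow (X : C) :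
    EssentiallySmall.{u} (CostructuredArrow P.ι X) := inferInstance

lemma hasColimitsOfShape_costructuredArrow [HasFilteredColimitsOfSize.{u, u} B] (X : C) :
    HasColimitsOfShape (CostructuredArrow P.ι X) B := by
  have : IsFiltered (SmallModel.{u} (CostructuredArrow P.ι X)) :=
    IsFiltered.of_equivalence (equivSmallModel.{u} (CostructuredArrow P.ι X))
  exact hasColimitsOfShape_of_equivalence
    (equivSmallModel.{u} (CostructuredArrow P.ι X)).symm

lemma preservesColimitsOfShape_costructuredArrow (G : C ⥤ B)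
    [PreservesFilteredColimitsOfSize.{u, u} G] (X : C) :
    PreservesColimitsOfShape (CostructuredArrow P.ι X) G := by
  have : IsFiltered (SmallModel.{u} (CostructuredArrow P.ι X)) :=
    IsFiltered.of_equivalence (equivSmallModel.{u} (CostructuredArrow P.ι X))
  exact preservesColimitsOfShape_of_equiv
    (equivSmallModel.{u} (CostructuredArrow P.ι X)).symm G

variable [P.ι.IsDense]

/-- a functor preserving filtered colimits is the pointwise left Kan extension of its
restriction. -/
noncomputable def isPointwiseLeftKanExtension_of_preserves (G : C ⥤ B)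
    [PreservesFilteredColimitsOfSize.{u, u} G] :
    (Functor.LeftExtension.mk G (𝟙 (P.ι ⋙ G))).IsPointwiseLeftKanExtension := by
  intro X
  have := preservesColimitsOfShape_costructuredArrow P G X
  have h := isColimitOfPreserves G (P.ι.denseAt X)
  exact IsColimit.ofIsoColimit h (Cocone.ext (Iso.refl _) (by
    intro j
    show G.map (𝟙 _ ≫ j.hom) ≫ 𝟙 _ = 𝟙 _ ≫ G.map j.hom
    simp))

lemma nonempty_iso_of_preserves (F₁ F₂ : C ⥤ B)
    [PreservesFilteredColimitsOfSize.{u, u} F₁] [PreservesFilteredColimitsOfSize.{u, u} F₂]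
    (e : P.ι ⋙ F₁ ≅ P.ι ⋙ F₂) : Nonempty (F₁ ≅ F₂) := by
  have h1 : F₁.IsLeftKanExtension (𝟙 (P.ι ⋙ F₁)) :=
    (isPointwiseLeftKanExtension_of_preserves P F₁).isLeftKanExtension
  have h2 : F₂.IsLeftKanExtension (𝟙 (P.ι ⋙ F₂)) :=
    (isPointwiseLeftKanExtension_of_preserves P F₂).isLeftKanExtension
  exact ⟨Functor.leftKanExtensionUniqueOfIso F₁ (𝟙 (P.ι ⋙ F₁)) e F₂ (𝟙 (P.ι ⋙ F₂))⟩

end General

section T6

variable {C : Type (u + 1)} [Category.{u} C] (P : ObjectProperty C)
  (hfp : P ≤ ObjectProperty.isFinitelyPresentable.{u} C)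
  {B : Type u'} [Category.{v'} B]
  {F : P.FullSubcategory ⥤ B} {F' : C ⥤ B} (α : F ⟶ P.ι ⋙ F')
  (hE : (Functor.LeftExtension.mk F' α).IsPointwiseLeftKanExtension)
  {J : Type u} [SmallCategory J] [IsFiltered J] {D : J ⥤ C} {c : Cocone D} (hc : IsColimit c)

include hfp hc in
lemma exists_fac (Q : P.FullSubcategory) (φ : P.ι.obj Q ⟶ c.pt) :
    ∃ (j : J) (ψ : P.ι.obj Q ⟶ D.obj j), ψ ≫ c.ι.app j = φ := by
  have : IsFinitelyPresentable.{u} (P.ι.obj Q) := hfp _ Q.property
  exact IsFinitelyPresentable.exists_hom_of_isColimit hc φ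

/-- chosen index -/
noncomputable def facJ (Q : P.FullSubcategory) (φ : P.ι.obj Q ⟶ c.pt) : J :=
  (exists_fac P hfp hc Q φ).choose

/-- chosen factorization -/
noncomputable def facψ (Q : P.FullSubcategory) (φ : P.ι.obj Q ⟶ c.pt) :
    P.ι.obj Q ⟶ D.obj (facJ P hfp hc Q φ) :=
  (exists_fac P hfp hc Q φ).choose_spec.choose

lemma facψ_spec (Q : P.FullSubcategory) (φ : P.ι.obj Q ⟶ c.pt) :
    facψ P hfp hc Q φ ≫ c.ι.app (facJ P hfp hc Q φ) = φ :=
  (exists_fac P hfp hc Q φ).choose_spec.choose_spec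

include hfp hc in
lemma key (Q : P.FullSubcategory) (j₁ j₂ : J) (ψ₁ : P.ι.obj Q ⟶ D.obj j₁)
    (ψ₂ : P.ι.obj Q ⟶ D.obj j₂) (s : Cocone (D ⋙ F'))
    (h : ψ₁ ≫ c.ι.app j₁ = ψ₂ ≫ c.ι.app j₂) :
    α.app Q ≫ F'.map ψ₁ ≫ s.ι.app j₁ = α.app Q ≫ F'.map ψ₂ ≫ s.ι.app j₂ := by
  have : IsFinitelyPresentable.{u} (P.ι.obj Q) := hfp _ Q.property
  obtain ⟨k, a, b, hab⟩ := IsFinitelyPresentable.exists_eq_of_isColimit hc ψ₁ ψ₂ h
  have h1 : s.ι.app j₁ = F'.map (D.map a) ≫ s.ι.app k := (s.w a).symm
  have h2 : s.ι.app j₂ = F'.map (D.map b) ≫ s.ι.app k := (s.w b).symm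
  rw [h1, h2, ← F'.map_comp_assoc, ← F'.map_comp_assoc, hab]

/-- the cocone used to define the descent morphism -/
noncomputable def descCocone (s : Cocone (D ⋙ F')) :
    Cocone (CostructuredArrow.proj P.ι c.pt ⋙ F) where
  pt := s.pt
  ι :=
    { app := fun g => α.app g.left ≫ F'.map (facψ P hfp hc g.left g.hom) ≫
        s.ι.app (facJ P hfp hc g.left g.hom)
      naturality := by
        intro g g' a
        have hn : F.map a.left ≫ α.app g'.left = α.app g.left ≫ F'.map (P.ι.map a.left) :=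
          α.naturality a.left
        have goal : F.map a.left ≫ α.app g'.left ≫ F'.map (facψ P hfp hc g'.left g'.hom) ≫
            s.ι.app (facJ P hfp hc g'.left g'.hom) =
            α.app g.left ≫ F'.map (facψ P hfp hc g.left g.hom) ≫
              s.ι.app (facJ P hfp hc g.left g.hom) := by
          rw [reassoc_of% hn, ← F'.map_comp_assoc]
          apply key P hfp α hc
          rw [facψ_spec, Category.assoc, facψ_spec]
          exact CostructuredArrow.w a
        exact goal.trans (Category.comp_id _).symm }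

lemma descCocone_app_eq (s : Cocone (D ⋙ F')) (g : CostructuredArrow P.ι c.pt) (j : J)
    (ψ : P.ι.obj g.left ⟶ D.obj j) (h : ψ ≫ c.ι.app j = g.hom) :
    (descCocone P hfp α hc s).ι.app g = α.app g.left ≫ F'.map ψ ≫ s.ι.app j := by
  show α.app g.left ≫ F'.map (facψ P hfp hc g.left g.hom) ≫
        s.ι.app (facJ P hfp hc g.left g.hom) = _
  apply key P hfp α hc
  rw [h, facψ_spec]

include hfp in
lemma preservesFilteredColimits_of_isColimit_coconeAt
    (hE' : ∀ Y, IsColimit ((Functor.LeftExtension.mk F' α).coconeAt Y)) :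
    PreservesFilteredColimitsOfSize.{u, u} F' := by
  refine ⟨fun J _ _ => ⟨fun {D} => ⟨fun {c} hc => ⟨?_⟩⟩⟩⟩
  refine
    { desc := fun s => (hE' c.pt).desc (descCocone P hfp α hc s)
      fac := ?_
      uniq := ?_ }
  · intro s j
    apply (hE' (D.obj j)).hom_ext
    intro g
    obtain ⟨d, hd⟩ : ∃ d : F'.obj c.pt ⟶ s.pt,
      d = (hE' c.pt).desc (descCocone P hfp α hc s) := ⟨_, rfl⟩
    obtain ⟨ci, hci⟩ : ∃ ci : D.obj j ⟶ c.pt, ci = c.ι.app j := ⟨_, rfl⟩
    have h1 : (α.app g.left ≫ F'.map (g.hom ≫ ci)) ≫ d =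
        α.app g.left ≫ F'.map g.hom ≫ s.ι.app j := by
      have := (hE' c.pt).fac (descCocone P hfp α hc s)
        (CostructuredArrow.mk (Y := g.left) (g.hom ≫ c.ι.app j))
      rw [descCocone_app_eq P hfp α hc s _ j g.hom rfl] at this
      rw [hd, hci]
      exact this
    have h2 : (α.app g.left ≫ F'.map g.hom) ≫ F'.map ci ≫ d =
        (α.app g.left ≫ F'.map g.hom) ≫ s.ι.app j := by
      rw [Category.assoc, ← F'.map_comp_assoc, ← Category.assoc, h1, Category.assoc]
    rw [hd, hci] at h2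
    exact h2
  · intro s m hm
    apply (hE' c.pt).hom_ext
    intro g
    have hf' : (α.app g.left ≫ F'.map g.hom) ≫ (hE' c.pt).desc (descCocone P hfp α hc s) =
        (descCocone P hfp α hc s).ι.app g := (hE' c.pt).fac (descCocone P hfp α hc s) g
    obtain ⟨j, ψ, h⟩ := exists_fac P hfp hc g.left g.hom
    have hmj : F'.map (c.ι.app j) ≫ m = s.ι.app j := hm j
    have h3 : (α.app g.left ≫ F'.map g.hom) ≫ m =
        (α.app g.left ≫ F'.map g.hom) ≫ (hE' c.pt).desc (descCocone P hfp α hc s) := by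
      rw [hf', descCocone_app_eq P hfp α hc s g j ψ h, ← h, F'.map_comp, Category.assoc,
        Category.assoc, hmj]
    exact h3

include hfp hE in
lemma preservesFilteredColimits_of_isPointwiseLeftKanExtension :
    PreservesFilteredColimitsOfSize.{u, u} F' :=
  preservesFilteredColimits_of_isColimit_coconeAt P hfp α hE

end T6


section Exist

variable {C : Type (u + 1)} [Category.{u} C] (P : ObjectProperty C)
  [∀ X, IsFiltered (CostructuredArrow P.ι X)]
  [ObjectProperty.EssentiallySmall.{u} P]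
  (hfp : P ≤ ObjectProperty.isFinitelyPresentable.{u} C)
  {B : Type u'} [Category.{v'} B]

include hfp in
lemma exists_extension [HasFilteredColimitsOfSize.{u, u} B] (F : P.FullSubcategory ⥤ B) :
    ∃ F' : C ⥤ B, PreservesFilteredColimitsOfSize.{u, u} F' ∧ Nonempty (P.ι ⋙ F' ≅ F) := by
  have : P.ι.HasPointwiseLeftKanExtension F := fun X => by
    have := hasColimitsOfShape_costructuredArrow P (B := B) X
    infer_instance
  have hE := Functor.pointwiseLeftKanExtensionIsPointwiseLeftKanExtension P.ι F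
  have : IsIso (P.ι.pointwiseLeftKanExtensionUnit F) := hE.isIso_hom
  exact ⟨P.ι.pointwiseLeftKanExtension F,
    preservesFilteredColimits_of_isPointwiseLeftKanExtension P hfp _ hE,
    ⟨(asIso (P.ι.pointwiseLeftKanExtensionUnit F)).symm⟩⟩

end Exist

section Mod

variable (A : Type u) [CommRing A]

instance isDense_fpAlg : (fpAlg A).ι.IsDense := by
  rw [fpAlg_eq_fpCat]
  infer_instance

instance isFiltered_fpAlg (X : ModuleCat.{u} A) :
    IsFiltered (CostructuredArrow (fpAlg A).ι X) := by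
  rw [fpAlg_eq_fpCat]
  infer_instance

instance essentiallySmall_fpAlg : ObjectProperty.EssentiallySmall.{u} (fpAlg A) := by
  rw [fpAlg_eq_fpCat]
  infer_instance

end Mod

end Groth.Agent.Helper53.FPDense
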