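import Groth.Agent.Lib.Helper53.FPArrow
import Groth.Agent.Lib.Helper53.CoherentRing

/-!
# Extensions from f.p. modules over a coherent ring preserve kernels (helper53)
-/

set_option autoImplicit false
universe w v u v' u'

open CategoryTheory CategoryTheory.Limits Opposite

namespace Groth.Agent.Helper53.FPDense

section LemmaY

variable {I : Type w} [Category.{v} I] {B : Type*} [Category B] [HasZeroMorphisms B]
  [HasColimitsOfShape I B]
  [PreservesLimitsOfShape WalkingParallelPair (colim : (I ⥤ B) ⥤ B)]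
  {K P Q : I ⥤ B} (k : K ⟶ P) (a : P ⟶ Q)
  (w : ∀ i, k.app i ≫ a.app i = 0)
  (hk : ∀ i, IsLimit (KernelFork.ofι (k.app i) (w i)))

include w in
lemma colimKer_w : k ≫ a = 0 := by
  ext i
  exact w i

/-- the kernel fork in the functor category -/
noncomputable def colimKer_forkIsLimit : IsLimit (KernelFork.ofι k (colimKer_w k a w)) :=
  evaluationJointlyReflectsLimits _ (fun i =>
    (isLimitMapConeForkEquiv' ((evaluation I B).obj i) (colimKer_w k a w)).symm (hk i))

include w in
lemma colimKer_w' : colimMap k ≫ colimMap a = 0 := by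
  have h : colim.map k ≫ colim.map a = 0 := by
    rw [← colim.map_comp, colimKer_w k a w, Functor.map_zero]
  exact h

/-- the colimit of the kernels is the kernel of the colimit maps -/
noncomputable def colimKer_isLimit : IsLimit (KernelFork.ofι (colimMap k) (colimKer_w' k a w)) :=
  isLimitForkMapOfIsLimit' colim (colimKer_w k a w) (colimKer_forkIsLimit k a w hk)

variable (cK : Cocone K) (cM : Cocone P) (cN : Cocone Q)
  (hK : IsColimit cK) (hM : IsColimit cM) (hN : IsColimit cN)
  (κ : cK.pt ⟶ cM.pt) (f : cM.pt ⟶ cN.pt)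
  (hκ : ∀ i, cK.ι.app i ≫ κ = k.app i ≫ cM.ι.app i)
  (hf : ∀ i, cM.ι.app i ≫ f = a.app i ≫ cN.ι.app i)

omit [HasZeroMorphisms B] [PreservesLimitsOfShape WalkingParallelPair (colim : (I ⥤ B) ⥤ B)] in
include hκ hK hM in
lemma colimKer_c1 :
    κ ≫ (hM.coconePointUniqueUpToIso (colimit.isColimit P)).hom =
      (hK.coconePointUniqueUpToIso (colimit.isColimit K)).hom ≫ colimMap k := by
  apply hK.hom_ext
  intro i
  rw [reassoc_of% (hκ i), IsColimit.comp_coconePointUniqueUpToIso_hom,
    IsColimit.comp_coconePointUniqueUpToIso_hom_assoc]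
  simp

include w hκ hf hK hM hN in
lemma colimKer_cond : κ ≫ f = 0 := by
  have c1 := colimKer_c1 k cK cM hK hM κ hκ
  have c2 := colimKer_c1 a cM cN hM hN f hf
  have h : (κ ≫ f) ≫ (hN.coconePointUniqueUpToIso (colimit.isColimit Q)).hom = 0 := by
    rw [Category.assoc, c2, reassoc_of% c1, colimKer_w' k a w, comp_zero]
  have h2 := congrArg (fun x => x ≫ (hN.coconePointUniqueUpToIso (colimit.isColimit Q)).inv) h
  simpa using h2

include hk hK hM hN hκ hf in
theorem colimKer_isLimit' :
    Nonempty (IsLimit (KernelFork.ofι κ (colimKer_cond k a w cK cM cN hK hM hN κ f hκ hf))) := by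
  have c1 := colimKer_c1 k cK cM hK hM κ hκ
  have c2 := colimKer_c1 a cM cN hM hN f hf
  have hY := colimKer_isLimit k a w hk
  obtain ⟨eK, heK⟩ : ∃ e : cK.pt ≅ colimit K,
    e = hK.coconePointUniqueUpToIso (colimit.isColimit K) := ⟨_, rfl⟩
  obtain ⟨eM, heM⟩ : ∃ e : cM.pt ≅ colimit P,
    e = hM.coconePointUniqueUpToIso (colimit.isColimit P) := ⟨_, rfl⟩
  obtain ⟨eN, heN⟩ : ∃ e : cN.pt ≅ colimit Q,
    e = hN.coconePointUniqueUpToIso (colimit.isColimit Q) := ⟨_, rfl⟩
  rw [← heK, ← heM] at c1
  rw [← heM, ← heN] at c2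
  have c1' : eK.inv ≫ κ = colimMap k ≫ eM.inv := by
    rw [Iso.inv_comp_eq, ← Category.assoc, ← c1, Category.assoc, Iso.hom_inv_id, Category.comp_id]
  have hl : ∀ {T : B} (g : T ⟶ cM.pt) (hg : g ≫ f = 0), (g ≫ eM.hom) ≫ colimMap a = 0 := by
    intro T g hg
    rw [Category.assoc, ← c2, reassoc_of% hg, zero_comp]
  refine ⟨KernelFork.IsLimit.ofι _ _
    (fun {T} g hg => (KernelFork.IsLimit.lift' hY (g ≫ eM.hom) (hl g hg)).1 ≫ eK.inv) ?_ ?_⟩
  · intro T g hg
    have h1 := (KernelFork.IsLimit.lift' hY (g ≫ eM.hom) (hl g hg)).2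
    have h1' : (KernelFork.IsLimit.lift' hY (g ≫ eM.hom) (hl g hg)).1 ≫ colimMap k =
        g ≫ eM.hom := h1
    rw [Category.assoc, c1', reassoc_of% h1', Iso.hom_inv_id, Category.comp_id]
  · intro T g hg m hm
    have h1 := (KernelFork.IsLimit.lift' hY (g ≫ eM.hom) (hl g hg)).2
    have h1' : (KernelFork.IsLimit.lift' hY (g ≫ eM.hom) (hl g hg)).1 ≫ colimMap k =
        g ≫ eM.hom := h1
    have h2 : m ≫ eK.hom = (KernelFork.IsLimit.lift' hY (g ≫ eM.hom) (hl g hg)).1 := by
      apply Fork.IsLimit.hom_ext hY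
      show (m ≫ eK.hom) ≫ colimMap k = _ ≫ colimMap k
      rw [h1', Category.assoc, ← c1, reassoc_of% hm]
    rw [← h2, Category.assoc, Iso.hom_inv_id, Category.comp_id]

end LemmaY



section Ker

variable {C : Type (u + 1)} [Category.{u} C] [Preadditive C] (P : ObjectProperty C)
  [∀ X, IsFiltered (CostructuredArrow P.ι X)]
  [ObjectProperty.EssentiallySmall.{u} P] [P.ι.IsDense]
  [HasFilteredColimitsOfSize.{u, u} C]
  [HasKernels P.FullSubcategory] [PreservesLimitsOfShape WalkingParallelPair P.ι]
  (hC : ∀ (J : Type u) [SmallCategory J] [IsFiltered J],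
    PreservesLimitsOfShape WalkingParallelPair (colim : (J ⥤ C) ⥤ C))
  {B : Type u'} [Category.{v'} B] [Preadditive B] [HasFilteredColimitsOfSize.{u, u} B]
  (hB : ∀ (J : Type u) [SmallCategory J] [IsFiltered J],
    PreservesLimitsOfShape WalkingParallelPair (colim : (J ⥤ B) ⥤ B))
  (F' : C ⥤ B) [PreservesFilteredColimitsOfSize.{u, u} F'] [F'.PreservesZeroMorphisms]
  [PreservesLimitsOfShape WalkingParallelPair (P.ι ⋙ F')]
  {M N : C} (f : M ⟶ N)

/-- the colimit of the pointwise kernels -/
noncomputable def adCKer : Cocone (kerFunctor (adA P f) ⋙ P.ι) :=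
  colimit.cocone _

/-- the inclusion -/
noncomputable def adκ : (adCKer P f).pt ⟶ M :=
  (colimit.isColimit (kerFunctor (adA P f) ⋙ P.ι)).desc
    { pt := M
      ι :=
        { app := fun i => P.ι.map ((kerFunctorι (adA P f)).app i) ≫ (adCM P f).ι.app i
          naturality := by
            intro i j m
            have h1 := (kerFunctorι (adA P f)).naturality m
            have h2 := (adCM P f).w m
            have goal : P.ι.map ((kerFunctor (adA P f)).map m) ≫
                P.ι.map ((kerFunctorι (adA P f)).app j) ≫ (adCM P f).ι.app j =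
                P.ι.map ((kerFunctorι (adA P f)).app i) ≫ (adCM P f).ι.app i := by
              rw [← P.ι.map_comp_assoc, h1, P.ι.map_comp_assoc]
              congr 1
            exact goal.trans (Category.comp_id _).symm } }

lemma adκ_fac (i : ADI P f) :
    (adCKer P f).ι.app i ≫ adκ P f =
      P.ι.map ((kerFunctorι (adA P f)).app i) ≫ (adCM P f).ι.app i :=
  (colimit.isColimit (kerFunctor (adA P f) ⋙ P.ι)).fac _ i

lemma adK_w (i : ADI P f) :
    (Functor.whiskerRight (kerFunctorι (adA P f)) P.ι).app i ≫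
      (Functor.whiskerRight (adA P f) P.ι).app i = 0 := by
  have h : P.ι.map ((kerFunctorι (adA P f)).app i) ≫ P.ι.map ((adA P f).app i) = 0 := by
    rw [← P.ι.map_comp, kerFunctor_w, P.ι.map_zero]
  exact h

/-- pointwise kernel in `C` -/
noncomputable def adK_hk (i : ADI P f) :
    IsLimit (KernelFork.ofι
      ((Functor.whiskerRight (kerFunctorι (adA P f)) P.ι).app i) (adK_w P f i)) :=
  isLimitForkMapOfIsLimit' P.ι (kerFunctor_w (adA P f) i)
    (kerFunctor_isLimit (adA P f) i)

include hC in
lemma adK_cond : adκ P f ≫ f = 0 := by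
  have := hC (ADI P f)
  exact colimKer_cond (Functor.whiskerRight (kerFunctorι (adA P f)) P.ι)
    (Functor.whiskerRight (adA P f) P.ι) (adK_w P f)
    (adCKer P f) (adCM P f) (adCN P f) (colimit.isColimit _) (adCM_isColimit P f)
    (adCN_isColimit P f) (adκ P f) f (adκ_fac P f) (ad_comm P f)

lemma adK_isLimit : Nonempty (IsLimit (KernelFork.ofι (adκ P f) (adK_cond P hC f))) := by
  have := hC (ADI P f)
  exact colimKer_isLimit' (Functor.whiskerRight (kerFunctorι (adA P f)) P.ι)
    (Functor.whiskerRight (adA P f) P.ι) (adK_w P f) (adK_hk P f)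
    (adCKer P f) (adCM P f) (adCN P f) (colimit.isColimit _) (adCM_isColimit P f)
    (adCN_isColimit P f) (adκ P f) f (adκ_fac P f) (ad_comm P f)

lemma adKB_w (i : ADI P f) :
    (Functor.whiskerRight (Functor.whiskerRight (kerFunctorι (adA P f)) P.ι) F').app i ≫
      (Functor.whiskerRight (Functor.whiskerRight (adA P f) P.ι) F').app i = 0 := by
  have h : (P.ι ⋙ F').map ((kerFunctorι (adA P f)).app i) ≫
      (P.ι ⋙ F').map ((adA P f).app i) = 0 := by
    rw [← (P.ι ⋙ F').map_comp, kerFunctor_w, (P.ι ⋙ F').map_zero]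
  exact h

/-- pointwise kernel in `B` -/
noncomputable def adKB_hk (i : ADI P f) :
    IsLimit (KernelFork.ofι
      ((Functor.whiskerRight (Functor.whiskerRight (kerFunctorι (adA P f)) P.ι) F').app i)
      (adKB_w P F' f i)) :=
  isLimitForkMapOfIsLimit' (P.ι ⋙ F') (kerFunctor_w (adA P f) i)
    (kerFunctor_isLimit (adA P f) i)

lemma adKB_fac (i : ADI P f) :
    (F'.mapCocone (adCKer P f)).ι.app i ≫ F'.map (adκ P f) =
      (Functor.whiskerRight (Functor.whiskerRight (kerFunctorι (adA P f)) P.ι) F').app i ≫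
        (F'.mapCocone (adCM P f)).ι.app i :=
  (F'.map_comp _ _).symm.trans
    ((congrArg (fun g => F'.map g) (adκ_fac P f i)).trans (F'.map_comp _ _))

lemma adKB_comm (i : ADI P f) :
    (F'.mapCocone (adCM P f)).ι.app i ≫ F'.map f =
      (Functor.whiskerRight (Functor.whiskerRight (adA P f) P.ι) F').app i ≫
        (F'.mapCocone (adCN P f)).ι.app i :=
  (F'.map_comp _ _).symm.trans
    ((congrArg (fun g => F'.map g) (ad_comm P f i)).trans (F'.map_comp _ _))

include hC in
lemma adKB_cond : F'.map (adκ P f) ≫ F'.map f = 0 := by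
  rw [← F'.map_comp, adK_cond P hC f, F'.map_zero]

include hB in
lemma adKB_isLimit :
    Nonempty (IsLimit (KernelFork.ofι (F'.map (adκ P f)) (adKB_cond P hC F' f))) := by
  have := hB (ADI P f)
  exact colimKer_isLimit'
    (Functor.whiskerRight (Functor.whiskerRight (kerFunctorι (adA P f)) P.ι) F')
    (Functor.whiskerRight (Functor.whiskerRight (adA P f) P.ι) F')
    (adKB_w P F' f) (adKB_hk P F' f)
    (F'.mapCocone (adCKer P f)) (F'.mapCocone (adCM P f)) (F'.mapCocone (adCN P f))
    (isColimitOfPreserves F' (colimit.isColimit _))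
    (isColimitOfPreserves F' (adCM_isColimit P f)) (isColimitOfPreserves F' (adCN_isColimit P f))
    (F'.map (adκ P f)) (F'.map f) (adKB_fac P F' f) (adKB_comm P F' f)

include P hC hB in
theorem preservesKernel_of_restriction : PreservesLimit (parallelPair f 0) F' := by
  obtain ⟨h1⟩ := adK_isLimit P hC f
  obtain ⟨h2⟩ := adKB_isLimit P hC hB F' f
  exact preservesLimit_of_preserves_limit_cone h1
    ((isLimitMapConeForkEquiv' F' (adK_cond P hC f)).symm h2)

end Ker

section ClosureKer

variable (A : Type u) [CommRing A]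
  (hcoh : ∀ I : Ideal A, I.FG → Module.FinitePresentation A I)

include hcoh in
lemma finitePresentation_equalizer {P Q : ModuleCat.{u} A} (s t : P ⟶ Q)
    [Module.FinitePresentation A P] [Module.FinitePresentation A Q] :
    Module.FinitePresentation A ↑(equalizer s t) := by
  have hc := Preadditive.isLimitKernelForkOfFork (limit.isLimit (parallelPair s t))
  have e : equalizer s t ≅ ModuleCat.of A (LinearMap.ker (s - t).hom) :=
    hc.conePointUniqueUpToIso (ModuleCat.kernelIsLimit (s - t))
  have hR := CohRing.subFP_self hcoh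
  have hfg : (LinearMap.ker (s - t).hom).FG := CohRing.fg_ker_of_finitePresentation hR _
  have hfp : Module.FinitePresentation A (LinearMap.ker (s - t).hom) :=
    CohRing.subFP_of_finitePresentation hR _ hfg
  exact Module.FinitePresentation.of_equiv e.symm.toLinearEquiv

include hcoh in
lemma isClosedUnderKernels_fpAlg :
    (fpAlg A).IsClosedUnderLimitsOfShape WalkingParallelPair where
  limitsOfShape_le := by
    rintro X ⟨p⟩
    have h0 : Module.FinitePresentation A (p.diag.obj WalkingParallelPair.zero) :=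
      p.prop_diag_obj _
    have h1 : Module.FinitePresentation A (p.diag.obj WalkingParallelPair.one) :=
      p.prop_diag_obj _
    have e : X ≅ equalizer (p.diag.map WalkingParallelPairHom.left)
        (p.diag.map WalkingParallelPairHom.right) :=
      p.isLimit.conePointUniqueUpToIso (limit.isLimit _) ≪≫
        HasLimit.isoOfNatIso (diagramIsoParallelPair p.diag)
    have h2 := finitePresentation_equalizer A hcoh (p.diag.map WalkingParallelPairHom.left)
        (p.diag.map WalkingParallelPairHom.right)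
    exact Module.FinitePresentation.of_equiv e.symm.toLinearEquiv

example (I : Type u) [SmallCategory I] [IsFiltered I] :
    PreservesLimitsOfShape WalkingParallelPair
      (colim : (I ⥤ ModuleCat.{u} A) ⥤ ModuleCat.{u} A) := inferInstance

end ClosureKer

end Groth.Agent.Helper53.FPDense
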