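import Groth.Agent.Lib.Helper52.FiniteOverField
import Mathlib.RingTheory.Spectrum.Prime.Noetherian

/-!
# Schemes over a field covered by finitely many finite open subschemes (helper53)
-/

set_option autoImplicit false
universe u

open CategoryTheory CategoryTheory.Limits AlgebraicGeometry

namespace Groth.Agent.Lib.Helper53.FinCoverField

variable {K : Type u} [Field K]

/-- the structure map `K → Γ(T, ⊤)` of a scheme over `Spec K` -/
noncomputable abbrev strHom {T : Scheme.{u}} (c : T ⟶ Spec (CommRingCat.of K)) :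
    CommRingCat.of K ⟶ Γ(T, ⊤) :=
  (Scheme.ΓSpecIso (CommRingCat.of K)).inv ≫ c.appTop

theorem eq_isoSpec_strHom {T : Scheme.{u}} [IsAffine T] (c : T ⟶ Spec (CommRingCat.of K)) :
    c = T.isoSpec.hom ≫ Spec.map (strHom c) := by
  have h1 := Scheme.isoSpec_hom_naturality c
  rw [Scheme.isoSpec_Spec_hom] at h1
  change c = T.isoSpec.hom ≫ Spec.map ((Scheme.ΓSpecIso (CommRingCat.of K)).inv ≫ c.appTop)
  rw [Spec.map_comp, reassoc_of% h1, ← Spec.map_comp, Iso.inv_hom_id, Spec.map_id, Category.comp_id]

theorem finite_strHom {T : Scheme.{u}} (c : T ⟶ Spec (CommRingCat.of K)) [IsFinite c] :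
    (strHom c).hom.Finite := by
  have : IsAffine T := isAffine_of_isAffineHom c
  have hfin' : IsFinite (Spec.map (strHom c)) := by
    have : Spec.map (strHom c) = T.isoSpec.inv ≫ c := by
      conv_rhs => rw [eq_isoSpec_strHom c, Iso.inv_hom_id_assoc]
    rw [this]
    infer_instance
  exact (IsFinite.SpecMap_iff (strHom c)).mp hfin'

theorem isFinite_of_finite_strHom {T : Scheme.{u}} [IsAffine T] (c : T ⟶ Spec (CommRingCat.of K))
    (h : (strHom c).hom.Finite) : IsFinite c := by
  rw [eq_isoSpec_strHom c]
  have : IsFinite (Spec.map (strHom c)) := (IsFinite.SpecMap_iff (strHom c)).mpr h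
  infer_instance

theorem finrank_eq {T : Scheme.{u}} (c : T ⟶ Spec (CommRingCat.of K)) [IsFinite c]
    (s : Spec (CommRingCat.of K)) :
    c.finrank s = @Module.finrank K Γ(T, ⊤) _ _ (strHom c).hom.toAlgebra.toModule := by
  have : IsAffine T := isAffine_of_isAffineHom c
  have hfin := finite_strHom c
  have hflat : (strHom c).hom.Flat := by
    algebraize [(strHom c).hom]
    have : Module.Flat K Γ(T, ⊤) := inferInstance
    exact this
  have h2 : c.finrank s = (strHom c).hom.finrank s := by
    have hfin' : IsFinite (Spec.map (strHom c)) := (IsFinite.SpecMap_iff (strHom c)).mpr hfin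
    have hflat' : Flat (Spec.map (strHom c)) := Flat.SpecMap_iff.mpr hflat
    conv_lhs => rw [eq_isoSpec_strHom c]
    rw [Scheme.Hom.finrank_comp_left_of_isIso, Scheme.Hom.finrank_SpecMap_eq_finrank hfin hflat]
  rw [h2]
  algebraize [(strHom c).hom]
  have hmf : Module.Finite K Γ(T, ⊤) := hfin
  change Module.rankAtStalk _ s = _
  rw [Module.rankAtStalk_eq_finrank_of_free]
  rfl

theorem of_isEmpty {T : Scheme.{u}} [IsEmpty T] (c : T ⟶ Spec (CommRingCat.of K)) :
    IsFinite c ∧ ∀ s, c.finrank s = 0 := by
  have hf : IsFinite c := by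
    apply isFinite_of_finite_strHom
    algebraize [(strHom c).hom]
    have : Module.Finite K Γ(T, ⊤) := Module.Finite.of_finite
    exact this
  refine ⟨hf, fun s => ?_⟩
  rw [finrank_eq]
  let _ := (strHom c).hom.toAlgebra
  exact Module.finrank_zero_of_subsingleton

theorem discreteTopology_of_isFinite {T : Scheme.{u}} (c : T ⟶ Spec (CommRingCat.of K))
    [IsFinite c] : DiscreteTopology T := by
  have : IsAffine T := isAffine_of_isAffineHom c
  have hfin := finite_strHom c
  algebraize [(strHom c).hom]
  have hmf : Module.Finite K Γ(T, ⊤) := hfin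
  have : IsArtinianRing Γ(T, ⊤) := IsArtinianRing.of_finite K _
  have hd : DiscreteTopology (PrimeSpectrum Γ(T, ⊤)) := inferInstance
  have hd' : DiscreteTopology ↥(Spec Γ(T, ⊤)) := hd
  exact (Scheme.homeoOfIso T.isoSpec).isEmbedding.discreteTopology

end Groth.Agent.Lib.Helper53.FinCoverField
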