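import Groth.Agent.Lib.Helper53.FinCoverField

/-!
# Schemes over a field covered by two finite open subschemes (helper53)
-/

set_option autoImplicit false
universe u

open CategoryTheory CategoryTheory.Limits AlgebraicGeometry

namespace Groth.Agent.Lib.Helper53.FinCoverField

variable {K : Type u} [Field K]

theorem section_eq_zero {C A B : Scheme.{u}} (a : A ⟶ C) (b : B ⟶ C)
    [IsOpenImmersion a] [IsOpenImmersion b]
    (hcov : ∀ x : C, x ∈ Set.range a ∨ x ∈ Set.range b)
    (x : Γ(C, ⊤)) (hxa : a.appTop.hom x = 0) (hxb : b.appTop.hom x = 0) : x = 0 := by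
  apply TopCat.Presheaf.section_ext C.sheaf ⊤
  intro y hy
  have key : ∀ {D : Scheme.{u}} (d : D ⟶ C) [IsOpenImmersion d] (z : D),
      d.appTop.hom x = 0 → C.presheaf.germ ⊤ (d z) trivial x = C.presheaf.germ ⊤ (d z) trivial 0 := by
    intro D d _ z hz
    have h1 := Scheme.Hom.germ_stalkMap_apply d ⊤ z trivial x
    have h2 : d.app ⊤ x = 0 := hz
    rw [h2, map_zero] at h1
    have hinj : Function.Injective (d.stalkMap z).hom :=
      (ConcreteCategory.bijective_of_isIso (d.stalkMap z)).injective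
    apply hinj
    rw [h1, map_zero, map_zero]
  rcases hcov y with ⟨z, rfl⟩ | ⟨z, rfl⟩
  · exact key a z hxa
  · exact key b z hxb

theorem binary {C A B : Scheme.{u}} (c : C ⟶ Spec (CommRingCat.of K)) (a : A ⟶ C) (b : B ⟶ C)
    [IsOpenImmersion a] [IsOpenImmersion b] [DiscreteTopology C]
    (hcov : ∀ x : C, x ∈ Set.range a ∨ x ∈ Set.range b)
    [IsFinite (a ≫ c)] [IsFinite (b ≫ c)] :
    IsFinite c ∧ ∀ s, c.finrank s ≤ (a ≫ c).finrank s + (b ≫ c).finrank s := by
  have hdB : DiscreteTopology B := b.isOpenEmbedding.isEmbedding.discreteTopology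
  let B' : B.Opens := ⟨(b ⁻¹' (Set.range a))ᶜ, isOpen_discrete _⟩
  have hcompl : IsCompl a.opensRange (B'.ι ≫ b).opensRange := by
    constructor
    · rw [disjoint_iff]
      ext x
      simp only [TopologicalSpace.Opens.coe_inf, Scheme.Hom.coe_opensRange, Set.mem_inter_iff,
        TopologicalSpace.Opens.coe_bot, Set.mem_empty_iff_false, iff_false, not_and]
      rintro hxa ⟨y, rfl⟩
      have hy : (B'.ι y) ∈ B' := y.2
      apply hy
      simpa using hxa
    · rw [codisjoint_iff]
      ext x
      simp only [TopologicalSpace.Opens.coe_sup, Scheme.Hom.coe_opensRange, Set.mem_union,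
        TopologicalSpace.Opens.coe_top, Set.mem_univ, iff_true]
      by_cases hxa : x ∈ Set.range a
      · exact Or.inl hxa
      · right
        rcases hcov x with h | ⟨y, rfl⟩
        · exact absurd h hxa
        · have hy : y ∈ B' := hxa
          exact ⟨⟨y, hy⟩, rfl⟩
  obtain ⟨hcolim⟩ := nonempty_isColimit_binaryCofanMk_of_isCompl a (B'.ι ≫ b) hcompl
  have hclosed : IsClosedImmersion B'.ι :=
    IsClosedImmersion.of_isPreimmersion B'.ι (isClosed_discrete _)
  have hfinB' : IsFinite ((B'.ι ≫ b) ≫ c) := by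
    rw [Category.assoc]
    infer_instance
  let e : A ⨿ B'.toScheme ≅ C := (coprodIsCoprod A B'.toScheme).coconePointUniqueUpToIso hcolim
  have he1 : coprod.inl ≫ e.hom = a :=
    (coprodIsCoprod A B'.toScheme).comp_coconePointUniqueUpToIso_hom hcolim ⟨WalkingPair.left⟩
  have he2 : coprod.inr ≫ e.hom = B'.ι ≫ b :=
    (coprodIsCoprod A B'.toScheme).comp_coconePointUniqueUpToIso_hom hcolim ⟨WalkingPair.right⟩
  have hec : e.hom ≫ c = coprod.desc (a ≫ c) ((B'.ι ≫ b) ≫ c) := by
    apply coprod.hom_ext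
    · rw [← Category.assoc, he1, coprod.inl_desc]
    · rw [← Category.assoc, he2, coprod.inr_desc]
  have hfin : IsFinite c := by
    have h1 : c = e.inv ≫ (e.hom ≫ c) := by simp
    rw [h1, hec]
    infer_instance
  refine ⟨hfin, fun s => ?_⟩
  rw [finrank_eq c s, finrank_eq (a ≫ c) s, finrank_eq (b ≫ c) s]
  have hA := finite_strHom (a ≫ c)
  have hB := finite_strHom (b ≫ c)
  let algC : Algebra K Γ(C, ⊤) := (strHom c).hom.toAlgebra
  let algA : Algebra K Γ(A, ⊤) := (strHom (a ≫ c)).hom.toAlgebra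
  let algB : Algebra K Γ(B, ⊤) := (strHom (b ≫ c)).hom.toAlgebra
  have hmA : Module.Finite K Γ(A, ⊤) := hA
  have hmB : Module.Finite K Γ(B, ⊤) := hB
  have hsA : ∀ (r : K) (x : Γ(C, ⊤)), a.appTop.hom (r • x) = r • a.appTop.hom x := by
    intro r x
    rw [Algebra.smul_def, Algebra.smul_def, map_mul]
    congr 1
  have hsB : ∀ (r : K) (x : Γ(C, ⊤)), b.appTop.hom (r • x) = r • b.appTop.hom x := by
    intro r x
    rw [Algebra.smul_def, Algebra.smul_def, map_mul]
    congr 1
  let f : Γ(C, ⊤) →ₗ[K] Γ(A, ⊤) × Γ(B, ⊤) :=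
    { toFun := fun x => (a.appTop.hom x, b.appTop.hom x)
      map_add' := fun x y => by simp
      map_smul' := fun r x => by
        simp only [RingHom.id_apply, Prod.smul_mk, hsA, hsB] }
  have hf : Function.Injective f := by
    rw [← LinearMap.ker_eq_bot, LinearMap.ker_eq_bot']
    intro x hx
    have h1 : a.appTop.hom x = 0 := congrArg Prod.fst hx
    have h2 : b.appTop.hom x = 0 := congrArg Prod.snd hx
    exact section_eq_zero a b hcov x h1 h2
  have := LinearMap.finrank_le_finrank_of_injective hf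
  rwa [Module.finrank_prod] at this

end Groth.Agent.Lib.Helper53.FinCoverField
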