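import Groth.Agent.Lib.Helper53.FinCoverField2
import Groth.Agent.Lib.Helper51.AlgSpMonoField

/-!
# Schemes over a field covered by finitely many finite open subschemes: the rank bound (helper53)
-/

set_option autoImplicit false
universe u

open CategoryTheory CategoryTheory.Limits AlgebraicGeometry

namespace Groth.Agent.Lib.Helper53.FinCoverField

variable {K : Type u} [Field K]

theorem finset_opens {T : Scheme.{u}} (c : T ⟶ Spec (CommRingCat.of K)) [DiscreteTopology T]
    {ι : Type*} [DecidableEq ι] (W : ι → T.Opens) (n : ι → ℕ)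
    (h : ∀ i, IsFinite ((W i).ι ≫ c) ∧ ∀ s, ((W i).ι ≫ c).finrank s ≤ n i) (F : Finset ι) :
    ∀ V : T.Opens, V = ⨆ i ∈ F, W i →
      IsFinite (V.ι ≫ c) ∧ ∀ s, (V.ι ≫ c).finrank s ≤ ∑ i ∈ F, n i := by
  induction F using Finset.induction_on with
  | empty =>
    intro V hV
    have hV' : V = ⊥ := by simpa using hV
    subst hV'
    have : IsEmpty ↥(⊥ : T.Opens).toScheme := ⟨fun x => x.2⟩
    obtain ⟨h1, h2⟩ := of_isEmpty ((⊥ : T.Opens).ι ≫ c)
    exact ⟨h1, fun s => by rw [h2 s]; exact Nat.zero_le _⟩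
  | insert i F hi ih =>
    intro V hV
    obtain ⟨ih1, ih2⟩ := ih (⨆ j ∈ F, W j) rfl
    have hV' : V = W i ⊔ ⨆ j ∈ F, W j := by rw [hV, Finset.iSup_insert]
    have le1 : W i ≤ V := hV' ▸ le_sup_left
    have le2 : (⨆ j ∈ F, W j) ≤ V := hV' ▸ le_sup_right
    have hf1 : IsFinite (T.homOfLE le1 ≫ V.ι ≫ c) := by
      rw [← Category.assoc, Scheme.homOfLE_ι]; exact (h i).1
    have hf2 : IsFinite (T.homOfLE le2 ≫ V.ι ≫ c) := by
      rw [← Category.assoc, Scheme.homOfLE_ι]; exact ih1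
    have hcov : ∀ x : V.toScheme, x ∈ Set.range (T.homOfLE le1) ∨ x ∈ Set.range (T.homOfLE le2) := by
      intro x
      have hx : x.1 ∈ W i ⊔ ⨆ j ∈ F, W j := hV' ▸ x.2
      rcases hx with hx | hx
      · exact Or.inl ⟨⟨x.1, hx⟩, Subtype.ext (Scheme.homOfLE_apply _ _)⟩
      · exact Or.inr ⟨⟨x.1, hx⟩, Subtype.ext (Scheme.homOfLE_apply _ _)⟩
    have hd : DiscreteTopology V.toScheme := inferInstanceAs (DiscreteTopology ↥(V : Set T))
    obtain ⟨b1, b2⟩ := binary (V.ι ≫ c) (T.homOfLE le1) (T.homOfLE le2) hcov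
    refine ⟨b1, fun s => ?_⟩
    rw [Finset.sum_insert hi]
    refine (b2 s).trans (add_le_add ?_ ?_)
    · have e1 : T.homOfLE le1 ≫ V.ι ≫ c = (W i).ι ≫ c := by
        rw [← Category.assoc, Scheme.homOfLE_ι]
      rw [e1]; exact (h i).2 s
    · have e2 : T.homOfLE le2 ≫ V.ι ≫ c = (⨆ j ∈ F, W j).ι ≫ c := by
        rw [← Category.assoc, Scheme.homOfLE_ι]
      rw [e2]; exact ih2 s

/-- **Main scheme-level lemma**: a scheme over a field covered by finitely many open subschemes,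
each finite over the field of rank at most `n i`, is finite of rank at most `∑ n i`. -/
theorem main {T : Scheme.{u}} (c : T ⟶ Spec (CommRingCat.of K))
    {ι : Type*} [Fintype ι] (Wi : ι → Scheme.{u}) (w : ∀ i, Wi i ⟶ T) [∀ i, IsOpenImmersion (w i)]
    (n : ι → ℕ) (hcov : ∀ t : T, ∃ i, t ∈ Set.range (w i))
    (h : ∀ i, IsFinite (w i ≫ c) ∧ ∀ s, (w i ≫ c).finrank s ≤ n i) :
    IsFinite c ∧ ∀ s, c.finrank s ≤ ∑ i, n i := by
  classical
  have h' : ∀ i, IsFinite ((w i).opensRange.ι ≫ c) ∧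
      ∀ s, ((w i).opensRange.ι ≫ c).finrank s ≤ n i := by
    intro i
    obtain ⟨h1, h2⟩ := h i
    have e : (w i).opensRange.ι ≫ c = (w i).isoOpensRange.inv ≫ (w i ≫ c) := by
      rw [← Category.assoc, Scheme.Hom.isoOpensRange_inv_comp]
    have hfl : Flat (w i ≫ c) := by
      have : IsAffine (Wi i) := isAffine_of_isAffineHom (w i ≫ c)
      exact Groth.Agent.Lib.Helper51.flat_of_isAffine_to_spec_field _
    refine ⟨by rw [e]; infer_instance, fun s => ?_⟩
    rw [e, Scheme.Hom.finrank_comp_left_of_isIso]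
    exact h2 s
  have hd : DiscreteTopology T := by
    rw [discreteTopology_iff_isOpen_singleton]
    intro t
    obtain ⟨i, hi⟩ := hcov t
    have hti : t ∈ (w i).opensRange := hi
    have := (h' i).1
    have hdi : DiscreteTopology ↥((w i).opensRange).toScheme :=
      discreteTopology_of_isFinite ((w i).opensRange.ι ≫ c)
    have ho := (w i).opensRange.ι.isOpenEmbedding.isOpenMap _
      (isOpen_discrete ({⟨t, hti⟩} : Set ↥((w i).opensRange).toScheme))
    have hs : (⇑((w i).opensRange.ι) '' {⟨t, hti⟩} : Set T) = {t} := Set.image_singleton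
    rw [hs] at ho
    exact ho
  obtain ⟨r1, r2⟩ := finset_opens c (fun i => (w i).opensRange) n h' Finset.univ ⊤ (by
    symm
    rw [eq_top_iff]
    intro t _
    obtain ⟨i, hi⟩ := hcov t
    exact TopologicalSpace.Opens.mem_iSup.mpr ⟨i, TopologicalSpace.Opens.mem_iSup.mpr ⟨Finset.mem_univ i, hi⟩⟩)
  have e : c = (Scheme.topIso T).inv ≫ ((⊤ : T.Opens).ι ≫ c) := by
    rw [← Category.assoc]
    simp
  have hfl : Flat ((⊤ : T.Opens).ι ≫ c) := by
    have : IsAffine (⊤ : T.Opens).toScheme := isAffine_of_isAffineHom ((⊤ : T.Opens).ι ≫ c)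
    exact Groth.Agent.Lib.Helper51.flat_of_isAffine_to_spec_field _
  refine ⟨by rw [e]; infer_instance, fun s => ?_⟩
  rw [e, Scheme.Hom.finrank_comp_left_of_isIso]
  exact r2 s

end Groth.Agent.Lib.Helper53.FinCoverField
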