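import Mathlib.CategoryTheory.Limits.Constructions.FiniteProductsOfBinaryProducts
import Mathlib.CategoryTheory.Limits.Constructions.Over.Products
import Mathlib.CategoryTheory.Limits.Shapes.WidePullbacks

/-!
# Induction over finite products / finite wide pullbacks.  By helper53.
A property of objects closed under isomorphisms and binary products holds for every nonempty finite
product of objects having it; transferred to wide pullbacks through products in the over category.
-/

set_option autoImplicit false
open CategoryTheory CategoryTheory.Limits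

namespace Groth.Agent.Helper53.FinProdInd

universe v u
variable {D : Type u} [Category.{v} D]

theorem prop_of_isLimit_fan [HasFiniteProducts D] (Q : D → Prop)
    (hiso : ∀ {A B : D}, (A ≅ B) → Q A → Q B)
    (hbin : ∀ {A B : D} (c : BinaryFan A B), IsLimit c → Q A → Q B → Q c.pt) :
    ∀ (n : ℕ) (f : Fin (n + 1) → D), (∀ k, Q (f k)) → ∀ (c : Fan f), IsLimit c → Q c.pt := by
  intro n
  induction n with
  | zero =>
    intro f hf c hc
    have : Unique (Fin (0 + 1)) := inferInstanceAs (Unique (Fin 1))
    have e := hc.conePointUniqueUpToIso (limitConeOfUnique f).isLimit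
    exact hiso e.symm (hf _)
  | succ n ih =>
    intro f hf c hc
    let c₁ : Fan (fun i : Fin (n + 1) => f i.succ) := limit.cone _
    have h₁ : IsLimit c₁ := limit.isLimit _
    have q₁ : Q c₁.pt := ih (fun i => f i.succ) (fun i => hf _) c₁ h₁
    let c₂ : BinaryFan (f 0) c₁.pt := limit.cone (pair (f 0) c₁.pt)
    have h₂ : IsLimit c₂ := limit.isLimit _
    have q₂ : Q c₂.pt := hbin c₂ h₂ (hf 0) q₁
    have h₃ : IsLimit (extendFan c₁ c₂) := extendFanIsLimit f h₁ h₂
    have e : c.pt ≅ (extendFan c₁ c₂).pt := hc.conePointUniqueUpToIso h₃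
    exact hiso e.symm q₂

variable {C : Type u} [Category.{v} C]

theorem prop_widePullback_base [HasFiniteWidePullbacks C] {B : C} (Q : Over B → Prop)
    (hiso : ∀ {Y Z : Over B}, (Y ≅ Z) → Q Y → Q Z)
    (hbin : ∀ {Y Z : Over B} {P : C} (fst : P ⟶ Y.left) (snd : P ⟶ Z.left),
      IsPullback fst snd Y.hom Z.hom → Q Y → Q Z → Q (Over.mk (fst ≫ Y.hom)))
    (n : ℕ) (objs : Fin (n + 1) → C) (arrows : ∀ k, objs k ⟶ B)
    (h : ∀ k, Q (Over.mk (arrows k))) :
    Q (Over.mk (WidePullback.base arrows)) := by
  have : HasFiniteProducts (Over B) :=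
    Over.ConstructProducts.over_finiteProducts_of_finiteWidePullbacks
  let F : Discrete (Fin (n + 1)) ⥤ Over B := Discrete.functor (fun k => Over.mk (arrows k))
  let c₀ : Cone (Over.ConstructProducts.widePullbackDiagramOfDiagramOver B F) :=
    limit.cone (WidePullbackShape.wideCospan B objs arrows)
  have hc₀ : IsLimit c₀ := limit.isLimit _
  let e := Over.ConstructProducts.conesEquiv B F
  have hc₁ : IsLimit (e.functor.obj c₀) := (IsLimit.ofConeEquiv e).symm hc₀
  have hbin' : ∀ {A A' : Over B} (c : BinaryFan A A'), IsLimit c → Q A → Q A' → Q c.pt := by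
    intro A A' c hc hA hA'
    have sq := Over.isPullback_of_binaryFan_isLimit c hc
    have := hbin _ _ sq hA hA'
    have e : Over.mk (c.fst.left ≫ A.hom) ≅ c.pt := Over.isoMk (Iso.refl _)
      (by simpa using (Over.w c.fst).symm)
    exact hiso e this
  exact prop_of_isLimit_fan Q hiso hbin' n (fun k => Over.mk (arrows k)) h (e.functor.obj c₀) hc₁

end Groth.Agent.Helper53.FinProdInd
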