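import Groth.Agent.Lib.Helper53.FinProdInd
import Groth.Agent.Lib.Helper78.AlgSpMisc
import Groth.Agent.Lib.Helper78.AlgSpLocPFlat
import Groth.Agent.Lib.Helper78.AlgSpLocPLofp
import Groth.Agent.Lib.Helper78.AlgSpLocP3
import Groth.Agent.Lib.Helper51.AlgSpPoints
import Groth.Agent.Lib.Helper30.AlgSpDesc
import Groth.Prelude.Def_AlgSpCov

/-!
# Induction principle for fppf-local properties on an algebraic space.  By helper53.
A property of sheaves over an algebraic space `X` which holds for `U` as soon as it holds for all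
iterated fibre products of an fppf covering of `U`, and which holds for affine schemes flat and lfp
over `X`, holds for `X`.  Stages: affine -> semi-separated schemes -> schemes -> algebraic spaces.
-/

set_option autoImplicit false
set_option linter.style.haveILetI false
universe u
open CategoryTheory CategoryTheory.Limits AlgebraicGeometry Opposite

namespace Groth.Agent.Helper53.FppfInduct

open AlgSp
open Groth.Agent.Lib.Helper51 Groth.Agent.Lib.Helper52 Groth.Agent.Lib.Helper30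
open Groth.Agent.Lib.Helper78.AlgSpLocP Groth.Agent.Lib.Helper78.AlgSpFibre
open Groth.Agent.Lib.Helper78.AlgSpLocPFlat Groth.Agent.Lib.Helper78.AlgSpLocPLofp
open Groth.Agent.Lib.Helper78.AlgSpMisc

variable {S : Scheme.{u}}

/-- flat and locally of finite presentation, etale locally on source and target -/
def FL {F G : Sp S} (f : F ⟶ G) : Prop :=
  LocP @Flat f ∧ LocP @LocallyOfFinitePresentation f

/-- an etale atlas -/
abbrev HasAtlas (Y : Sp S) : Prop :=
  ∃ (V : Over S) (b : (yon S).obj V ⟶ Y), RepWith @Etale b ∧ RepWith @Surjective b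

theorem FL_comp {X Y Z : Sp S} (f : X ⟶ Y) (g : Y ⟶ Z) (hY : HasAtlas Y) (hf : FL f)
    (hg : FL g) : FL (f ≫ g) :=
  ⟨locP_comp etLocalST_flat f g hY hf.1 hg.1, locP_comp etLocalST_lofp f g hY hf.2 hg.2⟩

theorem FL_of_repWith_etale {X Y : Sp S} (f : X ⟶ Y) (hY : HasAtlas Y)
    (hf : RepWith @Etale f) : FL f := by
  constructor
  · refine locP_of_repWith etLocalST_flat f hY (MorphismProperty.relative_monotone ?_ _ hf)
    intro A B k hk
    have : Etale k.left := hk
    show Flat k.left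
    infer_instance
  · refine locP_of_repWith etLocalST_lofp f hY (MorphismProperty.relative_monotone ?_ _ hf)
    intro A B k hk
    have : Etale k.left := hk
    show LocallyOfFinitePresentation k.left
    infer_instance

section Main

variable (X : AlgSp.Space S) (P : ∀ ⦃U : AlgSp.Sp S⦄, (U ⟶ X.obj) → Prop)

/-- the locality hypothesis -/
def HP : Prop :=
  ∀ ⦃U : AlgSp.Sp S⦄ (a : U ⟶ X.obj), AlgSp.IsAlgSpace U →
    ∀ ⦃ι : Type u⦄ (Ui : ι → AlgSp.Sp S) (g : ∀ i, Ui i ⟶ U), (∀ i, AlgSp.IsAlgSpace (Ui i)) →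
    AlgSp.IsFppfCover Ui g →
    (∀ (n : ℕ) (c : Fin (n + 1) → ι),
      P (WidePullback.base (fun k : Fin (n + 1) => g (c k)) ≫ a)) → P a

variable {X P}

theorem stage_algSpace (hP : HP X P)
    (prev : ∀ (T' : Over S) ⦃U : Sp S⦄ (_ : U ≅ (yon S).obj T') (a : U ⟶ X.obj), FL a → P a)
    ⦃U : Sp S⦄ (hU : IsAlgSpace U) (a : U ⟶ X.obj) (ha : FL a) : P a := by
  obtain ⟨W, p, hpe, hps⟩ := hU.atlas
  refine hP a hU (ι := PUnit.{u + 1}) (fun _ => (yon S).obj W) (fun _ => p)
    (fun _ => IsAlgSpace.yon_obj W) ⟨fun _ => FL_of_repWith_etale p hU.atlas hpe, fun x => ?_⟩ ?_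
  · obtain ⟨y, rfl⟩ := surjective_map_of_repWith_surjective hps x
    exact ⟨PUnit.unit, y, rfl⟩
  intro n c
  let Q : Over U → Prop := fun Y =>
    (∃ (T' : Over S), Nonempty (Y.left ≅ (yon S).obj T')) ∧ RepWith @Etale Y.hom
  have hQ : Q (Over.mk (WidePullback.base (fun k : Fin (n + 1) => (fun _ : PUnit.{u + 1} => p) (c k)))) := by
    refine Groth.Agent.Helper53.FinProdInd.prop_widePullback_base (C := Sp S) (B := U) Q ?_ ?_ n
      (fun _ => (yon S).obj W) (fun _ => p) (fun _ => ⟨⟨W, ⟨Iso.refl _⟩⟩, hpe⟩)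
    · rintro Y Z φ ⟨⟨T', ⟨e'⟩⟩, hY⟩
      refine ⟨⟨T', ⟨(Over.forget U).mapIso φ.symm ≪≫ e'⟩⟩, ?_⟩
      have : Z.hom = φ.inv.left ≫ Y.hom := (Over.w φ.inv).symm
      rw [this]
      exact MorphismProperty.RespectsIso.precomp _ ((Over.forget U).mapIso φ.symm).hom _ hY
    · rintro Y Z P₀ fst snd sq ⟨⟨T', ⟨e'⟩⟩, hY⟩ ⟨⟨T'', ⟨e''⟩⟩, hZ⟩
      have : (RepWith (S := S) @Etale).IsStableUnderBaseChange :=
        repWith_isStableUnderBaseChange _
      have hfst : RepWith @Etale fst := MorphismProperty.of_isPullback sq.flip hZ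
      refine ⟨?_, (repWith_isMultiplicative (S := S) @Etale).comp_mem _ _ hfst hY⟩
      have sq' : IsPullback fst (snd ≫ e''.hom) Y.hom (e''.inv ≫ Z.hom) :=
        IsPullback.of_iso sq (Iso.refl _) (Iso.refl _) e'' (Iso.refl _) (by simp) (by simp)
          (by simp) (by simp)
      have sqr := hY.1.isPullback (e''.inv ≫ Z.hom)
      exact ⟨_, ⟨sq'.isoIsPullback _ _ sqr⟩⟩
  obtain ⟨⟨T', ⟨e'⟩⟩, hb⟩ := hQ
  exact prev T' e' _ (FL_comp _ a hU.atlas (FL_of_repWith_etale _ hU.atlas hb) ha)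

theorem stage_scheme (hP : HP X P) (𝒮' : Scheme.{u} → Prop)
    (prev : ∀ (T' : Over S), 𝒮' T'.left → ∀ ⦃U : Sp S⦄ (_ : U ≅ (yon S).obj T') (a : U ⟶ X.obj),
      FL a → P a)
    (T : Over S) (haffS : ∀ (T' : Scheme.{u}), IsAffine T' → 𝒮' T')
    (hpb : ∀ (T' T'' V₀ : Over S) (j' : T' ⟶ T) (j'' : T'' ⟶ T) (p1 : V₀ ⟶ T') (p2 : V₀ ⟶ T''),
        IsOpenImmersion j'.left → IsOpenImmersion j''.left → 𝒮' T'.left → 𝒮' T''.left →
        IsPullback p1.left p2.left j'.left j''.left → 𝒮' V₀.left)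
    ⦃U : Sp S⦄ (e : U ≅ (yon S).obj T) (a : U ⟶ X.obj) (ha : FL a) : P a := by
  have hU : IsAlgSpace U := (IsAlgSpace.yon_obj T).of_iso e.symm
  have hoiE : ∀ {A B : Over S} (k : A ⟶ B), IsOpenImmersion k.left →
      RepWith @Etale ((yon S).map k) := fun k hk =>
    (repWith_yon_map_iff _ _).2 (by
      have : IsOpenImmersion k.left := hk
      show Etale k.left
      infer_instance)
  let Ui : T.left.affineOpens → Sp S := fun i => (yon S).obj (Over.mk (i.1.ι ≫ T.hom))
  let jj : ∀ i : T.left.affineOpens, Over.mk (i.1.ι ≫ T.hom) ⟶ T := fun i => Over.homMk i.1.ι rfl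
  let g : ∀ i, Ui i ⟶ U := fun i => (yon S).map (jj i) ≫ e.inv
  have hjj : ∀ i, IsOpenImmersion (jj i).left := fun i => by
    show IsOpenImmersion i.1.ι
    infer_instance
  have hg : ∀ i, RepWith @Etale (g i) := fun i =>
    MorphismProperty.RespectsIso.postcomp _ e.inv _ (hoiE _ (hjj i))
  refine hP a hU Ui g (fun i => IsAlgSpace.yon_obj _)
    ⟨fun i => FL_of_repWith_etale _ hU.atlas (hg i), fun x => ?_⟩ ?_
  · obtain ⟨t, ht⟩ := (Points.schemeEquiv T).surjective (Points.map e.hom x)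
    obtain ⟨W, hW, htW, -⟩ := exists_isAffineOpen_mem_and_subset (X := T.left) (x := t)
      (U := ⊤) trivial
    refine ⟨⟨W, hW⟩, Points.ofScheme _ ⟨t, htW⟩, ?_⟩
    have h1 : Points.map ((yon S).map (jj ⟨W, hW⟩)) (Points.ofScheme _ ⟨t, htW⟩) =
        Points.ofScheme T t := Points.map_yon_map_apply (jj ⟨W, hW⟩) ⟨t, htW⟩
    have h2 : Points.ofScheme T t = Points.map e.hom x := ht
    show Points.map ((yon S).map (jj ⟨W, hW⟩) ≫ e.inv) _ = x
    rw [Points.map_comp, h1, h2, ← Points.map_comp, e.hom_inv_id]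
    exact Points.map_id _
  intro n c
  let Q : Over U → Prop := fun Y =>
    ∃ (T' : Over S) (e' : Y.left ≅ (yon S).obj T') (j' : T' ⟶ T), 𝒮' T'.left ∧
      IsOpenImmersion j'.left ∧ e'.hom ≫ (yon S).map j' = Y.hom ≫ e.hom
  have hQ : Q (Over.mk (WidePullback.base (fun k : Fin (n + 1) => g (c k)))) := by
    refine Groth.Agent.Helper53.FinProdInd.prop_widePullback_base (C := Sp S) (B := U) Q ?_ ?_ n
      (fun k => Ui (c k)) (fun k => g (c k)) (fun k => ?_)
    · rintro Y Z φ ⟨T', e', j', hS, hj, heq⟩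
      obtain ⟨eZY, heZY⟩ : ∃ e₁ : Z.left ≅ Y.left, e₁.hom = φ.inv.left :=
        ⟨{ hom := φ.inv.left
           inv := φ.hom.left
           hom_inv_id := by rw [← Over.comp_left, Iso.inv_hom_id, Over.id_left]
           inv_hom_id := by rw [← Over.comp_left, Iso.hom_inv_id, Over.id_left] }, rfl⟩
      refine ⟨T', eZY ≪≫ e', j', hS, hj, ?_⟩
      have : φ.inv.left ≫ Y.hom = Z.hom := Over.w φ.inv
      rw [Iso.trans_hom, Category.assoc, heq, heZY, ← Category.assoc, this]
    · rintro Y Z P₀ fst snd sq ⟨T', e', j', hS', hj', heq'⟩ ⟨T'', e'', j'', hS'', hj'', heq''⟩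
      obtain ⟨V₀, p1, p2, sqV, sqVl⟩ := isPullback_over' j' j''
      have sq' : IsPullback (fst ≫ e'.hom) (snd ≫ e''.hom) ((yon S).map j') ((yon S).map j'') :=
        IsPullback.of_iso sq (Iso.refl _) e' e'' e (by simp) (by simp) heq'.symm heq''.symm
      have sqy := sqV.map (yon S)
      let e₀ : P₀ ≅ (yon S).obj V₀ := sq'.isoIsPullback _ _ sqy
      have he₀ : e₀.hom ≫ (yon S).map p1 = fst ≫ e'.hom := sq'.isoIsPullback_hom_fst _ _ sqy
      have hp1 : IsOpenImmersion p1.left := MorphismProperty.of_isPullback sqVl.flip hj''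
      refine ⟨V₀, e₀, p1 ≫ j', hpb T' T'' V₀ j' j'' p1 p2 hj' hj'' hS' hS'' sqVl, ?_, ?_⟩
      · rw [Over.comp_left]; infer_instance
      · rw [Functor.map_comp, ← Category.assoc, he₀, Category.assoc, heq']
        simp
    · refine ⟨_, Iso.refl _, jj (c k), haffS _ (c k).2, hjj _, ?_⟩
      simp [g]
  obtain ⟨T', e', j', hS, hj, heq⟩ := hQ
  have hbase : RepWith @Etale (WidePullback.base (fun k : Fin (n + 1) => g (c k))) := by
    have h1 : WidePullback.base (fun k : Fin (n + 1) => g (c k)) =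
        e'.hom ≫ (yon S).map j' ≫ e.inv := by
      have := heq
      simp only [Over.mk_hom] at this
      rw [← Category.assoc, this, Category.assoc, e.hom_inv_id, Category.comp_id]
    rw [h1]
    exact MorphismProperty.RespectsIso.precomp _ e'.hom _
      (MorphismProperty.RespectsIso.postcomp _ e.inv _ (hoiE _ hj))
  exact prev T' hS e' _ (FL_comp _ a hU.atlas (FL_of_repWith_etale _ hU.atlas hbase) ha)

/-- semi-separated, in the form needed: intersections of affine opens are affine -/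
def SemiSep (T : Scheme.{u}) : Prop :=
  ∀ ⦃A B V : Scheme.{u}⦄ (f : A ⟶ T) (g : B ⟶ T) (p1 : V ⟶ A) (p2 : V ⟶ B), IsAffine A →
    IsAffine B → IsOpenImmersion f → IsOpenImmersion g → IsPullback p1 p2 f g → IsAffine V

theorem semiSep_of_isAffine (T : Scheme.{u}) (hT : IsAffine T) : SemiSep T := by
  intro A B V f g p1 p2 hA hB _ _ sq
  have : IsAffine (pullback f g) := inferInstance
  exact IsAffine.of_isIso sq.isoPullback.hom

theorem semiSep_of_isOpenImmersion {T₁ T : Scheme.{u}} (j : T₁ ⟶ T) [IsOpenImmersion j]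
    (hT : SemiSep T) : SemiSep T₁ := by
  intro A B V f g p1 p2 hA hB hf hg sq
  have t : IsPullback f (𝟙 A) j (f ≫ j) := IsPullback.of_vert_isIso_mono ⟨by simp⟩
  have := (sq.flip.paste_vert t).flip
  rw [Category.comp_id] at this
  exact hT (f ≫ j) (g ≫ j) p1 p2 hA hB inferInstance inferInstance this

theorem main (hP : HP X P)
    (haff : ∀ ⦃U : AlgSp.Sp S⦄ (a : U ⟶ X.obj) (T : Over S) (_ : U ≅ (AlgSp.yon S).obj T),
      IsAffine T.left → AlgSp.LocP @Flat a → AlgSp.LocP @LocallyOfFinitePresentation a → P a) :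
    P (𝟙 X.obj) := by
  have claimA : ∀ (T' : Over S), IsAffine T'.left → ∀ ⦃U : Sp S⦄ (_ : U ≅ (yon S).obj T')
      (a : U ⟶ X.obj), FL a → P a := fun T' h U e a ha => haff a T' e h ha.1 ha.2
  have claimB : ∀ (T' : Over S), SemiSep T'.left → ∀ ⦃U : Sp S⦄ (_ : U ≅ (yon S).obj T')
      (a : U ⟶ X.obj), FL a → P a := by
    intro T hT
    exact stage_scheme hP (fun T' => IsAffine T') claimA T (fun _ h => h)
      (fun T' T'' V₀ j' j'' p1 p2 hj' hj'' h' h'' sq =>
        hT j'.left j''.left p1.left p2.left h' h'' hj' hj'' sq)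
  have claimC : ∀ (T' : Over S) ⦃U : Sp S⦄ (_ : U ≅ (yon S).obj T') (a : U ⟶ X.obj),
      FL a → P a := by
    intro T
    refine stage_scheme hP SemiSep claimB T semiSep_of_isAffine
      (fun T' T'' V₀ j' j'' p1 p2 hj' hj'' h' h'' sq => ?_)
    have : IsOpenImmersion p2.left := MorphismProperty.of_isPullback sq hj'
    exact semiSep_of_isOpenImmersion p2.left h''
  exact stage_algSpace hP claimC X.property (𝟙 _)
    (FL_of_repWith_etale _ X.property.atlas ((repWith_isMultiplicative (S := S) @Etale).id_mem _))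

end Main

end Groth.Agent.Helper53.FppfInduct
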