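import Mathlib.CategoryTheory.Monoidal.Braided.Basic
import Mathlib.CategoryTheory.Monoidal.NaturalTransformation
import Mathlib.CategoryTheory.Groupoid
import Mathlib.CategoryTheory.Equivalence
import Mathlib.CategoryTheory.Whiskering

/-!
# The free commutative Picard category on a symmetric monoidal groupoid (syntactic construction)

Objects: formal words built from objects of `A`, a formal unit, formal tensor products and formal
inverses. Morphisms: formal composites/tensors of structural morphisms, images of morphisms of `A`,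
the comparison maps `μ`, `ε` of the functor `A ⥤ W A` and evaluation maps `X ⊗ X⁻¹ ≅ 𝟙`, modulo the
relations of a symmetric monoidal category, of a braided (strong) monoidal functor, and invertibility.
-/

set_option autoImplicit false
universe v v' u u'

namespace Groth.Agent.Helper53.FreePic

open CategoryTheory MonoidalCategory

section
variable (A : Type u)

set_option genSizeOfSpec false in
set_option genInjectivity false in
/-- Formal objects of the free Picard category. -/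
inductive W : Type u
  | of : A → W
  | unit : W
  | tensor : W → W → W
  | inv : W → W

end

variable {A : Type u} [Category.{v} A] [MonoidalCategory A]

/-- Formal morphisms. -/
inductive Hom : W A → W A → Type (max u v)
  | id (X : W A) : Hom X X
  | α_hom (X Y Z : W A) : Hom ((X.tensor Y).tensor Z) (X.tensor (Y.tensor Z))
  | α_inv (X Y Z : W A) : Hom (X.tensor (Y.tensor Z)) ((X.tensor Y).tensor Z)
  | l_hom (X : W A) : Hom (W.unit.tensor X) X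
  | l_inv (X : W A) : Hom X (W.unit.tensor X)
  | ρ_hom (X : W A) : Hom (X.tensor W.unit) X
  | ρ_inv (X : W A) : Hom X (X.tensor W.unit)
  | comp {X Y Z : W A} (f : Hom X Y) (g : Hom Y Z) : Hom X Z
  | whiskerLeft (X : W A) {Y₁ Y₂ : W A} (f : Hom Y₁ Y₂) : Hom (X.tensor Y₁) (X.tensor Y₂)
  | whiskerRight {X₁ X₂ : W A} (f : Hom X₁ X₂) (Y : W A) : Hom (X₁.tensor Y) (X₂.tensor Y)
  | tensor {W₁ X Y Z : W A} (f : Hom W₁ Y) (g : Hom X Z) : Hom (W₁.tensor X) (Y.tensor Z)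
  | β (X Y : W A) : Hom (X.tensor Y) (Y.tensor X)
  | ofHom {a b : A} (f : a ⟶ b) : Hom (W.of a) (W.of b)
  | μ_hom (a b : A) : Hom ((W.of a).tensor (W.of b)) (W.of (a ⊗ b))
  | μ_inv (a b : A) : Hom (W.of (a ⊗ b)) ((W.of a).tensor (W.of b))
  | ε_hom : Hom W.unit (W.of (𝟙_ A))
  | ε_inv : Hom (W.of (𝟙_ A)) W.unit
  | η_hom (X : W A) : Hom (X.tensor X.inv) W.unit
  | η_inv (X : W A) : Hom W.unit (X.tensor X.inv)

local infixr:10 " ⟶ᵐ " => Hom

variable [SymmetricCategory A]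

/-- The relations. -/
inductive HomEquiv : ∀ {X Y : W A}, (X ⟶ᵐ Y) → (X ⟶ᵐ Y) → Prop
  | refl {X Y} (f : X ⟶ᵐ Y) : HomEquiv f f
  | symm {X Y} (f g : X ⟶ᵐ Y) : HomEquiv f g → HomEquiv g f
  | trans {X Y} {f g h : X ⟶ᵐ Y} : HomEquiv f g → HomEquiv g h → HomEquiv f h
  | comp {X Y Z} {f f' : X ⟶ᵐ Y} {g g' : Y ⟶ᵐ Z} :
      HomEquiv f f' → HomEquiv g g' → HomEquiv (f.comp g) (f'.comp g')
  | whiskerLeft (X) {Y Z} (f f' : Y ⟶ᵐ Z) :
      HomEquiv f f' → HomEquiv (f.whiskerLeft X) (f'.whiskerLeft X)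
  | whiskerRight {Y Z} (f f' : Y ⟶ᵐ Z) (X) :
      HomEquiv f f' → HomEquiv (f.whiskerRight X) (f'.whiskerRight X)
  | tensor {W₁ X Y Z} {f f' : W₁ ⟶ᵐ X} {g g' : Y ⟶ᵐ Z} :
      HomEquiv f f' → HomEquiv g g' → HomEquiv (f.tensor g) (f'.tensor g')
  | tensorHom_def {X₁ Y₁ X₂ Y₂} (f : X₁ ⟶ᵐ Y₁) (g : X₂ ⟶ᵐ Y₂) :
      HomEquiv (f.tensor g) ((f.whiskerRight X₂).comp (g.whiskerLeft Y₁))
  | comp_id {X Y} (f : X ⟶ᵐ Y) : HomEquiv (f.comp (Hom.id _)) f
  | id_comp {X Y} (f : X ⟶ᵐ Y) : HomEquiv ((Hom.id _).comp f) f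
  | assoc {X Y U V : W A} (f : X ⟶ᵐ U) (g : U ⟶ᵐ V) (h : V ⟶ᵐ Y) :
      HomEquiv ((f.comp g).comp h) (f.comp (g.comp h))
  | id_tensorHom_id {X Y} : HomEquiv ((Hom.id X).tensor (Hom.id Y)) (Hom.id _)
  | tensorHom_comp_tensorHom {X₁ Y₁ Z₁ X₂ Y₂ Z₂ : W A} (f₁ : X₁ ⟶ᵐ Y₁) (f₂ : X₂ ⟶ᵐ Y₂)
      (g₁ : Y₁ ⟶ᵐ Z₁) (g₂ : Y₂ ⟶ᵐ Z₂) :
    HomEquiv ((f₁.tensor f₂).comp (g₁.tensor g₂)) ((f₁.comp g₁).tensor (f₂.comp g₂))
  | whiskerLeft_id (X Y) : HomEquiv ((Hom.id Y).whiskerLeft X) (Hom.id (X.tensor Y))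
  | id_whiskerRight (X Y) : HomEquiv ((Hom.id X).whiskerRight Y) (Hom.id (X.tensor Y))
  | α_hom_inv {X Y Z} : HomEquiv ((Hom.α_hom X Y Z).comp (Hom.α_inv X Y Z)) (Hom.id _)
  | α_inv_hom {X Y Z} : HomEquiv ((Hom.α_inv X Y Z).comp (Hom.α_hom X Y Z)) (Hom.id _)
  | associator_naturality {X₁ X₂ X₃ Y₁ Y₂ Y₃} (f₁ : X₁ ⟶ᵐ Y₁) (f₂ : X₂ ⟶ᵐ Y₂) (f₃ : X₃ ⟶ᵐ Y₃) :
      HomEquiv (((f₁.tensor f₂).tensor f₃).comp (Hom.α_hom Y₁ Y₂ Y₃))
        ((Hom.α_hom X₁ X₂ X₃).comp (f₁.tensor (f₂.tensor f₃)))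
  | ρ_hom_inv {X} : HomEquiv ((Hom.ρ_hom X).comp (Hom.ρ_inv X)) (Hom.id _)
  | ρ_inv_hom {X} : HomEquiv ((Hom.ρ_inv X).comp (Hom.ρ_hom X)) (Hom.id _)
  | ρ_naturality {X Y} (f : X ⟶ᵐ Y) :
      HomEquiv ((f.whiskerRight W.unit).comp (Hom.ρ_hom Y)) ((Hom.ρ_hom X).comp f)
  | l_hom_inv {X} : HomEquiv ((Hom.l_hom X).comp (Hom.l_inv X)) (Hom.id _)
  | l_inv_hom {X} : HomEquiv ((Hom.l_inv X).comp (Hom.l_hom X)) (Hom.id _)
  | l_naturality {X Y} (f : X ⟶ᵐ Y) :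
      HomEquiv ((f.whiskerLeft W.unit).comp (Hom.l_hom Y)) ((Hom.l_hom X).comp f)
  | pentagon {W₁ X Y Z} :
      HomEquiv
        (((Hom.α_hom W₁ X Y).whiskerRight Z).comp
          ((Hom.α_hom W₁ (X.tensor Y) Z).comp ((Hom.α_hom X Y Z).whiskerLeft W₁)))
        ((Hom.α_hom (W₁.tensor X) Y Z).comp (Hom.α_hom W₁ X (Y.tensor Z)))
  | triangle {X Y} :
      HomEquiv ((Hom.α_hom X W.unit Y).comp ((Hom.l_hom Y).whiskerLeft X))
        ((Hom.ρ_hom X).whiskerRight Y)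
  -- braiding
  | β_β (X Y) : HomEquiv ((Hom.β X Y).comp (Hom.β Y X)) (Hom.id _)
  | β_naturality_right (X) {Y Z} (f : Y ⟶ᵐ Z) :
      HomEquiv ((f.whiskerLeft X).comp (Hom.β X Z)) ((Hom.β X Y).comp (f.whiskerRight X))
  | β_naturality_left {X Y} (f : X ⟶ᵐ Y) (Z) :
      HomEquiv ((f.whiskerRight Z).comp (Hom.β Y Z)) ((Hom.β X Z).comp (f.whiskerLeft Z))
  | hexagon_forward (X Y Z) :
      HomEquiv ((Hom.α_hom X Y Z).comp ((Hom.β X (Y.tensor Z)).comp (Hom.α_hom Y Z X)))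
        (((Hom.β X Y).whiskerRight Z).comp ((Hom.α_hom Y X Z).comp ((Hom.β X Z).whiskerLeft Y)))
  | hexagon_reverse (X Y Z) :
      HomEquiv ((Hom.α_inv X Y Z).comp ((Hom.β (X.tensor Y) Z).comp (Hom.α_inv Z X Y)))
        (((Hom.β Y Z).whiskerLeft X).comp ((Hom.α_inv X Z Y).comp ((Hom.β X Z).whiskerRight Y)))
  -- the functor `of`
  | of_id (a : A) : HomEquiv (Hom.ofHom (𝟙 a)) (Hom.id _)
  | of_comp {a b c : A} (f : a ⟶ b) (g : b ⟶ c) :
      HomEquiv (Hom.ofHom (f ≫ g)) ((Hom.ofHom f).comp (Hom.ofHom g))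
  | μ_hom_inv (a b : A) : HomEquiv ((Hom.μ_hom a b).comp (Hom.μ_inv a b)) (Hom.id _)
  | μ_inv_hom (a b : A) : HomEquiv ((Hom.μ_inv a b).comp (Hom.μ_hom a b)) (Hom.id _)
  | ε_hom_inv : HomEquiv ((Hom.ε_hom (A := A)).comp Hom.ε_inv) (Hom.id _)
  | ε_inv_hom : HomEquiv ((Hom.ε_inv (A := A)).comp Hom.ε_hom) (Hom.id _)
  | η_hom_inv (X) : HomEquiv ((Hom.η_hom X).comp (Hom.η_inv X)) (Hom.id _)
  | η_inv_hom (X) : HomEquiv ((Hom.η_inv X).comp (Hom.η_hom X)) (Hom.id _)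
  | μ_natural_left {a b : A} (f : a ⟶ b) (c : A) :
      HomEquiv (((Hom.ofHom f).whiskerRight (W.of c)).comp (Hom.μ_hom b c))
        ((Hom.μ_hom a c).comp (Hom.ofHom (f ▷ c)))
  | μ_natural_right {a b : A} (c : A) (f : a ⟶ b) :
      HomEquiv (((Hom.ofHom f).whiskerLeft (W.of c)).comp (Hom.μ_hom c b))
        ((Hom.μ_hom c a).comp (Hom.ofHom (c ◁ f)))
  | μ_assoc (a b c : A) :
      HomEquiv (((Hom.μ_hom a b).whiskerRight (W.of c)).comp
          ((Hom.μ_hom (a ⊗ b) c).comp (Hom.ofHom (α_ a b c).hom)))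
        ((Hom.α_hom (W.of a) (W.of b) (W.of c)).comp
          (((Hom.μ_hom b c).whiskerLeft (W.of a)).comp (Hom.μ_hom a (b ⊗ c))))
  | μ_left_unit (a : A) :
      HomEquiv (Hom.l_hom (W.of a))
        ((Hom.ε_hom.whiskerRight (W.of a)).comp
          ((Hom.μ_hom (𝟙_ A) a).comp (Hom.ofHom (λ_ a).hom)))
  | μ_right_unit (a : A) :
      HomEquiv (Hom.ρ_hom (W.of a))
        ((Hom.ε_hom.whiskerLeft (W.of a)).comp
          ((Hom.μ_hom a (𝟙_ A)).comp (Hom.ofHom (ρ_ a).hom)))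
  | μ_braided (a b : A) :
      HomEquiv ((Hom.μ_hom a b).comp (Hom.ofHom (β_ a b).hom))
        ((Hom.β (W.of a) (W.of b)).comp (Hom.μ_hom b a))

instance setoidHom (X Y : W A) : Setoid (X ⟶ᵐ Y) :=
  ⟨HomEquiv, ⟨HomEquiv.refl, HomEquiv.symm _ _, HomEquiv.trans⟩⟩

open HomEquiv

instance category : Category.{max u v} (W A) where
  Hom X Y := Quotient (setoidHom X Y)
  id X := ⟦Hom.id X⟧
  comp := Quotient.map₂ Hom.comp (fun _ _ hf _ _ hg ↦ HomEquiv.comp hf hg)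
  id_comp := by
    rintro X Y ⟨f⟩
    exact Quotient.sound (id_comp f)
  comp_id := by
    rintro X Y ⟨f⟩
    exact Quotient.sound (comp_id f)
  assoc := by
    rintro W X Y Z ⟨f⟩ ⟨g⟩ ⟨h⟩
    exact Quotient.sound (assoc f g h)

instance monoidal : MonoidalCategory (W A) where
  tensorObj X Y := W.tensor X Y
  tensorHom := Quotient.map₂ Hom.tensor (fun _ _ hf _ _ hg ↦ HomEquiv.tensor hf hg)
  whiskerLeft X _ _ f := Quot.map (fun f ↦ Hom.whiskerLeft X f) (fun f f' ↦ .whiskerLeft X f f') f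
  whiskerRight f Y := Quot.map (fun f ↦ Hom.whiskerRight f Y) (fun f f' ↦ .whiskerRight f f' Y) f
  tensorHom_def {W X Y Z} := by
    rintro ⟨f⟩ ⟨g⟩
    exact Quotient.sound (tensorHom_def _ _)
  id_tensorHom_id _ _ := Quot.sound id_tensorHom_id
  tensorHom_comp_tensorHom {X₁ Y₁ Z₁ X₂ Y₂ Z₂} := by
    rintro ⟨f₁⟩ ⟨f₂⟩ ⟨g₁⟩ ⟨g₂⟩
    exact Quotient.sound (tensorHom_comp_tensorHom _ _ _ _)
  whiskerLeft_id X Y := Quot.sound (HomEquiv.whiskerLeft_id X Y)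
  id_whiskerRight X Y := Quot.sound (HomEquiv.id_whiskerRight X Y)
  tensorUnit := W.unit
  associator X Y Z :=
    ⟨⟦Hom.α_hom X Y Z⟧, ⟦Hom.α_inv X Y Z⟧, Quotient.sound α_hom_inv, Quotient.sound α_inv_hom⟩
  associator_naturality {X₁ X₂ X₃ Y₁ Y₂ Y₃} := by
    rintro ⟨f₁⟩ ⟨f₂⟩ ⟨f₃⟩
    exact Quotient.sound (associator_naturality _ _ _)
  leftUnitor X := ⟨⟦Hom.l_hom X⟧, ⟦Hom.l_inv X⟧, Quotient.sound l_hom_inv, Quotient.sound l_inv_hom⟩
  leftUnitor_naturality {X Y} := by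
    rintro ⟨f⟩
    exact Quotient.sound (l_naturality _)
  rightUnitor X :=
    ⟨⟦Hom.ρ_hom X⟧, ⟦Hom.ρ_inv X⟧, Quotient.sound ρ_hom_inv, Quotient.sound ρ_inv_hom⟩
  rightUnitor_naturality {X Y} := by
    rintro ⟨f⟩
    exact Quotient.sound (ρ_naturality _)
  pentagon _ _ _ _ := Quotient.sound pentagon
  triangle _ _ := Quotient.sound triangle

/-- The abbreviation for `⟦f⟧`. -/
abbrev homMk {X Y : W A} (f : X ⟶ᵐ Y) : X ⟶ Y := ⟦f⟧

instance symmetric : SymmetricCategory (W A) where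
  braiding X Y := ⟨homMk (Hom.β X Y), homMk (Hom.β Y X), Quotient.sound (β_β X Y),
    Quotient.sound (β_β Y X)⟩
  braiding_naturality_right X {Y Z} := by
    rintro ⟨f⟩
    exact Quotient.sound (β_naturality_right X f)
  braiding_naturality_left {X Y} := by
    rintro ⟨f⟩ Z
    exact Quotient.sound (β_naturality_left f Z)
  hexagon_forward X Y Z := Quotient.sound (hexagon_forward X Y Z)
  hexagon_reverse X Y Z := Quotient.sound (hexagon_reverse X Y Z)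
  symmetry X Y := Quotient.sound (β_β X Y)

@[simp]
theorem mk_comp {X Y Z : W A} (f : X ⟶ᵐ Y) (g : Y ⟶ᵐ Z) :
    ⟦f.comp g⟧ = @CategoryStruct.comp (W A) _ _ _ _ ⟦f⟧ ⟦g⟧ :=
  rfl

@[simp]
theorem mk_tensor {X₁ Y₁ X₂ Y₂ : W A} (f : X₁ ⟶ᵐ Y₁) (g : X₂ ⟶ᵐ Y₂) :
    ⟦f.tensor g⟧ = @MonoidalCategory.tensorHom (W A) _ _ _ _ _ _ ⟦f⟧ ⟦g⟧ :=
  rfl

@[simp]
theorem mk_whiskerLeft (X : W A) {Y₁ Y₂ : W A} (f : Y₁ ⟶ᵐ Y₂) :
    ⟦f.whiskerLeft X⟧ = MonoidalCategory.whiskerLeft (C := W A) (X := X) (f := ⟦f⟧) :=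
  rfl

@[simp]
theorem mk_whiskerRight {X₁ X₂ : W A} (f : X₁ ⟶ᵐ X₂) (Y : W A) :
    ⟦f.whiskerRight Y⟧ = MonoidalCategory.whiskerRight (C := W A) (f := ⟦f⟧) (Y := Y) :=
  rfl

@[simp]
theorem mk_id {X : W A} : ⟦Hom.id X⟧ = 𝟙 X :=
  rfl

@[simp]
theorem mk_α_hom {X Y Z : W A} : ⟦Hom.α_hom X Y Z⟧ = (α_ X Y Z).hom :=
  rfl

@[simp]
theorem mk_α_inv {X Y Z : W A} : ⟦Hom.α_inv X Y Z⟧ = (α_ X Y Z).inv :=
  rfl

@[simp]
theorem mk_ρ_hom {X : W A} : ⟦Hom.ρ_hom X⟧ = (ρ_ X).hom :=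
  rfl

@[simp]
theorem mk_ρ_inv {X : W A} : ⟦Hom.ρ_inv X⟧ = (ρ_ X).inv :=
  rfl

@[simp]
theorem mk_l_hom {X : W A} : ⟦Hom.l_hom X⟧ = (λ_ X).hom :=
  rfl

@[simp]
theorem mk_l_inv {X : W A} : ⟦Hom.l_inv X⟧ = (λ_ X).inv :=
  rfl

@[simp]
theorem mk_β {X Y : W A} : ⟦Hom.β X Y⟧ = (β_ X Y).hom :=
  rfl

@[simp]
theorem tensor_eq_tensor {X Y : W A} : X.tensor Y = X ⊗ Y :=
  rfl

@[simp]
theorem unit_eq_unit : (W.unit : W A) = 𝟙_ (W A) :=
  rfl

/-- The evaluation isomorphism `X ⊗ X⁻¹ ≅ 𝟙`. -/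
def ηIso (X : W A) : X ⊗ X.inv ≅ 𝟙_ (W A) :=
  ⟨homMk (Hom.η_hom X), homMk (Hom.η_inv X), Quotient.sound (η_hom_inv X),
    Quotient.sound (η_inv_hom X)⟩

/-- The tensorator isomorphism. -/
def μIso (a b : A) : (W.of a : W A) ⊗ W.of b ≅ W.of (a ⊗ b) :=
  ⟨homMk (Hom.μ_hom a b), homMk (Hom.μ_inv a b), Quotient.sound (μ_hom_inv a b),
    Quotient.sound (μ_inv_hom a b)⟩

/-- The unit comparison isomorphism. -/
def εIso : 𝟙_ (W A) ≅ W.of (𝟙_ A) :=
  ⟨homMk Hom.ε_hom, homMk Hom.ε_inv, Quotient.sound ε_hom_inv, Quotient.sound ε_inv_hom⟩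

/-- The canonical functor `A ⥤ W A`. -/
def ι : A ⥤ W A where
  obj := W.of
  map f := homMk (Hom.ofHom f)
  map_id a := Quotient.sound (of_id a)
  map_comp f g := Quotient.sound (of_comp f g)

@[simp] lemma ι_obj (a : A) : (ι (A := A)).obj a = W.of a := rfl

instance ιLaxBraided : (ι (A := A)).LaxBraided where
  ε := (εIso (A := A)).hom
  μ a b := (μIso a b).hom
  μ_natural_left f c := Quotient.sound (μ_natural_left f c)
  μ_natural_right c f := Quotient.sound (μ_natural_right c f)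
  associativity a b c := Quotient.sound (μ_assoc a b c)
  left_unitality a := Quotient.sound (μ_left_unit a)
  right_unitality a := Quotient.sound (μ_right_unit a)
  braided a b := Quotient.sound (μ_braided a b)

@[simp] lemma ι_ε : Functor.LaxMonoidal.ε (ι (A := A)) = (εIso (A := A)).hom := rfl
@[simp] lemma ι_μ (a b : A) : Functor.LaxMonoidal.μ (ι (A := A)) a b = (μIso a b).hom := rfl

/-- Induction principle for morphisms of `W A`: a class of morphisms containing the generators and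
closed under composition, whiskering and inverses is everything. -/
theorem Hom.inductionOn {motive : {X Y : W A} → (X ⟶ Y) → Prop} {X Y : W A} (t : X ⟶ Y)
    (id : (X : W A) → motive (𝟙 X))
    (α_hom : (X Y Z : W A) → motive (α_ X Y Z).hom)
    (l_hom : (X : W A) → motive (λ_ X).hom)
    (ρ_hom : (X : W A) → motive (ρ_ X).hom)
    (β_hom : (X Y : W A) → motive (β_ X Y).hom)
    (ofHom : {a b : A} → (f : a ⟶ b) → motive (ι.map f))
    (μ_hom : (a b : A) → motive (μIso a b).hom)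
    (ε_hom : motive (εIso (A := A)).hom)
    (η_hom : (X : W A) → motive (ηIso X).hom)
    (inv : {X Y : W A} → (e : X ≅ Y) → motive e.hom → motive e.inv)
    (comp : {X Y Z : W A} → (f : X ⟶ Y) → (g : Y ⟶ Z) → motive f → motive g → motive (f ≫ g))
    (whiskerLeft : (X : W A) → {Y Z : W A} → (f : Y ⟶ Z) → motive f → motive (X ◁ f))
    (whiskerRight : {X Y : W A} → (f : X ⟶ Y) → (Z : W A) → motive f → motive (f ▷ Z)) :
    motive t := by
  induction t using Quotient.inductionOn with | _ f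
  induction f with
  | id X => exact id X
  | α_hom X Y Z => exact α_hom X Y Z
  | α_inv X Y Z => exact inv (α_ X Y Z) (α_hom X Y Z)
  | l_hom X => exact l_hom X
  | l_inv X => exact inv (λ_ X) (l_hom X)
  | ρ_hom X => exact ρ_hom X
  | ρ_inv X => exact inv (ρ_ X) (ρ_hom X)
  | comp f g hf hg => exact comp _ _ hf hg
  | whiskerLeft X f hf => exact whiskerLeft X _ hf
  | whiskerRight f X hf => exact whiskerRight _ X hf
  | @tensor W₁ X Y Z f g hf hg =>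
      have : homMk f ⊗ₘ homMk g = homMk f ▷ X ≫ Y ◁ homMk g :=
        Quotient.sound (HomEquiv.tensorHom_def f g)
      change motive (homMk f ⊗ₘ homMk g)
      rw [this]
      exact comp _ _ (whiskerRight _ _ hf) (whiskerLeft _ _ hg)
  | β X Y => exact β_hom X Y
  | ofHom f => exact ofHom f
  | μ_hom a b => exact μ_hom a b
  | μ_inv a b => exact inv (μIso a b) (μ_hom a b)
  | ε_hom => exact ε_hom
  | ε_inv => exact inv εIso ε_hom
  | η_hom X => exact η_hom X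
  | η_inv X => exact inv (ηIso X) (η_hom X)

instance isGroupoid [IsGroupoid A] : IsGroupoid (W A) where
  all_isIso {X Y} f := by
    induction f using Hom.inductionOn with
    | id X => infer_instance
    | α_hom X Y Z => infer_instance
    | l_hom X => infer_instance
    | ρ_hom X => infer_instance
    | β_hom X Y => infer_instance
    | ofHom f => infer_instance
    | μ_hom a b => infer_instance
    | ε_hom => infer_instance
    | η_hom X => infer_instance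
    | inv e _ => infer_instance
    | comp f g hf hg => infer_instance
    | whiskerLeft X f hf => infer_instance
    | whiskerRight f Z hf => infer_instance

section General

variable {C : Type u'} [Category.{v'} C] [MonoidalCategory C]

/-- If `X ⊗ Y ≅ 𝟙` and `Y ⊗ X ≅ 𝟙` then `X ⊗ -` is an equivalence. -/
lemma isEquivalence_tensorLeft_of_iso (X Y : C) (e₁ : X ⊗ Y ≅ 𝟙_ C) (e₂ : Y ⊗ X ≅ 𝟙_ C) :
    (tensorLeft X).IsEquivalence :=
  (CategoryTheory.Equivalence.mk (tensorLeft X) (tensorLeft Y)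
    ((leftUnitorNatIso C).symm ≪≫ (tensoringLeft C).mapIso e₂.symm ≪≫ tensorLeftTensor Y X)
    ((tensorLeftTensor X Y).symm ≪≫ (tensoringLeft C).mapIso e₁ ≪≫
      leftUnitorNatIso C)).isEquivalence_functor

/-- If `X ⊗ Y ≅ 𝟙` and `Y ⊗ X ≅ 𝟙` then `- ⊗ X` is an equivalence. -/
lemma isEquivalence_tensorRight_of_iso (X Y : C) (e₁ : X ⊗ Y ≅ 𝟙_ C) (e₂ : Y ⊗ X ≅ 𝟙_ C) :
    (tensorRight X).IsEquivalence :=
  (CategoryTheory.Equivalence.mk (tensorRight X) (tensorRight Y)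
    ((rightUnitorNatIso C).symm ≪≫ (tensoringRight C).mapIso e₁.symm ≪≫ tensorRightTensor X Y)
    ((tensorRightTensor Y X).symm ≪≫ (tensoringRight C).mapIso e₂ ≪≫
      rightUnitorNatIso C)).isEquivalence_functor

end General

lemma isEquivalence_tensorLeft (X : W A) : (tensorLeft X).IsEquivalence :=
  isEquivalence_tensorLeft_of_iso X X.inv (ηIso X) ((β_ _ _) ≪≫ ηIso X)

lemma isEquivalence_tensorRight (X : W A) : (tensorRight X).IsEquivalence :=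
  isEquivalence_tensorRight_of_iso X X.inv (ηIso X) ((β_ _ _) ≪≫ ηIso X)

end Groth.Agent.Helper53.FreePic
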