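import Groth.Agent.Lib.Helper53.FreePicard

/-!
# Universal property of the free Picard category: existence of extensions
-/

set_option autoImplicit false
universe v v' u u'

namespace Groth.Agent.Helper53.FreePic

open CategoryTheory MonoidalCategory Functor.LaxMonoidal

variable {A : Type u} [Category.{v} A] [MonoidalCategory A] [SymmetricCategory A]
variable {P : Type u'} [Category.{v'} P] [MonoidalCategory P] [SymmetricCategory P] [IsGroupoid P]

section General

variable {C : Type u} [Category.{v} C] [MonoidalCategory C] (F : C ⥤ P) [F.LaxMonoidal]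

/-- The tensorator of a lax monoidal functor to a groupoid, as an isomorphism. -/
noncomputable def μI (a b : C) : F.obj a ⊗ F.obj b ≅ F.obj (a ⊗ b) := asIso (μ F a b)

/-- The unit comparison of a lax monoidal functor to a groupoid, as an isomorphism. -/
noncomputable def εI : 𝟙_ P ≅ F.obj (𝟙_ C) := asIso (ε F)

@[simp] lemma μI_hom (a b : C) : (μI F a b).hom = μ F a b := rfl
@[simp] lemma εI_hom : (εI F).hom = ε F := rfl

end General

variable (hP : ∀ X : P, (tensorLeft X).IsEquivalence) (Φ : A ⥤ P) [Φ.LaxBraided]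


/-- A chosen inverse of an object. -/
noncomputable def invObj (p : P) : P :=
  haveI := hP p
  (tensorLeft p).objPreimage (𝟙_ P)

/-- The chosen isomorphism `p ⊗ p⁻¹ ≅ 𝟙`. -/
noncomputable def invIso (p : P) : p ⊗ invObj hP p ≅ 𝟙_ P :=
  haveI := hP p
  (tensorLeft p).objObjPreimageIso (𝟙_ P)

/-- The extension on objects. -/
noncomputable def liftObj : W A → P
  | W.of a => Φ.obj a
  | W.unit => 𝟙_ P
  | W.tensor X Y => liftObj X ⊗ liftObj Y
  | W.inv X => invObj hP (liftObj X)

/-- The extension on formal morphisms. -/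
noncomputable def liftMapAux : ∀ {X Y : W A}, (Hom X Y) → (liftObj hP Φ X ⟶ liftObj hP Φ Y)
  | _, _, Hom.id _ => 𝟙 _
  | _, _, Hom.α_hom _ _ _ => (α_ _ _ _).hom
  | _, _, Hom.α_inv _ _ _ => (α_ _ _ _).inv
  | _, _, Hom.l_hom _ => (λ_ _).hom
  | _, _, Hom.l_inv _ => (λ_ _).inv
  | _, _, Hom.ρ_hom _ => (ρ_ _).hom
  | _, _, Hom.ρ_inv _ => (ρ_ _).inv
  | _, _, Hom.comp f g => liftMapAux f ≫ liftMapAux g
  | _, _, Hom.whiskerLeft X p => liftObj hP Φ X ◁ liftMapAux p
  | _, _, Hom.whiskerRight p X => liftMapAux p ▷ liftObj hP Φ X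
  | _, _, Hom.tensor f g => liftMapAux f ⊗ₘ liftMapAux g
  | _, _, Hom.β _ _ => (β_ _ _).hom
  | _, _, Hom.ofHom f => Φ.map f
  | _, _, Hom.μ_hom a b => μ Φ a b
  | _, _, Hom.μ_inv a b => (μI Φ a b).inv
  | _, _, Hom.ε_hom => ε Φ
  | _, _, Hom.ε_inv => (εI Φ).inv
  | _, _, Hom.η_hom X => (invIso hP (liftObj hP Φ X)).hom
  | _, _, Hom.η_inv X => (invIso hP (liftObj hP Φ X)).inv

set_option backward.isDefEq.respectTransparency false in
lemma liftMapAux_sound {X Y : W A} {f g : Hom X Y} (h : HomEquiv f g) :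
    liftMapAux hP Φ f = liftMapAux hP Φ g := by
  induction h with
  | refl => rfl
  | symm _ _ _ hfg' => exact hfg'.symm
  | trans _ _ hfg hgh => exact hfg.trans hgh
  | comp _ _ hf hg => dsimp only [liftMapAux]; rw [hf, hg]
  | whiskerLeft _ _ _ _ hf => dsimp only [liftMapAux, liftObj]; rw [hf]
  | whiskerRight _ _ _ _ hf => dsimp only [liftMapAux, liftObj]; rw [hf]
  | tensor _ _ hfg hfg' => dsimp only [liftMapAux]; rw [hfg, hfg']
  | tensorHom_def _ _ =>
      dsimp only [liftMapAux, liftObj]; rw [MonoidalCategory.tensorHom_def]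
  | comp_id => dsimp only [liftMapAux]; rw [Category.comp_id]
  | id_comp => dsimp only [liftMapAux]; rw [Category.id_comp]
  | assoc => dsimp only [liftMapAux]; rw [Category.assoc]
  | id_tensorHom_id => dsimp only [liftMapAux]; rw [MonoidalCategory.id_tensorHom_id]; rfl
  | tensorHom_comp_tensorHom =>
      dsimp only [liftMapAux]; rw [MonoidalCategory.tensorHom_comp_tensorHom]
  | whiskerLeft_id =>
      dsimp only [liftMapAux, liftObj]
      rw [MonoidalCategory.whiskerLeft_id]
  | id_whiskerRight =>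
      dsimp only [liftMapAux, liftObj]
      rw [MonoidalCategory.id_whiskerRight]
  | α_hom_inv => dsimp only [liftMapAux]; rw [Iso.hom_inv_id]
  | α_inv_hom => dsimp only [liftMapAux]; rw [Iso.inv_hom_id]
  | associator_naturality =>
      dsimp only [liftMapAux]; rw [MonoidalCategory.associator_naturality]
  | ρ_hom_inv => dsimp only [liftMapAux]; rw [Iso.hom_inv_id]
  | ρ_inv_hom => dsimp only [liftMapAux]; rw [Iso.inv_hom_id]
  | ρ_naturality =>
      dsimp only [liftMapAux, liftObj]
      rw [MonoidalCategory.rightUnitor_naturality]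
  | l_hom_inv => dsimp only [liftMapAux]; rw [Iso.hom_inv_id]
  | l_inv_hom => dsimp only [liftMapAux]; rw [Iso.inv_hom_id]
  | l_naturality =>
      dsimp only [liftMapAux, liftObj]
      rw [MonoidalCategory.leftUnitor_naturality]
  | pentagon =>
      dsimp only [liftMapAux, liftObj]
      rw [MonoidalCategory.pentagon]
  | triangle =>
      dsimp only [liftMapAux, liftObj]
      rw [MonoidalCategory.triangle]
  | β_β => dsimp only [liftMapAux, liftObj]; rw [SymmetricCategory.symmetry]
  | β_naturality_right =>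
      dsimp only [liftMapAux, liftObj]; rw [BraidedCategory.braiding_naturality_right]
  | β_naturality_left =>
      dsimp only [liftMapAux, liftObj]; rw [BraidedCategory.braiding_naturality_left]
  | hexagon_forward =>
      dsimp only [liftMapAux, liftObj]; rw [BraidedCategory.hexagon_forward]
  | hexagon_reverse =>
      dsimp only [liftMapAux, liftObj]; rw [BraidedCategory.hexagon_reverse]
  | of_id => dsimp only [liftMapAux, liftObj]; rw [CategoryTheory.Functor.map_id]
  | of_comp => dsimp only [liftMapAux, liftObj]; rw [CategoryTheory.Functor.map_comp]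
  | μ_hom_inv => dsimp only [liftMapAux, liftObj]; exact (μI Φ _ _).hom_inv_id
  | μ_inv_hom => dsimp only [liftMapAux, liftObj]; exact (μI Φ _ _).inv_hom_id
  | ε_hom_inv => dsimp only [liftMapAux, liftObj]; exact (εI Φ).hom_inv_id
  | ε_inv_hom => dsimp only [liftMapAux, liftObj]; exact (εI Φ).inv_hom_id
  | η_hom_inv => dsimp only [liftMapAux, liftObj]; rw [Iso.hom_inv_id]
  | η_inv_hom => dsimp only [liftMapAux, liftObj]; rw [Iso.inv_hom_id]
  | μ_natural_left => dsimp only [liftMapAux, liftObj]; rw [μ_natural_left]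
  | μ_natural_right => dsimp only [liftMapAux, liftObj]; rw [μ_natural_right]
  | μ_assoc => dsimp only [liftMapAux, liftObj]; rw [associativity]
  | μ_left_unit => dsimp only [liftMapAux, liftObj]; rw [left_unitality]
  | μ_right_unit => dsimp only [liftMapAux, liftObj]; rw [right_unitality]
  | μ_braided => dsimp only [liftMapAux, liftObj]; rw [Functor.LaxBraided.braided]

/-- The extension `W A ⥤ P` of `Φ`. -/
noncomputable def lift : W A ⥤ P where
  obj := liftObj hP Φ
  map {X Y} := Quotient.lift (liftMapAux hP Φ) (fun _ _ h => liftMapAux_sound hP Φ h)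
  map_id _ := rfl
  map_comp := by rintro _ _ _ ⟨_⟩ ⟨_⟩; rfl

@[simp] lemma lift_map_mk {X Y : W A} (f : Hom X Y) :
    (lift hP Φ).map (homMk f) = liftMapAux hP Φ f := rfl

set_option backward.isDefEq.respectTransparency false in
noncomputable instance liftMonoidal : (lift hP Φ).Monoidal :=
  Functor.CoreMonoidal.toMonoidal
    { εIso := Iso.refl _
      μIso := fun _ _ ↦ Iso.refl _
      μIso_hom_natural_left := fun f _ => by
        induction f using Quotient.inductionOn
        dsimp
        erw [Category.comp_id, Category.id_comp]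
        rfl
      μIso_hom_natural_right := fun _ f => by
        induction f using Quotient.inductionOn
        dsimp
        erw [Category.comp_id, Category.id_comp]
        rfl
      associativity := fun X Y Z => by
        change 𝟙 (liftObj hP Φ X ⊗ liftObj hP Φ Y) ▷ liftObj hP Φ Z ≫
          𝟙 ((liftObj hP Φ X ⊗ liftObj hP Φ Y) ⊗ liftObj hP Φ Z) ≫ (α_ _ _ _).hom =
          (α_ _ _ _).hom ≫ liftObj hP Φ X ◁ 𝟙 (liftObj hP Φ Y ⊗ liftObj hP Φ Z) ≫ 𝟙 _
        simp
      left_unitality := fun X => by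
        change (λ_ (liftObj hP Φ X)).hom = 𝟙 (𝟙_ P) ▷ liftObj hP Φ X ≫
          𝟙 (𝟙_ P ⊗ liftObj hP Φ X) ≫ (λ_ _).hom
        simp
      right_unitality := fun X => by
        change (ρ_ (liftObj hP Φ X)).hom = liftObj hP Φ X ◁ 𝟙 (𝟙_ P) ≫
          𝟙 (liftObj hP Φ X ⊗ 𝟙_ P) ≫ (ρ_ _).hom
        simp }

@[simp] lemma lift_ε : ε (lift hP Φ) = 𝟙 _ := rfl
@[simp] lemma lift_μ (X Y : W A) : μ (lift hP Φ) X Y = 𝟙 _ := rfl

noncomputable instance liftBraided : (lift hP Φ).Braided where
  braided X Y := by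
    change 𝟙 (liftObj hP Φ X ⊗ liftObj hP Φ Y) ≫ (β_ _ _).hom = (β_ _ _).hom ≫ 𝟙 _
    simp

/-- The extension restricts to `Φ`. -/
noncomputable def liftIso : ι ⋙ lift hP Φ ≅ Φ :=
  NatIso.ofComponents (fun a => Iso.refl _) (fun {a b} f => by
    change Φ.map f ≫ 𝟙 _ = 𝟙 _ ≫ Φ.map f
    simp)

instance liftIso_isMonoidal : NatTrans.IsMonoidal (liftIso hP Φ).hom where
  unit := by
    change (𝟙 (𝟙_ P) ≫ ε Φ) ≫ 𝟙 _ = ε Φ
    simp
  tensor a b := by
    change (𝟙 (Φ.obj a ⊗ Φ.obj b) ≫ μ Φ a b) ≫ 𝟙 _ = (𝟙 (Φ.obj a) ⊗ₘ 𝟙 (Φ.obj b)) ≫ μ Φ a b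
    simp

end Groth.Agent.Helper53.FreePic
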