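import Groth.Agent.Lib.Helper53.FreePicardLift

/-!
# Universal property of the free Picard category: monoidal natural transformations
-/

set_option autoImplicit false
universe v v' u u'

namespace Groth.Agent.Helper53.FreePic

open CategoryTheory MonoidalCategory Functor.LaxMonoidal

variable {A : Type u} [Category.{v} A] [MonoidalCategory A] [SymmetricCategory A]
variable {P : Type u'} [Category.{v'} P] [MonoidalCategory P] [SymmetricCategory P] [IsGroupoid P]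
variable (hP : ∀ X : P, (tensorLeft X).IsEquivalence)
variable (Ψ Ψ' : W A ⥤ P) [Ψ.LaxBraided] [Ψ'.LaxBraided] (τ : ι ⋙ Ψ ⟶ ι ⋙ Ψ')

section General

variable {C : Type u} [Category.{v} C] [MonoidalCategory C] (F : C ⥤ P) [F.LaxMonoidal]

@[reassoc (attr := simp)]
lemma μI_inv_μ (a b : C) : (μI F a b).inv ≫ μ F a b = 𝟙 _ := (μI F a b).inv_hom_id

@[reassoc (attr := simp)]
lemma μ_μI_inv (a b : C) : μ F a b ≫ (μI F a b).inv = 𝟙 _ := (μI F a b).hom_inv_id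

@[reassoc (attr := simp)]
lemma εI_inv_ε : (εI F).inv ≫ ε F = 𝟙 _ := (εI F).inv_hom_id

@[reassoc (attr := simp)]
lemma ε_εI_inv : ε F ≫ (εI F).inv = 𝟙 _ := (εI F).hom_inv_id

end General

/-- The value on the unit forced by monoidality. -/
noncomputable def θU : Ψ.obj (𝟙_ (W A)) ⟶ Ψ'.obj (𝟙_ (W A)) := (εI Ψ).inv ≫ ε Ψ'

/-- The map `Ψ X ⊗ Ψ X⁻¹ ⟶ Ψ' X ⊗ Ψ' X⁻¹` forced by naturality with respect to evaluation. -/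
noncomputable def mInv (X : W A) : Ψ.obj X ⊗ Ψ.obj X.inv ⟶ Ψ'.obj X ⊗ Ψ'.obj X.inv :=
  μ Ψ X X.inv ≫ Ψ.map (ηIso X).hom ≫ θU Ψ Ψ' ≫ inv (Ψ'.map (ηIso X).hom) ≫ (μI Ψ' X X.inv).inv

/-- The extension of `τ` on objects. -/
noncomputable def θ : (X : W A) → (Ψ.obj X ⟶ Ψ'.obj X)
  | W.of a => τ.app a
  | W.unit => θU Ψ Ψ'
  | W.tensor X Y => (μI Ψ X Y).inv ≫ (θ X ⊗ₘ θ Y) ≫ μ Ψ' X Y
  | W.inv X =>
      haveI := hP (Ψ'.obj X)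
      (tensorLeft (Ψ'.obj X)).preimage (inv (θ X ▷ Ψ.obj X.inv) ≫ mInv Ψ Ψ' X)

lemma θ_of (a : A) : θ hP Ψ Ψ' τ (W.of a) = τ.app a := rfl

lemma θ_unit : θ hP Ψ Ψ' τ (𝟙_ (W A)) = θU Ψ Ψ' := rfl

lemma θ_tensor (X Y : W A) : θ hP Ψ Ψ' τ (X ⊗ Y) =
    (μI Ψ X Y).inv ≫ (θ hP Ψ Ψ' τ X ⊗ₘ θ hP Ψ Ψ' τ Y) ≫ μ Ψ' X Y := rfl

lemma whiskerLeft_θ_inv (X : W A) : Ψ'.obj X ◁ θ hP Ψ Ψ' τ X.inv =
    inv (θ hP Ψ Ψ' τ X ▷ Ψ.obj X.inv) ≫ mInv Ψ Ψ' X := by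
  have := hP (Ψ'.obj X)
  exact (tensorLeft (Ψ'.obj X)).map_preimage _

local notation "θ'" => θ hP Ψ Ψ' τ

@[reassoc]
lemma μ_θ (X Y : W A) : μ Ψ X Y ≫ θ' (X ⊗ Y) = (θ' X ⊗ₘ θ' Y) ≫ μ Ψ' X Y := by
  rw [θ_tensor]
  exact (μI Ψ X Y).hom_inv_id_assoc _

@[reassoc]
lemma ε_θ : ε Ψ ≫ θ' (𝟙_ (W A)) = ε Ψ' := by
  rw [θ_unit, θU]
  exact (εI Ψ).hom_inv_id_assoc _

lemma θ_tensorHom_inv (X : W A) : θ' X ⊗ₘ θ' X.inv = mInv Ψ Ψ' X := by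
  rw [tensorHom_def, whiskerLeft_θ_inv, IsIso.hom_inv_id_assoc]

/-- Naturality of `θ` with respect to a morphism. -/
def Nat {X Y : W A} (f : X ⟶ Y) : Prop := Ψ.map f ≫ θ' Y = θ' X ≫ Ψ'.map f

lemma nat_id (X : W A) : Nat hP Ψ Ψ' τ (𝟙 X) := by
  simp [Nat]

lemma nat_comp {X Y Z : W A} (f : X ⟶ Y) (g : Y ⟶ Z) (hf : Nat hP Ψ Ψ' τ f)
    (hg : Nat hP Ψ Ψ' τ g) : Nat hP Ψ Ψ' τ (f ≫ g) := by
  unfold Nat at *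
  rw [Functor.map_comp, Category.assoc, hg, reassoc_of% hf, Functor.map_comp]

lemma nat_inv {X Y : W A} (e : X ≅ Y) (he : Nat hP Ψ Ψ' τ e.hom) : Nat hP Ψ Ψ' τ e.inv := by
  unfold Nat at *
  rw [← cancel_epi (Ψ.map e.hom), ← Functor.map_comp_assoc, e.hom_inv_id, reassoc_of% he,
    ← Functor.map_comp, e.hom_inv_id]
  simp

lemma nat_tensorHom {X Y X₂ Y₂ : W A} (f : X ⟶ Y) (g : X₂ ⟶ Y₂) (hf : Nat hP Ψ Ψ' τ f)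
    (hg : Nat hP Ψ Ψ' τ g) : Nat hP Ψ Ψ' τ (f ⊗ₘ g) := by
  unfold Nat at *
  rw [← cancel_epi (μ Ψ X X₂)]
  calc μ Ψ X X₂ ≫ Ψ.map (f ⊗ₘ g) ≫ θ' (Y ⊗ Y₂)
      = (Ψ.map f ⊗ₘ Ψ.map g) ≫ μ Ψ Y Y₂ ≫ θ' (Y ⊗ Y₂) := by rw [μ_natural_assoc]
    _ = ((Ψ.map f ≫ θ' Y) ⊗ₘ (Ψ.map g ≫ θ' Y₂)) ≫ μ Ψ' Y Y₂ := by
        rw [μ_θ, tensorHom_comp_tensorHom_assoc]
    _ = (θ' X ⊗ₘ θ' X₂) ≫ (Ψ'.map f ⊗ₘ Ψ'.map g) ≫ μ Ψ' Y Y₂ := by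
        rw [hf, hg, tensorHom_comp_tensorHom_assoc]
    _ = μ Ψ X X₂ ≫ θ' (X ⊗ X₂) ≫ Ψ'.map (f ⊗ₘ g) := by
        rw [μ_natural, μ_θ_assoc]

lemma nat_whiskerLeft (Z : W A) {X Y : W A} (f : X ⟶ Y) (hf : Nat hP Ψ Ψ' τ f) :
    Nat hP Ψ Ψ' τ (Z ◁ f) := by
  rw [← id_tensorHom]
  exact nat_tensorHom hP Ψ Ψ' τ _ _ (nat_id hP Ψ Ψ' τ Z) hf

lemma nat_whiskerRight {X Y : W A} (f : X ⟶ Y) (Z : W A) (hf : Nat hP Ψ Ψ' τ f) :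
    Nat hP Ψ Ψ' τ (f ▷ Z) := by
  rw [← tensorHom_id]
  exact nat_tensorHom hP Ψ Ψ' τ _ _ hf (nat_id hP Ψ Ψ' τ Z)

@[reassoc]
lemma μ_whiskerRight_θ (X Y Z : W A) :
    μ Ψ X Y ▷ Ψ.obj Z ≫ (θ' (X ⊗ Y) ⊗ₘ θ' Z) =
      ((θ' X ⊗ₘ θ' Y) ⊗ₘ θ' Z) ≫ μ Ψ' X Y ▷ Ψ'.obj Z := by
  rw [← tensorHom_id, tensorHom_comp_tensorHom, μ_θ, Category.id_comp, ← tensorHom_id,
    tensorHom_comp_tensorHom, Category.comp_id]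

@[reassoc]
lemma μ_whiskerLeft_θ (X Y Z : W A) :
    Ψ.obj X ◁ μ Ψ Y Z ≫ (θ' X ⊗ₘ θ' (Y ⊗ Z)) =
      (θ' X ⊗ₘ (θ' Y ⊗ₘ θ' Z)) ≫ Ψ'.obj X ◁ μ Ψ' Y Z := by
  rw [← id_tensorHom, tensorHom_comp_tensorHom, μ_θ, Category.id_comp, ← id_tensorHom,
    tensorHom_comp_tensorHom, Category.comp_id]

lemma nat_associator (X Y Z : W A) : Nat hP Ψ Ψ' τ (α_ X Y Z).hom := by
  unfold Nat
  rw [← cancel_epi (μ Ψ (X ⊗ Y) Z), ← cancel_epi (μ Ψ X Y ▷ Ψ.obj Z)]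
  calc μ Ψ X Y ▷ Ψ.obj Z ≫ μ Ψ (X ⊗ Y) Z ≫ Ψ.map (α_ X Y Z).hom ≫ θ' (X ⊗ Y ⊗ Z)
      = (α_ _ _ _).hom ≫ Ψ.obj X ◁ μ Ψ Y Z ≫ μ Ψ X (Y ⊗ Z) ≫ θ' (X ⊗ Y ⊗ Z) := by
        rw [associativity_assoc]
    _ = (α_ _ _ _).hom ≫ (θ' X ⊗ₘ (θ' Y ⊗ₘ θ' Z)) ≫ Ψ'.obj X ◁ μ Ψ' Y Z ≫ μ Ψ' X (Y ⊗ Z) := by
        rw [μ_θ, μ_whiskerLeft_θ_assoc]
    _ = ((θ' X ⊗ₘ θ' Y) ⊗ₘ θ' Z) ≫ μ Ψ' X Y ▷ Ψ'.obj Z ≫ μ Ψ' (X ⊗ Y) Z ≫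
          Ψ'.map (α_ X Y Z).hom := by
        rw [associativity, associator_naturality_assoc]
    _ = μ Ψ X Y ▷ Ψ.obj Z ≫ μ Ψ (X ⊗ Y) Z ≫ θ' ((X ⊗ Y) ⊗ Z) ≫ Ψ'.map (α_ X Y Z).hom := by
        rw [μ_θ_assoc, μ_whiskerRight_θ_assoc]

lemma nat_leftUnitor (X : W A) : Nat hP Ψ Ψ' τ (λ_ X).hom := by
  unfold Nat
  rw [← cancel_epi (μ Ψ (𝟙_ _) X), ← cancel_epi (ε Ψ ▷ Ψ.obj X)]
  calc ε Ψ ▷ Ψ.obj X ≫ μ Ψ (𝟙_ _) X ≫ Ψ.map (λ_ X).hom ≫ θ' X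
      = (λ_ (Ψ.obj X)).hom ≫ θ' X := by rw [left_unitality, Category.assoc, Category.assoc]
    _ = (ε Ψ' ⊗ₘ θ' X) ≫ μ Ψ' (𝟙_ _) X ≫ Ψ'.map (λ_ X).hom := by
        rw [← leftUnitor_naturality, left_unitality, tensorHom_def', Category.assoc]
    _ = ε Ψ ▷ Ψ.obj X ≫ μ Ψ (𝟙_ _) X ≫ θ' (𝟙_ _ ⊗ X) ≫ Ψ'.map (λ_ X).hom := by
        rw [μ_θ_assoc, ← tensorHom_id, tensorHom_comp_tensorHom_assoc, ε_θ, Category.id_comp]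

lemma nat_rightUnitor (X : W A) : Nat hP Ψ Ψ' τ (ρ_ X).hom := by
  unfold Nat
  rw [← cancel_epi (μ Ψ X (𝟙_ _)), ← cancel_epi (Ψ.obj X ◁ ε Ψ)]
  calc Ψ.obj X ◁ ε Ψ ≫ μ Ψ X (𝟙_ _) ≫ Ψ.map (ρ_ X).hom ≫ θ' X
      = (ρ_ (Ψ.obj X)).hom ≫ θ' X := by rw [right_unitality, Category.assoc, Category.assoc]
    _ = (θ' X ⊗ₘ ε Ψ') ≫ μ Ψ' X (𝟙_ _) ≫ Ψ'.map (ρ_ X).hom := by
        rw [← rightUnitor_naturality, right_unitality, tensorHom_def, Category.assoc]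
    _ = Ψ.obj X ◁ ε Ψ ≫ μ Ψ X (𝟙_ _) ≫ θ' (X ⊗ 𝟙_ _) ≫ Ψ'.map (ρ_ X).hom := by
        rw [μ_θ_assoc, ← id_tensorHom, tensorHom_comp_tensorHom_assoc, ε_θ, Category.id_comp]

lemma nat_braiding (X Y : W A) : Nat hP Ψ Ψ' τ (β_ X Y).hom := by
  unfold Nat
  rw [← cancel_epi (μ Ψ X Y)]
  calc μ Ψ X Y ≫ Ψ.map (β_ X Y).hom ≫ θ' (Y ⊗ X)
      = (β_ _ _).hom ≫ μ Ψ Y X ≫ θ' (Y ⊗ X) := by
        rw [Functor.LaxBraided.braided_assoc]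
    _ = (θ' X ⊗ₘ θ' Y) ≫ (β_ _ _).hom ≫ μ Ψ' Y X := by
        rw [μ_θ, BraidedCategory.braiding_naturality_assoc]
    _ = μ Ψ X Y ≫ θ' (X ⊗ Y) ≫ Ψ'.map (β_ X Y).hom := by
        rw [μ_θ_assoc, Functor.LaxBraided.braided]

lemma nat_ofHom {a b : A} (f : a ⟶ b) : Nat hP Ψ Ψ' τ (ι.map f) :=
  τ.naturality f

lemma nat_η (X : W A) : Nat hP Ψ Ψ' τ (ηIso X).hom := by
  unfold Nat
  rw [θ_tensor, θ_tensorHom_inv, mInv, θ_unit]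
  simp

variable [NatTrans.IsMonoidal τ]

lemma nat_μ (a b : A) : Nat hP Ψ Ψ' τ (μIso a b).hom := by
  unfold Nat
  have h := NatTrans.IsMonoidal.tensor (τ := τ) a b
  rw [comp_μ, comp_μ] at h
  rw [← cancel_epi (μ Ψ (W.of a) (W.of b)), μ_θ_assoc]
  simp only [Category.assoc] at h
  exact h

lemma nat_ε : Nat hP Ψ Ψ' τ (εIso (A := A)).hom := by
  unfold Nat
  have h := NatTrans.IsMonoidal.unit (τ := τ)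
  rw [comp_ε, comp_ε] at h
  rw [← cancel_epi (ε Ψ), ε_θ_assoc]
  simp only [Category.assoc] at h
  exact h

lemma nat_all {X Y : W A} (f : X ⟶ Y) : Nat hP Ψ Ψ' τ f := by
  induction f using Hom.inductionOn with
  | id X => exact nat_id hP Ψ Ψ' τ X
  | α_hom X Y Z => exact nat_associator hP Ψ Ψ' τ X Y Z
  | l_hom X => exact nat_leftUnitor hP Ψ Ψ' τ X
  | ρ_hom X => exact nat_rightUnitor hP Ψ Ψ' τ X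
  | β_hom X Y => exact nat_braiding hP Ψ Ψ' τ X Y
  | ofHom f => exact nat_ofHom hP Ψ Ψ' τ f
  | μ_hom a b => exact nat_μ hP Ψ Ψ' τ a b
  | ε_hom => exact nat_ε hP Ψ Ψ' τ
  | η_hom X => exact nat_η hP Ψ Ψ' τ X
  | inv e he => exact nat_inv hP Ψ Ψ' τ e he
  | comp f g hf hg => exact nat_comp hP Ψ Ψ' τ f g hf hg
  | whiskerLeft X f hf => exact nat_whiskerLeft hP Ψ Ψ' τ X f hf
  | whiskerRight f Z hf => exact nat_whiskerRight hP Ψ Ψ' τ f Z hf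

/-- The monoidal natural transformation extending `τ`. -/
noncomputable def θNat : Ψ ⟶ Ψ' where
  app := θ hP Ψ Ψ' τ
  naturality _ _ f := nat_all hP Ψ Ψ' τ f

instance θNat_isMonoidal : NatTrans.IsMonoidal (θNat hP Ψ Ψ' τ) where
  unit := ε_θ hP Ψ Ψ' τ
  tensor X Y := μ_θ hP Ψ Ψ' τ X Y

lemma whiskerLeft_θNat : Functor.whiskerLeft ι (θNat hP Ψ Ψ' τ) = τ := by
  ext a
  rfl

lemma θNat_unique (φ : Ψ ⟶ Ψ') [NatTrans.IsMonoidal φ] (h : Functor.whiskerLeft ι φ = τ) :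
    φ = θNat hP Ψ Ψ' τ := by
  have hU : φ.app (𝟙_ (W A)) = θU Ψ Ψ' := by
    have := NatTrans.IsMonoidal.unit (τ := φ)
    rw [θU, ← this, εI_inv_ε_assoc]
  ext X
  change φ.app X = θ hP Ψ Ψ' τ X
  induction X with
  | of a => exact congr_app h a
  | unit => exact hU
  | tensor X Y ihX ihY =>
      change φ.app (X ⊗ Y) = θ hP Ψ Ψ' τ (X ⊗ Y)
      have := NatTrans.IsMonoidal.tensor (τ := φ) X Y
      rw [θ_tensor, ← ihX, ← ihY, ← this, μI_inv_μ_assoc]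
  | inv X ih =>
      have h1 : φ.app X ⊗ₘ φ.app X.inv = mInv Ψ Ψ' X := by
        have h2 := NatTrans.IsMonoidal.tensor (τ := φ) X X.inv
        have h3 := φ.naturality (ηIso X).hom
        rw [hU] at h3
        rw [mInv, reassoc_of% h3, IsIso.hom_inv_id_assoc, reassoc_of% h2, μ_μI_inv, Category.comp_id]
      rw [ih, ← θ_tensorHom_inv hP Ψ Ψ' τ X, tensorHom_def, tensorHom_def, cancel_epi] at h1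
      have := hP (Ψ'.obj X)
      exact (tensorLeft (Ψ'.obj X)).map_injective h1

end Groth.Agent.Helper53.FreePic
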