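import Groth.Agent.Lib.Helper53.GalQuot
import Mathlib.Topology.Algebra.Group.OpenMapping
import Mathlib.Topology.Baire.LocallyCompactRegular

/-!
# Exact sequences of fundamental groups: essential image and separation lemmas
-/

set_option autoImplicit false
set_option linter.unusedSectionVars false
universe u v w

namespace Groth.Agent.Helper53.Gal

open CategoryTheory PreGaloisCategory Limits

section

variable {C C' : Type u} [Category.{v} C] [Category.{v} C'] [GaloisCategory C] [GaloisCategory C']
  (H : C ⥤ C') (F' : C' ⥤ FintypeCat.{w}) [FiberFunctor F'] [FiberFunctor (H ⋙ F')]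

/-- stabilizers for the whiskered action are preimages -/
lemma stabilizer_whisker_eq_comap (X : C) (x : F'.obj (H.obj X)) :
    MulAction.stabilizer (Aut F') x =
      (MulAction.stabilizer (Aut (H ⋙ F')) (show (H ⋙ F').obj X from x)).comap
        (Pi1X.autWhisker H F') := by
  ext σ
  rfl

/-- Connected case of the essential image lemma. -/
lemma exists_iso_obj_of_ker_le_of_isConnected
    (hsurj : Function.Surjective (Pi1X.autWhisker H F')) (X' : C') [IsConnected X']
    (hker : ∀ σ : Aut F', Pi1X.autWhisker H F' σ = 1 → σ.hom.app X' = 𝟙 _) :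
    ∃ X : C, Nonempty (H.obj X ≅ X') := by
  obtain ⟨x'⟩ := nonempty_fiber_of_isConnected F' X'
  let h := Pi1X.autWhisker H F'
  have hcont : Continuous h := continuous_autWhisker H F'
  have hopen : IsOpenMap h := h.isOpenMap_of_sigmaCompact hsurj hcont
  let U' : Subgroup (Aut F') := MulAction.stabilizer (Aut F') x'
  have hkerU : h.ker ≤ U' := by
    intro σ hσ
    show σ.hom.app X' x' = x'
    rw [hker σ hσ]
    rfl
  have hVopen : IsOpen ((U'.map h : Subgroup _) : Set (Aut (H ⋙ F'))) := by
    rw [Subgroup.coe_map]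
    exact hopen _ (stabilizer_isOpen (Aut F') x')
  have hVnhds : ((U'.map h : Subgroup _) : Set (Aut (H ⋙ F'))) ∈ nhds (1 : Aut (H ⋙ F')) :=
    hVopen.mem_nhds (Subgroup.one_mem _)
  obtain ⟨A, -, hA⟩ := (nhds_one_has_basis_stabilizers (H ⋙ F')).mem_iff.mp hVnhds
  obtain ⟨X, x, hXconn, hstab⟩ := exists_connected_stabilizer_eq (H ⋙ F') A.pt (U'.map h) hA
  have hHX : IsConnected (H.obj X) :=
    Groth.Agent.Lib.Helper89.GalFunctor.isConnected_obj_of_autWhisker_surjective H F' hsurj X
  refine ⟨X, nonempty_iso_of_stabilizer_eq F' (show F'.obj (H.obj X) from x) x' ?_⟩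
  rw [stabilizer_whisker_eq_comap H F' X x]
  show (MulAction.stabilizer (Aut (H ⋙ F')) x).comap h = U'
  rw [hstab, Subgroup.comap_map_eq, sup_eq_left.mpr hkerU]

/-- injectivity on fibres for monomorphisms -/
lemma injective_map_of_mono {D : Type u} [Category.{v} D] [GaloisCategory D]
    (Φ : D ⥤ FintypeCat.{w}) [FiberFunctor Φ] {X Y : D} (f : X ⟶ Y) [Mono f] :
    Function.Injective (Φ.map f) := by
  have : Mono (Φ.map f) := inferInstance
  exact (ConcreteCategory.mono_iff_injective_of_preservesPullback _).mp this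

/-- Essential image lemma: if `h` is surjective and `ker h` acts trivially on the fibre of `X'`,
then `X'` is in the essential image of `H`. -/
theorem exists_iso_obj_of_ker_le [PreservesFiniteColimits H]
    (hsurj : Function.Surjective (Pi1X.autWhisker H F')) (X' : C')
    (hker : ∀ σ : Aut F', Pi1X.autWhisker H F' σ = 1 → σ.hom.app X' = 𝟙 _) :
    ∃ X : C, Nonempty (H.obj X ≅ X') := by
  obtain ⟨ι, f, g, hl, hc, hfin⟩ := has_decomp_connected_components X'
  have hmono : ∀ i, Mono (g i) := fun i => MonoCoprod.mono_inj f (Cofan.mk X' g) hl i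
  have hex : ∀ i, ∃ X : C, Nonempty (H.obj X ≅ f i) := by
    intro i
    have := hc i
    apply exists_iso_obj_of_ker_le_of_isConnected H F' hsurj (f i)
    intro σ hσ
    ext y
    apply injective_map_of_mono F' (g i)
    rw [← NatTrans.naturality_apply, hker σ hσ]
    rfl
  choose X hX using hex
  have e : ∀ i, H.obj (X i) ≅ f i := fun i => (hX i).some
  have := Fintype.ofFinite ι
  refine ⟨∐ X, ⟨PreservesCoproduct.iso H X ≪≫ Sigma.mapIso e ≪≫
    colimit.isoColimitCocone ⟨Cofan.mk X' g, hl⟩⟩⟩

end

section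

variable {D : Type u} [Category.{v} D] [GaloisCategory D] (Φ : D ⥤ FintypeCat.{w}) [FiberFunctor Φ]

/-- Separation: an element outside a closed normal subgroup `N` acts nontrivially on some object on
which `N` acts trivially. -/
theorem exists_obj_separating (N : Subgroup (Aut Φ)) [N.Normal] (hN : IsClosed (N : Set (Aut Φ)))
    (σ : Aut Φ) (hσ : σ ∉ N) :
    ∃ X : D, (∀ n ∈ N, n.hom.app X = 𝟙 _) ∧ σ.hom.app X ≠ 𝟙 _ := by
  let W : Set (Aut Φ) := {g | σ * g ∉ N}
  have hWopen : IsOpen W := by
    have : W = (fun g => σ * g) ⁻¹' (N : Set (Aut Φ))ᶜ := rfl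
    rw [this]
    exact hN.isOpen_compl.preimage (continuous_const.mul continuous_id)
  have hW : W ∈ nhds (1 : Aut Φ) := hWopen.mem_nhds (by show σ * 1 ∉ N; rwa [mul_one])
  obtain ⟨B, -, hB⟩ := (nhds_one_has_basis_stabilizers Φ).mem_iff.mp hW
  obtain ⟨X, x, hXconn, hstab⟩ := exists_connected_stabilizer_eq Φ B.pt
    (N ⊔ MulAction.stabilizer (Aut Φ) B.pt) le_sup_right
  refine ⟨X, ?_, ?_⟩
  · intro n hn
    ext y
    have htr : MulAction.IsPretransitive (Aut Φ) (Φ.obj X) :=
      FiberFunctor.isPretransitive_of_isConnected Φ X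
    obtain ⟨g, rfl⟩ := MulAction.exists_smul_eq (Aut Φ) x y
    show n • g • x = g • x
    have h1 : g⁻¹ * n * g ∈ MulAction.stabilizer (Aut Φ) x := by
      rw [hstab]
      exact Subgroup.mem_sup_left (Subgroup.Normal.conj_mem' inferInstance n hn g)
    have h2 : (g⁻¹ * n * g) • x = x := h1
    rw [mul_smul, mul_smul, inv_smul_eq_iff] at h2
    exact h2
  · intro hcon
    have h1 : σ ∈ MulAction.stabilizer (Aut Φ) x := by
      show σ.hom.app X x = x
      rw [hcon]
      rfl
    rw [hstab, Subgroup.mem_sup_of_normal_left] at h1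
    obtain ⟨n, hn, u, hu, hnu⟩ := h1
    have h2 : u⁻¹ ∈ W := hB (Subgroup.inv_mem _ hu)
    apply h2
    rw [← hnu, mul_inv_cancel_right]
    exact hn

end

end Groth.Agent.Helper53.Gal
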