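import Groth.Agent.Lib.Helper53.GalWhisker
import Groth.Agent.Lib.Helper89.GalFunctor
import Mathlib.CategoryTheory.Galois.GaloisObjects

/-!
# Quotients of Galois objects: connected objects with prescribed stabilizer

`exists_connected_stabilizer_eq`: if `(B, b)` is a pointed Galois object and `V ≤ Aut Φ` a subgroup
containing the stabilizer of `b`, there is a connected object `X` and `x ∈ Φ(X)` with stabilizer
exactly `V` (universe-general version of Mathlib's `exists_lift_of_quotient_openSubgroup`).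
-/

set_option autoImplicit false
universe u v w

namespace Groth.Agent.Helper53.Gal

open CategoryTheory PreGaloisCategory Limits

variable {D : Type u} [Category.{v} D] [GaloisCategory D] (Φ : D ⥤ FintypeCat.{w}) [FiberFunctor Φ]

/-- The fibres of the quotient map `B ⟶ B/Γ` on `Φ` are the `Γ`-orbits. -/
lemma exists_map_eq_of_ι_eq {Γ : Type*} [Group Γ] [Finite Γ] (J : SingleObj Γ ⥤ D)
    (s : Cocone J) (hs : IsColimit s) (c c' : Φ.obj (J.obj (SingleObj.star Γ)))
    (h : Φ.map (s.ι.app (SingleObj.star Γ)) c = Φ.map (s.ι.app (SingleObj.star Γ)) c') :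
    ∃ γ : (SingleObj.star Γ ⟶ SingleObj.star Γ), Φ.map (J.map γ) c = c' := by
  have hΦ := isColimitOfPreserves Φ hs
  let χ : Φ.obj (J.obj (SingleObj.star Γ)) → ULift.{w} Prop := fun c'' =>
    ⟨∃ γ : (SingleObj.star Γ ⟶ SingleObj.star Γ), Φ.map (J.map γ) c = c''⟩
  let t : Cocone (J ⋙ Φ) :=
    { pt := FintypeCat.of (ULift.{w} Prop)
      ι :=
        { app := fun _ => FintypeCat.homMk χ
          naturality := by
            intro _ _ γ₀
            ext c''
            show χ (Φ.map (J.map γ₀) c'') = χ c''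
            apply ULift.ext
            apply propext
            constructor
            · rintro ⟨γ, hγ⟩
              refine ⟨γ ≫ inv γ₀, ?_⟩
              rw [J.map_comp, Φ.map_comp, FintypeCat.comp_apply, hγ, ← FintypeCat.comp_apply,
                ← Φ.map_comp, ← J.map_comp, IsIso.hom_inv_id, J.map_id, Φ.map_id]
              rfl
            · rintro ⟨γ, hγ⟩
              refine ⟨γ ≫ γ₀, ?_⟩
              rw [J.map_comp, Φ.map_comp, FintypeCat.comp_apply, hγ] } }
  have h1 : ∀ c'', hΦ.desc t (Φ.map (s.ι.app (SingleObj.star Γ)) c'') = χ c'' := by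
    intro c''
    have := hΦ.fac t (SingleObj.star Γ)
    exact ConcreteCategory.congr_hom this c''
  have h2 : χ c' = χ c := by rw [← h1, ← h1, h]
  have h3 : (χ c).down := ⟨𝟙 _, by rw [J.map_id, Φ.map_id]; rfl⟩
  rw [← h2] at h3
  exact h3

/-- The subgroup of `Aut B` of automorphisms moving `b` inside its `V`-orbit. -/
def autSubgroup {B : D} (b : Φ.obj B) (V : Subgroup (Aut Φ)) : Subgroup (Aut B) where
  carrier := {γ | ∃ v ∈ V, Φ.map γ.hom b = v • b}
  one_mem' := ⟨1, V.one_mem, by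
    show Φ.map (𝟙 B) b = (1 : Aut Φ) • b
    rw [Φ.map_id, one_smul]; rfl⟩
  mul_mem' := by
    rintro γ₁ γ₂ ⟨v₁, hv₁, h₁⟩ ⟨v₂, hv₂, h₂⟩
    refine ⟨v₂ * v₁, V.mul_mem hv₂ hv₁, ?_⟩
    show Φ.map (γ₂.hom ≫ γ₁.hom) b = _
    rw [Φ.map_comp, FintypeCat.comp_apply, h₂, mul_smul, ← h₁]
    exact (mulAction_naturality Φ v₂ γ₁.hom b).symm
  inv_mem' := by
    rintro γ ⟨v, hv, h⟩
    refine ⟨v⁻¹, V.inv_mem hv, ?_⟩
    show Φ.map γ.inv b = _
    have : Φ.map γ.hom (v⁻¹ • b) = b := by
      rw [← mulAction_naturality, h, inv_smul_smul]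
    calc Φ.map γ.inv b = Φ.map γ.inv (Φ.map γ.hom (v⁻¹ • b)) := by rw [this]
      _ = Φ.map (γ.hom ≫ γ.inv) (v⁻¹ • b) := by rw [Φ.map_comp]; rfl
      _ = v⁻¹ • b := by rw [γ.hom_inv_id, Φ.map_id]; rfl

theorem exists_connected_stabilizer_eq {B : D} [IsGalois B] (b : Φ.obj B) (V : Subgroup (Aut Φ))
    (hV : MulAction.stabilizer (Aut Φ) b ≤ V) :
    ∃ (X : D) (x : Φ.obj X), IsConnected X ∧ MulAction.stabilizer (Aut Φ) x = V := by
  let Γ : Subgroup (Aut B) := autSubgroup Φ b V
  let J : SingleObj Γ ⥤ D := SingleObj.functor ((Aut.toEnd B).comp Γ.subtype)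
  let X : D := colimit J
  let p : B ⟶ X := colimit.ι J (SingleObj.star Γ)
  have hp : ∀ γ : Γ, (γ : Aut B).hom ≫ p = p := by
    intro γ
    exact colimit.w J (show SingleObj.star Γ ⟶ SingleObj.star Γ from γ)
  have hepi : Epi p := ⟨fun g g' hgg' => colimit.hom_ext (fun _ => hgg')⟩
  have hsurj : Function.Surjective (Φ.map p) := surjective_on_fiber_of_epi Φ p
  have htrB : MulAction.IsPretransitive (Aut Φ) (Φ.obj B) :=
    FiberFunctor.isPretransitive_of_isConnected Φ B
  have hne : Nonempty (Φ.obj X) := ⟨Φ.map p b⟩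
  have htr : MulAction.IsPretransitive (Aut Φ) (Φ.obj X) := by
    constructor
    intro y y'
    obtain ⟨c, rfl⟩ := hsurj y
    obtain ⟨c', rfl⟩ := hsurj y'
    obtain ⟨g, rfl⟩ := MulAction.exists_smul_eq (Aut Φ) c c'
    exact ⟨g, mulAction_naturality Φ g p c⟩
  refine ⟨X, Φ.map p b, Groth.Agent.Lib.Helper89.GalFunctor.isConnected_of_pretransitive Φ X, ?_⟩
  ext g
  rw [MulAction.mem_stabilizer_iff]
  constructor
  · intro hg
    rw [mulAction_naturality] at hg
    obtain ⟨γ, hγ⟩ := exists_map_eq_of_ι_eq Φ J (colimit.cocone J) (colimit.isColimit J) (g • b) b hg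
    let γ' : Γ := γ
    have hγ' : Φ.map (γ' : Aut B).hom (g • b) = b := hγ
    obtain ⟨v, hv, hvb⟩ := γ'.2
    rw [← mulAction_naturality, hvb, ← mul_smul] at hγ'
    have h1 : g * v ∈ V := hV hγ'
    have := V.mul_mem h1 (V.inv_mem hv)
    rwa [mul_inv_cancel_right] at this
  · intro hg
    obtain ⟨γ, hγ⟩ := evaluation_aut_surjective_of_isGalois Φ B b (g • b)
    have hγΓ : γ ∈ Γ := ⟨g, hg, hγ⟩
    rw [mulAction_naturality, ← hγ]
    have := hp ⟨γ, hγΓ⟩
    calc Φ.map p (Φ.map γ.hom b) = Φ.map (γ.hom ≫ p) b := by rw [Φ.map_comp]; rfl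
      _ = Φ.map p b := by rw [this]


/-- Connected objects with points having the same stabilizer are isomorphic. -/
lemma nonempty_iso_of_stabilizer_eq {Y X : D} [IsConnected Y] [IsConnected X] (y : Φ.obj Y)
    (x : Φ.obj X) (h : MulAction.stabilizer (Aut Φ) y = MulAction.stabilizer (Aut Φ) x) :
    Nonempty (Y ≅ X) := by
  obtain ⟨f, hf⟩ := exists_hom_of_stabilizer_le Φ y x (fun σ hσ => by
    have : σ ∈ MulAction.stabilizer (Aut Φ) y := hσ
    rw [h] at this
    exact this)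
  obtain ⟨g, hg⟩ := exists_hom_of_stabilizer_le Φ x y (fun σ hσ => by
    have : σ ∈ MulAction.stabilizer (Aut Φ) x := hσ
    rw [← h] at this
    exact this)
  refine ⟨⟨f, g, ?_, ?_⟩⟩
  · apply evaluation_injective_of_isConnected Φ Y Y y
    show Φ.map (f ≫ g) y = Φ.map (𝟙 Y) y
    rw [Φ.map_comp, FintypeCat.comp_apply, hf, hg, Φ.map_id]
    rfl
  · apply evaluation_injective_of_isConnected Φ X X x
    show Φ.map (g ≫ f) x = Φ.map (𝟙 X) x
    rw [Φ.map_comp, FintypeCat.comp_apply, hg, hf, Φ.map_id]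
    rfl

end Groth.Agent.Helper53.Gal
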