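import Groth.Agent.Lib.Helper53.GalTrans

/-!
# Open stabilizers for the Galois action on `Spec (A ⊗ K)`.  By helper53.
-/

set_option autoImplicit false
set_option linter.style.haveILetI false
universe u
open CategoryTheory CategoryTheory.Limits AlgebraicGeometry Opposite TensorProduct

namespace Groth.Agent.Helper53.GalStab

open AlgSp
open Groth.Agent.Helper53.GeomRedBC Groth.Agent.Helper53.AlgSpConn Groth.Agent.Helper53.GalTrans

variable {k : Type u} [Field k] (A : Type u) [CommRing A] [Algebra k A]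
  (K : Type u) [Field K] [Algebra k K]

/-- the action of `σ` on `A ⊗ K` through the second factor. -/
noncomputable def act (σ : K ≃ₐ[k] K) : A ⊗[k] K →ₐ[k] A ⊗[k] K :=
  Algebra.TensorProduct.map (AlgHom.id k A) (σ : K →ₐ[k] K)

theorem act_tmul (σ : K ≃ₐ[k] K) (a : A) (c : K) : act A K σ (a ⊗ₜ c) = a ⊗ₜ σ c := by
  simp [act]

theorem exists_open_subgroup_fixing [Algebra.IsIntegral k K] (t : A ⊗[k] K) :
    ∃ H : Subgroup (K ≃ₐ[k] K), IsOpen (H : Set (K ≃ₐ[k] K)) ∧ ∀ σ ∈ H, act A K σ t = t := by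
  induction t using TensorProduct.induction_on with
  | zero => exact ⟨⊤, isOpen_univ, fun σ _ => map_zero _⟩
  | tmul a c =>
    refine ⟨MulAction.stabilizer _ c, stabilizer_isOpen_of_isIntegral c, fun σ hσ => ?_⟩
    rw [act_tmul]
    congr 1
  | add x y hx hy =>
    obtain ⟨H1, h1, h1'⟩ := hx
    obtain ⟨H2, h2, h2'⟩ := hy
    exact ⟨H1 ⊓ H2, h1.inter h2, fun σ hσ => by rw [map_add, h1' σ hσ.1, h2' σ hσ.2]⟩

/-- `Spec A` over `Spec k`. -/
noncomputable abbrev spA : Over (Spec (CommRingCat.of k)) :=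
  Over.mk (Spec.map (CommRingCat.ofHom (algebraMap k A)))

/-- `(Spec A ×_k Spec K) ≅ Spec (A ⊗ K)`. -/
noncomputable def θ : (spA (k := k) A ⨯ spK (k := k) K).left ≅ Spec (CommRingCat.of (A ⊗[k] K)) :=
  Over.prodLeftIsoPullback (spA (k := k) A) (spK (k := k) K) ≪≫ pullbackSpecIso k A K

theorem θ_hom_fst : (θ A K).hom ≫
    Spec.map (CommRingCat.ofHom (Algebra.TensorProduct.includeLeftRingHom : A →+* A ⊗[k] K)) =
      (prod.fst : spA (k := k) A ⨯ spK (k := k) K ⟶ spA A).left := by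
  rw [θ, Iso.trans_hom, Category.assoc, pullbackSpecIso_hom_fst]
  exact Over.prodLeftIsoPullback_hom_fst _ _

theorem θ_hom_snd : (θ A K).hom ≫
    Spec.map (CommRingCat.ofHom (RingHomClass.toRingHom
      (Algebra.TensorProduct.includeRight : K →ₐ[k] A ⊗[k] K))) =
      (prod.snd : spA (k := k) A ⨯ spK (k := k) K ⟶ spK K).left := by
  rw [θ, Iso.trans_hom, Category.assoc, pullbackSpecIso_hom_snd]
  exact Over.prodLeftIsoPullback_hom_snd _ _

theorem spec_tensor_hom_ext {Y : Scheme.{u}} (f g : Y ⟶ Spec (CommRingCat.of (A ⊗[k] K)))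
    (h1 : f ≫ Spec.map (CommRingCat.ofHom
        (Algebra.TensorProduct.includeLeftRingHom : A →+* A ⊗[k] K)) =
      g ≫ Spec.map (CommRingCat.ofHom
        (Algebra.TensorProduct.includeLeftRingHom : A →+* A ⊗[k] K)))
    (h2 : f ≫ Spec.map (CommRingCat.ofHom (RingHomClass.toRingHom
        (Algebra.TensorProduct.includeRight : K →ₐ[k] A ⊗[k] K))) =
      g ≫ Spec.map (CommRingCat.ofHom (RingHomClass.toRingHom
        (Algebra.TensorProduct.includeRight : K →ₐ[k] A ⊗[k] K)))) : f = g := by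
  rw [← cancel_mono (pullbackSpecIso k A K).inv]
  apply pullback.hom_ext
  · rw [Category.assoc, Category.assoc, pullbackSpecIso_inv_fst]
    exact h1
  · rw [Category.assoc, Category.assoc, pullbackSpecIso_inv_snd]
    exact h2

/-- the action of `σ` on `Spec A ×_k Spec K`. -/
noncomputable abbrev τ (σ : K ≃ₐ[k] K) :
    (spA (k := k) A ⨯ spK (k := k) K).left ⟶ (spA (k := k) A ⨯ spK (k := k) K).left :=
  (prod.map (𝟙 (spA (k := k) A)) (spKAut K σ)).left

theorem τ_θ (σ : K ≃ₐ[k] K) :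
    τ A K σ ≫ (θ A K).hom =
      (θ A K).hom ≫ Spec.map (CommRingCat.ofHom (act A K σ).toRingHom) := by
  apply spec_tensor_hom_ext
  · rw [Category.assoc, Category.assoc, θ_hom_fst, ← Spec.map_comp, ← CommRingCat.ofHom_comp]
    have e1 : (act A K σ).toRingHom.comp
        (Algebra.TensorProduct.includeLeftRingHom : A →+* A ⊗[k] K) =
        Algebra.TensorProduct.includeLeftRingHom := by
      ext a
      show act A K σ (a ⊗ₜ 1) = a ⊗ₜ 1
      rw [act_tmul, map_one]
    rw [e1, θ_hom_fst]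
    show (prod.map (𝟙 (spA (k := k) A)) (spKAut K σ)).left ≫
      (prod.fst : spA (k := k) A ⨯ spK (k := k) K ⟶ spA A).left = _
    rw [← Over.comp_left, prod.map_fst, Category.comp_id]
  · rw [Category.assoc, Category.assoc, θ_hom_snd, ← Spec.map_comp, ← CommRingCat.ofHom_comp]
    have e2 : (act A K σ).toRingHom.comp (RingHomClass.toRingHom
        (Algebra.TensorProduct.includeRight : K →ₐ[k] A ⊗[k] K)) =
        (RingHomClass.toRingHom
          (Algebra.TensorProduct.includeRight : K →ₐ[k] A ⊗[k] K)).comp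
          σ.toRingEquiv.toRingHom := by
      ext c
      show act A K σ (1 ⊗ₜ c) = 1 ⊗ₜ σ c
      rw [act_tmul]
    rw [e2, CommRingCat.ofHom_comp, Spec.map_comp, ← Category.assoc, θ_hom_snd]
    show (prod.map (𝟙 (spA (k := k) A)) (spKAut K σ)).left ≫
      (prod.snd : spA (k := k) A ⨯ spK (k := k) K ⟶ spK K).left = _
    rw [← Over.comp_left, prod.map_snd, Over.comp_left, spKAut_left]

/-- the basic open of `Spec R` as a set of points. -/
def bo {R : Type u} [CommRing R] (t : R) : Set ↥(Spec (CommRingCat.of R)) :=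
  (PrimeSpectrum.basicOpen t).carrier

theorem specMap_preimage_bo {R R' : Type u} [CommRing R] [CommRing R'] (φ : R →+* R')
    (t : R) : (Spec.map (CommRingCat.ofHom φ)) ⁻¹' (bo t) = bo (φ t) := by
  ext x
  rfl

theorem isOpen_bo {R : Type u} [CommRing R] (t : R) : IsOpen (bo t) :=
  (PrimeSpectrum.basicOpen t).isOpen

theorem isCompact_bo {R : Type u} [CommRing R] (t : R) : IsCompact (bo t) :=
  PrimeSpectrum.isCompact_basicOpen t

theorem exists_bo_subset {R : Type u} [CommRing R] (x : ↥(Spec (CommRingCat.of R)))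
    (O : Set ↥(Spec (CommRingCat.of R))) (hO : IsOpen O) (hx : x ∈ O) :
    ∃ t : R, x ∈ bo t ∧ bo t ⊆ O := by
  obtain ⟨_, ⟨_, ⟨t, rfl⟩, rfl⟩, hyt, htO⟩ :=
    (PrimeSpectrum.isBasis_basic_opens (R := R)).exists_subset_of_mem_open
      (a := x) (u := O) hx hO
  exact ⟨t, hyt, htO⟩

/-- a basis of quasi-compact opens with open stabilizer. -/
theorem exists_stable_nhd [Algebra.IsIntegral k K]
    (y : ↥(spA (k := k) A ⨯ spK (k := k) K).left)
    (O : Set ↥(spA (k := k) A ⨯ spK (k := k) K).left) (hO : IsOpen O) (hy : y ∈ O) :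
    ∃ N : Set ↥(spA (k := k) A ⨯ spK (k := k) K).left, IsOpen N ∧ IsCompact N ∧ y ∈ N ∧ N ⊆ O ∧
      ∃ H : Subgroup (K ≃ₐ[k] K), IsOpen (H : Set (K ≃ₐ[k] K)) ∧
        ∀ σ ∈ H, τ (k := k) A K σ ⁻¹' N = N := by
  let e := (θ (k := k) A K).hom.homeomorph
  have hO' : IsOpen (e.symm ⁻¹' O) := hO.preimage e.symm.continuous
  have hy' : e y ∈ e.symm ⁻¹' O := by
    show e.symm (e y) ∈ O
    rw [e.symm_apply_apply]; exact hy
  obtain ⟨t, hyt, htO⟩ := exists_bo_subset (e y) _ hO' hy'
  obtain ⟨H, hH, hfix⟩ := exists_open_subgroup_fixing A K t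
  refine ⟨e ⁻¹' (bo t), ?_, ?_, hyt, ?_, H, hH, ?_⟩
  · exact (isOpen_bo t).preimage e.continuous
  · rw [← e.image_symm]
    exact (isCompact_bo t).image e.symm.continuous
  · intro z hz
    have := htO hz
    show z ∈ O
    have h2 : e.symm (e z) ∈ O := this
    rwa [e.symm_apply_apply] at h2
  · intro σ hσ
    have h1 : (e : _ → _) = ((θ (k := k) A K).hom : _ → _) := rfl
    rw [h1, ← Set.preimage_comp]
    have h2 : ((θ (k := k) A K).hom : _ → _) ∘ (τ (k := k) A K σ : _ → _) =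
        ((Spec.map (CommRingCat.ofHom (act A K σ).toRingHom)) : _ → _) ∘ ((θ (k := k) A K).hom : _ → _) := by
      ext1 z
      show (τ (k := k) A K σ ≫ (θ (k := k) A K).hom) z = ((θ (k := k) A K).hom ≫ Spec.map _) z
      rw [τ_θ]
    rw [h2, Set.preimage_comp, specMap_preimage_bo]
    have h3 : (act A K σ).toRingHom t = t := hfix σ hσ
    rw [h3]

end Groth.Agent.Helper53.GalStab
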