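import Groth.Agent.Lib.Helper53.GalStab

/-!
# Quasi-compact opens of `|X_K|` have open stabilizer.  By helper53.
-/

set_option autoImplicit false
set_option linter.style.haveILetI false
universe u
open CategoryTheory CategoryTheory.Limits AlgebraicGeometry Opposite TensorProduct

namespace Groth.Agent.Helper53.GalStab

open AlgSp
open Groth.Agent.Lib.Helper78.AlgSpBasic Groth.Agent.Lib.Helper51 Groth.Agent.Lib.Helper52
open Groth.Agent.Helper53.GeomRedBC Groth.Agent.Helper53.AlgSpConn Groth.Agent.Helper53.GalTrans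

variable {k : Type u} [Field k]

/-- every point of a `k`-scheme has an open neighbourhood of the form `Spec A`, `A` a `k`-algebra. -/
theorem exists_spA_chart (U : Over (Spec (CommRingCat.of k))) (u : ↥U.left) :
    ∃ (A : Type u) (_ : CommRing A) (_ : Algebra k A) (j : spA (k := k) A ⟶ U),
      IsOpenImmersion j.left ∧ u ∈ Set.range j.left := by
  obtain ⟨W, hW, huW, -⟩ := exists_isAffineOpen_mem_and_subset
    (show u ∈ (⊤ : U.left.Opens) from trivial)
  let φ : CommRingCat.of k ⟶ Γ(U.left, W) := Spec.preimage (hW.fromSpec ≫ U.hom)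
  letI : Algebra k Γ(U.left, W) := φ.hom.toAlgebra
  have h : Spec.map (CommRingCat.ofHom (algebraMap k Γ(U.left, W))) = hW.fromSpec ≫ U.hom :=
    Spec.map_preimage _
  refine ⟨Γ(U.left, W), inferInstance, inferInstance, Over.homMk hW.fromSpec h.symm, ?_, ?_⟩
  · exact (inferInstance : IsOpenImmersion hW.fromSpec)
  · show u ∈ Set.range hW.fromSpec
    rw [hW.range_fromSpec]; exact huW

variable (K : Type u) [Field K] [Algebra k K]

theorem spKAut_mul (σ ρ : K ≃ₐ[k] K) : spKAut K σ ≫ spKAut K ρ = spKAut K (σ * ρ) := by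
  apply Over.OverMorphism.ext
  show Spec.map _ ≫ Spec.map _ = Spec.map _
  rw [← Spec.map_comp, ← CommRingCat.ofHom_comp]
  rfl

theorem spKAut_one : spKAut K (1 : K ≃ₐ[k] K) = 𝟙 _ := by
  apply Over.OverMorphism.ext
  show Spec.map _ = 𝟙 _
  rw [← Spec.map_id]
  rfl

/-- the action of `σ` on the points of `F_K`. -/
noncomputable def actP (F : Sp (Spec (CommRingCat.of k))) (σ : K ≃ₐ[k] K) :
    Points (F ⨯ (yon _).obj (spK (k := k) K)) → Points (F ⨯ (yon _).obj (spK (k := k) K)) :=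
  Points.map (prod.map (𝟙 F) ((yon _).map (spKAut K σ)))

theorem actP_mul (F : Sp (Spec (CommRingCat.of k))) (σ ρ : K ≃ₐ[k] K)
    (x : Points (F ⨯ (yon _).obj (spK (k := k) K))) :
    actP K F ρ (actP K F σ x) = actP K F (σ * ρ) x := by
  unfold actP
  rw [← Points.map_comp, prod.map_map, Category.comp_id, ← Functor.map_comp, spKAut_mul]

theorem actP_one (F : Sp (Spec (CommRingCat.of k)))
    (x : Points (F ⨯ (yon _).obj (spK (k := k) K))) : actP K F 1 x = x := by
  unfold actP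
  rw [spKAut_one, CategoryTheory.Functor.map_id, prod.map_id_id, Points.map_id]

theorem actP_image_eq_of_preimage {F : Sp (Spec (CommRingCat.of k))} (H : Subgroup (K ≃ₐ[k] K))
    (N : Set (Points (F ⨯ (yon _).obj (spK (k := k) K))))
    (h : ∀ σ ∈ H, N ⊆ actP K F σ ⁻¹' N) (σ : K ≃ₐ[k] K) (hσ : σ ∈ H) : actP K F σ '' N = N := by
  apply Set.Subset.antisymm
  · rintro _ ⟨z, hz, rfl⟩
    exact h σ hσ hz
  · intro z hz
    refine ⟨actP K F σ⁻¹ z, h σ⁻¹ (H.inv_mem hσ) hz, ?_⟩
    rw [actP_mul, inv_mul_cancel, actP_one]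

variable {K}

theorem actP_ofPt_prodChart {X : Sp (Spec (CommRingCat.of k))} {U : Over (Spec (CommRingCat.of k))}
    (a : (yon _).obj U ⟶ X) (σ : K ≃ₐ[k] K) (y : ↥(U ⨯ spK (k := k) K).left) :
    actP K X σ (Points.ofPt (prodChart (spK (k := k) K) a) y) =
      Points.ofPt (prodChart (spK (k := k) K) a) ((prod.map (𝟙 U) (spKAut K σ)).left y) :=
  map_ofPt_eq (isPullback_prodChart_map (spKAut K σ) a) y

/-- the points of `X_K` have a basis of quasi-compact opens with open stabilizer. -/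
theorem exists_stable_nhd_points [Algebra.IsIntegral k K] {X : Sp (Spec (CommRingCat.of k))}
    (hX : IsAlgSpace X) (x : Points (X ⨯ (yon _).obj (spK (k := k) K)))
    (O : Set (Points (X ⨯ (yon _).obj (spK (k := k) K)))) (hO : IsOpen O) (hx : x ∈ O) :
    ∃ N : Set (Points (X ⨯ (yon _).obj (spK (k := k) K))), IsOpen N ∧ IsCompact N ∧ x ∈ N ∧
      N ⊆ O ∧ ∃ H : Subgroup (K ≃ₐ[k] K), IsOpen (H : Set (K ≃ₐ[k] K)) ∧
        ∀ σ ∈ H, actP K X σ '' N = N := by
  obtain ⟨U, a, ha, has⟩ := hX.atlas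
  obtain ⟨u, hu⟩ := surjective_ofPt_of_repWith_surjective a has (Points.map prod.fst x)
  obtain ⟨A, _, _, j, hj, ⟨w, hw⟩⟩ := exists_spA_chart U u
  let a' := (yon _).map j ≫ a
  have ha' : RepWith @Etale a' := repWith_etale_yon_map_comp j inferInstance a ha
  have hw' : Points.map prod.fst x = Points.ofPt a' w := by
    rw [ofPt_yon_map_comp, hw, hu]
  obtain ⟨y, -, hy⟩ := exists_lift_point (isPullback_prodChart (spK (k := k) K) a') w x hw'
  let c := prodChart (spK (k := k) K) a'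
  have hc : RepWith @Etale c := repWith_prodChart _ @Etale a' ha'
  have hO' : IsOpen (Points.ofPt c ⁻¹' O) := hO.preimage (Points.continuous_ofPt c)
  obtain ⟨N₀, hN₀o, hN₀c, hyN, hNO, H, hH, hst⟩ := exists_stable_nhd A K y _ hO'
    (by rw [Set.mem_preimage, hy]; exact hx)
  refine ⟨Points.ofPt c '' N₀, isOpenMap_ofPt_of_etale c hc _ hN₀o,
    hN₀c.image (Points.continuous_ofPt c), ⟨y, hyN, hy⟩, ?_, H, hH, ?_⟩
  · rintro _ ⟨z, hz, rfl⟩; exact hNO hz
  · apply actP_image_eq_of_preimage K H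
    intro σ hσ
    rintro _ ⟨z, hz, rfl⟩
    show actP K X σ (Points.ofPt c z) ∈ Points.ofPt c '' N₀
    rw [actP_ofPt_prodChart]
    refine ⟨_, ?_, rfl⟩
    have := hst σ hσ
    rw [← this] at hz; exact hz

/-- a quasi-compact open of `|X_K|` is stabilized by an open subgroup of the Galois group. -/
theorem exists_open_subgroup_stabilizing [Algebra.IsIntegral k K]
    {X : Sp (Spec (CommRingCat.of k))} (hX : IsAlgSpace X)
    (V : Set (Points (X ⨯ (yon _).obj (spK (k := k) K)))) (hV : IsOpen V) (hVc : IsCompact V) :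
    ∃ H : Subgroup (K ≃ₐ[k] K), IsOpen (H : Set (K ≃ₐ[k] K)) ∧
      ∀ σ ∈ H, actP K X σ '' V = V := by
  classical
  choose! N hNo hNc hxN hNV H hH hst using
    fun x (hx : x ∈ V) => exists_stable_nhd_points hX x V hV hx
  obtain ⟨s, hsV, hsfin, hcov⟩ := hVc.elim_finite_subcover_image (b := V) (c := N)
    (fun x hx => hNo x hx) (fun x hx => Set.mem_biUnion hx (hxN x hx))
  have hVeq : V = ⋃ x ∈ s, N x := by
    apply Set.Subset.antisymm hcov
    exact Set.iUnion₂_subset fun x hx => hNV x (hsV hx)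
  refine ⟨⨅ x ∈ s, H x, ?_, ?_⟩
  · have : ((⨅ x ∈ s, H x : Subgroup (K ≃ₐ[k] K)) : Set (K ≃ₐ[k] K)) =
        ⋂ x ∈ s, (H x : Set (K ≃ₐ[k] K)) := by
      simp [Subgroup.coe_iInf]
    rw [this]
    exact hsfin.isOpen_biInter fun x hx => hH x (hsV hx)
  · intro σ hσ
    have hσx : ∀ x ∈ s, σ ∈ H x := by
      intro x hx
      have := (Subgroup.mem_iInf.1 hσ) x
      exact (Subgroup.mem_iInf.1 this) hx
    conv_lhs => rw [hVeq]
    rw [Set.image_iUnion₂]
    conv_rhs => rw [hVeq]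
    exact Set.iUnion₂_congr fun x hx => hst x (hsV hx) σ (hσx x hx)

end Groth.Agent.Helper53.GalStab
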