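import Groth.Agent.Lib.Helper53.GalStab2

/-!
# Relative transitivity and descent of quasi-compact opens to a finite level.  By helper53.
-/

set_option autoImplicit false
set_option linter.style.haveILetI false
universe u
open CategoryTheory CategoryTheory.Limits AlgebraicGeometry Opposite TensorProduct

namespace Groth.Agent.Helper53.GalStab

open AlgSp
open Groth.Agent.Lib.Helper78.AlgSpBasic Groth.Agent.Lib.Helper51 Groth.Agent.Lib.Helper52
open Groth.Agent.Helper53.GeomRedBC Groth.Agent.Helper53.AlgSpConn Groth.Agent.Helper53.GalTrans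

theorem exists_algEquiv_comp_eq_rel {k K Ω : Type u} [Field k] [Field K] [Field Ω] [Algebra k K]
    [Normal k K] (E : IntermediateField k K) (φ ψ : K →+* Ω)
    (h : φ.comp (algebraMap E K) = ψ.comp (algebraMap E K)) :
    ∃ σ : K ≃ₐ[k] K, σ ∈ E.fixingSubgroup ∧ ψ = φ.comp σ.toRingEquiv.toRingHom := by
  haveI : Normal E K := Normal.tower_top_of_normal k E K
  obtain ⟨σ, hσ⟩ := exists_algEquiv_comp_eq (k := E) φ ψ h
  refine ⟨σ.restrictScalars k, ?_, ?_⟩
  · rw [IntermediateField.mem_fixingSubgroup_iff]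
    intro x hx
    exact σ.commutes ⟨x, hx⟩
  · rw [hσ]
    rfl

variable {k : Type u} [Field k] {K : Type u} [Field K] [Algebra k K]

theorem exists_spKAut_comp_eq_rel [Normal k K] (E : IntermediateField k K) {Ω : Type u} [Field Ω]
    {w : Spec (CommRingCat.of Ω) ⟶ Spec (CommRingCat.of k)}
    (α β : Over.mk w ⟶ spK (k := k) K)
    (hαβ : α ≫ spKMap (k := k) E K = β ≫ spKMap (k := k) E K) :
    ∃ σ : K ≃ₐ[k] K, σ ∈ E.fixingSubgroup ∧ α ≫ spKAut K σ = β := by
  have h0 : α.left ≫ Spec.map (CommRingCat.ofHom (algebraMap E K)) =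
      β.left ≫ Spec.map (CommRingCat.ofHom (algebraMap E K)) :=
    congrArg CommaMorphism.left hαβ
  have h : (Spec.preimage α.left).hom.comp (algebraMap E K) =
      (Spec.preimage β.left).hom.comp (algebraMap E K) := by
    have : CommRingCat.ofHom (algebraMap E K) ≫ Spec.preimage α.left =
        CommRingCat.ofHom (algebraMap E K) ≫ Spec.preimage β.left := by
      apply Spec.map_injective
      rw [Spec.map_comp, Spec.map_comp, Spec.map_preimage, Spec.map_preimage, h0]
    exact congrArg CommRingCat.Hom.hom this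
  obtain ⟨σ, hσE, hσ⟩ := exists_algEquiv_comp_eq_rel (k := k) E _ _ h
  refine ⟨σ, hσE, ?_⟩
  apply Over.OverMorphism.ext
  show α.left ≫ Spec.map (CommRingCat.ofHom σ.toRingEquiv.toRingHom) = β.left
  conv_lhs => rw [← Spec.map_preimage α.left]
  conv_rhs => rw [← Spec.map_preimage β.left]
  rw [← Spec.map_comp]
  congr 1
  apply CommRingCat.hom_ext
  exact hσ.symm

/-- points of `F_K` with the same image in `F_E` are conjugate under `Gal(K/E)`. -/
theorem exists_aut_map_eq_rel [Normal k K] (E : IntermediateField k K)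
    (F : Sp (Spec (CommRingCat.of k)))
    (x y : Points (F ⨯ (yon _).obj (spK (k := k) K)))
    (h : Points.map (prod.map (𝟙 F) ((yon _).map (spKMap (k := k) E K))) x =
      Points.map (prod.map (𝟙 F) ((yon _).map (spKMap (k := k) E K))) y) :
    ∃ σ : K ≃ₐ[k] K, σ ∈ E.fixingSubgroup ∧ actP K F σ x = y := by
  induction x using Points.ind with
  | h p =>
  induction y using Points.ind with
  | h q =>
  rw [Points.map_mk, Points.map_mk] at h
  obtain ⟨Ω, _, w, a, b, hab⟩ := (rel_iff_toHom _ _).1 (Points.mk_eq_mk_iff.1 h)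
  rw [FieldPt.toHom_map, FieldPt.toHom_map] at hab
  let lp := (yon _).map a ≫ p.toHom
  let lq := (yon _).map b ≫ q.toHom
  have hG : lp ≫ prod.map (𝟙 F) ((yon _).map (spKMap (k := k) E K)) =
      lq ≫ prod.map (𝟙 F) ((yon _).map (spKMap (k := k) E K)) :=
    (Category.assoc _ _ _).trans (hab.trans (Category.assoc _ _ _).symm)
  have hfst : lp ≫ prod.fst = lq ≫ prod.fst := by
    have := congrArg (· ≫ (prod.fst : F ⨯ (yon _).obj (spK (k := k) E) ⟶ F)) hG
    simpa only [Category.assoc, prod.map_fst, Category.comp_id] using this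
  have hsnd : (lp ≫ prod.snd) ≫ (yon _).map (spKMap (k := k) E K) =
      (lq ≫ prod.snd) ≫ (yon _).map (spKMap (k := k) E K) := by
    have := congrArg (· ≫ (prod.snd : F ⨯ (yon _).obj (spK (k := k) E) ⟶ _)) hG
    simpa only [Category.assoc, prod.map_snd] using this
  obtain ⟨α, hα⟩ := (yon (Spec (CommRingCat.of k))).map_surjective (lp ≫ prod.snd)
  obtain ⟨β, hβ⟩ := (yon (Spec (CommRingCat.of k))).map_surjective (lq ≫ prod.snd)
  have hαβ : α ≫ spKMap (k := k) E K = β ≫ spKMap (k := k) E K := by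
    apply (yon (Spec (CommRingCat.of k))).map_injective
    rw [Functor.map_comp, Functor.map_comp, hα, hβ]
    exact hsnd
  obtain ⟨σ, hσE, hσ⟩ := exists_spKAut_comp_eq_rel E α β hαβ
  refine ⟨σ, hσE, ?_⟩
  have hl : lp ≫ prod.map (𝟙 F) ((yon _).map (spKAut K σ)) = lq := by
    apply Limits.prod.hom_ext
    · rw [Category.assoc, prod.map_fst, Category.comp_id, hfst]
    · rw [Category.assoc, prod.map_snd, ← Category.assoc, ← hα, ← Functor.map_comp, hσ, hβ]
  show Points.map _ (Points.mk p) = _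
  rw [Points.map_mk]
  refine Points.sound ((rel_iff_toHom _ _).2 ⟨Ω, inferInstance, w, a, b, ?_⟩)
  rw [FieldPt.toHom_map]
  exact (Category.assoc _ _ _).symm.trans hl

/-- descent of a quasi-compact open to a finite level. -/
theorem exists_finite_level [IsGalois k K] {X : Sp (Spec (CommRingCat.of k))} (hX : IsAlgSpace X)
    (V : Set (Points (X ⨯ (yon _).obj (spK (k := k) K)))) (hV : IsOpen V) (hVc : IsCompact V) :
    ∃ (E : IntermediateField k K) (_ : FiniteDimensional k E)
      (V' : Set (Points (X ⨯ (yon _).obj (spK (k := k) E)))), IsOpen V' ∧ IsCompact V' ∧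
        Points.map (prod.map (𝟙 X) ((yon _).map (spKMap (k := k) E K))) ⁻¹' V' = V := by
  obtain ⟨H, hH, hst⟩ := exists_open_subgroup_stabilizing (K := K) hX V hV hVc
  have hnhds : (H : Set (K ≃ₐ[k] K)) ∈ nhds (1 : K ≃ₐ[k] K) := hH.mem_nhds H.one_mem
  obtain ⟨E, hE, hEH⟩ := (krullTopology_mem_nhds_one_iff k K _).1 hnhds
  obtain ⟨U, a, ha, has⟩ := hX.atlas
  have hopen : IsOpenMap (Points.map (prod.map (𝟙 X) ((yon _).map (spKMap (k := k) E K)))) :=
    isOpenMap_map (isPullback_prodChart_map (spKMap (k := k) E K) a)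
      (repWith_prodChart _ @Etale a ha) (repWith_prodChart _ @Surjective a has)
      (isOpenMap_prod_map_left E K U)
  refine ⟨E, hE, Points.map (prod.map (𝟙 X) ((yon _).map (spKMap (k := k) E K))) '' V,
    hopen _ hV, hVc.image (Points.continuous_map _), ?_⟩
  apply Set.Subset.antisymm
  · rintro x ⟨v, hv, hvx⟩
    obtain ⟨σ, hσE, hσ⟩ := exists_aut_map_eq_rel E X v x hvx
    rw [← hst σ (hEH hσE)]
    exact ⟨v, hv, hσ⟩
  · exact Set.subset_preimage_image _ _

end Groth.Agent.Helper53.GalStab
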