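import Groth.Agent.Lib.Helper53.GalStab3
import Groth.Agent.Lib.Helper53.ClopenOrbit

/-!
# Connectedness of `X_K` from connectedness of all finite levels (`K/k` Galois).  By helper53.
-/

set_option autoImplicit false
set_option linter.style.haveILetI false
universe u
open CategoryTheory CategoryTheory.Limits AlgebraicGeometry Opposite TensorProduct
open scoped Pointwise

namespace Groth.Agent.Helper53.GalStab

open AlgSp
open Groth.Agent.Lib.Helper78.AlgSpBasic Groth.Agent.Lib.Helper51 Groth.Agent.Lib.Helper52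
open Groth.Agent.Helper53.GeomRedBC Groth.Agent.Helper53.AlgSpConn Groth.Agent.Helper53.GalTrans

variable {k : Type u} [Field k] (K : Type u) [Field K] [Algebra k K]

/-- the (left) action of the Galois group on the points of `F_K`. -/
@[reducible] noncomputable def mulAct (F : Sp (Spec (CommRingCat.of k))) :
    MulAction (K ≃ₐ[k] K) (Points (F ⨯ (yon _).obj (spK (k := k) K))) where
  smul σ x := actP K F σ⁻¹ x
  one_smul x := by
    show actP K F (1 : K ≃ₐ[k] K)⁻¹ x = x
    rw [inv_one, actP_one]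
  mul_smul σ ρ x := by
    show actP K F (σ * ρ)⁻¹ x = actP K F σ⁻¹ (actP K F ρ⁻¹ x)
    rw [actP_mul, mul_inv_rev]

theorem connectedSpace_of_finite_levels [IsGalois k K] {X : Sp (Spec (CommRingCat.of k))}
    (hX : IsAlgSpace X)
    (h : ∀ E : IntermediateField k K, FiniteDimensional k E →
      ConnectedSpace (Points (X ⨯ (yon _).obj (spK (k := k) E)))) :
    ConnectedSpace (Points (X ⨯ (yon _).obj (spK (k := k) K))) := by
  letI := mulAct K X
  have hsmul : ∀ (σ : K ≃ₐ[k] K) (x : Points (X ⨯ (yon _).obj (spK (k := k) K))),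
      σ • x = actP K X σ⁻¹ x := fun _ _ => rfl
  haveI : ContinuousConstSMul (K ≃ₐ[k] K) (Points (X ⨯ (yon _).obj (spK (k := k) K))) :=
    ⟨fun σ => Points.continuous_map _⟩
  have hstab : ∀ V : Set (Points (X ⨯ (yon _).obj (spK (k := k) K))), IsOpen V → IsCompact V →
      IsOpen (MulAction.stabilizer (K ≃ₐ[k] K) V : Set (K ≃ₐ[k] K)) := by
    intro V hV hVc
    obtain ⟨H, hH, hst⟩ := exists_open_subgroup_stabilizing (K := K) hX V hV hVc
    refine Subgroup.isOpen_mono ?_ hH
    intro σ hσ
    rw [MulAction.mem_stabilizer_iff, ← Set.image_smul]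
    exact hst σ⁻¹ (H.inv_mem hσ)
  have hbasis : ∀ x : Points (X ⨯ (yon _).obj (spK (k := k) K)),
      ∃ N : Set (Points (X ⨯ (yon _).obj (spK (k := k) K))), IsOpen N ∧ IsCompact N ∧ x ∈ N := by
    intro x
    obtain ⟨N, hNo, hNc, hxN, -, -⟩ :=
      exists_stable_nhd_points (K := K) hX x Set.univ isOpen_univ trivial
    exact ⟨N, hNo, hNc, hxN⟩
  haveI : Nonempty (Points (X ⨯ (yon _).obj (spK (k := k) K))) := by
    obtain ⟨z⟩ := (h ⊥ inferInstance).toNonempty
    obtain ⟨x, -⟩ := surjective_map_bc (k := k) (⊥ : IntermediateField k K) K hX z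
    exact ⟨x⟩
  haveI : PreconnectedSpace (Points (X ⨯ (yon _).obj (spK (k := k) K))) := by
    rw [preconnectedSpace_iff_clopen]
    intro U hU
    by_cases hne : U = ∅
    · exact Or.inl hne
    right
    obtain ⟨u₀, hu₀⟩ := Set.nonempty_iff_ne_empty.2 hne
    obtain ⟨N, hNo, hNc, huN, hNU, -⟩ :=
      exists_stable_nhd_points (K := K) hX u₀ U hU.isOpen hu₀
    have hSN := hstab N hNo hNc
    have hnhds : (MulAction.stabilizer (K ≃ₐ[k] K) N : Set (K ≃ₐ[k] K)) ∈
        nhds (1 : K ≃ₐ[k] K) := hSN.mem_nhds (Subgroup.one_mem _)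
    obtain ⟨E, hE, hEH⟩ := (krullTopology_mem_nhds_one_iff k K _).1 hnhds
    set U' : Set (Points (X ⨯ (yon _).obj (spK (k := k) K))) :=
      ⋂ σ ∈ (E.fixingSubgroup : Set (K ≃ₐ[k] K)), σ • U with hU'
    have hU'clopen : IsClopen U' :=
      Groth.Agent.Helper53.ClopenOrbit.isClopen_iInter_smul hstab hbasis U hU _
    have hU'U : U' ⊆ U := by
      intro z hz
      have := (Set.mem_iInter₂.1 hz) 1 (Subgroup.one_mem _)
      rwa [one_smul] at this
    have hu₀' : u₀ ∈ U' := by
      rw [hU', Set.mem_iInter₂]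
      intro σ hσ
      have hσN : σ • N = N := MulAction.mem_stabilizer_iff.1 (hEH hσ)
      have : u₀ ∈ σ • N := by rw [hσN]; exact huN
      exact Set.smul_set_mono hNU this
    have hU'stab : ∀ τ ∈ E.fixingSubgroup, ∀ z ∈ U', τ • z ∈ U' := by
      intro τ hτ z hz
      rw [hU', Set.mem_iInter₂]
      intro σ hσ
      have h1 : z ∈ (τ⁻¹ * σ) • U :=
        (Set.mem_iInter₂.1 hz) (τ⁻¹ * σ)
          (E.fixingSubgroup.mul_mem (E.fixingSubgroup.inv_mem hτ) hσ)
      rw [mul_smul, Set.mem_inv_smul_set_iff] at h1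
      exact h1
    obtain ⟨Uc, a, ha, has⟩ := hX.atlas
    have hq : Topology.IsQuotientMap
        (Points.map (prod.map (𝟙 X) ((yon _).map (spKMap (k := k) E K)))) :=
      isQuotientMap_map (isPullback_prodChart_map (spKMap (k := k) E K) a)
        (repWith_prodChart _ @Etale a ha) (repWith_prodChart _ @Surjective a has)
        (isOpenMap_prod_map_left E K Uc) (surjective_prod_map_left E K Uc)
    have hsat : Points.map (prod.map (𝟙 X) ((yon _).map (spKMap (k := k) E K))) ⁻¹'
        (Points.map (prod.map (𝟙 X) ((yon _).map (spKMap (k := k) E K))) '' U') = U' := by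
      apply Set.Subset.antisymm
      · rintro x ⟨v, hv, hvx⟩
        obtain ⟨σ, hσE, hσ⟩ := exists_aut_map_eq_rel E X v x hvx
        have : x = σ⁻¹ • v := by rw [hsmul, inv_inv, hσ]
        rw [this]
        exact hU'stab σ⁻¹ (E.fixingSubgroup.inv_mem hσE) v hv
      · exact Set.subset_preimage_image _ _
    have hTclopen : IsClopen
        (Points.map (prod.map (𝟙 X) ((yon _).map (spKMap (k := k) E K))) '' U') := by
      constructor
      · rw [← hq.isClosed_preimage, hsat]; exact hU'clopen.isClosed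
      · rw [← hq.isOpen_preimage, hsat]; exact hU'clopen.isOpen
    haveI := h E hE
    have hTuniv := hTclopen.eq_univ ⟨_, u₀, hu₀', rfl⟩
    have hU'univ : U' = Set.univ := by
      rw [← hsat, hTuniv, Set.preimage_univ]
    exact Set.eq_univ_of_univ_subset (hU'univ ▸ hU'U)
  exact { toNonempty := inferInstance }

end Groth.Agent.Helper53.GalStab
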