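import Groth.Agent.Lib.Helper53.AlgSpConn

/-!
# The Galois group acts transitively on the fibres of `|F_K| → |F|`.  By helper53.

For a normal extension `K/k` and any sheaf `F` over `Spec k`, two points of `F × Spec K` with the same
image in `F` are conjugate under `Aut(K/k)`.
-/

set_option autoImplicit false
set_option linter.style.haveILetI false
universe u
open CategoryTheory CategoryTheory.Limits AlgebraicGeometry Opposite

namespace Groth.Agent.Helper53.GalTrans

open AlgSp
open Groth.Agent.Lib.Helper78.AlgSpBasic Groth.Agent.Lib.Helper51 Groth.Agent.Lib.Helper52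
open Groth.Agent.Helper53.GeomRedBC Groth.Agent.Helper53.AlgSpConn

/-- two embeddings of a normal extension agreeing on the base differ by an automorphism. -/
theorem exists_algEquiv_comp_eq {k K Ω : Type u} [Field k] [Field K] [Field Ω] [Algebra k K]
    [Normal k K] (φ ψ : K →+* Ω)
    (h : φ.comp (algebraMap k K) = ψ.comp (algebraMap k K)) :
    ∃ σ : K ≃ₐ[k] K, ψ = φ.comp σ.toRingEquiv.toRingHom := by
  letI : Algebra k Ω := (φ.comp (algebraMap k K)).toAlgebra
  letI : Algebra K Ω := φ.toAlgebra
  haveI : IsScalarTower k K Ω := IsScalarTower.of_algebraMap_eq (fun x => rfl)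
  let ψ' : K →ₐ[k] Ω := { ψ with commutes' := fun x => (RingHom.congr_fun h x).symm }
  refine ⟨ψ'.restrictNormal' K, ?_⟩
  ext x
  have := AlgHom.restrictNormal_commutes ψ' K x
  exact this.symm

variable {k : Type u} [Field k] (K : Type u) [Field K] [Algebra k K]

/-- the automorphism of `Spec K` over `Spec k` given by `σ`. -/
noncomputable def spKAut (σ : K ≃ₐ[k] K) : spK (k := k) K ⟶ spK (k := k) K :=
  Over.homMk (Spec.map (CommRingCat.ofHom σ.toRingEquiv.toRingHom)) (by
    show Spec.map _ ≫ Spec.map _ = Spec.map _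
    rw [← Spec.map_comp, ← CommRingCat.ofHom_comp]
    congr 2
    ext x
    exact σ.commutes x)

theorem spKAut_left (σ : K ≃ₐ[k] K) :
    (spKAut K σ).left = Spec.map (CommRingCat.ofHom σ.toRingEquiv.toRingHom) := rfl

/-- conjugacy of morphisms from a field into `Spec K` over `Spec k`. -/
theorem exists_spKAut_comp_eq [Normal k K] {Ω : Type u} [Field Ω]
    {w : Spec (CommRingCat.of Ω) ⟶ Spec (CommRingCat.of k)}
    (α β : Over.mk w ⟶ spK (k := k) K) :
    ∃ σ : K ≃ₐ[k] K, α ≫ spKAut K σ = β := by
  have hα : α.left ≫ Spec.map (CommRingCat.ofHom (algebraMap k K)) = w := Over.w α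
  have hβ : β.left ≫ Spec.map (CommRingCat.ofHom (algebraMap k K)) = w := Over.w β
  have h : (Spec.preimage α.left).hom.comp (algebraMap k K) =
      (Spec.preimage β.left).hom.comp (algebraMap k K) := by
    have : CommRingCat.ofHom (algebraMap k K) ≫ Spec.preimage α.left =
        CommRingCat.ofHom (algebraMap k K) ≫ Spec.preimage β.left := by
      apply Spec.map_injective
      rw [Spec.map_comp, Spec.map_comp, Spec.map_preimage, Spec.map_preimage, hα, hβ]
    exact congrArg CommRingCat.Hom.hom this
  obtain ⟨σ, hσ⟩ := exists_algEquiv_comp_eq (k := k) _ _ h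
  refine ⟨σ, ?_⟩
  apply Over.OverMorphism.ext
  show α.left ≫ Spec.map (CommRingCat.ofHom σ.toRingEquiv.toRingHom) = β.left
  conv_lhs => rw [← Spec.map_preimage α.left]
  conv_rhs => rw [← Spec.map_preimage β.left]
  rw [← Spec.map_comp]
  congr 1
  apply CommRingCat.hom_ext
  exact hσ.symm

/-- **Transitivity**: points of `F_K` with the same image in `F` are Galois conjugate. -/
theorem exists_aut_map_eq [Normal k K] (F : Sp (Spec (CommRingCat.of k)))
    (x y : Points (F ⨯ (yon _).obj (spK (k := k) K)))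
    (h : Points.map (prod.fst : F ⨯ (yon _).obj (spK (k := k) K) ⟶ F) x =
      Points.map (prod.fst : F ⨯ (yon _).obj (spK (k := k) K) ⟶ F) y) :
    ∃ σ : K ≃ₐ[k] K,
      Points.map (prod.map (𝟙 F) ((yon _).map (spKAut K σ))) x = y := by
  induction x using Points.ind with
  | h p =>
  induction y using Points.ind with
  | h q =>
  rw [Points.map_mk, Points.map_mk] at h
  obtain ⟨Ω, _, w, a, b, hab⟩ := (rel_iff_toHom _ _).1 (Points.mk_eq_mk_iff.1 h)
  rw [FieldPt.toHom_map, FieldPt.toHom_map] at hab
  let lp := (yon _).map a ≫ p.toHom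
  let lq := (yon _).map b ≫ q.toHom
  have hfst : lp ≫ prod.fst = lq ≫ prod.fst :=
    (Category.assoc _ _ _).trans (hab.trans (Category.assoc _ _ _).symm)
  obtain ⟨α, hα⟩ := (yon (Spec (CommRingCat.of k))).map_surjective (lp ≫ prod.snd)
  obtain ⟨β, hβ⟩ := (yon (Spec (CommRingCat.of k))).map_surjective (lq ≫ prod.snd)
  obtain ⟨σ, hσ⟩ := exists_spKAut_comp_eq K α β
  refine ⟨σ, ?_⟩
  have hl : lp ≫ prod.map (𝟙 F) ((yon _).map (spKAut K σ)) = lq := by
    apply Limits.prod.hom_ext
    · rw [Category.assoc, prod.map_fst, Category.comp_id, hfst]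
    · rw [Category.assoc, prod.map_snd, ← Category.assoc, ← hα, ← Functor.map_comp, hσ, hβ]
  rw [Points.map_mk]
  refine Points.sound ((rel_iff_toHom _ _).2 ⟨Ω, inferInstance, w, a, b, ?_⟩)
  rw [FieldPt.toHom_map]
  exact (Category.assoc _ _ _).symm.trans hl

end Groth.Agent.Helper53.GalTrans
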