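import Mathlib.CategoryTheory.Galois.Full
import Mathlib.CategoryTheory.Galois.Topology
import Mathlib.CategoryTheory.Action.Concrete

/-!
# Objects of a Galois category on whose fibre the fundamental group acts trivially

`trivial_action_iff`: `Aut Φ` acts trivially on `Φ(Y)` iff `Y` is a finite coproduct of copies of
the terminal object.
-/

set_option autoImplicit false
universe u v w

namespace Groth.Agent.Helper53.Gal

open CategoryTheory PreGaloisCategory Limits

variable {D : Type u} [Category.{v} D] [GaloisCategory D] (Φ : D ⥤ FintypeCat.{w}) [FiberFunctor Φ]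

lemma subsingleton_fiber_terminal : Subsingleton (Φ.obj (⊤_ D)) := by
  have ht : IsTerminal (Φ.obj (⊤_ D)) :=
    IsTerminal.isTerminalObj Φ _ terminalIsTerminal
  constructor
  intro a b
  have h1 : (FintypeCat.homMk (X := FintypeCat.of PUnit.{w+1}) (fun _ => a)) =
      (FintypeCat.homMk (X := FintypeCat.of PUnit.{w+1}) (fun _ => b)) := ht.hom_ext _ _
  exact congrArg (fun f => f PUnit.unit) h1

lemma app_terminal_eq (σ : Aut Φ) : σ.hom.app (⊤_ D) = 𝟙 _ := by
  have := subsingleton_fiber_terminal Φ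
  ext x
  exact Subsingleton.elim _ _

lemma app_coprod_terminal_eq (σ : Aut Φ) (n : ℕ) :
    σ.hom.app (∐ fun _ : Fin n => ⊤_ D) = 𝟙 _ := by
  ext x
  obtain ⟨⟨j⟩, a, ha⟩ := Limits.FintypeCat.jointly_surjective
    (Discrete.functor (fun _ : Fin n => ⊤_ D) ⋙ Φ) _
    (isColimitOfPreserves Φ (coproductIsCoproduct (fun _ : Fin n => ⊤_ D))) x
  have ha' : Φ.map (Sigma.ι (fun _ : Fin n => ⊤_ D) j) a = x := ha
  rw [FintypeCat.id_apply, ← ha', NatTrans.naturality_apply, app_terminal_eq]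
  rfl

lemma app_eq_id_of_iso (σ : Aut Φ) {Y : D} {n : ℕ} (e : Y ≅ ∐ fun _ : Fin n => ⊤_ D) :
    σ.hom.app Y = 𝟙 _ := by
  have h := σ.hom.naturality e.hom
  rw [app_coprod_terminal_eq, Category.comp_id] at h
  have : Φ.map e.hom ≫ Φ.map e.inv = 𝟙 _ := by rw [← Φ.map_comp, e.hom_inv_id, Φ.map_id]
  calc σ.hom.app Y = σ.hom.app Y ≫ Φ.map e.hom ≫ Φ.map e.inv := by rw [this, Category.comp_id]
    _ = (σ.hom.app Y ≫ Φ.map e.hom) ≫ Φ.map e.inv := by rw [Category.assoc]
    _ = _ := by rw [← h, this]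


/-- Equivariant maps between fibres lift to morphisms. -/
lemma exists_hom_of_equivariant {X Y : D} (g : Φ.obj X → Φ.obj Y)
    (hg : ∀ (σ : Aut Φ) (x : Φ.obj X), g (σ • x) = σ • g x) :
    ∃ f : X ⟶ Y, ∀ x, Φ.map f x = g x := by
  let g' : (functorToAction Φ).obj X ⟶ (functorToAction Φ).obj Y :=
    { hom := FintypeCat.homMk g
      comm := fun σ => by
        ext x
        exact hg σ x }
  obtain ⟨f, hf⟩ := (functorToAction Φ).map_surjective g'
  refine ⟨f, fun x => ?_⟩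
  have := congrArg (fun k => k.hom x) hf
  exact this


lemma exists_iso_coprod_terminal_of_trivial {Y : D}
    (h : ∀ (σ : Aut Φ) (y : Φ.obj Y), σ • y = y) :
    ∃ n : ℕ, Nonempty (Y ≅ ∐ fun _ : Fin n => ⊤_ D) := by
  classical
  have hss := subsingleton_fiber_terminal Φ
  have hsec : ∀ y : Φ.obj Y, ∃ s : ⊤_ D ⟶ Y, ∀ t, Φ.map s t = y := fun y =>
    exists_hom_of_equivariant Φ (fun _ => y) (fun σ _ => (h σ y).symm)
  choose s hs using hsec
  let n := Nat.card (Φ.obj Y)
  let e : Fin n ≃ Φ.obj Y := (Finite.equivFin _).symm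
  let f : (∐ fun _ : Fin n => ⊤_ D) ⟶ Y := Sigma.desc (fun i => s (e i))
  have hjs : ∀ x : Φ.obj (∐ fun _ : Fin n => ⊤_ D), ∃ (j : Fin n) (a : Φ.obj (⊤_ D)),
      Φ.map (Sigma.ι (fun _ : Fin n => ⊤_ D) j) a = x := by
    intro x
    obtain ⟨⟨j⟩, a, ha⟩ := Limits.FintypeCat.jointly_surjective
      (Discrete.functor (fun _ : Fin n => ⊤_ D) ⋙ Φ) _
      (isColimitOfPreserves Φ (coproductIsCoproduct (fun _ : Fin n => ⊤_ D))) x
    exact ⟨j, a, ha⟩
  have hfι : ∀ (j : Fin n) (a : Φ.obj (⊤_ D)),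
      Φ.map f (Φ.map (Sigma.ι (fun _ : Fin n => ⊤_ D) j) a) = e j := by
    intro j a
    rw [← FintypeCat.comp_apply, ← Φ.map_comp, Sigma.ι_desc, hs]
  have hbij : Function.Bijective (Φ.map f) := by
    constructor
    · intro x x' hxx'
      obtain ⟨j, a, rfl⟩ := hjs x
      obtain ⟨j', a', rfl⟩ := hjs x'
      rw [hfι, hfι] at hxx'
      obtain rfl := e.injective hxx'
      rw [Subsingleton.elim a a']
    · intro y
      obtain ⟨t⟩ : Nonempty (Φ.obj (⊤_ D)) := by
        have ht : IsTerminal (Φ.obj (⊤_ D)) :=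
          IsTerminal.isTerminalObj Φ _ terminalIsTerminal
        exact ⟨ht.from (FintypeCat.of PUnit.{w+1}) PUnit.unit⟩
      exact ⟨Φ.map (Sigma.ι (fun _ : Fin n => ⊤_ D) (e.symm y)) t, by rw [hfι]; simp⟩
  have : IsIso (Φ.map f) := (ConcreteCategory.isIso_iff_bijective _).mpr hbij
  have : IsIso f := isIso_of_reflects_iso f Φ
  exact ⟨n, ⟨(asIso f).symm⟩⟩


/-- `Aut Φ` acts trivially on the fibre of `Y` iff `Y` is a finite coproduct of copies of the
terminal object. -/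
theorem trivial_action_iff (Y : D) :
    (∀ σ : Aut Φ, σ.hom.app Y = 𝟙 _) ↔ ∃ n : ℕ, Nonempty (Y ≅ ∐ fun _ : Fin n => ⊤_ D) := by
  constructor
  · intro h
    refine exists_iso_coprod_terminal_of_trivial Φ (fun σ y => ?_)
    show σ.hom.app Y y = y
    rw [h σ]
    rfl
  · rintro ⟨n, ⟨e⟩⟩ σ
    exact app_eq_id_of_iso Φ σ e

end Groth.Agent.Helper53.Gal
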