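import Groth.Agent.Lib.Helper53.GalTriv
import Groth.Prelude.Def_Pi1X

/-!
# The map of fundamental groups induced by an exact functor between Galois categories
-/

set_option autoImplicit false
universe u v w

namespace Groth.Agent.Helper53.Gal

open CategoryTheory PreGaloisCategory Limits

section Whisker

variable {C C' : Type u} [Category.{v} C] [Category.{v} C'] (H : C ⥤ C') (F' : C' ⥤ FintypeCat.{w})

@[simp]
lemma autWhisker_hom_app (σ : Aut F') (X : C) :
    (Pi1X.autWhisker H F' σ).hom.app X = σ.hom.app (H.obj X) := rfl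

lemma continuous_autWhisker : Continuous (Pi1X.autWhisker H F') := by
  rw [Topology.IsInducing.continuous_iff (autEmbedding_isClosedEmbedding _).isInducing,
    continuous_pi_iff]
  intro X
  have : (fun σ : Aut F' => autEmbedding (H ⋙ F') (Pi1X.autWhisker H F' σ) X) =
      (fun p : ∀ Y, Aut (F'.obj Y) => p (H.obj X)) ∘ autEmbedding F' := by
    funext σ
    apply Iso.ext
    rfl
  show Continuous (fun σ : Aut F' => autEmbedding (H ⋙ F') (Pi1X.autWhisker H F' σ) X)
  rw [this]
  exact (continuous_apply (H.obj X)).comp continuous_induced_dom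

end Whisker

variable {D : Type u} [Category.{v} D] [GaloisCategory D] (Φ : D ⥤ FintypeCat.{w}) [FiberFunctor Φ]

/-- If `Y` is connected and the stabilizer of `y` is contained in the stabilizer of `x`, there is
a morphism `Y ⟶ X` sending `y` to `x`. -/
lemma exists_hom_of_stabilizer_le {Y X : D} [IsConnected Y] (y : Φ.obj Y) (x : Φ.obj X)
    (h : ∀ σ : Aut Φ, σ • y = y → σ • x = x) :
    ∃ f : Y ⟶ X, Φ.map f y = x := by
  have htr : MulAction.IsPretransitive (Aut Φ) (Φ.obj Y) :=
    FiberFunctor.isPretransitive_of_isConnected Φ Y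
  have hex : ∀ z : Φ.obj Y, ∃ σ : Aut Φ, σ • y = z := fun z => MulAction.exists_smul_eq _ y z
  choose τ hτ using hex
  obtain ⟨f, hf⟩ := exists_hom_of_equivariant Φ (fun z => τ z • x) (by
    intro σ z
    show τ (σ • z) • x = σ • (τ z • x)
    rw [← mul_smul]
    have : ((σ * τ z)⁻¹ * τ (σ • z)) • x = x := by
      apply h
      rw [mul_smul, hτ, inv_smul_eq_iff, mul_smul, hτ]
    rw [mul_smul, inv_smul_eq_iff] at this
    exact this)
  refine ⟨f, ?_⟩
  rw [hf]
  show τ y • x = x
  exact h _ (hτ y)

end Groth.Agent.Helper53.Gal
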