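import Groth.Agent.Lib.Helper53.GeomRedEt
import Groth.Agent.Lib.Helper78.AlgSpFibre
import Groth.Agent.S1545
import Groth.Agent.Lib.Helper78.AlgSpReduced

/-!
# Geometric reducedness of algebraic spaces and base change of the ground field.  By helper53.
-/

set_option autoImplicit false
set_option linter.style.haveILetI false
universe u
open CategoryTheory CategoryTheory.Limits AlgebraicGeometry Opposite

namespace Groth.Agent.Helper53.GeomRedBC

open AlgSp
open Groth.Agent.Lib.Helper78.AlgSpBasic Groth.Agent.Lib.Helper51 Groth.Agent.Lib.Helper52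
open Groth.Agent.Helper53.GeomRedEt

section Chart

variable {S : Scheme.{u}} (T : Over S)

/-- the base change `h_{U × T} ⟶ X × h_T` of a chart `a : h_U ⟶ X`. -/
noncomputable def prodChart {X : Sp S} {U : Over S} (a : (yon S).obj U ⟶ X) :
    (yon S).obj (U ⨯ T) ⟶ X ⨯ (yon S).obj T :=
  prodComparison (yon S) U T ≫ prod.map a (𝟙 _)

theorem prodChart_snd {X : Sp S} {U : Over S} (a : (yon S).obj U ⟶ X) :
    prodChart T a ≫ prod.snd = (yon S).map prod.snd := by
  simp [prodChart, prodComparison_snd]

theorem prodChart_fst {X : Sp S} {U : Over S} (a : (yon S).obj U ⟶ X) :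
    prodChart T a ≫ prod.fst = (yon S).map prod.fst ≫ a := by
  simp [prodChart]

theorem repWith_prodChart (P : MorphismProperty Scheme.{u}) [P.IsStableUnderBaseChange]
    {X : Sp S} {U : Over S} (a : (yon S).obj U ⟶ X) (ha : RepWith P a) :
    RepWith P (prodChart T a) := by
  have : (RepWith (S := S) P).RespectsIso :=
    MorphismProperty.IsStableUnderBaseChange.respectsIso
  have h2 : RepWith P (prod.map a (𝟙 ((yon S).obj T))) :=
    MorphismProperty.of_isPullback (IsPullback.of_prod_fst_with_id a ((yon S).obj T)) ha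
  exact MorphismProperty.RespectsIso.precomp _ (prodComparison (yon S) U T) _ h2

/-- a property of pointed `S`-schemes with a map to `T`, invariant under etale `S`-morphisms. -/
def EtInvOverT (Q : ∀ U : Over S, (U ⟶ T) → ↥U.left → Prop) : Prop :=
  ∀ {U' U : Over S} (h : U' ⟶ U) [Etale h.left] (q : U ⟶ T) (u' : ↥U'.left),
    Q U' (h ≫ q) u' ↔ Q U q (h.left u')

variable {T} {Q : ∀ U : Over S, (U ⟶ T) → ↥U.left → Prop}

theorem iff_of_ofPt_eq_T (hQ : EtInvOverT T Q) {X : Sp S} (π : X ⟶ (yon S).obj T)
    {U V : Over S} (a : (yon S).obj U ⟶ X)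
    (ha : RepWith @Etale a) (b : (yon S).obj V ⟶ X) (hb : RepWith @Etale b)
    (qU : U ⟶ T) (qV : V ⟶ T) (hqU : a ≫ π = (yon S).map qU) (hqV : b ≫ π = (yon S).map qV)
    (u : ↥U.left) (v : ↥V.left) (h : Points.ofPt a u = Points.ofPt b v) :
    Q U qU u ↔ Q V qV v := by
  obtain ⟨W, φ, ψ, sq⟩ := exists_isPullback_of_representable ha.1 b
  obtain ⟨w, hw1, hw2⟩ := exists_of_ofPt_eq_ofPt sq h
  haveI hφ : Etale φ.left := hb.2 a _ φ sq.flip
  haveI hψ : Etale ψ.left := ha.2 b _ ψ sq
  have hq : φ ≫ qU = ψ ≫ qV := by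
    apply (yon S).map_injective
    rw [Functor.map_comp, Functor.map_comp, ← hqU, ← hqV, ← Category.assoc, ← Category.assoc, sq.w]
  rw [← hw1, ← hw2, ← hQ φ qU w, ← hQ ψ qV w, hq]

end Chart

section Field

variable {k : Type u} [Field k] (K : Type u) [Field K] [Algebra k K]

/-- `Spec K` as a scheme over `Spec k`. -/
noncomputable abbrev spK : Over (Spec (CommRingCat.of k)) :=
  Over.mk (Spec.map (CommRingCat.ofHom (algebraMap k K)))

/-- geometric reducedness over `K` is invariant under etale maps of `k`-schemes over `Spec K`. -/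
theorem etInvOverT_isGeomReducedAt :
    EtInvOverT (S := Spec (CommRingCat.of k)) (spK K)
      (fun U q u => FBase.IsGeomReducedAt (k := K) q.left u) := by
  intro U' _ h _ q u'
  let W₁ : Over (Spec (CommRingCat.of K)) := Over.mk (h ≫ q).left
  let W₂ : Over (Spec (CommRingCat.of K)) := Over.mk q.left
  let j : W₁ ⟶ W₂ := Over.homMk h.left rfl
  haveI : Etale j.left := ‹Etale h.left›
  exact isGeomReducedAt_iff_of_etale j u'

/-- `U × Spec K` over `K` is geometrically reduced at `u'` iff `U` is geometrically reduced over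
`k` at the image of `u'`. -/
theorem isGeomReducedAt_prod_snd_iff (U : Over (Spec (CommRingCat.of k))) (u' : ↥(U ⨯ spK K).left) :
    FBase.IsGeomReducedAt (k := K) (prod.snd : U ⨯ spK K ⟶ spK K).left u' ↔
      FBase.IsGeomReducedAt U.hom ((prod.fst : U ⨯ spK K ⟶ U).left u') := by
  let e := Over.prodLeftIsoPullback U (spK K)
  have he1 : e.hom ≫ FBase.bcπ U.hom K = (prod.fst : U ⨯ spK K ⟶ U).left :=
    Over.prodLeftIsoPullback_hom_fst U (spK K)
  have he2 : e.hom ≫ FBase.bcStr U.hom K = (prod.snd : U ⨯ spK K ⟶ spK K).left :=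
    Over.prodLeftIsoPullback_hom_snd U (spK K)
  let W₁ : Over (Spec (CommRingCat.of K)) := Over.mk (prod.snd : U ⨯ spK K ⟶ spK K).left
  let W₂ : Over (Spec (CommRingCat.of K)) := Over.mk (FBase.bcStr U.hom K)
  let j : W₁ ⟶ W₂ := Over.homMk e.hom he2
  haveI : Etale j.left := by
    change Etale e.hom
    infer_instance
  have h1 : FBase.IsGeomReducedAt (k := K) (prod.snd : U ⨯ spK K ⟶ spK K).left u' ↔
      FBase.IsGeomReducedAt (k := K) (FBase.bcStr U.hom K) (e.hom u') :=
    isGeomReducedAt_iff_of_etale j u'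
  rw [h1]
  letI : U.left.Over (Spec (CommRingCat.of k)) := ⟨U.hom⟩
  obtain ⟨x', hx'⟩ : ∃ x' : ↥(FBase.bc U.hom K), x' = e.hom u' := ⟨_, rfl⟩
  rw [← hx']
  have h2 := Groth.Agent.S1545.result k U.left K (FBase.bcπ U.hom K x') x' rfl
  have hfst : (prod.fst : U ⨯ spK K ⟶ U).left u' = (FBase.bcπ U.hom K) x' := by
    subst hx'
    have := congrArg (fun (f : (U ⨯ spK K).left ⟶ U.left) => f u') he1
    exact this.symm
  rw [hfst]
  exact h2.symm

theorem surjective_spK : Surjective (Spec.map (CommRingCat.ofHom (algebraMap k K))) := by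
  constructor
  intro y
  haveI : Subsingleton ↥(Spec (CommRingCat.of k)) :=
    inferInstanceAs (Subsingleton (PrimeSpectrum k))
  obtain ⟨z⟩ : Nonempty ↥(Spec (CommRingCat.of K)) :=
    inferInstanceAs (Nonempty (PrimeSpectrum K))
  exact ⟨z, Subsingleton.elim _ _⟩

theorem surjective_prod_fst_left (U : Over (Spec (CommRingCat.of k))) :
    Function.Surjective (prod.fst : U ⨯ spK K ⟶ U).left := by
  have he1 : (Over.prodLeftIsoPullback U (spK K)).hom ≫ pullback.fst U.hom (spK K).hom =
      (prod.fst : U ⨯ spK K ⟶ U).left :=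
    Over.prodLeftIsoPullback_hom_fst U (spK K)
  haveI : Surjective (spK (k := k) K).hom := surjective_spK K
  rw [← he1]
  exact (inferInstance : Surjective ((Over.prodLeftIsoPullback U (spK K)).hom ≫
    pullback.fst U.hom (spK K).hom)).surj

/-- every point of an algebraic space over `k` lifts to the base change to `K`. -/
theorem surjective_map_prod_fst {X : Sp (Spec (CommRingCat.of k))} (hX : IsAlgSpace X) :
    Function.Surjective (Points.map (prod.fst : X ⨯ (yon _).obj (spK K) ⟶ X)) := by
  intro x
  obtain ⟨U, a, ha, has⟩ := hX.atlas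
  obtain ⟨u, hu⟩ := surjective_ofPt_of_repWith_surjective a has x
  obtain ⟨u'', hu''⟩ := surjective_prod_fst_left K U u
  refine ⟨Points.ofPt (prodChart (spK K) a) u'', ?_⟩
  rw [Points.map_ofPt, prodChart_fst, ofPt_yon_map_comp, hu'', hu]

theorem surjective_bcπ (U : Over (Spec (CommRingCat.of k))) :
    Function.Surjective (FBase.bcπ U.hom K) := by
  haveI : Surjective (Spec.map (CommRingCat.ofHom (algebraMap k K))) := surjective_spK K
  exact (inferInstance : Surjective (pullback.fst U.hom
    (Spec.map (CommRingCat.ofHom (algebraMap k K))))).surj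

theorem isReduced_prod_iff (U : Over (Spec (CommRingCat.of k))) :
    IsReduced (U ⨯ spK K).left ↔ IsReduced (FBase.bc U.hom K) := by
  constructor
  · intro h
    haveI : IsReduced (U ⨯ spK K).left := h
    change IsReduced (pullback U.hom (spK K).hom)
    exact isReduced_of_isOpenImmersion (Over.prodLeftIsoPullback U (spK K)).inv
  · intro h
    haveI : IsReduced (pullback U.hom (spK K).hom) := h
    exact isReduced_of_isOpenImmersion (Over.prodLeftIsoPullback U (spK K)).hom

/-- reducedness of the base change `X_K` in terms of an atlas. -/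
theorem isReducedSp_prod_iff {X : Sp (Spec (CommRingCat.of k))} {U : Over (Spec (CommRingCat.of k))}
    (a : (yon _).obj U ⟶ X) (ha : RepWith @Etale a) (has : RepWith @Surjective a) :
    EtaleLocally (fun U => IsReduced U) (X ⨯ (yon _).obj (spK K)) ↔
      IsReduced (FBase.bc U.hom K) := by
  rw [← isReduced_prod_iff]
  constructor
  · intro h
    exact Groth.Agent.Lib.Helper78.AlgSpReduced.isReduced_of_chart h (prodChart (spK K) a)
      (repWith_prodChart _ @Etale a ha)
  · intro h
    exact ⟨U ⨯ spK K, prodChart (spK K) a, repWith_prodChart _ @Etale a ha,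
      repWith_prodChart _ @Surjective a has, h⟩

end Field

section Global

variable {k : Type u} [Field k]

/-- geometric reducedness of an algebraic space in terms of an atlas. -/
theorem geomReduced_iff_chart {X : Sp (Spec (CommRingCat.of k))}
    {U : Over (Spec (CommRingCat.of k))}
    (a : (yon _).obj U ⟶ X) (ha : RepWith @Etale a) (has : RepWith @Surjective a) :
    (∀ x : Points X, ∃ (U : Over (Spec (CommRingCat.of k))) (a : (yon _).obj U ⟶ X) (u : ↥U.left),
      RepWith @Etale a ∧ Points.ofPt a u = x ∧ FBase.IsGeomReducedAt U.hom u) ↔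
      ∀ u : ↥U.left, FBase.IsGeomReducedAt U.hom u := by
  have hQ : EtInvOver (S := Spec (CommRingCat.of k))
      (fun U u => FBase.IsGeomReducedAt U.hom u) := etInvOver_isGeomReducedAt
  constructor
  · intro h u
    obtain ⟨U₀, a₀, u₀, ha₀, hu₀, hq⟩ := h (Points.ofPt a u)
    exact (iff_of_ofPt_eq hQ a₀ ha₀ a ha u₀ u hu₀).1 hq
  · intro h x
    obtain ⟨u, hu⟩ := surjective_ofPt_of_repWith_surjective a has x
    exact ⟨U, a, u, ha, hu, h u⟩

theorem forall_isGeomReducedAt_iff (U : Over (Spec (CommRingCat.of k))) :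
    (∀ u : ↥U.left, FBase.IsGeomReducedAt U.hom u) ↔
      ∀ (K : Type u) [Field K] [Algebra k K], IsReduced (FBase.bc U.hom K) := by
  constructor
  · intro h K _ _
    have : ∀ x' : ↥(FBase.bc U.hom K),
        _root_.IsReduced ((FBase.bc U.hom K).presheaf.stalk x') := fun x' => h _ K x' rfl
    exact isReduced_of_isReduced_stalk _
  · intro h u K _ _ x' _
    haveI := h K
    infer_instance

end Global

end Groth.Agent.Helper53.GeomRedBC
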