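import Groth.Prelude.Def_FDesc
import Groth.Prelude.Def_AlgSp2
import Groth.Agent.Lib.Helper98.WERed
import Groth.Agent.Lib.Helper78.AlgSpBasic
import Groth.Agent.Lib.Helper51.AlgSpPoints
import Groth.Agent.Lib.Helper52.Points

/-!
# Etale invariance of geometric reducedness at a point, and etale-invariant properties of
pointed schemes over a base (`Over S` variant of `Helper78.HasAtEt`).  By helper53.
-/

set_option autoImplicit false
set_option linter.style.haveILetI false
universe u
open CategoryTheory CategoryTheory.Limits AlgebraicGeometry Opposite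

namespace Groth.Agent.Helper53.GeomRedEt

/-- reducedness of local rings along an etale morphism (no Noetherian hypothesis). -/
theorem isReduced_stalk_iff_of_etale {X Y : Scheme.{u}} (f : X ⟶ Y) [Etale f] (x : X) :
    _root_.IsReduced (X.presheaf.stalk x) ↔ _root_.IsReduced (Y.presheaf.stalk (f x)) := by
  constructor
  · intro h
    algebraize [(f.stalkMap x).hom]
    have hloc : IsLocalHom (algebraMap (Y.presheaf.stalk (f x)) (X.presheaf.stalk x)) :=
      inferInstanceAs <| IsLocalHom (f.stalkMap x).hom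
    have hflat : Module.Flat (Y.presheaf.stalk (f x)) (X.presheaf.stalk x) := by
      rw [← RingHom.flat_algebraMap_iff, RingHom.algebraMap_toAlgebra]
      exact Flat.stalkMap f x
    have hinj : Function.Injective (algebraMap (Y.presheaf.stalk (f x)) (X.presheaf.stalk x)) := by
      have : Module.FaithfullyFlat (Y.presheaf.stalk (f x)) (X.presheaf.stalk x) :=
        Module.FaithfullyFlat.of_flat_of_isLocalHom
      exact FaithfulSMul.algebraMap_injective _ _
    exact isReduced_of_injective _ hinj
  · intro h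
    let _ := (f.stalkMap x).hom.toAlgebra
    have := Groth.Agent.Lib.Helper98.WERed.weaklyEtale_stalkMap f x
    exact Groth.Agent.Lib.Helper98.WERed.isReduced_of_weaklyEtale (Y.presheaf.stalk (f x))
      (X.presheaf.stalk x)

section BC

variable {k : Type u} [Field k]

/-- the map of base changes induced by a morphism of `k`-schemes. -/
noncomputable def bcMap {W U : Over (Spec (CommRingCat.of k))} (h : W ⟶ U)
    (K : Type u) [Field K] [Algebra k K] : FBase.bc W.hom K ⟶ FBase.bc U.hom K :=
  pullback.map W.hom _ U.hom _ h.left (𝟙 _) (𝟙 _) (by simp) (by simp)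

theorem bcMap_bcπ {W U : Over (Spec (CommRingCat.of k))} (h : W ⟶ U)
    (K : Type u) [Field K] [Algebra k K] :
    bcMap h K ≫ FBase.bcπ U.hom K = FBase.bcπ W.hom K ≫ h.left := by
  unfold bcMap FBase.bcπ
  exact pullback.lift_fst _ _ _

theorem bcMap_bcStr {W U : Over (Spec (CommRingCat.of k))} (h : W ⟶ U)
    (K : Type u) [Field K] [Algebra k K] :
    bcMap h K ≫ FBase.bcStr U.hom K = FBase.bcStr W.hom K := by
  unfold bcMap FBase.bcStr
  exact (pullback.lift_snd _ _ _).trans (Category.comp_id _)

theorem isPullback_bcMap {W U : Over (Spec (CommRingCat.of k))} (h : W ⟶ U)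
    (K : Type u) [Field K] [Algebra k K] :
    IsPullback (bcMap h K) (FBase.bcπ W.hom K) (FBase.bcπ U.hom K) h.left := by
  have t : IsPullback (FBase.bcStr U.hom K) (FBase.bcπ U.hom K)
      (Spec.map (CommRingCat.ofHom (algebraMap k K))) U.hom :=
    (IsPullback.of_hasPullback U.hom (Spec.map (CommRingCat.ofHom (algebraMap k K)))).flip
  have s : IsPullback (bcMap h K ≫ FBase.bcStr U.hom K) (FBase.bcπ W.hom K)
      (Spec.map (CommRingCat.ofHom (algebraMap k K))) (h.left ≫ U.hom) := by
    rw [bcMap_bcStr, Over.w h]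
    exact (IsPullback.of_hasPullback W.hom (Spec.map (CommRingCat.ofHom (algebraMap k K)))).flip
  exact IsPullback.of_right s (bcMap_bcπ h K) t

/-- geometric reducedness at a point is invariant under etale morphisms of `k`-schemes. -/
theorem isGeomReducedAt_iff_of_etale {W U : Over (Spec (CommRingCat.of k))} (h : W ⟶ U)
    [Etale h.left] (w : ↥W.left) :
    FBase.IsGeomReducedAt W.hom w ↔ FBase.IsGeomReducedAt U.hom (h.left w) := by
  constructor
  · intro hW K _ _ u' hu'
    have sq := isPullback_bcMap h K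
    haveI : Etale (bcMap h K) := MorphismProperty.of_isPullback sq.flip ‹Etale h.left›
    obtain ⟨w', hw1, hw2⟩ := Scheme.exists_preimage_of_isPullback sq u' w hu'
    have := hW K w' hw2
    rw [isReduced_stalk_iff_of_etale (bcMap h K) w', hw1] at this
    exact this
  · intro hU K _ _ w' hw'
    have sq := isPullback_bcMap h K
    haveI : Etale (bcMap h K) := MorphismProperty.of_isPullback sq.flip ‹Etale h.left›
    rw [isReduced_stalk_iff_of_etale (bcMap h K) w']
    apply hU K
    rw [← Scheme.Hom.comp_apply, bcMap_bcπ, Scheme.Hom.comp_apply, hw']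

end BC

section HasAtOver

open AlgSp
open Groth.Agent.Lib.Helper78.AlgSpBasic Groth.Agent.Lib.Helper51 Groth.Agent.Lib.Helper52

variable {S : Scheme.{u}}

/-- a property of pointed `S`-schemes invariant under etale `S`-morphisms. -/
def EtInvOver (Q : ∀ U : Over S, ↥U.left → Prop) : Prop :=
  ∀ {U' U : Over S} (h : U' ⟶ U) [Etale h.left] (u' : ↥U'.left), Q U' u' ↔ Q U (h.left u')

variable {Q : ∀ U : Over S, ↥U.left → Prop}

/-- two etale charts through the same point have the same value of an etale invariant property -/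
theorem iff_of_ofPt_eq (hQ : EtInvOver Q) {X : Sp S} {U V : Over S} (a : (yon S).obj U ⟶ X)
    (ha : RepWith @Etale a) (b : (yon S).obj V ⟶ X) (hb : RepWith @Etale b) (u : ↥U.left)
    (v : ↥V.left) (h : Points.ofPt a u = Points.ofPt b v) : Q U u ↔ Q V v := by
  obtain ⟨W, φ, ψ, sq⟩ := exists_isPullback_of_representable ha.1 b
  obtain ⟨w, hw1, hw2⟩ := exists_of_ofPt_eq_ofPt sq h
  haveI hφ : Etale φ.left := hb.2 a _ φ sq.flip
  haveI hψ : Etale ψ.left := ha.2 b _ ψ sq
  rw [← hw1, ← hw2, ← hQ φ w, ← hQ ψ w]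

theorem exists_iff_forall (hQ : EtInvOver Q) {X : Sp S} (hX : IsAlgSpace X) (x : Points X) :
    (∃ (U : Over S) (a : (yon S).obj U ⟶ X) (u : ↥U.left),
      RepWith @Etale a ∧ Points.ofPt a u = x ∧ Q U u) ↔
    ∀ (U : Over S) (a : (yon S).obj U ⟶ X) (u : ↥U.left),
      RepWith @Etale a → Points.ofPt a u = x → Q U u := by
  constructor
  · rintro ⟨U₀, a₀, u₀, ha₀, hu₀, hq⟩ U a u ha hu
    exact (iff_of_ofPt_eq hQ a₀ ha₀ a ha u₀ u (hu₀.trans hu.symm)).1 hq
  · intro h
    obtain ⟨U, a, ha, has⟩ := hX.atlas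
    obtain ⟨u, hu⟩ := surjective_ofPt_of_repWith_surjective a has x
    exact ⟨U, a, u, ha, hu, h U a u ha hu⟩

theorem exists_map_iff (hQ : EtInvOver Q) {X Y : Sp S} (hX : IsAlgSpace X) (f : X ⟶ Y)
    (hf : IsEtaleMor f) (x : Points X) :
    (∃ (U : Over S) (a : (yon S).obj U ⟶ X) (u : ↥U.left),
      RepWith @Etale a ∧ Points.ofPt a u = x ∧ Q U u) ↔
    (∃ (U : Over S) (a : (yon S).obj U ⟶ Y) (u : ↥U.left),
      RepWith @Etale a ∧ Points.ofPt a u = Points.map f x ∧ Q U u) := by
  constructor
  · rintro ⟨U, a, u, ha, hu, hq⟩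
    refine ⟨U, a ≫ f, u, hf a ha, ?_, hq⟩
    rw [← hu, Points.map_ofPt]
  · rintro ⟨V, b, v, hb, hv, hq⟩
    obtain ⟨U, a, ha, has⟩ := hX.atlas
    obtain ⟨u, hu⟩ := surjective_ofPt_of_repWith_surjective a has x
    refine ⟨U, a, u, ha, hu, ?_⟩
    refine (iff_of_ofPt_eq hQ (a ≫ f) (hf a ha) b hb u v ?_).2 hq
    rw [hv, ← hu, Points.map_ofPt]

/-- geometric reducedness at a point is an etale invariant property of pointed `k`-schemes. -/
theorem etInvOver_isGeomReducedAt {k : Type u} [Field k] :
    EtInvOver (S := Spec (CommRingCat.of k)) (fun U u => FBase.IsGeomReducedAt U.hom u) := by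
  intro U' U h _ u'
  exact isGeomReducedAt_iff_of_etale h u'

end HasAtOver

end Groth.Agent.Helper53.GeomRedEt
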