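import Groth.Prelude.Def_SGA4a
import Mathlib.CategoryTheory.Sites.Canonical
import Mathlib.CategoryTheory.Sites.DenseSubsite.SheafEquiv
import Mathlib.CategoryTheory.Sites.DenseSubsite.InducedTopology
import Mathlib.CategoryTheory.EffectiveEpi.Comp
import Mathlib.CategoryTheory.Generator.Basic
import Mathlib.CategoryTheory.Limits.VanKampen
import Mathlib.CategoryTheory.Limits.Shapes.DisjointCoproduct

/-!
# Helper library: Giraud's theorem (SGA 4 IV 1.2, ii) ⇒ i))

A category with finite limits, small disjoint universal coproducts, effective universal equivalence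
relations and a small detecting family is equivalent to a category of sheaves on a small site.
-/

set_option autoImplicit false
set_option linter.unusedSectionVars false
universe w v u

open CategoryTheory CategoryTheory.Limits Opposite

namespace Groth.Agent.Helper53.Giraud

variable {E : Type v} [Category.{u} E] [HasFiniteLimits E]

/-- Universally effective epimorphisms (pullback-square form). -/
def UEE {Y X : E} (f : Y ⟶ X) : Prop :=
  ∀ ⦃P B' : E⦄ (fst : P ⟶ Y) (snd : P ⟶ B') (g : B' ⟶ X), IsPullback fst snd f g → EffectiveEpi snd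

lemma UEE.of_forall {Y X : E} {f : Y ⟶ X}
    (h : ∀ (B' : E) (g : B' ⟶ X), EffectiveEpi (pullback.snd f g)) : UEE f := by
  intro P B' fst snd g hpb
  have := h B' g
  have e : snd = hpb.isoPullback.hom ≫ pullback.snd f g := by simp
  rw [e]
  infer_instance

lemma UEE.effectiveEpi {Y X : E} {f : Y ⟶ X} (h : UEE f) : EffectiveEpi f :=
  h (𝟙 Y) f (𝟙 X) (IsPullback.of_horiz_isIso ⟨by simp⟩)

lemma UEE.epi {Y X : E} {f : Y ⟶ X} (h : UEE f) : Epi f :=
  have := h.effectiveEpi
  inferInstance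

lemma UEE.pullback {Y X : E} {f : Y ⟶ X} (h : UEE f) {P B' : E} {fst : P ⟶ Y} {snd : P ⟶ B'}
    {g : B' ⟶ X} (hpb : IsPullback fst snd f g) : UEE snd := by
  intro P' B'' fst' snd' g' hpb'
  exact h (fst' ≫ fst) snd' (g' ≫ g) (hpb'.paste_horiz hpb)

omit [HasFiniteLimits E] in
lemma UEE.of_isIso {Y X : E} (f : Y ⟶ X) [IsIso f] : UEE f := by
  intro P B' fst snd g hpb
  have : IsIso snd := hpb.isIso_snd_of_isIso
  infer_instance

lemma UEE.comp_isIso {Y Q X : E} {π : Y ⟶ Q} (h : UEE π) (m : Q ⟶ X) [IsIso m] : UEE (π ≫ m) := by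
  intro P B' fst snd g hpb
  refine h fst snd (g ≫ inv m) ?_
  have hb : IsPullback (g ≫ inv m) (𝟙 B') m g := IsPullback.of_vert_isIso ⟨by simp⟩
  have hs : IsPullback fst (snd ≫ 𝟙 B') (π ≫ m) g := by simpa using hpb
  refine IsPullback.of_bot hs ?_ hb
  have := hpb.w
  rw [← cancel_mono m]
  simpa using this

lemma isEquivRel_kernelPair {Y X : E} (f : Y ⟶ X) :
    SGA4.IsEquivRel (pullback.fst f f) (pullback.snd f f) := by
  intro T
  constructor
  · intro a b hab
    simp only [Prod.mk.injEq] at hab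
    exact pullback.hom_ext hab.1 hab.2
  · have key : ∀ a b : T ⟶ Y, (∃ t : T ⟶ pullback f f, t ≫ pullback.fst f f = a ∧
        t ≫ pullback.snd f f = b) ↔ a ≫ f = b ≫ f := by
      intro a b
      constructor
      · rintro ⟨t, rfl, rfl⟩
        simp [pullback.condition]
      · intro h
        exact ⟨pullback.lift a b h, pullback.lift_fst _ _ _, pullback.lift_snd _ _ _⟩
    exact ⟨fun a => (key a a).2 rfl, fun {a b} h => (key b a).2 ((key a b).1 h).symm,
      fun {a b c} h h' => (key a c).2 (((key a b).1 h).trans ((key b c).1 h'))⟩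

section Exact

variable (hc : ∀ (R A : E) (p₁ p₂ : R ⟶ A), SGA4.IsEquivRel p₁ p₂ →
  SGA4.IsEffectiveUniversalEquivRel p₁ p₂)

include hc

/-- Image factorization: every morphism is a universally effective epimorphism followed by a
monomorphism. -/
lemma exists_image_fac {Y X : E} (f : Y ⟶ X) :
    ∃ (Q : E) (π : Y ⟶ Q) (m : Q ⟶ X), π ≫ m = f ∧ UEE π ∧ Mono m := by
  obtain ⟨Q, π, hpb, hpo, hu⟩ := hc _ _ _ _ (isEquivRel_kernelPair f)
  have hπ : UEE π := UEE.of_forall hu
  let m : Q ⟶ X := hpo.desc f f pullback.condition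
  have hm : π ≫ m = f := hpo.inl_desc _ _ _
  refine ⟨Q, π, m, hm, hπ, ?_⟩
  constructor
  intro K k₁ k₂ hk
  have e1 : Epi (pullback.snd π k₁) := (hπ.pullback (IsPullback.of_hasPullback π k₁)).epi
  have e2 : Epi (pullback.snd π (pullback.snd π k₁ ≫ k₂)) :=
    (hπ.pullback (IsPullback.of_hasPullback _ _)).epi
  rw [← cancel_epi (pullback.snd π k₁), ← cancel_epi (pullback.snd π (pullback.snd π k₁ ≫ k₂))]
  obtain ⟨a, ha⟩ : ∃ a, a = pullback.snd π (pullback.snd π k₁ ≫ k₂) ≫ pullback.fst π k₁ := ⟨_, rfl⟩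
  obtain ⟨b, hb⟩ : ∃ b, b = pullback.fst π (pullback.snd π k₁ ≫ k₂) := ⟨_, rfl⟩
  have haπ : a ≫ π = pullback.snd π (pullback.snd π k₁ ≫ k₂) ≫ pullback.snd π k₁ ≫ k₁ := by
    rw [ha, Category.assoc, pullback.condition]
  have hbπ : b ≫ π = pullback.snd π (pullback.snd π k₁ ≫ k₂) ≫ pullback.snd π k₁ ≫ k₂ := by
    rw [hb, pullback.condition]
  have hab : a ≫ f = b ≫ f := by
    rw [← hm, ← Category.assoc, ← Category.assoc, haπ, hbπ]
    simp only [Category.assoc, hk]
  have : a ≫ π = b ≫ π := by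
    calc a ≫ π = (pullback.lift a b hab ≫ pullback.fst f f) ≫ π := by rw [pullback.lift_fst]
      _ = (pullback.lift a b hab ≫ pullback.snd f f) ≫ π := by
          rw [Category.assoc, hpb.w, ← Category.assoc]
      _ = b ≫ π := by rw [pullback.lift_snd]
  rw [← haπ, ← hbπ, this]

end Exact

section Coprod

variable (hb : SGA4.HasDisjointUniversalCoproducts.{v, u} E)

include hb

lemma hasCoproduct {ι : Type u} (Y : ι → E) : HasCoproduct Y := by
  obtain ⟨c, hc, -, -⟩ := hb ι Y
  exact ⟨⟨c, hc⟩⟩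

lemma isUniversal_of_isColimit {ι : Type u} {Y : ι → E} {c : Cofan Y} (hc : IsColimit c) :
    IsUniversalColimit c := by
  obtain ⟨c₀, hc₀, -, hu⟩ := hb ι Y
  exact hu.of_iso (hc₀.uniqueUpToIso hc)

lemma coproductDisjoint {ι : Type u} (Y : ι → E) : CoproductDisjoint Y := by
  obtain ⟨c₀, hc₀, hd, -⟩ := hb ι Y
  exact hd

/-- Initial objects are strict. -/
lemma isInitial_of_hom {Z I : E} (hI : IsInitial I) (h : Z ⟶ I) : Nonempty (IsInitial Z) := by
  obtain ⟨c₀, hc₀, -, hu⟩ := hb PEmpty.{u + 1} (fun i => i.elim)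
  have hI₀ : IsInitial c₀.pt :=
    IsInitial.ofUniqueHom (fun W => hc₀.desc (Cofan.mk W (fun i => i.elim)))
      (fun W m => hc₀.uniq (Cofan.mk W (fun i => i.elim)) m (fun j => j.as.elim))
  let h' : Z ⟶ c₀.pt := h ≫ hI.to _
  obtain ⟨hc'⟩ := hu (Cofan.mk Z (fun i : PEmpty.{u + 1} => i.elim)) (𝟙 _) h'
    (by ext j; exact j.as.elim) (.of_discrete _) (fun j => j.as.elim)
  exact ⟨IsInitial.ofUniqueHom (fun W => hc'.desc (Cofan.mk W (fun i => i.elim)))
    (fun W m => hc'.uniq (Cofan.mk W (fun i => i.elim)) m (fun j => j.as.elim))⟩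

omit hb in
lemma UEE.isIso_comp {Y' Y X : E} (i : Y' ⟶ Y) [IsIso i] {f : Y ⟶ X} (h : UEE f) : UEE (i ≫ f) := by
  intro P B' fst snd g hpb
  refine h (fst ≫ i) snd g ?_
  exact hpb.of_iso (Iso.refl _) (asIso i) (Iso.refl _) (Iso.refl _) (by simp) (by simp) (by simp)
    (by simp)

omit hb in
/-- A small family is covering if the induced map from the coproduct is a universally effective
epimorphism. -/
def IsCov {ι : Type u} {X : E} {Y : ι → E} (f : ∀ i, Y i ⟶ X) : Prop :=
  ∃ (c : Cofan Y) (hc : IsColimit c), UEE (Cofan.IsColimit.desc hc f)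

/-- Covering families are effective epimorphic families. -/
lemma IsCov.existsUnique_desc {ι : Type u} {X : E} {Y : ι → E} {f : ∀ i, Y i ⟶ X} (hf : IsCov f)
    {Z : E} (g : ∀ i, Y i ⟶ Z)
    (hg : ∀ i j, pullback.fst (f i) (f j) ≫ g i = pullback.snd (f i) (f j) ≫ g j) :
    ∃! t : X ⟶ Z, ∀ i, f i ≫ t = g i := by
  obtain ⟨c, hc, hu⟩ := hf
  have hcu := isUniversal_of_isColimit hb hc
  obtain ⟨d, hd⟩ : ∃ d, d = Cofan.IsColimit.desc hc f := ⟨_, rfl⟩
  obtain ⟨G, hG⟩ : ∃ G, G = Cofan.IsColimit.desc hc g := ⟨_, rfl⟩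
  rw [← hd] at hu
  have hdf : ∀ i, c.inj i ≫ d = f i := fun i => by rw [hd]; exact Cofan.IsColimit.fac hc f i
  have hGg : ∀ i, c.inj i ≫ G = g i := fun i => by rw [hG]; exact Cofan.IsColimit.fac hc g i
  have := hu.effectiveEpi
  have := hu.epi
  have key : pullback.fst d d ≫ G = pullback.snd d d ≫ G := by
    let d' : Cofan (fun p : ι × ι => pullback (f p.1) (f p.2)) := Cofan.mk (pullback d d)
      (fun p => pullback.lift (pullback.fst (f p.1) (f p.2) ≫ c.inj p.1)
        (pullback.snd (f p.1) (f p.2) ≫ c.inj p.2) (by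
          simp only [Category.assoc, hdf, pullback.condition]))
    obtain ⟨hd'⟩ := IsUniversalColimit.nonempty_isColimit_prod_of_isPullback hcu hcu f f d d
      (P := fun p : ι × ι => pullback (f p.1) (f p.2))
      (q₁ := fun i j => pullback.fst (f i) (f j)) (q₂ := fun i j => pullback.snd (f i) (f j))
      (fun i j => IsPullback.of_hasPullback _ _) (IsPullback.of_hasPullback d d) (d := d')
      (Iso.refl _) hdf hdf
      (fun i j => by rw [Iso.refl_hom, Category.id_comp]; exact pullback.lift_fst _ _ _)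
      (fun i j => by rw [Iso.refl_hom, Category.id_comp]; exact pullback.lift_snd _ _ _)
    refine Cofan.IsColimit.hom_ext hd' _ _ (fun p => ?_)
    have h1 : d'.inj p ≫ pullback.fst d d = pullback.fst (f p.1) (f p.2) ≫ c.inj p.1 :=
      pullback.lift_fst _ _ _
    have h2 : d'.inj p ≫ pullback.snd d d = pullback.snd (f p.1) (f p.2) ≫ c.inj p.2 :=
      pullback.lift_snd _ _ _
    rw [← Category.assoc, ← Category.assoc, h1, h2, Category.assoc, Category.assoc, hGg, hGg]
    exact hg p.1 p.2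
  have key' : ∀ {T : E} (a b : T ⟶ c.pt), a ≫ d = b ≫ d → a ≫ G = b ≫ G := by
    intro T a b hab
    have := congrArg (fun t => pullback.lift a b hab ≫ t) key
    simpa only [pullback.lift_fst_assoc, pullback.lift_snd_assoc] using this
  refine ⟨EffectiveEpi.desc d G key', fun i => ?_, fun t ht => ?_⟩
  · rw [← hdf, Category.assoc, EffectiveEpi.fac, hGg]
  · rw [← cancel_epi d, EffectiveEpi.fac]
    refine Cofan.IsColimit.hom_ext hc _ _ (fun i => ?_)
    rw [← Category.assoc, hdf, ht, hGg]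

/-- Covering families are stable under base change. -/
lemma IsCov.baseChange {ι : Type u} {X : E} {Y : ι → E} {f : ∀ i, Y i ⟶ X} (hf : IsCov f)
    {X' : E} (g : X' ⟶ X) : IsCov (fun i => pullback.snd (f i) g) := by
  obtain ⟨c, hc, hu⟩ := hf
  have hcu := isUniversal_of_isColimit hb hc
  obtain ⟨d, hd⟩ : ∃ d, d = Cofan.IsColimit.desc hc f := ⟨_, rfl⟩
  rw [← hd] at hu
  have hdf : ∀ i, c.inj i ≫ d = f i := fun i => by rw [hd]; exact Cofan.IsColimit.fac hc f i
  let c' : Cofan (fun i => pullback (f i) g) := Cofan.mk (pullback d g)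
    (fun i => pullback.lift (pullback.fst (f i) g ≫ c.inj i) (pullback.snd (f i) g) (by
      simp only [Category.assoc, hdf, pullback.condition]))
  obtain ⟨hc'⟩ := IsUniversalColimit.nonempty_isColimit_of_isPullback_right hcu f d g
    (fun i => pullback.fst (f i) g) (fun i => pullback.snd (f i) g)
    (fun i => IsPullback.of_hasPullback _ _) (IsPullback.of_hasPullback d g) c' (Iso.refl _) hdf
    (fun i => by rw [Iso.refl_hom, Category.id_comp]; exact pullback.lift_fst _ _ _)
    (fun i => by rw [Iso.refl_hom, Category.id_comp]; exact pullback.lift_snd _ _ _)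
  refine ⟨c', hc', ?_⟩
  have : Cofan.IsColimit.desc hc' (fun i => pullback.snd (f i) g) = pullback.snd d g := by
    refine Cofan.IsColimit.hom_ext hc' _ _ (fun i => ?_)
    rw [Cofan.IsColimit.fac]
    exact (pullback.lift_snd _ _ _).symm
  rw [this]
  exact hu.pullback (IsPullback.of_hasPullback d g)

/-- Representables are sheaves for covering families. -/
lemma isSheafFor_yoneda_of_isCov {ι : Type u} {X : E} {Y : ι → E} {f : ∀ i, Y i ⟶ X}
    (hf : IsCov f) (Z : E) : Presieve.IsSheafFor (yoneda.obj Z) (Presieve.ofArrows Y f) := by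
  rw [Presieve.isSheafFor_arrows_iff_pullbacks]
  intro x hx
  exact hf.existsUnique_desc hb x (fun i j => hx i j)

/-- A presheaf which is a sheaf for all covering families is a sheaf for every sieve containing
such a family. -/
lemma isSheafFor_sieve_of_isCov (P : Eᵒᵖ ⥤ Type w)
    (hP : ∀ {ι : Type u} {X : E} {Y : ι → E} (f : ∀ i, Y i ⟶ X), IsCov f →
      Presieve.IsSheafFor P (Presieve.ofArrows Y f))
    {ι : Type u} {X : E} {Y : ι → E} {f : ∀ i, Y i ⟶ X} (hf : IsCov f) (S : Sieve X)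
    (hS : ∀ i, S (f i)) : Presieve.IsSheafFor P S.arrows := by
  refine Presieve.isSheafFor_subsieve P (S := Sieve.generate (Presieve.ofArrows Y f)) ?_ ?_
  · rintro W g ⟨T, u, v, ⟨i⟩, rfl⟩
    exact S.downward_closed (hS i) u
  · intro W g
    rw [← Sieve.pullbackArrows_comm, ← Presieve.ofArrows_pullback, ← Presieve.isSheafFor_iff_generate]
    exact hP _ (hf.baseChange hb g)

/-- A sieve containing a covering family is covering for the canonical topology. -/
lemma mem_canonical_of_isCov {ι : Type u} {X : E} {Y : ι → E} {f : ∀ i, Y i ⟶ X} (hf : IsCov f)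
    (S : Sieve X) (hS : ∀ i, S (f i)) : S ∈ Sheaf.canonicalTopology E X := by
  refine Sheaf.mem_finestTopology_of_forall_isSheafFor ?_
  rintro _ ⟨Z, rfl⟩ W g
  refine isSheafFor_sieve_of_isCov hb (yoneda.obj Z)
    (fun f' h' => isSheafFor_yoneda_of_isCov hb h' Z) (hf.baseChange hb g) _ (fun i => ?_)
  change S (pullback.snd (f i) g ≫ g)
  rw [← pullback.condition]
  exact S.downward_closed (hS i) _

/-- Canonical sheaves satisfy the sheaf condition for covering families. -/
lemma isSheafFor_of_isCov (F : Eᵒᵖ ⥤ Type w) (hF : Presieve.IsSheaf (Sheaf.canonicalTopology E) F)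
    {ι : Type u} {X : E} {Y : ι → E} {f : ∀ i, Y i ⟶ X} (hf : IsCov f) :
    Presieve.IsSheafFor F (Presieve.ofArrows Y f) := by
  rw [Presieve.isSheafFor_iff_generate]
  exact hF _ (mem_canonical_of_isCov hb hf _
    (fun i => Sieve.le_generate _ _ _ (Presieve.ofArrows.mk i)))

omit hb in
lemma isCov_of_UEE {Y X : E} (f : Y ⟶ X) (hf : UEE f) : IsCov (fun _ : PUnit.{u + 1} => f) := by
  have hc : IsColimit (Cofan.mk Y (fun _ : PUnit.{u + 1} => 𝟙 Y)) :=
    Cofan.IsColimit.mk _ (fun s => s.inj ⟨⟩) (fun s _ => Category.id_comp _)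
      (fun s m hm => by rw [← hm ⟨⟩]; exact (Category.id_comp _).symm)
  refine ⟨_, hc, ?_⟩
  have : Cofan.IsColimit.desc hc (fun _ : PUnit.{u + 1} => f) = f := by
    have := Cofan.IsColimit.fac hc (fun _ : PUnit.{u + 1} => f) ⟨⟩
    simpa [Cofan.inj] using this
  rw [this]
  exact hf

end Coprod

section Main

variable (hb : SGA4.HasDisjointUniversalCoproducts.{v, u} E)
  (hc : ∀ (R A : E) (p₁ p₂ : R ⟶ A), SGA4.IsEquivRel p₁ p₂ →
    SGA4.IsEffectiveUniversalEquivRel p₁ p₂)
  {ι₀ : Type u} (G : ι₀ → E) (hG : (ObjectProperty.ofObj G).IsDetecting)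

include hG in
omit [HasFiniteLimits E] in
lemma isIso_of_mono_of_factors {Q X : E} (m : Q ⟶ X) [Mono m]
    (h : ∀ (i : ι₀) (g : G i ⟶ X), ∃ g' : G i ⟶ Q, g' ≫ m = g) : IsIso m := by
  refine hG m ?_
  rintro _ ⟨i⟩ g
  obtain ⟨g', hg'⟩ := h i g
  exact ⟨g', hg', fun g'' hg'' => (cancel_mono m).1 (hg''.trans hg'.symm)⟩

include hb hc hG

/-- The generators cover every object. -/
lemma isCov_generators (X : E) : IsCov (fun p : Σ i, (G i ⟶ X) => p.2) := by
  obtain ⟨c, hcc, -, -⟩ := hb (Σ i, (G i ⟶ X)) (fun p => G p.1)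
  refine ⟨c, hcc, ?_⟩
  obtain ⟨Q, π, m, hm, hπ, hmono⟩ :=
    exists_image_fac hc (Cofan.IsColimit.desc hcc (fun p : Σ i, (G i ⟶ X) => p.2))
  have : IsIso m := isIso_of_mono_of_factors G hG m (fun i g => ⟨c.inj ⟨i, g⟩ ≫ π, by
    rw [Category.assoc, hm, Cofan.IsColimit.fac]⟩)
  rw [← hm]
  exact hπ.comp_isIso m

variable (F : Eᵒᵖ ⥤ Type w) (hF : Presieve.IsSheaf (Sheaf.canonicalTopology E) F)

include hF

omit hc hG in
lemma eq_of_isCov {ι : Type u} {X : E} {Y : ι → E} {f : ∀ i, Y i ⟶ X} (hf : IsCov f)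
    (t₁ t₂ : F.obj (op X)) (h : ∀ i, F.map (f i).op t₁ = F.map (f i).op t₂) : t₁ = t₂ := by
  refine (isSheafFor_of_isCov hb F hF hf).isSeparatedFor.ext ?_
  rintro _ _ ⟨i⟩
  exact h i

omit hc hG in
lemma subsingleton_of_isInitial {Z : E} (hZ : IsInitial Z) : Subsingleton (F.obj (op Z)) := by
  constructor
  intro t₁ t₂
  have hcc : IsColimit (Cofan.mk Z (fun i : PEmpty.{u + 1} => (i.elim : (i.elim : E) ⟶ Z))) :=
    Cofan.IsColimit.mk _ (fun s => hZ.to _) (fun s i => i.elim) (fun s m _ => hZ.hom_ext _ _)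
  have hcov : IsCov (fun i : PEmpty.{u + 1} => (i.elim : (i.elim : E) ⟶ Z)) := by
    refine ⟨_, hcc, ?_⟩
    have : Cofan.IsColimit.desc hcc (fun i : PEmpty.{u + 1} => (i.elim : (i.elim : E) ⟶ Z)) =
        𝟙 Z := hZ.hom_ext _ _
    rw [this]
    have h1 : UEE (𝟙 Z) := UEE.of_isIso _
    exact h1
  exact eq_of_isCov hb F hF hcov t₁ t₂ (fun i => i.elim)

omit hc hG in
/-- A canonical sheaf sends small coproducts to products. -/
lemma existsUnique_of_cofan {ι : Type u} {Y : ι → E} (c : Cofan Y) (hcc : IsColimit c)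
    (x : ∀ i, F.obj (op (Y i))) : ∃! t : F.obj (op c.pt), ∀ i, F.map (c.inj i).op t = x i := by
  have hcov : IsCov c.inj := by
    refine ⟨c, hcc, ?_⟩
    have : Cofan.IsColimit.desc hcc c.inj = 𝟙 _ :=
      Cofan.IsColimit.hom_ext hcc _ _ (fun i => by rw [Cofan.IsColimit.fac, Category.comp_id])
    rw [this]
    exact UEE.of_isIso _
  have hs := isSheafFor_of_isCov hb F hF hcov
  rw [Presieve.isSheafFor_arrows_iff] at hs
  refine hs x ?_
  intro i j Z gi gj comm
  have := coproductDisjoint hb Y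
  by_cases hij : i = j
  · subst hij
    have := CoproductDisjoint.mono_inj hcc i
    rw [(cancel_mono (c.inj i)).1 comm]
  · obtain ⟨hZ⟩ := isInitial_of_hom hb
      (IsInitial.ofCoproductDisjointOfIsColimitOfIsLimit hij hcc (pullback.isLimit _ _))
      (pullback.lift gi gj comm)
    have := subsingleton_of_isInitial hb F hF hZ
    exact Subsingleton.elim _ _

/-- The "kernel pair" of an element `η ∈ F(Y)` of a canonical sheaf, as an object of `E`. -/
lemma exists_relation {Y : E} (η : F.obj (op Y)) :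
    ∃ (Q : E) (q₁ q₂ : Q ⟶ Y),
      (∀ (T : E) (a b : T ⟶ Y), (∃ t : T ⟶ Q, t ≫ q₁ = a ∧ t ≫ q₂ = b) ↔
        F.map a.op η = F.map b.op η) ∧
      (∀ (T : E) (t t' : T ⟶ Q), t ≫ q₁ = t' ≫ q₁ → t ≫ q₂ = t' ≫ q₂ → t = t') := by
  let I₂ := Σ i : ι₀, {ab : (G i ⟶ Y) × (G i ⟶ Y) // F.map ab.1.op η = F.map ab.2.op η}
  obtain ⟨c₂, hc₂, -, -⟩ := hb I₂ (fun p => G p.1)
  obtain ⟨r, hr⟩ : ∃ r : c₂.pt ⟶ Y ⨯ Y,
      r = Cofan.IsColimit.desc hc₂ (fun p : I₂ => prod.lift p.2.1.1 p.2.1.2) := ⟨_, rfl⟩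
  have hrp : ∀ p : I₂, c₂.inj p ≫ r = prod.lift p.2.1.1 p.2.1.2 := fun p => by
    rw [hr, Cofan.IsColimit.fac]
  obtain ⟨Q, π', m, hm, hπ', hmono⟩ := exists_image_fac hc r
  refine ⟨Q, m ≫ prod.fst, m ≫ prod.snd, ?_, ?_⟩
  · -- the key equality on `Q`
    have hQ : F.map (m ≫ prod.fst).op η = F.map (m ≫ prod.snd).op η := by
      refine eq_of_isCov hb F hF (isCov_of_UEE π' hπ') _ _ (fun _ => ?_)
      have e1 : F.map π'.op (F.map (m ≫ prod.fst).op η) = F.map (r ≫ prod.fst).op η := by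
        rw [← hm, Category.assoc, op_comp (f := π'), F.map_comp]; rfl
      have e2 : F.map π'.op (F.map (m ≫ prod.snd).op η) = F.map (r ≫ prod.snd).op η := by
        rw [← hm, Category.assoc, op_comp (f := π'), F.map_comp]; rfl
      rw [e1, e2]
      obtain ⟨t, -, htu⟩ := existsUnique_of_cofan hb F hF c₂ hc₂
        (fun p : I₂ => F.map p.2.1.1.op η)
      have h1 := htu (F.map (r ≫ prod.fst).op η) (fun p => by
        have : c₂.inj p ≫ r ≫ prod.fst = p.2.1.1 := by
          rw [← Category.assoc, hrp, prod.lift_fst]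
        rw [← this, op_comp (f := c₂.inj p), F.map_comp]; rfl)
      have h2 := htu (F.map (r ≫ prod.snd).op η) (fun p => by
        have : c₂.inj p ≫ r ≫ prod.snd = p.2.1.2 := by
          rw [← Category.assoc, hrp, prod.lift_snd]
        rw [p.2.2, ← this, op_comp (f := c₂.inj p), F.map_comp]; rfl)
      rw [h1, h2]
    intro T a b
    constructor
    · rintro ⟨t, rfl, rfl⟩
      rw [op_comp, op_comp (f := t), F.map_comp, F.map_comp]
      exact congrArg (F.map t.op) hQ
    · intro hab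
      have hfac : ∀ (i : ι₀) (g : G i ⟶ T), ∃ g' : G i ⟶ pullback m (prod.lift a b),
          g' ≫ pullback.snd m (prod.lift a b) = g := by
        intro i g
        have hg : F.map (g ≫ a).op η = F.map (g ≫ b).op η := by
          rw [op_comp, op_comp, F.map_comp, F.map_comp]
          exact congrArg (F.map g.op) hab
        let p : I₂ := ⟨i, ⟨(g ≫ a, g ≫ b), hg⟩⟩
        refine ⟨pullback.lift (c₂.inj p ≫ π') g ?_, pullback.lift_snd _ _ _⟩
        rw [Category.assoc, hm, hrp]
        apply Limits.prod.hom_ext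
        · rw [prod.lift_fst, Category.assoc, prod.lift_fst]
        · rw [prod.lift_snd, Category.assoc, prod.lift_snd]
      have : IsIso (pullback.snd m (prod.lift a b)) :=
        isIso_of_mono_of_factors G hG _ hfac
      refine ⟨inv (pullback.snd m (prod.lift a b)) ≫ pullback.fst m (prod.lift a b), ?_, ?_⟩
      · rw [Category.assoc, ← Category.assoc (pullback.fst _ _), pullback.condition,
          Category.assoc, prod.lift_fst, IsIso.inv_hom_id_assoc]
      · rw [Category.assoc, ← Category.assoc (pullback.fst _ _), pullback.condition,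
          Category.assoc, prod.lift_snd, IsIso.inv_hom_id_assoc]
  · intro T t t' h1 h2
    rw [← cancel_mono m]
    apply Limits.prod.hom_ext
    · simpa only [Category.assoc] using h1
    · simpa only [Category.assoc] using h2

/-- The quotient of `Y` by the kernel pair of `η ∈ F(Y)`. -/
lemma exists_quotient {Y : E} (η : F.obj (op Y)) :
    ∃ (X : E) (π : Y ⟶ X), UEE π ∧
      ∀ (T : E) (a b : T ⟶ Y), a ≫ π = b ≫ π ↔ F.map a.op η = F.map b.op η := by
  obtain ⟨Q, q₁, q₂, hrel, hmono⟩ := exists_relation hb hc G hG F hF η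
  have hR : SGA4.IsEquivRel q₁ q₂ := by
    intro T
    constructor
    · intro t t' h
      simp only [Prod.mk.injEq] at h
      exact hmono T t t' h.1 h.2
    · exact ⟨fun a => (hrel T a a).2 rfl, fun {a b} h => (hrel T b a).2 ((hrel T a b).1 h).symm,
        fun {a b c} h h' => (hrel T a c).2 (((hrel T a b).1 h).trans ((hrel T b c).1 h'))⟩
  obtain ⟨X, π, hpb, hpo, hu⟩ := hc _ _ _ _ hR
  refine ⟨X, π, UEE.of_forall hu, fun T a b => ⟨fun h => ?_, fun h => ?_⟩⟩
  · exact (hrel T a b).1 ⟨hpb.lift a b h, hpb.lift_fst _ _ _, hpb.lift_snd _ _ _⟩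
  · obtain ⟨t, rfl, rfl⟩ := (hrel T a b).2 h
    rw [Category.assoc, Category.assoc, hpb.w]

/-- The quotient represents `F` as soon as `η` hits every element over the generators. -/
theorem bijective_of_quotient {Y X : E} (η : F.obj (op Y)) (π : Y ⟶ X) (hπ : UEE π)
    (hrel : ∀ (T : E) (a b : T ⟶ Y), a ≫ π = b ≫ π ↔ F.map a.op η = F.map b.op η)
    (hgen : ∀ (i : ι₀) (ξ : F.obj (op (G i))), ∃ g : G i ⟶ Y, F.map g.op η = ξ) :
    ∃ ζ : F.obj (op X), F.map π.op ζ = η ∧
      ∀ T : E, Function.Bijective (fun t : T ⟶ X => F.map t.op ζ) := by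
  have hs := isSheafFor_of_isCov hb F hF (isCov_of_UEE π hπ)
  rw [Presieve.isSheafFor_arrows_iff] at hs
  obtain ⟨ζ, hζ', -⟩ := hs (fun _ => η) (fun _ _ W a b comm => (hrel W a b).1 comm)
  have hζ : F.map π.op ζ = η := hζ' ⟨⟩
  have hζa : ∀ {T : E} (a : T ⟶ Y), F.map a.op η = F.map (a ≫ π).op ζ := by
    intro T a
    rw [op_comp, F.map_comp, ← hζ]; rfl
  have hinj : ∀ T : E, Function.Injective (fun t : T ⟶ X => F.map t.op ζ) := by
    intro T t₁ t₂ h
    change F.map t₁.op ζ = F.map t₂.op ζ at h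
    have e1 : Epi (pullback.snd π t₁) := (hπ.pullback (IsPullback.of_hasPullback π t₁)).epi
    have e2 : Epi (pullback.snd π (pullback.snd π t₁ ≫ t₂)) :=
      (hπ.pullback (IsPullback.of_hasPullback _ _)).epi
    rw [← cancel_epi (pullback.snd π t₁), ← cancel_epi (pullback.snd π (pullback.snd π t₁ ≫ t₂))]
    obtain ⟨a, ha⟩ : ∃ a, a = pullback.snd π (pullback.snd π t₁ ≫ t₂) ≫ pullback.fst π t₁ :=
      ⟨_, rfl⟩
    obtain ⟨b, hb'⟩ : ∃ b, b = pullback.fst π (pullback.snd π t₁ ≫ t₂) := ⟨_, rfl⟩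
    have haπ : a ≫ π = pullback.snd π (pullback.snd π t₁ ≫ t₂) ≫ pullback.snd π t₁ ≫ t₁ := by
      rw [ha, Category.assoc, pullback.condition]
    have hbπ : b ≫ π = pullback.snd π (pullback.snd π t₁ ≫ t₂) ≫ pullback.snd π t₁ ≫ t₂ := by
      rw [hb', pullback.condition]
    rw [← haπ, ← hbπ, hrel, hζa, hζa, haπ, hbπ]
    rw [← Category.assoc, ← Category.assoc, op_comp, op_comp (g := t₂), F.map_comp, F.map_comp]
    exact congrArg (F.map (pullback.snd π (pullback.snd π t₁ ≫ t₂) ≫ pullback.snd π t₁).op) h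
  refine ⟨ζ, hζ, fun T => ⟨hinj T, ?_⟩⟩
  intro φ
  have hcov := isCov_generators hb hc G hG T
  have hloc : ∀ p : Σ i, (G i ⟶ T), ∃ tp : G p.1 ⟶ X, F.map tp.op ζ = F.map p.2.op φ := by
    intro p
    obtain ⟨g, hg⟩ := hgen p.1 (F.map p.2.op φ)
    exact ⟨g ≫ π, by rw [← hζa, hg]⟩
  choose tp htp using hloc
  obtain ⟨t, ht, -⟩ := hcov.existsUnique_desc hb tp (fun p p' => by
    apply hinj
    change F.map (pullback.fst p.2 p'.2 ≫ tp p).op ζ = F.map (pullback.snd p.2 p'.2 ≫ tp p').op ζ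
    rw [op_comp, op_comp, F.map_comp, F.map_comp]
    change F.map (pullback.fst p.2 p'.2).op (F.map (tp p).op ζ) =
      F.map (pullback.snd p.2 p'.2).op (F.map (tp p').op ζ)
    rw [htp, htp]
    change (F.map p.2.op ≫ F.map (pullback.fst p.2 p'.2).op) φ =
      (F.map p'.2.op ≫ F.map (pullback.snd p.2 p'.2).op) φ
    rw [← F.map_comp, ← F.map_comp, ← op_comp, ← op_comp, pullback.condition])
  refine ⟨t, ?_⟩
  refine eq_of_isCov hb F hF hcov _ _ (fun p => ?_)
  change (F.map t.op ≫ F.map p.2.op) ζ = _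
  rw [← F.map_comp, ← op_comp, ht, htp]

end Main

section Final

variable (hb : SGA4.HasDisjointUniversalCoproducts.{v, u} E)
  (hc : ∀ (R A : E) (p₁ p₂ : R ⟶ A), SGA4.IsEquivRel p₁ p₂ →
    SGA4.IsEffectiveUniversalEquivRel p₁ p₂)
  {ι₀ : Type u} (G : ι₀ → E) (hG : (ObjectProperty.ofObj G).IsDetecting)

include hb hc hG

/-- Every sheaf of (small) sets for the canonical topology is representable. -/
theorem exists_representation (F : Eᵒᵖ ⥤ Type u)
    (hF : Presieve.IsSheaf (Sheaf.canonicalTopology E) F) :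
    ∃ X : E, Nonempty (yoneda.obj X ≅ F) := by
  let I₁ := Σ i : ι₀, F.obj (op (G i))
  obtain ⟨c₁, hc₁, -, -⟩ := hb I₁ (fun p => G p.1)
  obtain ⟨η, hη, -⟩ := existsUnique_of_cofan hb F hF c₁ hc₁ (fun p : I₁ => p.2)
  obtain ⟨X, π, hπ, hrel⟩ := exists_quotient hb hc G hG F hF η
  obtain ⟨ζ, -, hbij⟩ := bijective_of_quotient hb hc G hG F hF η π hπ hrel
    (fun i ξ => ⟨c₁.inj ⟨i, ξ⟩, hη ⟨i, ξ⟩⟩)
  refine ⟨X, ⟨?_⟩⟩
  have : IsIso (yonedaEquiv.symm ζ : yoneda.obj X ⟶ F) := by
    rw [NatTrans.isIso_iff_isIso_app]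
    intro T
    induction T using Opposite.rec with | _ T => ?_
    rw [isIso_iff_bijective]
    exact hbij T
  exact asIso (yonedaEquiv.symm ζ)

theorem isCoverDense_inducedFunctor :
    (inducedFunctor G).IsCoverDense (Sheaf.canonicalTopology E) where
  is_cover X := mem_canonical_of_isCov hb (isCov_generators hb hc G hG X) _
    (fun p => Presieve.in_coverByImage (inducedFunctor G) (Y := p.1) p.2)

/-- Giraud's theorem. -/
theorem isTopos : SGA4.IsTopos.{v, u} E := by
  have hdense := isCoverDense_inducedFunctor hb hc G hG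
  let K := Sheaf.canonicalTopology E
  have hess : (GrothendieckTopology.yoneda K).EssSurj := by
    constructor
    intro Fs
    obtain ⟨X, ⟨e⟩⟩ := exists_representation hb hc G hG Fs.obj
      ((isSheaf_iff_isSheaf_of_type _ _).1 Fs.property)
    exact ⟨X, ⟨(fullyFaithfulSheafToPresheaf K (Type u)).preimageIso e⟩⟩
  have heq : (GrothendieckTopology.yoneda K).IsEquivalence := {}
  let e₁ : E ≌ Sheaf K (Type u) := (GrothendieckTopology.yoneda K).asEquivalence
  let e₂ : Sheaf ((inducedFunctor G).restrictedTopology K) (Type u) ≌ Sheaf K (Type u) :=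
    Functor.IsDenseSubsite.sheafEquiv _ K (inducedFunctor G) (Type u)
  exact ⟨InducedCategory E G, inferInstance, (inducedFunctor G).restrictedTopology K,
    ⟨e₁.trans e₂.symm⟩⟩

end Final

end Groth.Agent.Helper53.Giraud
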