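import Groth.Agent.Lib.Helper78.GsectDomain
import Groth.Agent.Lib.Helper53.DivGlue3

/-!
# Global functions on a normal integral algebraic space form a normal domain (helper53)
-/

set_option autoImplicit false
set_option linter.style.haveILetI false
universe u
open CategoryTheory CategoryTheory.Limits AlgebraicGeometry Opposite
open AlgSp

namespace Groth.Agent.Lib.Helper53.GsectNormal

variable {S : Scheme.{u}} {X : Sp S}

open Groth.Agent.Lib.Helper51 Groth.Agent.Lib.Helper52 Groth.Agent.Lib.Helper78.GsectDomain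
open Groth.Agent.Lib.Helper53.DivGlue

set_option backward.isDefEq.respectTransparency false in
/-- the fibre product chart of two charts, with a point over two given points -/
theorem exists_common_chart (E E' : EtOver X) (e : E.obj.left.left) (e' : E'.obj.left.left)
    (h : Points.ofPt E.obj.hom e = Points.ofPt E'.obj.hom e') :
    ∃ (EW : EtOver X) (pφ : EW ⟶ E) (pψ : EW ⟶ E') (w : EW.obj.left.left),
      pφ.hom.left.left w = e ∧ pψ.hom.left.left w = e' := by
  obtain ⟨W, φ, ψ, sq⟩ := exists_isPullback_of_representable E.property.1 E'.obj.hom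
  obtain ⟨w, hw1, hw2⟩ := exists_of_ofPt_eq_ofPt sq h
  have hφ : Etale φ.left := E'.property.2 E.obj.hom _ φ sq.flip
  have hWe : RepWith @Etale ((yon S).map φ ≫ E.obj.hom) :=
    (RepWith (S := S) @Etale).comp_mem _ _ ((repWith_yon_map_iff _ _).2 hφ) E.property
  exact ⟨EtOver.mk ((yon S).map φ ≫ E.obj.hom) hWe, EtOver.homMk φ rfl, EtOver.homMk ψ sq.w.symm,
    w, hw1, hw2⟩

theorem mem_basicOpen_val (f : ↥(gsectEt (OEt X))) {E E' : EtOver X} (g : E ⟶ E')
    (w : E.obj.left.left) :
    w ∈ E.obj.left.left.basicOpen (val f E) ↔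
      g.hom.left.left w ∈ E'.obj.left.left.basicOpen (val f E') := by
  rw [← val_comp f g]
  change w ∈ (E.obj.left.left.basicOpen (g.hom.left.left.appTop (val f E')) : Set _) ↔ _
  rw [← Scheme.preimage_basicOpen_top]
  rfl

theorem dense_basicOpen (hred : IsReducedSp X) [hirr : IrreducibleSpace (Points X)]
    (b : ↥(gsectEt (OEt X))) (hb : b ≠ 0) (E : EtOver X) :
    Dense (E.obj.left.left.basicOpen (val b E) : Set E.obj.left.left) := by
  rw [dense_iff_inter_open]
  intro O hO hOne
  have hA : IsOpen (Points.ofPt E.obj.hom '' O) := isOpenMap_ofPt_of_etale E.obj.hom E.property O hO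
  have hAne : (Points.ofPt E.obj.hom '' O).Nonempty := hOne.image _
  have hDne : (D b).Nonempty := by
    rw [Set.nonempty_iff_ne_empty]
    exact fun h => hb (eq_zero_of_D_eq_empty hred b h)
  obtain ⟨x, hxA, hxD⟩ := nonempty_preirreducible_inter hA (isOpen_D b) hAne hDne
  obtain ⟨e, heO, rfl⟩ := hxA
  obtain ⟨E', e', he', hee'⟩ := Set.mem_iUnion.1 hxD
  obtain ⟨EW, pφ, pψ, w, hw1, hw2⟩ := exists_common_chart E E' e e' hee'.symm
  refine ⟨e, heO, ?_⟩
  rw [← hw1]
  have h1 : w ∈ EW.obj.left.left.basicOpen (val b EW) :=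
    (mem_basicOpen_val b pψ w).mpr (by rw [hw2]; exact he')
  exact (mem_basicOpen_val b pφ w).mp h1

/-- evaluation of global functions in the stalk of a chart at a point, as a ring homomorphism -/
noncomputable def germHom (E : EtOver X) (t : E.obj.left.left) :
    ↥(gsectEt (OEt X)) →+* E.obj.left.left.presheaf.stalk t :=
  (E.obj.left.left.presheaf.germ ⊤ t trivial).hom.comp
    ((ULift.ringEquiv (R := Γ(E.obj.left.left, ⊤))).toRingHom.comp
      (limit.π (OEt X).obj (op E)).hom)

theorem germHom_apply (E : EtOver X) (t : E.obj.left.left) (f : ↥(gsectEt (OEt X))) :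
    germHom E t f = E.obj.left.left.presheaf.germ ⊤ t trivial (val f E) := rfl

theorem exists_stalk_div (hred : IsReducedSp X) [IrreducibleSpace (Points X)]
    {U : Over S} (p : (yon S).obj U ⟶ X) (hp1 : RepWith @Etale p) (hp2 : RepWith @Surjective p)
    (hU : ∀ u : U.left, IsDomain (U.left.presheaf.stalk u) ∧
      IsIntegrallyClosed (U.left.presheaf.stalk u))
    (a b : ↥(gsectEt (OEt X))) (hb : b ≠ 0) (P : Polynomial ↥(gsectEt (OEt X))) (hP : P.Monic)
    (hroot : (P.scaleRoots b).eval a = 0) (E : EtOver X) (e : E.obj.left.left) :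
    ∃ q : E.obj.left.left.presheaf.stalk e,
      E.obj.left.left.presheaf.germ ⊤ e trivial (val b E) * q =
        E.obj.left.left.presheaf.germ ⊤ e trivial (val a E) := by
  obtain ⟨t, ht⟩ := surjective_ofPt_of_repWith_surjective p hp2 (Points.ofPt E.obj.hom e)
  obtain ⟨EW, pφ, pψ, w, hw1, hw2⟩ := exists_common_chart E (EtOver.mk p hp1) e t ht.symm
  subst hw1
  subst hw2
  obtain ⟨hdom, hic⟩ := hU (pψ.hom.left.left w)
  haveI hdom' : IsDomain ↑((EtOver.mk p hp1).obj.left.left.presheaf.stalk
    (pψ.hom.left.left w)) := hdom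
  haveI hic' : IsIntegrallyClosed ↑((EtOver.mk p hp1).obj.left.left.presheaf.stalk
    (pψ.hom.left.left w)) := hic
  have hne : germHom (EtOver.mk p hp1) (pψ.hom.left.left w) b ≠ 0 :=
    germ_ne_zero_of_dense (val b (EtOver.mk p hp1)) (dense_basicOpen hred b hb (EtOver.mk p hp1)) _
  obtain ⟨q₀, hq₀⟩ := exists_mul_eq_of_scaleRoots (germHom (EtOver.mk p hp1) (pψ.hom.left.left w))
    a b P hP hroot hne
  rw [germHom_apply, germHom_apply] at hq₀
  have hfl : Flat pφ.hom.left.left := by
    have := EtOver.etale_left pφ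
    infer_instance
  apply exists_of_flat_stalk pφ.hom.left.left w (val a E) (val b E)
  refine ⟨(pψ.hom.left.left.stalkMap w).hom q₀, ?_⟩
  rw [val_comp b pφ, val_comp a pφ, ← val_comp b pψ, ← val_comp a pψ]
  have hb' := Scheme.Hom.germ_stalkMap_apply pψ.hom.left.left ⊤ w trivial (val b (EtOver.mk p hp1))
  have ha' := Scheme.Hom.germ_stalkMap_apply pψ.hom.left.left ⊤ w trivial (val a (EtOver.mk p hp1))
  change _ = EW.obj.left.left.presheaf.germ ⊤ w trivial
    (pψ.hom.left.left.appTop (val b (EtOver.mk p hp1))) at hb'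
  change _ = EW.obj.left.left.presheaf.germ ⊤ w trivial
    (pψ.hom.left.left.appTop (val a (EtOver.mk p hp1))) at ha'
  rw [← hb', ← ha', ← hq₀, map_mul]

end Groth.Agent.Lib.Helper53.GsectNormal
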