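import Groth.Agent.Lib.Helper53.GsectNormal

/-!
# Global functions on a normal integral algebraic space form a normal domain, part 2 (helper53)
-/

set_option autoImplicit false
set_option linter.style.haveILetI false
universe u
open CategoryTheory CategoryTheory.Limits AlgebraicGeometry Opposite
open AlgSp

namespace Groth.Agent.Lib.Helper53.GsectNormal

variable {S : Scheme.{u}} {X : Sp S}

open Groth.Agent.Lib.Helper51 Groth.Agent.Lib.Helper52 Groth.Agent.Lib.Helper78.GsectDomain
open Groth.Agent.Lib.Helper53.DivGlue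

theorem res_top {E : Scheme.{u}} (a : Γ(E, ⊤)) : res ⊤ a = a := by
  unfold res
  have : (homOfLE (le_top : (⊤ : E.Opens) ≤ ⊤)) = 𝟙 _ := Subsingleton.elim _ _
  rw [this, op_id, E.presheaf.map_id]
  rfl

theorem exists_div (hred : IsReducedSp X) [IrreducibleSpace (Points X)]
    {U : Over S} (p : (yon S).obj U ⟶ X) (hp1 : RepWith @Etale p) (hp2 : RepWith @Surjective p)
    (hU : ∀ u : U.left, IsDomain (U.left.presheaf.stalk u) ∧
      IsIntegrallyClosed (U.left.presheaf.stalk u))
    (a b : ↥(gsectEt (OEt X))) (hb : b ≠ 0) (P : Polynomial ↥(gsectEt (OEt X))) (hP : P.Monic)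
    (hroot : (P.scaleRoots b).eval a = 0) (E : EtOver X) :
    ∃ g : Γ(E.obj.left.left, ⊤), val b E * g = val a E := by
  haveI := isReduced_etOver hred E
  apply exists_of_local
  · intro e
    exact exists_local_of_stalk _ _ e (exists_stalk_div hred p hp1 hp2 hU a b hb P hP hroot E e)
  · exact locNZD_of_dense _ (dense_basicOpen hred b hb E)

theorem div_unique (hred : IsReducedSp X) [IrreducibleSpace (Points X)]
    (b : ↥(gsectEt (OEt X))) (hb : b ≠ 0) (E : EtOver X) (x y : Γ(E.obj.left.left, ⊤))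
    (h : val b E * x = val b E * y) : x = y := by
  haveI := isReduced_etOver hred E
  have := locNZD_of_dense (val b E) (dense_basicOpen hred b hb E) ⊤ (x - y)
    (by rw [res_top, mul_sub, h, sub_self])
  exact sub_eq_zero.mp this

theorem exists_global (g : ∀ E : EtOver X, Γ(E.obj.left.left, ⊤))
    (hg : ∀ {E E' : EtOver X} (m : E ⟶ E'), m.hom.left.left.appTop (g E') = g E) :
    ∃ y : ↥(gsectEt (OEt X)), ∀ E, val y E = g E := by
  let t := isLimitOfPreserves (forget CommRingCat.{u + 1}) (limit.isLimit (OEt X).obj)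
  let sec : ((OEt X).obj ⋙ forget CommRingCat.{u + 1}).sections :=
    ⟨fun j => (ULift.up (g j.unop) : ULift.{u + 1} Γ(j.unop.obj.left.left, ⊤)), by
      intro j j' f
      exact (OEt_map f.unop (ULift.up (g j.unop))).trans (congrArg ULift.up (hg f.unop))⟩
  refine ⟨(Types.isLimitEquivSections t).symm sec, fun E => ?_⟩
  have h := Types.isLimitEquivSections_symm_apply t sec (op E)
  unfold val
  exact congrArg ULift.down h

theorem val_ext (f g : ↥(gsectEt (OEt X))) (h : ∀ E, val f E = val g E) : f = g :=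
  gsectEt_OEt_ext f g fun E => ULift.ext _ _ (h E)

open Polynomial in
theorem main (hX : IsIntegralSp X)
    (hXn : EtaleLocally (fun U => ∀ u : ↥U, IsDomain ↥(U.presheaf.stalk u) ∧
      IsIntegrallyClosed ↥(U.presheaf.stalk u)) X) :
    IsDomain ↥(gsectEt (OEt X)) ∧ IsIntegrallyClosed ↥(gsectEt (OEt X)) := by
  haveI hirr := hX.2.2
  have hred := hX.1
  haveI hdom : IsDomain ↥(gsectEt (OEt X)) := isDomain_gsectEt hred
  refine ⟨hdom, ?_⟩
  obtain ⟨U, p, hp1, hp2, hU⟩ := hXn
  rw [isIntegrallyClosed_iff (FractionRing ↥(gsectEt (OEt X)))]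
  intro x hx
  obtain ⟨a, b, hbnz, rfl⟩ := IsFractionRing.div_surjective (A := ↥(gsectEt (OEt X))) x
  obtain ⟨P, hP, hPx⟩ := hx
  have hb : b ≠ 0 := nonZeroDivisors.ne_zero hbnz
  have hinj := IsFractionRing.injective ↥(gsectEt (OEt X)) (FractionRing ↥(gsectEt (OEt X)))
  have h1 := scaleRoots_eval₂_eq_zero_of_eval₂_div_eq_zero hinj hPx hbnz
  rw [Polynomial.eval₂_hom] at h1
  have hroot : (P.scaleRoots b).eval a = 0 := hinj (by rw [h1, map_zero])
  choose g hg using exists_div hred p hp1 hp2 hU a b hb P hP hroot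
  obtain ⟨y, hy⟩ := exists_global g (by
    intro E E' m
    apply div_unique hred b hb E
    rw [hg E, ← val_comp b m, ← map_mul, hg E', val_comp])
  refine ⟨y, ?_⟩
  have hby : b * y = a := val_ext _ _ fun E => by rw [val_mul, hy, hg]
  have hfb : algebraMap ↥(gsectEt (OEt X)) (FractionRing ↥(gsectEt (OEt X))) b ≠ 0 := by
    intro h
    exact hb (hinj (by rw [h, map_zero]))
  rw [eq_div_iff hfb, ← map_mul, mul_comm, hby]

end Groth.Agent.Lib.Helper53.GsectNormal
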