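import Groth.Agent.Lib.Helper53.TorsQuot

/-!
# Ind-objects of cofinite type
-/

set_option autoImplicit false
universe v

namespace Groth.Agent.Helper53.IndCof

open CategoryTheory Limits Groth.Agent.Helper53.Chase

variable {C : Type v} [SmallCategory C] [Abelian C]

instance : (Ind.yoneda (C := C)).Additive := Functor.additive_of_preserves_binary_products _

/-- being (isomorphic to) an object of `C`. -/
abbrev Fin (A : Ind C) : Prop := (Ind.yoneda (C := C)).essImage A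

lemma fin_of_iso {A B : Ind C} (e : A ≅ B) (h : Fin A) : Fin B :=
  Functor.essImage.ofIso e h

lemma fin_kernel {A B : Ind C} (f : A ⟶ B) (hA : Fin A) (hB : Fin B) : Fin (kernel f) := by
  obtain ⟨X, ⟨eA⟩⟩ := hA
  obtain ⟨Y, ⟨eB⟩⟩ := hB
  obtain ⟨g, hg⟩ := (Ind.yoneda (C := C)).map_surjective (eA.hom ≫ f ≫ eB.inv)
  exact ⟨kernel g, ⟨PreservesKernel.iso _ g ≪≫
    kernel.mapIso _ _ eA eB (by rw [hg]; simp)⟩⟩

lemma fin_cokernel {A B : Ind C} (f : A ⟶ B) (hA : Fin A) (hB : Fin B) : Fin (cokernel f) := by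
  obtain ⟨X, ⟨eA⟩⟩ := hA
  obtain ⟨Y, ⟨eB⟩⟩ := hB
  obtain ⟨g, hg⟩ := (Ind.yoneda (C := C)).map_surjective (eA.hom ≫ f ≫ eB.inv)
  exact ⟨cokernel g, ⟨PreservesCokernel.iso _ g ≪≫
    cokernel.mapIso _ _ eA eB (by rw [hg]; simp)⟩⟩

lemma torsGen (htor : ∀ X : C, ∃ n : ℕ, 0 < n ∧ n • 𝟙 X = 0) (A : Ind C) : TorsGen A := by
  intro T c hc
  apply Ind.isSeparating_range_yoneda
  intro G hG x
  obtain ⟨X⟩ := hG
  obtain ⟨m, hm, hmX⟩ := htor X
  have h0 : x ≫ (m • 𝟙 A) = 0 := by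
    rw [← nsmul_id_comm, ← CategoryTheory.Functor.map_id, ← Functor.map_nsmul, hmX,
      Functor.map_zero, zero_comp]
  rw [comp_zero, ← kernel.lift_ι _ x h0, Category.assoc, hc m hm, comp_zero]

lemma dom_map {X Y Z : C} {a : X ⟶ Z} {b : Y ⟶ Z} (h : Dom a b) :
    Dom ((Ind.yoneda (C := C)).map a) (Ind.yoneda.map b) := by
  rw [dom_iff] at h ⊢
  rw [← cancel_mono (cokernelComparison b (Ind.yoneda (C := C))), Category.assoc,
    π_comp_cokernelComparison, ← Functor.map_comp, h, Functor.map_zero, zero_comp]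

lemma dom_of_map {X Y Z : C} {a : X ⟶ Z} {b : Y ⟶ Z}
    (h : Dom ((Ind.yoneda (C := C)).map a) (Ind.yoneda.map b)) : Dom a b := by
  intro T c hc
  apply (Ind.yoneda (C := C)).map_injective
  rw [Functor.map_comp, Functor.map_zero]
  apply h
  rw [← Functor.map_comp, hc, Functor.map_zero]

lemma dom_of_imageSubobject_le {X Y Z : C} {a : X ⟶ Z} {b : Y ⟶ Z}
    (h : imageSubobject a ≤ imageSubobject b) : Dom a b := by
  intro T c hc
  have h1 : (imageSubobject b).arrow ≫ c = 0 := by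
    rw [← cancel_epi (factorThruImageSubobject b), imageSubobject_arrow_comp_assoc, hc, comp_zero]
  rw [← imageSubobject_arrow_comp a, ← Subobject.ofLE_arrow h, Category.assoc, Category.assoc, h1,
    comp_zero, comp_zero]

lemma artC {X : C} [IsArtinianObject X] (V : ℕ → C) (g : ∀ k, V k ⟶ X)
    (hg : ∀ k, Dom (g (k + 1)) (g k)) : ∃ N, ∀ k, N ≤ k → Dom (g k) (g (k + 1)) := by
  obtain ⟨N, hN⟩ := antitone_chain_condition_of_isArtinianObject (X := X)
    ⟨fun k => OrderDual.toDual (imageSubobject (g k)),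
      monotone_nat_of_le_succ (fun k => (hg k).imageSubobject_le)⟩
  refine ⟨N, fun k hk => dom_of_imageSubobject_le ?_⟩
  have h1 := hN k hk
  have h2 := hN (k + 1) (by omega)
  simp only [OrderHom.coe_mk, EmbeddingLike.apply_eq_iff_eq] at h1 h2
  rw [← h1, h2]

lemma artInd (hart : ∀ X : C, IsArtinianObject X) {K : Ind C} (hK : Fin K) (W : ℕ → Ind C)
    (hW : ∀ k, Fin (W k)) (w : ∀ k, W k ⟶ K) (hw : ∀ k, Dom (w (k + 1)) (w k)) :
    ∃ N, ∀ k, N ≤ k → Dom (w k) (w (k + 1)) := by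
  obtain ⟨X, ⟨e⟩⟩ := hK
  choose V hV using hW
  let eW : ∀ k, Ind.yoneda.obj (V k) ≅ W k := fun k => (hV k).some
  have hg : ∀ k, ∃ g : V k ⟶ X, Ind.yoneda.map g = (eW k).hom ≫ w k ≫ e.inv :=
    fun k => (Ind.yoneda (C := C)).map_surjective _
  choose g hg using hg
  have hw' : ∀ k, w k = (eW k).inv ≫ Ind.yoneda.map (g k) ≫ e.hom := by
    intro k
    rw [hg]
    simp
  have := hart X
  obtain ⟨N, hN⟩ := artC V g (fun k => by
    apply dom_of_map
    rw [hg, hg]
    exact Dom.of_epi_comp _ (((hw k).comp_right e.inv).precomp (eW (k + 1)).hom))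
  refine ⟨N, fun k hk => ?_⟩
  rw [hw' k, hw' (k + 1)]
  exact Dom.of_epi_comp _ (((dom_map (hN k hk)).comp_right e.hom).precomp (eW k).inv)

/-- cofinite type with respect to `q`. -/
def Cof (A : Ind C) (q : ℕ) : Prop := ∀ k : ℕ, Fin (kernel ((q ^ k) • 𝟙 A))

lemma fin_kernel_congr {A : Ind C} {a b : ℕ} (h : a = b) (hA : Fin (kernel (a • 𝟙 A))) :
    Fin (kernel (b • 𝟙 A)) := by
  subst h
  exact hA

lemma Cof.pow {A : Ind C} {q : ℕ} (h : Cof A q) (n : ℕ) : Cof A (q ^ n) := fun k =>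
  fin_kernel_congr (pow_mul q n k) (h _)

lemma Cof.of_iso {A B : Ind C} {q : ℕ} (h : Cof A q) (e : A ≅ B) : Cof B q := fun k =>
  fin_of_iso (kernel.mapIso _ _ e e (nsmul_id_comm e.hom _)) (h k)

lemma exists_stabCat (hart : ∀ X : C, IsArtinianObject X) {A : Ind C} {q : ℕ} (hA : Cof A q) :
    ∃ N, StabCat A q N := by
  let w : ∀ k, kernel ((q ^ (k + 1)) • 𝟙 A) ⟶ kernel ((q ^ (0 + 1)) • 𝟙 A) := fun k =>
    kernel.lift _ (wK A q k) (by
      rw [Category.assoc, nsmul_id_comp_nsmul_id, zero_add, pow_one, ← pow_succ, kernel.condition])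
  have hwι : ∀ k, w k ≫ kernel.ι _ = wK A q k := fun k => kernel.lift_ι _ _ _
  obtain ⟨N, hN⟩ := artInd hart (hA (0 + 1)) (fun k => kernel ((q ^ (k + 1)) • 𝟙 A))
    (fun k => hA (k + 1)) w (fun k => by
      have : w (k + 1) = uK A q (k + 1) ≫ w k := by
        rw [← cancel_mono (kernel.ι _), Category.assoc, hwι, hwι, uK_ι_assoc,
          nsmul_id_comp_nsmul_id, ← pow_succ']
      rw [this]
      exact dom_comp_left _ _)
  refine ⟨N, fun k hk => ?_⟩
  rw [← hwι k, ← hwι (k + 1)]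
  exact (hN k hk).comp_right _

variable (hart : ∀ X : C, IsArtinianObject X) (htor : ∀ X : C, ∃ n : ℕ, 0 < n ∧ n • 𝟙 X = 0)
include hart htor

/-- `A / q A` is in `C`. -/
theorem fin_cokernel_smul {A : Ind C} {q : ℕ} (hA : Cof A q) : Fin (cokernel (q • 𝟙 A)) := by
  obtain ⟨N, hN⟩ := exists_stabCat hart hA
  have := isIso_cokerCmp (epi_ρ (torsGen htor A) hN)
  exact fin_of_iso (asIso (cokerCmp A q N)) (fin_cokernel _ (hA (N + 1)) (hA N))

/-- the images of multiplication by `q ^ n` stabilise. -/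
theorem exists_imageSubobject_stab {A : Ind C} {q : ℕ} (hA : Cof A q) :
    ∃ N : ℕ, ∀ n : ℕ, N ≤ n → imageSubobject ((q ^ n) • 𝟙 A) = imageSubobject ((q ^ N) • 𝟙 A) := by
  obtain ⟨N, hN⟩ := exists_stabCat hart hA
  refine ⟨N, fun n hn => ?_⟩
  induction n, hn using Nat.le_induction with
  | base => rfl
  | succ n hn ih =>
    rw [← ih]
    apply le_antisymm
    · have : (q ^ (n + 1)) • 𝟙 A = (q • 𝟙 A) ≫ ((q ^ n) • 𝟙 A) := by
        rw [nsmul_id_comp_nsmul_id, ← pow_succ']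
      rw [this]
      exact (dom_comp_left _ _).imageSubobject_le
    · exact (dom_pow_succ (torsGen htor A) hN n hn).imageSubobject_le

omit hart htor in
lemma Cof.kernel {A B : Ind C} {q : ℕ} (hA : Cof A q) (hB : Cof B q) (f : A ⟶ B) :
    Cof (kernel f) q := fun k =>
  fin_of_iso (kerKerIso f (q ^ k)).symm (fin_kernel _ (hA k) (hB k))

omit hart htor in
lemma Cof.pow_one {A : Ind C} {q : ℕ} (h : Cof A q) : Fin (Limits.kernel (q • 𝟙 A)) :=
  fin_kernel_congr (_root_.pow_one q) (h 1)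

/-- cofinite type passes to quotients by cofinite-type subobjects. -/
theorem Cof.of_shortExact {S : ShortComplex (Ind C)} (hS : S.ShortExact) {q : ℕ}
    (h₁ : Cof S.X₁ q) (h₂ : Cof S.X₂ q) : Cof S.X₃ q := by
  intro k
  obtain ⟨N, hN⟩ := exists_stabCat hart (h₁.pow k)
  have hgen := epi_ρ (torsGen htor S.X₁) hN
  have := Quot.isIso_kerMap_j (q ^ k) N hS hgen
  refine fin_of_iso (asIso (kerMap (Quot.j S (q ^ k) N) (q ^ k))) ?_
  have hJ : Fin (Quot.J S (q ^ k) N) := fin_cokernel _ (h₁.pow k (N + 1)) (h₂.pow k (N + 1))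
  exact fin_kernel _ hJ hJ

theorem Cof.cokernel {A B : Ind C} {q : ℕ} (hA : Cof A q) (hB : Cof B q) (f : A ⟶ B) :
    Cof (cokernel f) q := by
  have hK : Cof (Limits.kernel f) q := Cof.kernel hA hB f
  have h1 : Cof (Abelian.coimage f) q :=
    Cof.of_shortExact hart htor
      (S := ShortComplex.mk (kernel.ι f) (cokernel.π (kernel.ι f)) (cokernel.condition _))
      { exact := ShortComplex.exact_cokernel _ } hK hA
  have h2 : Cof (Abelian.image f) q := h1.of_iso (Abelian.coimageIsoImage f)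
  exact Cof.of_shortExact hart htor
    (S := ShortComplex.mk (kernel.ι (cokernel.π f)) (cokernel.π f) (kernel.condition _))
    { exact := ShortComplex.exact_kernel _ } h2 hB

end Groth.Agent.Helper53.IndCof
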