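import Groth.Agent.Lib.Helper53.TorsChase

/-!
# Decreasing chains of subobjects of a torsion object
-/

set_option autoImplicit false
universe v u

namespace Groth.Agent.Helper53.Chase

open CategoryTheory Limits

variable {𝒜 : Type u} [Category.{v} 𝒜] [Abelian 𝒜]

/-- `A` is the union of its `q`-power torsion subobjects. -/
def TorsGenPow (A : 𝒜) (q : ℕ) : Prop :=
  ∀ ⦃T : 𝒜⦄ (c : A ⟶ T), (∀ j : ℕ, kernel.ι ((q ^ j) • 𝟙 A) ≫ c = 0) → c = 0

lemma wK_comp_smul (A : 𝒜) (q k : ℕ) : wK A q k ≫ ((q ^ (0 + 1)) • 𝟙 A) = 0 := by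
  rw [Category.assoc, nsmul_id_comp_nsmul_id, zero_add, pow_one, ← pow_succ, kernel.condition]

namespace Chain

variable {A : 𝒜} (B : ℕ → 𝒜) (a : ∀ m, B m ⟶ A) (q : ℕ)

/-- the diagonal maps `B_j[q^(j+1)] ⟶ A`. -/
noncomputable abbrev dD (j : ℕ) : kernel ((q ^ (j + 1)) • 𝟙 (B j)) ⟶ A :=
  wK (B j) q j ≫ a j

/-- the diagonal maps `B_j[q^(j+1)] ⟶ A[q]`. -/
noncomputable def wD (j : ℕ) :
    kernel ((q ^ (j + 1)) • 𝟙 (B j)) ⟶ kernel ((q ^ (0 + 1)) • 𝟙 A) :=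
  kernel.lift _ (dD B a q j) (by
    rw [Category.assoc, ← nsmul_id_comm, ← Category.assoc, wK_comp_smul, zero_comp])

@[reassoc (attr := simp)]
lemma wD_ι (j : ℕ) : wD B a q j ≫ kernel.ι _ = dD B a q j := by
  simp [wD]

/-- multiplication by `q ^ N` on `B m`, followed by the inclusion. -/
noncomputable abbrev β (N m : ℕ) : B m ⟶ A := ((q ^ N) • 𝟙 (B m)) ≫ a m

variable {B a}

lemma anti_le (hanti : ∀ m, Dom (a (m + 1)) (a m)) (m m' : ℕ) (h : m ≤ m') :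
    Dom (a m') (a m) := by
  induction m', h using Nat.le_induction with
  | base => exact Dom.refl _
  | succ n _ ih => exact (hanti n).trans ih

variable [∀ m, Mono (a m)] (hanti : ∀ m, Dom (a (m + 1)) (a m))
include hanti

lemma diag_dom (j : ℕ) : Dom (wD B a q (j + 1)) (wD B a q j) := by
  apply dom_of_ap
  intro x
  obtain ⟨ξ', hξ'⟩ := (hanti j).exists_ap (ap (kernel.ι _) x)
  have h0 : (q ^ (j + 1 + 1)) • ξ' = 0 := by
    apply injective_ap (a j)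
    rw [map_nsmul, hξ', ← map_nsmul, ker_smul_ap, map_zero, map_zero]
  have h1 : (q ^ (j + 1)) • (q • ξ') = 0 := by
    rw [← mul_smul, ← pow_succ, h0]
  obtain ⟨z, hz⟩ := exists_ker_of_smul (B j) (q ^ (j + 1)) (q • ξ') h1
  refine ⟨z, ?_⟩
  apply injective_ap (kernel.ι ((q ^ (0 + 1)) • 𝟙 A))
  have e1 : ap (dD B a q j) z = (q ^ (j + 1)) • ap (a j) ξ' := by
    rw [ap_comp, ap_comp, ap_nsmul_id, hz, ← mul_smul, ← pow_succ, map_nsmul]
  have e2 : ap (dD B a q (j + 1)) x =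
      (q ^ (j + 1)) • ap (a (j + 1)) (ap (kernel.ι _) x) := by
    rw [ap_comp, ap_comp, ap_nsmul_id, map_nsmul]
  rw [← ap_comp, ← ap_comp, wD_ι, wD_ι, e1, e2, hξ']

lemma stab₂ (N : ℕ) (hdiag : ∀ j, N ≤ j → Dom (dD B a q N) (dD B a q j)) (m : ℕ) (hm : N ≤ m) :
    Tors.Stab₂ (LinearMap.range (ap (a N))).toAddSubgroup
      (LinearMap.range (ap (a m))).toAddSubgroup q N := by
  intro k hk s hs hs0
  obtain ⟨s₀, rfl⟩ := hs
  have hs0' : (q ^ (k + 1)) • s₀ = 0 := by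
    apply injective_ap (a N)
    rw [map_nsmul, hs0, map_zero]
  have h1 : (q ^ (N + 1)) • ((q ^ (k - N)) • s₀) = 0 := by
    rw [← mul_smul, ← pow_add]
    have : N + 1 + (k - N) = k + 1 := by omega
    rw [this, hs0']
  obtain ⟨σ, hσ⟩ := exists_ker_of_smul (B N) _ _ h1
  obtain ⟨τ, hτ⟩ := (hdiag (max (k + 1) m) (le_trans hm (le_max_right _ _))).exists_ap σ
  obtain ⟨ζ, hζ⟩ := (anti_le hanti m (max (k + 1) m) (le_max_right _ _)).exists_ap
    (ap (kernel.ι _) τ)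
  have e1 : k + 1 + (max (k + 1) m - k - 1) = max (k + 1) m := by
    have := le_max_left (k + 1) m
    omega
  have e2 : k + 2 + (max (k + 1) m - k - 1) = max (k + 1) m + 1 := by
    have := le_max_left (k + 1) m
    omega
  have h2 : (q ^ (max (k + 1) m)) • ap (a m) ζ = (q ^ k) • ap (a N) s₀ := by
    rw [hζ]
    have : ap (dD B a q N) σ = (q ^ k) • ap (a N) s₀ := by
      rw [ap_comp, ap_comp, ap_nsmul_id, hσ, ← mul_smul, ← pow_add, map_nsmul]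
      have : N + (k - N) = k := by omega
      rw [this]
    rw [← this, ← hτ, ap_comp, ap_comp, ap_nsmul_id, map_nsmul]
  have h3 : (q ^ (max (k + 1) m + 1)) • ap (a m) ζ = 0 := by
    rw [hζ, ← map_nsmul, ker_smul_ap, map_zero]
  refine ⟨(q ^ (max (k + 1) m - k - 1)) • ap (a m) ζ, ?_, ?_, ?_⟩
  · have hζm : ap (a m) ζ ∈ (LinearMap.range (ap (a m))).toAddSubgroup :=
      LinearMap.mem_range_self _ ζ
    exact AddSubgroup.nsmul_mem _ hζm _
  · rw [← mul_smul, ← pow_add, e2, h3]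
  · rw [← mul_smul, ← pow_add, e1, h2]

lemma dom_β (hB : ∀ m, TorsGenPow (B m) q) (N : ℕ)
    (hdiag : ∀ j, N ≤ j → Dom (dD B a q N) (dD B a q j)) (m : ℕ) (hm : N ≤ m) :
    Dom (β B a q N N) (β B a q N m) := by
  intro T c hc
  apply hB N
  intro j
  apply eq_zero_of_ap
  intro x
  have hle : (LinearMap.range (ap (a m))).toAddSubgroup ≤
      (LinearMap.range (ap (a N))).toAddSubgroup := by
    rintro _ ⟨y, rfl⟩
    obtain ⟨y', hy'⟩ := (anti_le hanti N m hm).exists_ap y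
    exact ⟨y', hy'⟩
  obtain ⟨s', ⟨ξ', rfl⟩, hs'⟩ := Tors.exists_smul_of_stab₂ _ _ hle q N
    (stab₂ q hanti N hdiag m hm) j (ap (a N) (ap (kernel.ι _) x)) ⟨_, rfl⟩ (by
      rw [smul_comm, ← map_nsmul, ker_smul_ap, map_zero, smul_zero])
  have h1 : ap (β B a q N N) (ap (kernel.ι ((q ^ j) • 𝟙 (B N))) x) = ap (β B a q N m) ξ' := by
    rw [ap_comp, ap_comp, ap_nsmul_id, ap_nsmul_id, map_nsmul, map_nsmul, hs']
  rw [ap_comp, ap_comp, h1, ← ap_comp, hc, ap_zero]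

end Chain

namespace Chain2

variable {A B₀ : 𝒜} (a₀ : B₀ ⟶ A) (B : ℕ → 𝒜) (a : ∀ m, B m ⟶ A) (l : ∀ m, B m ⟶ B₀) (r : ℕ)

/-- the induced maps `B m / r ⟶ B₀ / r`. -/
noncomputable def vD (m : ℕ) : cokernel (r • 𝟙 (B m)) ⟶ cokernel (r • 𝟙 B₀) :=
  cokernel.map _ _ (l m) (l m) (nsmul_id_comm (l m) r)

@[reassoc (attr := simp)]
lemma π_vD (m : ℕ) : cokernel.π _ ≫ vD B l r m = l m ≫ cokernel.π _ := by
  simp [vD]

variable {a₀ B a l} [Mono a₀] (hl : ∀ m, l m ≫ a₀ = a m)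
include hl

lemma dom_vD (hanti : ∀ m, Dom (a (m + 1)) (a m)) (m : ℕ) :
    Dom (vD B l r (m + 1)) (vD B l r m) := by
  apply dom_of_ap
  intro z
  obtain ⟨x, rfl⟩ := surjective_ap (cokernel.π _) z
  obtain ⟨x', hx'⟩ := (hanti m).exists_ap x
  refine ⟨ap (cokernel.π _) x', ?_⟩
  rw [← ap_comp, ← ap_comp, π_vD, π_vD, ap_comp, ap_comp]
  congr 1
  apply injective_ap a₀
  rw [← ap_comp, ← ap_comp, hl, hl, hx']

omit [Mono a₀] in
lemma dom_succ (m : ℕ) (hv : Dom (vD B l r m) (vD B l r (m + 1)))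
    (hβ : Dom ((r • 𝟙 B₀) ≫ a₀) ((r • 𝟙 (B (m + 1))) ≫ a (m + 1))) :
    Dom (a m) (a (m + 1)) := by
  apply dom_of_ap
  intro x
  obtain ⟨z', hz'⟩ := hv.exists_ap (ap (cokernel.π _) x)
  obtain ⟨x', rfl⟩ := surjective_ap (cokernel.π _) z'
  rw [← ap_comp, ← ap_comp, π_vD, π_vD, ap_comp, ap_comp] at hz'
  obtain ⟨y, hy⟩ := cokernel_exact_ap (r • 𝟙 B₀) (ap (l m) x - ap (l (m + 1)) x')
    (by rw [map_sub, hz', sub_self])
  obtain ⟨y', hy'⟩ := hβ.exists_ap y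
  refine ⟨x' + r • y', ?_⟩
  have h1 : ap (a (m + 1)) (r • y') = ap a₀ (ap (l m) x - ap (l (m + 1)) x') := by
    rw [← hy, ← ap_comp, ← hy', ap_comp, ap_nsmul_id]
  rw [map_add, h1, map_sub, ← ap_comp, ← ap_comp, hl, hl]
  abel

end Chain2

end Groth.Agent.Helper53.Chase
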