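import Groth.Agent.Lib.Helper53.IndCof
import Groth.Agent.Lib.Helper53.TorsChain

/-!
# Decreasing chains of cofinite-type subobjects stabilise
-/

set_option autoImplicit false
universe v

namespace Groth.Agent.Helper53.IndCof

open CategoryTheory Limits Groth.Agent.Helper53.Chase

variable {C : Type v} [SmallCategory C] [Abelian C]

lemma torsGenPow (p : ℕ) (htor : ∀ X : C, ∃ n : ℕ, (p ^ n) • 𝟙 X = 0) (A : Ind C) :
    TorsGenPow A p := by
  intro T c hc
  apply Ind.isSeparating_range_yoneda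
  intro G hG x
  obtain ⟨X⟩ := hG
  obtain ⟨m, hmX⟩ := htor X
  have h0 : x ≫ ((p ^ m) • 𝟙 A) = 0 := by
    rw [← nsmul_id_comm, ← CategoryTheory.Functor.map_id, ← Functor.map_nsmul, hmX,
      Functor.map_zero, zero_comp]
  rw [comp_zero, ← kernel.lift_ι _ x h0, Category.assoc, hc m, comp_zero]

theorem chain_stab (hart : ∀ X : C, IsArtinianObject X) (p : ℕ) (hp : 0 < p)
    (htor : ∀ X : C, ∃ n : ℕ, (p ^ n) • 𝟙 X = 0) {A : Ind C} (hA : Cof A p)
    (S : ℕ → Subobject A) (hS : Antitone S) (hcof : ∀ m, Cof ((S m : Subobject A) : Ind C) p) :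
    ∃ N : ℕ, ∀ m : ℕ, N ≤ m → S m = S N := by
  have htor' : ∀ X : C, ∃ n : ℕ, 0 < n ∧ n • 𝟙 X = 0 := fun X => by
    obtain ⟨n, hn⟩ := htor X
    exact ⟨p ^ n, pow_pos hp n, hn⟩
  let B : ℕ → Ind C := fun m => ((S m : Subobject A) : Ind C)
  let a : ∀ m, B m ⟶ A := fun m => (S m).arrow
  have hanti : ∀ m, Dom (a (m + 1)) (a m) := fun m => by
    have : a (m + 1) = (S (m + 1)).ofLE (S m) (hS (Nat.le_succ m)) ≫ a m :=
      (Subobject.ofLE_arrow _).symm
    rw [this]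
    exact dom_comp_left _ _
  -- Step 1: the diagonal stabilises
  obtain ⟨N₁, hN₁⟩ := artInd hart (hA (0 + 1))
    (fun j => kernel ((p ^ (j + 1)) • 𝟙 (B j))) (fun j => hcof j (j + 1))
    (Chain.wD B a p) (Chain.diag_dom p hanti)
  have hdiag' : ∀ j, N₁ ≤ j → Dom (Chain.wD B a p N₁) (Chain.wD B a p j) := by
    intro j hj
    induction j, hj using Nat.le_induction with
    | base => exact Dom.refl _
    | succ n hn ih => exact ih.trans (hN₁ n hn)
  have hdiag : ∀ j, N₁ ≤ j → Dom (Chain.dD B a p N₁) (Chain.dD B a p j) := by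
    intro j hj
    rw [← Chain.wD_ι, ← Chain.wD_ι]
    exact (hdiag' j hj).comp_right _
  have hβ : ∀ m, N₁ ≤ m → Dom (Chain.β B a p N₁ N₁) (Chain.β B a p N₁ m) := fun m hm =>
    Chain.dom_β p hanti (fun m => torsGenPow p htor _) N₁ hdiag m hm
  -- Step 3: the quotients by `p ^ N₁`
  let l : ∀ k, B (N₁ + k) ⟶ B N₁ := fun k => (S (N₁ + k)).ofLE (S N₁) (hS (Nat.le_add_right _ _))
  have hl : ∀ k, l k ≫ a N₁ = a (N₁ + k) := fun k => Subobject.ofLE_arrow _
  have hfin : ∀ m, Fin (cokernel ((p ^ N₁) • 𝟙 (B m))) := fun m =>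
    fin_cokernel_smul hart htor' ((hcof m).pow N₁)
  obtain ⟨N₂, hN₂⟩ := artInd hart (hfin N₁)
    (fun k => cokernel ((p ^ N₁) • 𝟙 (B (N₁ + k)))) (fun k => hfin _)
    (Chain2.vD (fun k => B (N₁ + k)) l (p ^ N₁))
    (Chain2.dom_vD (a₀ := a N₁) (a := fun k => a (N₁ + k)) (p ^ N₁) hl (fun k => hanti (N₁ + k)))
  have hsucc : ∀ k, N₂ ≤ k → S (N₁ + (k + 1)) = S (N₁ + k) := by
    intro k hk
    apply le_antisymm (hS (Nat.le_succ _))
    have hd : Dom (a (N₁ + k)) (a (N₁ + (k + 1))) :=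
      Chain2.dom_succ (a₀ := a N₁) (a := fun k => a (N₁ + k)) (l := l) (p ^ N₁) hl k (hN₂ k hk)
        (hβ (N₁ + (k + 1)) (Nat.le_add_right _ _))
    obtain ⟨f, hf⟩ := hd.exists_fac
    exact Subobject.le_of_comm f hf
  refine ⟨N₁ + N₂, fun m hm => ?_⟩
  induction m, hm using Nat.le_induction with
  | base => rfl
  | succ n hn ih =>
    obtain ⟨k, rfl⟩ : ∃ k, n = N₁ + k := ⟨n - N₁, by omega⟩
    rw [← ih]
    exact hsucc k (by omega)

end Groth.Agent.Helper53.IndCof
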