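import Groth.Agent.Lib.Helper53.IndCof

/-!
# The divisible part of an ind-object of cofinite type
-/

set_option autoImplicit false
universe v u

namespace Groth.Agent.Helper53.Chase

open CategoryTheory Limits

variable {𝒜 : Type u} [Category.{v} 𝒜] [Abelian 𝒜]

lemma dom_of_imageSubobject_le' {X Y Z : 𝒜} {a : X ⟶ Z} {b : Y ⟶ Z}
    (h : imageSubobject a ≤ imageSubobject b) : Dom a b := by
  intro T c hc
  have h1 : (imageSubobject b).arrow ≫ c = 0 := by
    rw [← cancel_epi (factorThruImageSubobject b), imageSubobject_arrow_comp_assoc, hc, comp_zero]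
  rw [← imageSubobject_arrow_comp a, ← Subobject.ofLE_arrow h, Category.assoc, Category.assoc, h1,
    comp_zero, comp_zero]

lemma epi_pow_smul {B : 𝒜} {p : ℕ} (h : Epi (p • 𝟙 B)) (k : ℕ) : Epi ((p ^ k) • 𝟙 B) := by
  induction k with
  | zero => simpa using (inferInstance : Epi (𝟙 B))
  | succ k ih =>
    have : (p ^ (k + 1)) • 𝟙 B = ((p ^ k) • 𝟙 B) ≫ (p • 𝟙 B) := by
      rw [nsmul_id_comp_nsmul_id, ← pow_succ]
    rw [this]
    exact epi_comp _ _

end Groth.Agent.Helper53.Chase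

namespace Groth.Agent.Helper53.IndCof

open CategoryTheory Limits Groth.Agent.Helper53.Chase

variable {C : Type v} [SmallCategory C] [Abelian C]

theorem divisiblePart (hart : ∀ X : C, IsArtinianObject X) (p : ℕ) (hp : 0 < p)
    (htor : ∀ X : C, ∃ n : ℕ, (p ^ n) • 𝟙 X = 0) (A : Ind C) (hA : Cof A p) (N : ℕ)
    (hN : ∀ n : ℕ, N ≤ n → imageSubobject ((p ^ n) • 𝟙 A) = imageSubobject ((p ^ N) • 𝟙 A)) :
    Cof ((imageSubobject ((p ^ N) • 𝟙 A) : Subobject A) : Ind C) p ∧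
      Epi (p • 𝟙 ((imageSubobject ((p ^ N) • 𝟙 A) : Subobject A) : Ind C)) ∧
      (∀ D : Subobject A, Epi (p • 𝟙 (D : Ind C)) → D ≤ imageSubobject ((p ^ N) • 𝟙 A)) ∧
      (∀ (Q : Ind C) (q : A ⟶ Q), Fin Q → (imageSubobject ((p ^ N) • 𝟙 A)).arrow ≫ q = 0) := by
  have htor' : ∀ X : C, ∃ n : ℕ, 0 < n ∧ n • 𝟙 X = 0 := fun X => by
    obtain ⟨n, hn⟩ := htor X
    exact ⟨p ^ n, pow_pos hp n, hn⟩
  set Im := imageSubobject ((p ^ N) • 𝟙 A) with hIm
  let e : A ⟶ (Im : Ind C) := factorThruImageSubobject ((p ^ N) • 𝟙 A)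
  have he : e ≫ Im.arrow = (p ^ N) • 𝟙 A := imageSubobject_arrow_comp _
  have hdiv : Epi (p • 𝟙 (Im : Ind C)) := by
    apply epi_of_surjective_ap
    intro x
    obtain ⟨a, rfl⟩ := surjective_ap e x
    have hd : Dom ((p ^ N) • 𝟙 A) ((p ^ (N + 1)) • 𝟙 A) :=
      dom_of_imageSubobject_le' (hN (N + 1) (Nat.le_succ N)).ge
    obtain ⟨a', ha'⟩ := hd.exists_ap a
    refine ⟨ap e a', ?_⟩
    apply injective_ap Im.arrow
    rw [ap_nsmul_id, map_nsmul, ← ap_comp, ← ap_comp, he, ← ha', ap_nsmul_id, ap_nsmul_id,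
      pow_succ', mul_smul]
  refine ⟨?_, hdiv, ?_, ?_⟩
  · -- cofinite type
    have hK : Fin (kernel e) := by
      have : Fin (kernel (e ≫ Im.arrow)) := fin_of_iso (kernelIsoOfEq he.symm) (hA N)
      exact fin_of_iso (kernelCompMono e Im.arrow) this
    exact Cof.of_shortExact hart htor'
      (S := ShortComplex.mk (kernel.ι e) e (kernel.condition e))
      { exact := ShortComplex.exact_kernel _ } (fun k => fin_kernel _ hK hK) hA
  · intro D hD
    have hd : Dom D.arrow ((p ^ N) • 𝟙 A) := by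
      apply dom_of_ap
      intro x
      have := epi_pow_smul hD N
      obtain ⟨x', rfl⟩ := surjective_ap ((p ^ N) • 𝟙 (D : Ind C)) x
      refine ⟨ap D.arrow x', ?_⟩
      rw [ap_nsmul_id, ap_nsmul_id, map_nsmul]
    have h1 := hd.imageSubobject_le
    rwa [imageSubobject_mono, Subobject.mk_arrow] at h1
  · intro Q q hQ
    obtain ⟨X, ⟨eX⟩⟩ := hQ
    obtain ⟨k, hk⟩ := htor X
    have hQ0 : (p ^ k) • 𝟙 Q = 0 := by
      have h1 : (p ^ k) • 𝟙 (Ind.yoneda.obj X) = 0 := by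
        rw [← CategoryTheory.Functor.map_id, ← Functor.map_nsmul, hk, Functor.map_zero]
      rw [← cancel_epi eX.hom, ← nsmul_id_comm, h1, zero_comp, comp_zero]
    have := epi_pow_smul hdiv k
    rw [← cancel_epi ((p ^ k) • 𝟙 (Im : Ind C)), nsmul_id_comm (Im.arrow ≫ q) (p ^ k), hQ0,
      comp_zero, comp_zero]

end Groth.Agent.Helper53.IndCof
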