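import Mathlib

/-!
# Algebra for the graph trick: integrality from universal closedness (helper53)
-/

set_option autoImplicit false
universe u

open Polynomial

namespace Groth.Agent.Lib.Helper53.IntGraph

theorem monic_reverse {A : Type u} [CommRing A] (g : A[X]) (hg : g.coeff 0 = 1) :
    g.reverse.Monic := by
  rcases subsingleton_or_nontrivial A with h | h
  · exact Subsingleton.elim _ _
  · unfold Monic
    rw [reverse_leadingCoeff, trailingCoeff]
    have : g.natTrailingDegree = 0 := by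
      rw [natTrailingDegree_eq_zero]
      right
      rw [hg]
      exact one_ne_zero
    rw [this, hg]

theorem exists_mem_vanishingIdeal {A : Type u} [CommRing A] (C : Set (PrimeSpectrum A[X]))
    (hC : IsClosed C) (hX : ∀ x ∈ C, (X : A[X]) ∉ x.asIdeal) :
    ∃ g ∈ PrimeSpectrum.vanishingIdeal C, g.coeff 0 = 1 := by
  have htop : PrimeSpectrum.vanishingIdeal C ⊔ Ideal.span {(X : A[X])} = ⊤ := by
    by_contra hne
    obtain ⟨m, hm, hle⟩ := Ideal.exists_le_maximal _ hne
    let x : PrimeSpectrum A[X] := ⟨m, hm.isPrime⟩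
    have hx : x ∈ C := by
      rw [← hC.closure_eq, ← PrimeSpectrum.zeroLocus_vanishingIdeal_eq_closure,
        PrimeSpectrum.mem_zeroLocus]
      exact fun a ha => hle (Ideal.mem_sup_left ha)
    exact hX x hx (hle (Ideal.mem_sup_right (Ideal.mem_span_singleton_self _)))
  have h1 : (1 : A[X]) ∈ PrimeSpectrum.vanishingIdeal C ⊔ Ideal.span {(X : A[X])} := by
    rw [htop]; trivial
  obtain ⟨g, hg, r, hr, hsum⟩ := Submodule.mem_sup.1 h1
  obtain ⟨h, rfl⟩ := Ideal.mem_span_singleton'.1 hr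
  refine ⟨g, hg, ?_⟩
  have := congrArg (fun p : A[X] => p.coeff 0) hsum
  simpa using this

/-- the key ring-theoretic step -/
theorem ring_key {A B B' A' : Type u} [CommRing A] [CommRing B] [CommRing B'] [CommRing A']
    (φ : A →+* B) (ι₁ : B →+* B') (ι₂ : A' →+* B') (ev : A[X] ≃+* A')
    (hpo : ∀ (R : Type u) [CommRing R] (α : B →+* R) (β : A' →+* R),
      α.comp φ = (β.comp ev.toRingHom).comp C → ∃ θ : B' →+* R, θ.comp ι₁ = α ∧ θ.comp ι₂ = β)
    (s : B) (g : A[X]) (N : ℕ) (v : B')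
    (h : ι₂ (ev g) ^ N = (ι₂ (ev X) * ι₁ s - 1) * v) :
    ∃ k : ℕ, s ^ k * (eval₂ φ s g.reverse) ^ N = 0 := by
  let R := Localization.Away s
  let α : B →+* R := algebraMap B R
  let y : R := IsLocalization.Away.invSelf s
  have hsy : α s * y = 1 := IsLocalization.Away.mul_invSelf s
  let β₀ : A[X] →+* R := eval₂RingHom (α.comp φ) y
  let β : A' →+* R := β₀.comp ev.symm.toRingHom
  have hβ : α.comp φ = (β.comp ev.toRingHom).comp C := by
    ext a
    simp [β, β₀]
  obtain ⟨θ, hθ1, hθ2⟩ := hpo R α β hβ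
  have e1 : θ (ι₁ s) = α s := by rw [← hθ1]; rfl
  have e2 : θ (ι₂ (ev X)) = y := by
    have : θ (ι₂ (ev X)) = β (ev X) := by rw [← hθ2]; rfl
    rw [this]
    simp [β, β₀]
  have e3 : θ (ι₂ (ev g)) = eval₂ (α.comp φ) y g := by
    have : θ (ι₂ (ev g)) = β (ev g) := by rw [← hθ2]; rfl
    rw [this]
    simp [β, β₀]
  have h0 : (eval₂ (α.comp φ) y g) ^ N = 0 := by
    have := congrArg θ h
    rw [map_pow, map_mul, map_sub, map_mul, map_one, e1, e2, e3, mul_comm y, hsy, sub_self,
      zero_mul] at this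
    exact this
  let _ : Invertible y := ⟨α s, hsy, by rw [mul_comm]; exact hsy⟩
  have hrev := eval₂_reverse_mul_pow (α.comp φ) y g
  have hinv : (⅟y : R) = α s := rfl
  rw [hinv] at hrev
  have h1 : (eval₂ (α.comp φ) (α s) g.reverse) ^ N = 0 := by
    have h2 : (eval₂ (α.comp φ) (α s) g.reverse * y ^ g.natDegree) ^ N = 0 := by rw [hrev, h0]
    rw [mul_pow] at h2
    have h3 := congrArg (fun z => z * ((α s) ^ g.natDegree) ^ N) h2
    simp only [zero_mul] at h3
    rw [mul_assoc, ← mul_pow, ← mul_pow, mul_comm (y ^ g.natDegree), ← mul_pow, hsy, one_pow,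
      mul_one] at h3
    exact h3
  have h4 : α ((eval₂ φ s g.reverse) ^ N) = 0 := by
    rw [map_pow, Polynomial.hom_eval₂]
    exact h1
  obtain ⟨m, hm⟩ := (IsLocalization.map_eq_zero_iff (Submonoid.powers s) R _).1 h4
  obtain ⟨k, hk⟩ := m.2
  have hk' : s ^ k = (m : B) := hk
  exact ⟨k, by rw [hk']; exact hm⟩

end Groth.Agent.Lib.Helper53.IntGraph
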