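import Groth.Agent.Lib.Helper53.GsectNormal
import Groth.Agent.Lib.Helper53.IntGraphAlg

/-!
# The graph trick: charts of `X ×_V A¹_V` and the function `T s - 1` (helper53)
-/

set_option autoImplicit false
set_option linter.style.haveILetI false
universe u
open CategoryTheory CategoryTheory.Limits AlgebraicGeometry Opposite
open AlgSp

namespace Groth.Agent.Lib.Helper53.IntGraph

open Groth.Agent.Lib.Helper51 Groth.Agent.Lib.Helper52 Groth.Agent.Lib.Helper78.GsectDomain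
open Groth.Agent.Lib.Helper53.GsectNormal

theorem mem_basicOpen_of_not_mem {Y : Scheme.{u}} (a b : Γ(Y, ⊤)) (y : Y)
    (h : y ∉ Y.basicOpen (a * b - 1)) : y ∈ Y.basicOpen a := by
  rw [Scheme.mem_basicOpen _ _ _ (show y ∈ (⊤ : Y.Opens) from trivial)] at h ⊢
  by_contra hna
  apply h
  rw [map_sub, map_mul, map_one]
  have hm : Y.presheaf.germ ⊤ y trivial a * Y.presheaf.germ ⊤ y trivial b ∈
      IsLocalRing.maximalIdeal (Y.presheaf.stalk y) :=
    Ideal.mul_mem_right _ _ ((IsLocalRing.mem_maximalIdeal _).2 hna)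
  have h2 := IsLocalRing.isUnit_one_sub_self_of_mem_nonunits _ hm
  have h3 : Y.presheaf.germ ⊤ y trivial a * Y.presheaf.germ ⊤ y trivial b - 1 =
      -(1 - Y.presheaf.germ ⊤ y trivial a * Y.presheaf.germ ⊤ y trivial b) := by ring
  rw [h3]
  exact h2.neg

variable {S : Scheme.{u}} {X : Sp S}

set_option backward.isDefEq.respectTransparency false in
/-- a global function has a well defined pullback to every scheme mapping to a chart -/
theorem appTop_val_eq (s : ↥(gsectEt (OEt X))) (E₁ E₂ : EtOver X) {P : Over S}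
    (a₁ : P ⟶ E₁.obj.left) (a₂ : P ⟶ E₂.obj.left)
    (h : (yon S).map a₁ ≫ E₁.obj.hom = (yon S).map a₂ ≫ E₂.obj.hom) :
    a₁.left.appTop (val s E₁) = a₂.left.appTop (val s E₂) := by
  obtain ⟨W, φ, ψ, sq⟩ := exists_isPullback_of_representable E₁.property.1 E₂.obj.hom
  have hφ : Etale φ.left := E₂.property.2 E₁.obj.hom _ φ sq.flip
  have hWe : RepWith @Etale ((yon S).map φ ≫ E₁.obj.hom) :=
    (RepWith (S := S) @Etale).comp_mem _ _ ((repWith_yon_map_iff _ _).2 hφ) E₁.property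
  let EW : EtOver X := EtOver.mk ((yon S).map φ ≫ E₁.obj.hom) hWe
  let pφ : EW ⟶ E₁ := EtOver.homMk φ rfl
  let pψ : EW ⟶ E₂ := EtOver.homMk ψ sq.w.symm
  obtain ⟨r, hr⟩ := (yon S).map_surjective (sq.lift _ _ h)
  have hr1 : r ≫ φ = a₁ := (yon S).map_injective (by
    rw [(yon S).map_comp, hr]; exact sq.lift_fst _ _ _)
  have hr2 : r ≫ ψ = a₂ := (yon S).map_injective (by
    rw [(yon S).map_comp, hr]; exact sq.lift_snd _ _ _)
  have e1 : φ.left.appTop (val s E₁) = val s EW := val_comp s pφ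
  have e2 : ψ.left.appTop (val s E₂) = val s EW := val_comp s pψ
  rw [← hr1, ← hr2, Over.comp_left, Over.comp_left, Scheme.Hom.comp_appTop,
    Scheme.Hom.comp_appTop, CommRingCat.comp_apply, CommRingCat.comp_apply, e1, e2]

variable {V A1 : Over S} (f : X ⟶ (yon S).obj V) (c : A1 ⟶ V) (τ : Γ(A1.left, ⊤))
  (s : ↥(gsectEt (OEt X)))

/-- the function `T s - 1` on a chart of `X ×_V A¹` -/
noncomputable def uFun (E : EtOver X) {W' : Over S} (w1 : W' ⟶ E.obj.left) (w2 : W' ⟶ A1) :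
    Γ(W'.left, ⊤) :=
  w2.left.appTop τ * w1.left.appTop (val s E) - 1

/-- the chart of `X ×_V A¹` -/
noncomputable def chartMap (E : EtOver X) {W' : Over S} (w1 : W' ⟶ E.obj.left) (w2 : W' ⟶ A1)
    (comm : ((yon S).map w1 ≫ E.obj.hom) ≫ f = (yon S).map w2 ≫ (yon S).map c) :
    (yon S).obj W' ⟶ pullback f ((yon S).map c) :=
  pullback.lift ((yon S).map w1 ≫ E.obj.hom) ((yon S).map w2) comm

theorem sat0 (E₁ E₂ : EtOver X) {W₁ W₂ : Over S} (w1₁ : W₁ ⟶ E₁.obj.left) (w2₁ : W₁ ⟶ A1)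
    (comm₁ : ((yon S).map w1₁ ≫ E₁.obj.hom) ≫ f = (yon S).map w2₁ ≫ (yon S).map c)
    (w1₂ : W₂ ⟶ E₂.obj.left) (w2₂ : W₂ ⟶ A1)
    (comm₂ : ((yon S).map w1₂ ≫ E₂.obj.hom) ≫ f = (yon S).map w2₂ ≫ (yon S).map c)
    {P : Over S} (φ : P ⟶ W₁) (ψ : P ⟶ W₂)
    (hP : (yon S).map φ ≫ chartMap f c E₁ w1₁ w2₁ comm₁ =
      (yon S).map ψ ≫ chartMap f c E₂ w1₂ w2₂ comm₂) :
    φ.left.appTop (uFun τ s E₁ w1₁ w2₁) = ψ.left.appTop (uFun τ s E₂ w1₂ w2₂) ∧
      φ ≫ w2₁ = ψ ≫ w2₂ := by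
  have h2 : φ ≫ w2₁ = ψ ≫ w2₂ := (yon S).map_injective (by
    have := congrArg (fun m => m ≫ pullback.snd f ((yon S).map c)) hP
    simp only [Category.assoc, chartMap, pullback.lift_snd] at this
    rw [(yon S).map_comp, (yon S).map_comp]
    exact this)
  have h1 : (yon S).map (φ ≫ w1₁) ≫ E₁.obj.hom = (yon S).map (ψ ≫ w1₂) ≫ E₂.obj.hom := by
    have := congrArg (fun m => m ≫ pullback.fst f ((yon S).map c)) hP
    simp only [Category.assoc, chartMap, pullback.lift_fst] at this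
    rw [(yon S).map_comp, (yon S).map_comp, Category.assoc, Category.assoc]
    exact this
  refine ⟨?_, h2⟩
  have hv := appTop_val_eq s E₁ E₂ (φ ≫ w1₁) (ψ ≫ w1₂) h1
  have hτ : φ.left.appTop (w2₁.left.appTop τ) = ψ.left.appTop (w2₂.left.appTop τ) := by
    have := congrArg (fun m : P ⟶ A1 => m.left.appTop τ) h2
    simpa only [Over.comp_left, Scheme.Hom.comp_appTop, CommRingCat.comp_apply] using this
  rw [Over.comp_left, Over.comp_left, Scheme.Hom.comp_appTop, Scheme.Hom.comp_appTop,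
    CommRingCat.comp_apply, CommRingCat.comp_apply] at hv
  unfold uFun
  rw [map_sub, map_sub, map_mul, map_mul, map_one, map_one, hτ, hv]

theorem sat (E₁ E₂ : EtOver X) {W₁ W₂ : Over S} (w1₁ : W₁ ⟶ E₁.obj.left) (w2₁ : W₁ ⟶ A1)
    (comm₁ : ((yon S).map w1₁ ≫ E₁.obj.hom) ≫ f = (yon S).map w2₁ ≫ (yon S).map c)
    (w1₂ : W₂ ⟶ E₂.obj.left) (w2₂ : W₂ ⟶ A1)
    (comm₂ : ((yon S).map w1₂ ≫ E₂.obj.hom) ≫ f = (yon S).map w2₂ ≫ (yon S).map c)
    (hrep : Representable (chartMap f c E₁ w1₁ w2₁ comm₁))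
    (y₁ : W₁.left) (y₂ : W₂.left)
    (hy : Points.ofPt (chartMap f c E₁ w1₁ w2₁ comm₁) y₁ =
      Points.ofPt (chartMap f c E₂ w1₂ w2₂ comm₂) y₂) :
    (y₁ ∈ W₁.left.basicOpen (uFun τ s E₁ w1₁ w2₁) ↔ y₂ ∈ W₂.left.basicOpen (uFun τ s E₂ w1₂ w2₂)) ∧
      w2₁.left y₁ = w2₂.left y₂ := by
  obtain ⟨P, φ, ψ, sq⟩ := exists_isPullback_of_representable hrep (chartMap f c E₂ w1₂ w2₂ comm₂)
  obtain ⟨p, rfl, rfl⟩ := exists_of_ofPt_eq_ofPt sq hy
  obtain ⟨hu, h2⟩ := sat0 f c τ s E₁ E₂ w1₁ w2₁ comm₁ w1₂ w2₂ comm₂ φ ψ sq.w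
  constructor
  · have e1 : φ.left p ∈ W₁.left.basicOpen (uFun τ s E₁ w1₁ w2₁) ↔
        p ∈ P.left.basicOpen (φ.left.appTop (uFun τ s E₁ w1₁ w2₁)) := by
      change _ ↔ p ∈ (P.left.basicOpen (φ.left.appTop (uFun τ s E₁ w1₁ w2₁)) : Set _)
      rw [← Scheme.preimage_basicOpen_top]
      rfl
    have e2 : ψ.left p ∈ W₂.left.basicOpen (uFun τ s E₂ w1₂ w2₂) ↔
        p ∈ P.left.basicOpen (ψ.left.appTop (uFun τ s E₂ w1₂ w2₂)) := by
      change _ ↔ p ∈ (P.left.basicOpen (ψ.left.appTop (uFun τ s E₂ w1₂ w2₂)) : Set _)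
      rw [← Scheme.preimage_basicOpen_top]
      rfl
    rw [e1, e2, hu]
  · have := congrArg (fun m : P ⟶ A1 => m.left p) h2
    simpa only [Over.comp_left, Scheme.Hom.comp_apply] using this

end Groth.Agent.Lib.Helper53.IntGraph
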