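import Groth.Agent.Lib.Helper53.IntGraph
import Groth.Agent.Lib.Helper30.AlgSpDesc

/-!
# The graph trick: the affine line over an affine scheme and closedness of `V(Ts-1)` (helper53)
-/

set_option autoImplicit false
set_option linter.style.haveILetI false
universe u
open CategoryTheory CategoryTheory.Limits AlgebraicGeometry Opposite
open AlgSp

namespace Groth.Agent.Lib.Helper53.IntGraph

open Groth.Agent.Lib.Helper51 Groth.Agent.Lib.Helper52 Groth.Agent.Lib.Helper78.GsectDomain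
open Groth.Agent.Lib.Helper53.GsectNormal

variable {S : Scheme.{u}} {X : Sp S}

/-- the affine line over an affine scheme over `S` -/
noncomputable def A1 (V : Over S) [IsAffine V.left] : Over S :=
  Over.mk (Spec.map (CommRingCat.ofHom (Polynomial.C : Γ(V.left, ⊤) →+* Polynomial Γ(V.left, ⊤))) ≫
    V.left.isoSpec.inv ≫ V.hom)

noncomputable def cMap (V : Over S) [IsAffine V.left] : A1 V ⟶ V :=
  Over.homMk (Spec.map (CommRingCat.ofHom
    (Polynomial.C : Γ(V.left, ⊤) →+* Polynomial Γ(V.left, ⊤))) ≫ V.left.isoSpec.inv)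
    (by simp [A1])

/-- the coordinate function -/
noncomputable def tau (V : Over S) [IsAffine V.left] : Γ((A1 V).left, ⊤) :=
  (Scheme.ΓSpecIso (CommRingCat.of (Polynomial Γ(V.left, ⊤)))).inv Polynomial.X

/-- polynomials as functions on the affine line -/
noncomputable def evA (V : Over S) [IsAffine V.left] :
    Polynomial Γ(V.left, ⊤) ≃+* Γ((A1 V).left, ⊤) :=
  (Scheme.ΓSpecIso (CommRingCat.of (Polynomial Γ(V.left, ⊤)))).symm.commRingCatIsoToRingEquiv

theorem evA_X (V : Over S) [IsAffine V.left] : evA V Polynomial.X = tau V := rfl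

instance (V : Over S) [IsAffine V.left] : IsAffine (A1 V).left := by
  unfold A1
  dsimp
  infer_instance

theorem isoSpec_inv_appTop' (Y : Scheme.{u}) [IsAffine Y] :
    Y.isoSpec.inv.appTop = (Scheme.ΓSpecIso Γ(Y, ⊤)).inv := by
  have h1 : Y.isoSpec.hom.appTop ≫ Y.isoSpec.inv.appTop = 𝟙 _ := by
    rw [← Scheme.Hom.comp_appTop, Iso.inv_hom_id]
    rfl
  have h2 : Y.isoSpec.hom.appTop = (Scheme.ΓSpecIso Γ(Y, ⊤)).hom := Scheme.toSpecΓ_appTop Y
  rw [h2] at h1
  have h3 := (Iso.eq_inv_comp _).2 h1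
  rw [Category.comp_id] at h3
  exact h3

theorem cMap_appTop (V : Over S) [IsAffine V.left] :
    (cMap V).left.appTop.hom = (evA V).toRingHom.comp Polynomial.C := by
  have h : (cMap V).left.appTop = CommRingCat.ofHom Polynomial.C ≫
      (Scheme.ΓSpecIso (CommRingCat.of (Polynomial Γ(V.left, ⊤)))).inv := by
    change (Spec.map (CommRingCat.ofHom
      (Polynomial.C : Γ(V.left, ⊤) →+* Polynomial Γ(V.left, ⊤))) ≫ V.left.isoSpec.inv).appTop = _
    rw [Scheme.Hom.comp_appTop, isoSpec_inv_appTop', Scheme.ΓSpecIso_inv_naturality]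
    rfl
  rw [h]
  rfl

variable {V : Over S} [IsAffine V.left] (f : X ⟶ (yon S).obj V) (s : ↥(gsectEt (OEt X)))

theorem chart_isPullback (E : EtOver X) (hW : E.obj.left ⟶ V)
    (hhW : (yon S).map hW = E.obj.hom ≫ f) {W' : Over S}
    (w1 : W' ⟶ E.obj.left) (w2 : W' ⟶ A1 V) (sq : IsPullback w1 w2 hW (cMap V))
    (comm : ((yon S).map w1 ≫ E.obj.hom) ≫ f = (yon S).map w2 ≫ (yon S).map (cMap V)) :
    IsPullback (chartMap f (cMap V) E w1 w2 comm) ((yon S).map w1)
      (pullback.fst f ((yon S).map (cMap V))) E.obj.hom := by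
  have sqY := sq.map (yon S)
  have sqX := IsPullback.of_hasPullback f ((yon S).map (cMap V))
  refine IsPullback.of_right ?_ (pullback.lift_fst _ _ _) sqX.flip
  unfold chartMap
  rw [pullback.lift_snd, ← hhW]
  exact sqY.flip

set_option backward.isDefEq.respectTransparency false in
theorem chart_repWith (Q : MorphismProperty Scheme.{u}) [Q.IsStableUnderBaseChange]
    (E : EtOver X) (hQ : RepWith Q E.obj.hom) (hW : E.obj.left ⟶ V)
    (hhW : (yon S).map hW = E.obj.hom ≫ f) {W' : Over S}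
    (w1 : W' ⟶ E.obj.left) (w2 : W' ⟶ A1 V) (sq : IsPullback w1 w2 hW (cMap V))
    (comm : ((yon S).map w1 ≫ E.obj.hom) ≫ f = (yon S).map w2 ≫ (yon S).map (cMap V)) :
    RepWith Q (chartMap f (cMap V) E w1 w2 comm) := by
  have : (AlgSp.RepWith (S := S) Q).IsStableUnderBaseChange :=
    AlgSp.repWith_isStableUnderBaseChange _
  exact MorphismProperty.of_isPullback (chart_isPullback f E hW hhW w1 w2 sq comm).flip hQ

set_option backward.isDefEq.respectTransparency false in
theorem isClosed_image (huc : IsUnivClosedMor f) (E₀ : EtOver X)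
    (hs₀ : RepWith @Surjective E₀.obj.hom) (hW : E₀.obj.left ⟶ V)
    (hhW : (yon S).map hW = E₀.obj.hom ≫ f) {W' : Over S}
    (w1 : W' ⟶ E₀.obj.left) (w2 : W' ⟶ A1 V) (sq : IsPullback w1 w2 hW (cMap V))
    (comm : ((yon S).map w1 ≫ E₀.obj.hom) ≫ f = (yon S).map w2 ≫ (yon S).map (cMap V)) :
    IsClosed (w2.left '' ((W'.left.basicOpen (uFun (tau V) s E₀ w1 w2) : Set W'.left)ᶜ)) := by
  set e' := chartMap f (cMap V) E₀ w1 w2 comm with he'
  have het : RepWith @Etale e' := chart_repWith f @Etale E₀ E₀.property hW hhW w1 w2 sq comm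
  have hsu : RepWith @Surjective e' := chart_repWith f @Surjective E₀ hs₀ hW hhW w1 w2 sq comm
  have hsurj := surjective_ofPt_of_repWith_surjective e' hsu
  set Z₀ : Set W'.left := (W'.left.basicOpen (uFun (tau V) s E₀ w1 w2) : Set W'.left)ᶜ with hZ₀
  have hZc : (Points.ofPt e' '' Z₀)ᶜ =
      Points.ofPt e' '' (W'.left.basicOpen (uFun (tau V) s E₀ w1 w2) : Set W'.left) := by
    ext x
    constructor
    · intro hx
      obtain ⟨y, rfl⟩ := hsurj x
      refine ⟨y, ?_, rfl⟩
      by_contra hy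
      exact hx ⟨y, hy, rfl⟩
    · rintro ⟨y, hy, rfl⟩ ⟨y', hy', hyy⟩
      have := (sat f (cMap V) (tau V) s E₀ E₀ w1 w2 comm w1 w2 comm het.1 y' y hyy).1
      exact hy' (this.2 hy)
  have hZ : IsClosed (Points.ofPt e' '' Z₀) := by
    rw [← isOpen_compl_iff, hZc]
    exact isOpenMap_ofPt_of_etale e' het _ (W'.left.basicOpen _).isOpen
  have hcl : IsClosedMap (Points.map (pullback.snd f ((yon S).map (cMap V)))) :=
    huc (IsAlgSpace.yon_obj (A1 V)) ((yon S).map (cMap V)) _ _ (IsPullback.of_hasPullback _ _)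
  have h1 := hcl _ hZ
  have h2 := (Points.schemeHomeo (A1 V)).symm.isClosedMap _ h1
  have hsnd : e' ≫ pullback.snd f ((yon S).map (cMap V)) = (yon S).map w2 :=
    pullback.lift_snd _ _ _
  convert h2 using 1
  ext a
  constructor
  · rintro ⟨y, hy, rfl⟩
    refine ⟨_, ⟨_, ⟨y, hy, rfl⟩, rfl⟩, ?_⟩
    rw [Points.map_ofPt, hsnd]
    exact Points.toScheme_ofPt w2 y
  · rintro ⟨_, ⟨_, ⟨y, hy, rfl⟩, rfl⟩, rfl⟩
    refine ⟨y, hy, ?_⟩
    rw [Points.map_ofPt, hsnd]
    exact (Points.toScheme_ofPt w2 y).symm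

set_option backward.isDefEq.respectTransparency false in
theorem exists_g (huc : IsUnivClosedMor f) (E₀ : EtOver X)
    (hs₀ : RepWith @Surjective E₀.obj.hom) (hW : E₀.obj.left ⟶ V)
    (hhW : (yon S).map hW = E₀.obj.hom ≫ f) {W' : Over S}
    (w1 : W' ⟶ E₀.obj.left) (w2 : W' ⟶ A1 V) (sq : IsPullback w1 w2 hW (cMap V))
    (comm : ((yon S).map w1 ≫ E₀.obj.hom) ≫ f = (yon S).map w2 ≫ (yon S).map (cMap V)) :
    ∃ g : Polynomial Γ(V.left, ⊤), g.coeff 0 = 1 ∧
      ∀ y : W'.left, y ∉ W'.left.basicOpen (uFun (tau V) s E₀ w1 w2) →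
        w2.left y ∉ (A1 V).left.basicOpen (evA V g) := by
  have hC := isClosed_image f s huc E₀ hs₀ hW hhW w1 w2 sq comm
  have hbo : ∀ (p : Polynomial Γ(V.left, ⊤)) (a : (A1 V).left),
      a ∈ (A1 V).left.basicOpen (evA V p) ↔
        p ∉ (show PrimeSpectrum (Polynomial Γ(V.left, ⊤)) from a).asIdeal := by
    intro p a
    have := basicOpen_eq_of_affine (R := CommRingCat.of (Polynomial Γ(V.left, ⊤))) p
    change a ∈ (Spec (CommRingCat.of (Polynomial Γ(V.left, ⊤)))).basicOpen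
      ((Scheme.ΓSpecIso (CommRingCat.of (Polynomial Γ(V.left, ⊤)))).inv p) ↔ _
    rw [this]
    rfl
  obtain ⟨g, hg, hg0⟩ := exists_mem_vanishingIdeal (A := Γ(V.left, ⊤))
    (w2.left '' ((W'.left.basicOpen (uFun (tau V) s E₀ w1 w2) : Set W'.left)ᶜ)) hC (by
      rintro _ ⟨y, hy, rfl⟩ hX
      have h1 : y ∈ W'.left.basicOpen (w2.left.appTop (tau V)) :=
        mem_basicOpen_of_not_mem _ _ y hy
      have h2 : w2.left y ∈ (A1 V).left.basicOpen (tau V) := by
        change y ∈ (W'.left.basicOpen (w2.left.appTop (tau V)) : Set _) at h1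
        rw [← Scheme.preimage_basicOpen_top] at h1
        exact h1
      rw [← evA_X, hbo] at h2
      exact h2 hX)
  refine ⟨g, hg0, fun y hy hmem => ?_⟩
  rw [hbo] at hmem
  apply hmem
  rw [PrimeSpectrum.mem_vanishingIdeal] at hg
  exact hg _ ⟨y, hy, rfl⟩

end Groth.Agent.Lib.Helper53.IntGraph
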