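import Groth.Agent.Lib.Helper53.IntGraph2

/-!
# The graph trick: the equation on an affine chart (helper53)
-/

set_option autoImplicit false
set_option linter.style.haveILetI false
universe u
open CategoryTheory CategoryTheory.Limits AlgebraicGeometry Opposite
open AlgSp

namespace Groth.Agent.Lib.Helper53.IntGraph

open Groth.Agent.Lib.Helper51 Groth.Agent.Lib.Helper52 Groth.Agent.Lib.Helper78.GsectDomain
open Groth.Agent.Lib.Helper53.GsectNormal

variable {S : Scheme.{u}} {X : Sp S}
variable {V : Over S} [IsAffine V.left] (s : ↥(gsectEt (OEt X)))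

set_option backward.isDefEq.respectTransparency false in
theorem affine_chart_key (E : EtOver X) [IsAffine E.obj.left.left] (hW : E.obj.left ⟶ V)
    {W' : Over S} (w1 : W' ⟶ E.obj.left) (w2 : W' ⟶ A1 V)
    (sqL : IsPullback w1.left w2.left hW.left (cMap V).left)
    (g : Polynomial Γ(V.left, ⊤))
    (hsub : ∀ x : W'.left, x ∉ W'.left.basicOpen (uFun (tau V) s E w1 w2) →
      x ∉ W'.left.basicOpen (w2.left.appTop (evA V g))) :
    ∃ k N : ℕ, (val s E) ^ k *
      (Polynomial.eval₂ hW.left.appTop.hom (val s E) g.reverse) ^ N = 0 := by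
  haveI : IsAffine W'.left := IsAffine.of_isPullback sqL
  have hpo := isPushout_appTop_of_isPullback sqL
  have hrad : w2.left.appTop (evA V g) ∈ (Ideal.span {uFun (tau V) s E w1 w2}).radical := by
    rw [Ideal.radical_eq_sInf, Submodule.mem_sInf]
    rintro 𝔭 ⟨hle, hprime⟩
    let x : PrimeSpectrum Γ(W'.left, ⊤) := ⟨𝔭, hprime⟩
    have hU := isAffineOpen_top W'.left
    have key : ∀ h : Γ(W'.left, ⊤), hU.fromSpec x ∈ W'.left.basicOpen h ↔ h ∉ 𝔭 := by
      intro h
      have h1 := hU.fromSpec_preimage_basicOpen h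
      have h2 : x ∈ (hU.fromSpec ⁻¹ᵁ W'.left.basicOpen h) ↔
          x ∈ (PrimeSpectrum.basicOpen h : Set (PrimeSpectrum Γ(W'.left, ⊤))) := by
        rw [h1]; rfl
      exact h2
    have hu : uFun (tau V) s E w1 w2 ∈ 𝔭 := hle (Ideal.mem_span_singleton_self _)
    have h1 : hU.fromSpec x ∉ W'.left.basicOpen (uFun (tau V) s E w1 w2) :=
      fun h => (key _).1 h hu
    have h2 := hsub _ h1
    by_contra hne
    exact h2 ((key _).2 hne)
  obtain ⟨N, hN⟩ := hrad
  obtain ⟨v, hv⟩ := Ideal.mem_span_singleton'.1 hN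
  have hpo' : ∀ (R : Type u) [CommRing R] (α : Γ(E.obj.left.left, ⊤) →+* R)
      (β : Γ((A1 V).left, ⊤) →+* R),
      α.comp hW.left.appTop.hom = (β.comp (evA V).toRingHom).comp Polynomial.C →
      ∃ θ : Γ(W'.left, ⊤) →+* R, θ.comp w1.left.appTop.hom = α ∧
        θ.comp w2.left.appTop.hom = β := by
    intro R _ α β hαβ
    have hcomm : hW.left.appTop ≫ CommRingCat.ofHom α =
        (cMap V).left.appTop ≫ CommRingCat.ofHom β := by
      ext a
      have h1 := congrArg (fun m => m a) hαβ
      have h2 : (cMap V).left.appTop.hom a = (evA V) (Polynomial.C a) := by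
        rw [cMap_appTop]; rfl
      change α (hW.left.appTop.hom a) = β ((cMap V).left.appTop.hom a)
      rw [h2]
      exact h1
    refine ⟨(hpo.desc _ _ hcomm).hom, ?_, ?_⟩
    · have := hpo.inl_desc _ _ hcomm
      exact congrArg CommRingCat.Hom.hom this
    · have := hpo.inr_desc _ _ hcomm
      exact congrArg CommRingCat.Hom.hom this
  obtain ⟨k, hk⟩ := ring_key hW.left.appTop.hom w1.left.appTop.hom w2.left.appTop.hom (evA V)
    hpo' (val s E) g N v (by
      rw [evA_X]
      unfold uFun at hv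
      rw [mul_comm, hv])
  exact ⟨k, N, hk⟩

end Groth.Agent.Lib.Helper53.IntGraph
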