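import Groth.Agent.Lib.Helper53.IntGraph3

/-!
# The graph trick: from a covering family of charts to all charts (helper53)
-/

set_option autoImplicit false
set_option linter.style.haveILetI false
universe u
open CategoryTheory CategoryTheory.Limits AlgebraicGeometry Opposite
open AlgSp

namespace Groth.Agent.Lib.Helper53.IntGraph

open Groth.Agent.Lib.Helper51 Groth.Agent.Lib.Helper52 Groth.Agent.Lib.Helper78.GsectDomain
open Groth.Agent.Lib.Helper53.GsectNormal Groth.Agent.Lib.Helper53.DivGlue

variable {S : Scheme.{u}} {X : Sp S}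
variable {V : Over S} (f : X ⟶ (yon S).obj V) (s : ↥(gsectEt (OEt X)))

theorem strMap_comp {E E' : EtOver X} (g : E ⟶ E') :
    (yon S).preimage (E.obj.hom ≫ f) = g.hom.left ≫ (yon S).preimage (E'.obj.hom ≫ f) := by
  apply (yon S).map_injective
  rw [(yon S).map_comp, Functor.map_preimage, Functor.map_preimage, ← Category.assoc, EtOver.w g]

theorem eval_comp {E E' : EtOver X} (g : E ⟶ E') (P : Polynomial Γ(V.left, ⊤)) :
    g.hom.left.left.appTop
      (Polynomial.eval₂ ((yon S).preimage (E'.obj.hom ≫ f)).left.appTop.hom (val s E') P) =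
      Polynomial.eval₂ ((yon S).preimage (E.obj.hom ≫ f)).left.appTop.hom (val s E) P := by
  have h1 : ((yon S).preimage (E.obj.hom ≫ f)).left.appTop.hom =
      g.hom.left.left.appTop.hom.comp ((yon S).preimage (E'.obj.hom ≫ f)).left.appTop.hom := by
    rw [strMap_comp f g, Over.comp_left, Scheme.Hom.comp_appTop]
    rfl
  rw [h1, ← val_comp s g]
  exact Polynomial.hom_eval₂ P _ g.hom.left.left.appTop.hom _

theorem eval_zero_of_cover (P : Polynomial Γ(V.left, ⊤)) (F : Set (EtOver X))
    (hF : ∀ E ∈ F,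
      Polynomial.eval₂ ((yon S).preimage (E.obj.hom ≫ f)).left.appTop.hom (val s E) P = 0)
    (hcov : ∀ x : Points X, ∃ E ∈ F, ∃ t : E.obj.left.left, Points.ofPt E.obj.hom t = x)
    (E : EtOver X) :
    Polynomial.eval₂ ((yon S).preimage (E.obj.hom ≫ f)).left.appTop.hom (val s E) P = 0 := by
  apply TopCat.Presheaf.section_ext E.obj.left.left.sheaf ⊤
  intro e he
  obtain ⟨E', hE', t, ht⟩ := hcov (Points.ofPt E.obj.hom e)
  obtain ⟨EW, pφ, pψ, w, hw1, hw2⟩ := exists_common_chart E E' e t ht.symm
  subst hw1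
  have hfl : Flat pφ.hom.left.left := by
    have := EtOver.etale_left pφ
    infer_instance
  have h0 : pφ.hom.left.left.appTop
      (Polynomial.eval₂ ((yon S).preimage (E.obj.hom ≫ f)).left.appTop.hom (val s E) P) = 0 := by
    rw [eval_comp, ← eval_comp f s pψ, hF E' hE', map_zero]
  obtain ⟨q, hq⟩ := exists_of_flat_stalk pφ.hom.left.left w
    (Polynomial.eval₂ ((yon S).preimage (E.obj.hom ≫ f)).left.appTop.hom (val s E) P) 0
    ⟨0, by rw [h0, map_zero, mul_zero]; exact (map_zero _).symm⟩
  rw [map_zero, zero_mul] at hq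
  exact hq.symm.trans (map_zero _).symm

end Groth.Agent.Lib.Helper53.IntGraph
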