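import Groth.Agent.Lib.Helper53.IntGraph4
import Groth.Agent.Lib.Helper30.AlgSpMor

/-!
# Global functions of a quasi-compact universally closed space over an affine scheme are integral
(helper53)
-/

set_option autoImplicit false
set_option linter.style.haveILetI false
universe u
open CategoryTheory CategoryTheory.Limits AlgebraicGeometry Opposite
open AlgSp

namespace Groth.Agent.Lib.Helper53.IntGraph

open Groth.Agent.Lib.Helper51 Groth.Agent.Lib.Helper52 Groth.Agent.Lib.Helper78.GsectDomain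
open Groth.Agent.Lib.Helper53.GsectNormal Groth.Agent.Lib.Helper53.DivGlue

variable {S : Scheme.{u}} {X : Sp S}

set_option backward.isDefEq.respectTransparency false in
/-- an open subscheme of a chart as a chart -/
noncomputable def subChart (E₀ : EtOver X) (O : E₀.obj.left.left.Opens) : EtOver X :=
  EtOver.mk ((yon S).map (Over.homMk O.ι rfl : Over.mk (O.ι ≫ E₀.obj.left.hom) ⟶ E₀.obj.left) ≫
    E₀.obj.hom)
    ((RepWith (S := S) @Etale).comp_mem _ _
      ((repWith_yon_map_iff _ _).2 (show Etale O.ι from inferInstance)) E₀.property)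

variable {V : Over S} [IsAffine V.left] (f : X ⟶ (yon S).obj V) (s : ↥(gsectEt (OEt X)))

set_option backward.isDefEq.respectTransparency false in
theorem main (hqc : IsQuasiCompactMor f) (huc : IsUnivClosedMor f) :
    ∃ p : Polynomial Γ(V.left, ⊤), p.Monic ∧ ∀ E : EtOver X,
      Polynomial.eval₂ ((yon S).preimage (E.obj.hom ≫ f)).left.appTop.hom (val s E) p = 0 := by
  haveI : CompactSpace V.left := inferInstance
  obtain ⟨U₀, e₀, het₀, hsu₀, hU₀⟩ := hqc (IsAlgSpace.yon_obj V)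
    (Groth.Agent.Lib.Helper30.isQuasiCompactSp_yon_obj V) (𝟙 _) (𝟙 X) f (IsPullback.id_horiz f)
  haveI hU₀' : CompactSpace U₀.left := hU₀
  let E₀ : EtOver X := EtOver.mk e₀ het₀
  let hW₀ : U₀ ⟶ V := (yon S).preimage (e₀ ≫ f)
  have hhW₀ : (yon S).map hW₀ = e₀ ≫ f := Functor.map_preimage _ _
  obtain ⟨W'₀, w1₀, w2₀, sq₀, sqL₀⟩ := Groth.Agent.Lib.Helper30.isPullback_over' hW₀ (cMap V)
  have comm₀ : ((yon S).map w1₀ ≫ E₀.obj.hom) ≫ f = (yon S).map w2₀ ≫ (yon S).map (cMap V) := by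
    rw [Category.assoc]
    change (yon S).map w1₀ ≫ e₀ ≫ f = _
    rw [← hhW₀, ← (yon S).map_comp, ← (yon S).map_comp, sq₀.w]
  obtain ⟨g, hg0, hg⟩ := exists_g f s huc E₀ hsu₀ hW₀ hhW₀ w1₀ w2₀ sq₀ comm₀
  have hQ := monic_reverse g hg0
  have hsu' : RepWith @Surjective (chartMap f (cMap V) E₀ w1₀ w2₀ comm₀) :=
    chart_repWith f @Surjective E₀ hsu₀ hW₀ hhW₀ w1₀ w2₀ sq₀ comm₀
  have haff : ∀ E : EtOver X, IsAffine E.obj.left.left → ∃ k N : ℕ, val s E ^ k *
      (Polynomial.eval₂ ((yon S).preimage (E.obj.hom ≫ f)).left.appTop.hom (val s E)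
        g.reverse) ^ N = 0 := by
    intro E hE
    let hW : E.obj.left ⟶ V := (yon S).preimage (E.obj.hom ≫ f)
    have hhW : (yon S).map hW = E.obj.hom ≫ f := Functor.map_preimage _ _
    obtain ⟨W', w1, w2, sq, sqL⟩ := Groth.Agent.Lib.Helper30.isPullback_over' hW (cMap V)
    have comm : ((yon S).map w1 ≫ E.obj.hom) ≫ f = (yon S).map w2 ≫ (yon S).map (cMap V) := by
      rw [Category.assoc, ← hhW, ← (yon S).map_comp, ← (yon S).map_comp, sq.w]
    apply affine_chart_key s E hW w1 w2 sqL g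
    intro x hx
    obtain ⟨y, hy⟩ := surjective_ofPt_of_repWith_surjective _ hsu'
      (Points.ofPt (chartMap f (cMap V) E w1 w2 comm) x)
    obtain ⟨hiff, hpt⟩ := sat f (cMap V) (tau V) s E₀ E w1₀ w2₀ comm₀ w1 w2 comm hsu'.1 y x hy
    have hy' : y ∉ W'₀.left.basicOpen (uFun (tau V) s E₀ w1₀ w2₀) := fun h => hx (hiff.1 h)
    have h3 := hg y hy'
    rw [hpt] at h3
    intro hmem
    apply h3
    change x ∈ (W'.left.basicOpen (w2.left.appTop (evA V g)) : Set _) at hmem
    rw [← Scheme.preimage_basicOpen_top] at hmem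
    exact hmem
  choose Uaff hUaff hmem _ using fun t : U₀.left =>
    exists_isAffineOpen_mem_and_subset (show t ∈ (⊤ : U₀.left.Opens) from trivial)
  choose kk NN hkN using fun t : U₀.left => haff (subChart E₀ (Uaff t)) (hUaff t)
  obtain ⟨T, hT⟩ := isCompact_univ.elim_finite_subcover (fun t => (Uaff t : Set U₀.left))
    (fun t => (Uaff t).isOpen) (fun x _ => Set.mem_iUnion.2 ⟨x, hmem x⟩)
  refine ⟨Polynomial.X ^ (T.sup kk) * g.reverse ^ (T.sup NN),
    (Polynomial.monic_X_pow _).mul (hQ.pow _), ?_⟩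
  apply eval_zero_of_cover f s _ {E | ∃ t ∈ T, E = subChart E₀ (Uaff t)}
  · rintro E ⟨t, ht, rfl⟩
    rw [Polynomial.eval₂_mul, Polynomial.eval₂_pow, Polynomial.eval₂_pow, Polynomial.eval₂_X]
    obtain ⟨a, ha⟩ := Nat.exists_eq_add_of_le (Finset.le_sup (f := kk) ht)
    obtain ⟨b, hb⟩ := Nat.exists_eq_add_of_le (Finset.le_sup (f := NN) ht)
    rw [ha, hb, pow_add, pow_add]
    have := hkN t
    calc _ = (val s (subChart E₀ (Uaff t)) ^ kk t *
          (Polynomial.eval₂ ((yon S).preimage ((subChart E₀ (Uaff t)).obj.hom ≫ f)).left.appTop.hom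
            (val s (subChart E₀ (Uaff t))) g.reverse) ^ NN t) * (val s (subChart E₀ (Uaff t)) ^ a *
          (Polynomial.eval₂ ((yon S).preimage ((subChart E₀ (Uaff t)).obj.hom ≫ f)).left.appTop.hom
            (val s (subChart E₀ (Uaff t))) g.reverse) ^ b) := by ring
      _ = 0 := by rw [this, zero_mul]
  · intro x
    obtain ⟨t₀, rfl⟩ := surjective_ofPt_of_repWith_surjective e₀ hsu₀ x
    have := hT (Set.mem_univ t₀)
    obtain ⟨t, ht⟩ := Set.mem_iUnion.1 this
    obtain ⟨htT, ht₀⟩ := Set.mem_iUnion.1 ht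
    refine ⟨subChart E₀ (Uaff t), ⟨t, htT, rfl⟩, ⟨t₀, ht₀⟩, ?_⟩
    exact ofPt_yon_map_comp _ e₀ _

end Groth.Agent.Lib.Helper53.IntGraph
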