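import Mathlib

/-!
Pure topology: if `N` is an open Noetherian subset of a space `P` and `T ⊆ P` is any subset, only
finitely many irreducible components of `T` meet `N`.
-/

open Topology TopologicalSpace Set

namespace Groth.Agent.Helper53.LocFinIrr

theorem finite_components_meeting {P : Type*} [TopologicalSpace P] (T : Set P) (N : Set P)
    (hN : IsOpen N) [NoetherianSpace N] :
    {Z : ↥(irreducibleComponents ↥T) |
      ((((↑) : ↥T → P) '' (Z : Set ↥T)) ∩ N).Nonempty}.Finite := by
  classical
  let T' : Set T := Subtype.val ⁻¹' N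
  have hT'open : IsOpen T' := hN.preimage continuous_subtype_val
  have hι : IsOpenEmbedding (Subtype.val : T' → T) := hT'open.isOpenEmbedding_subtypeVal
  haveI : NoetherianSpace T' := by
    let g : T' → N := fun t => ⟨t.1.1, t.2⟩
    have hgc : Continuous g :=
      Continuous.subtype_mk (continuous_subtype_val.comp continuous_subtype_val) _
    have hg : IsInducing g := by
      refine IsInducing.of_comp hgc (continuous_subtype_val : Continuous (Subtype.val : N → P)) ?_
      exact (IsInducing.subtypeVal.comp IsInducing.subtypeVal :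
        IsInducing ((Subtype.val : T → P) ∘ (Subtype.val : T' → T)))
    exact hg.noetherianSpace
  have hfin : (irreducibleComponents T').Finite := NoetherianSpace.finite_irreducibleComponents
  haveI : Finite ↥(irreducibleComponents T') := hfin.to_subtype
  have hmeet : ∀ Z : {Z : ↥(irreducibleComponents ↥T) |
      ((((↑) : ↥T → P) '' (Z : Set ↥T)) ∩ N).Nonempty},
      ((Z.1 : Set T) ∩ Set.range (Subtype.val : T' → T)).Nonempty := by
    rintro ⟨Z, ⟨_, ⟨t, ht, rfl⟩, htN⟩⟩
    exact ⟨t, ht, ⟨⟨t, htN⟩, rfl⟩⟩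
  let φ : {Z : ↥(irreducibleComponents ↥T) |
      ((((↑) : ↥T → P) '' (Z : Set ↥T)) ∩ N).Nonempty} → ↥(irreducibleComponents T') :=
    fun Z => ⟨Subtype.val ⁻¹' (Z.1 : Set T),
      preimage_mem_irreducibleComponents Z.1.2 hι (hmeet Z)⟩
  have hφ : Function.Injective φ := by
    intro Z Z' h
    have h1 : (Subtype.val : T' → T) ⁻¹' (Z.1 : Set T) = Subtype.val ⁻¹' (Z'.1 : Set T) :=
      congrArg Subtype.val h
    have hne : ∀ Z : {Z : ↥(irreducibleComponents ↥T) |
      ((((↑) : ↥T → P) '' (Z : Set ↥T)) ∩ N).Nonempty},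
        ((Subtype.val : T' → T) ⁻¹' (Z.1 : Set T)).Nonempty := by
      intro Z
      obtain ⟨t, ht, ⟨t', rfl⟩⟩ := hmeet Z
      exact ⟨t', ht⟩
    have e1 := closure_image_preimage_of_isPreirreducible (Subtype.val : T' → T) hι.isOpenMap
      (Z.1 : Set T) (hne Z) Z.1.2.1.2 (isClosed_of_mem_irreducibleComponents _ Z.1.2)
    have e2 := closure_image_preimage_of_isPreirreducible (Subtype.val : T' → T) hι.isOpenMap
      (Z'.1 : Set T) (hne Z') Z'.1.2.1.2 (isClosed_of_mem_irreducibleComponents _ Z'.1.2)
    apply Subtype.ext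
    apply Subtype.ext
    rw [← e1, ← e2, h1]
  exact Set.finite_coe_iff.mp (Finite.of_injective φ hφ)

/-- Locally finite version: if every point has an open Noetherian neighbourhood. -/
theorem locallyFinite_irreducibleComponents {P : Type*} [TopologicalSpace P] (T : Set P)
    (h : ∀ x : P, ∃ N : Set P, IsOpen N ∧ x ∈ N ∧ NoetherianSpace N) :
    LocallyFinite (fun Z : ↥(irreducibleComponents ↥T) =>
      ((↑) : ↥T → P) '' (Z : Set ↥T)) := by
  intro x
  obtain ⟨N, hN, hx, hNoe⟩ := h x
  exact ⟨N, hN.mem_nhds hx, finite_components_meeting T N hN⟩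

end Groth.Agent.Helper53.LocFinIrr
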