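import Mathlib
import Groth.Prelude.Def_AlgSpDec
import Groth.Agent.Lib.Helper78.EtaleDim

/-!
# Locally quasi-finite morphisms from schemes of dimension zero.  By helper53.
-/

set_option autoImplicit false
set_option backward.isDefEq.respectTransparency.types false
universe u
open CategoryTheory CategoryTheory.Limits AlgebraicGeometry Opposite

namespace Groth.Agent.Helper53.LqfDim

/-- a morphism locally of finite type from a scheme of dimension `≤ 0` is locally quasi-finite. -/
theorem lqf_of_dim_le_zero {U V : Scheme.{u}} (f : U ⟶ V) [LocallyOfFiniteType f]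
    (h : topologicalKrullDim U ≤ 0) : LocallyQuasiFinite f := by
  rw [locallyQuasiFinite_iff_isDiscrete_preimage_singleton]
  intro y
  have hlft : LocallyOfFiniteType (f.fiberToSpecResidueField y) :=
    MorphismProperty.pullback_snd _ _ inferInstance
  have : IsLocallyNoetherian (f.fiber y) :=
    LocallyOfFiniteType.isLocallyNoetherian (f.fiberToSpecResidueField y)
  have hd : topologicalKrullDim (f.fiber y) ≤ 0 :=
    ((f.fiberι y).isEmbedding.toIsInducing.topologicalKrullDim_le).trans h
  have := IsLocallyArtinian.of_topologicalKrullDim_le_zero hd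
  simpa [Scheme.Hom.range_fiberι] using
    (isDiscrete_univ_iff.mpr inferInstance).image (f.fiberι y).isEmbedding.toIsInducing

open AlgSp in
/-- the dimension of the spectrum of a field, as an algebraic space, is `≤ 0`. -/
theorem dim_yon_field_le (k : Type u) [Field k] :
    AlgSp.dim ((AlgSp.yon (Spec (CommRingCat.of k))).obj (Over.mk (𝟙 _))) ≤ 0 := by
  unfold AlgSp.dim
  refine iSup_le fun V => iSup_le fun b => iSup_le fun hb => ?_
  obtain ⟨g, rfl⟩ := (AlgSp.yon (Spec (CommRingCat.of k))).map_surjective b
  have : Etale g.left := (AlgSp.repWith_yon_map_iff _ g).1 hb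
  refine (Groth.Agent.Lib.Helper78.EtaleDim.topologicalKrullDim_le_of_etale g.left).trans ?_
  change topologicalKrullDim (PrimeSpectrum k) ≤ 0
  rw [PrimeSpectrum.topologicalKrullDim_eq_ringKrullDim, ringKrullDim_eq_zero_of_field]

end Groth.Agent.Helper53.LqfDim
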