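import Groth.Agent.Lib.Helper53.ArtinLft
import Groth.Agent.Lib.Helper78.AlgSpLocP2
import Groth.Agent.Lib.Helper78.AlgSpLocPLoft
import Groth.Agent.Lib.Helper78.AlgSpFibre
import Groth.Agent.Lib.Helper30.AlgSpDesc

/-!
# A monomorphism into a scheme covered by Artinian local spectra is locally of finite type (helper53)
-/

set_option autoImplicit false
universe u

namespace Groth.Agent.Lib.Helper53.MonoLqfField

open CategoryTheory CategoryTheory.Limits AlgebraicGeometry AlgSp
open Groth.Agent.Lib.Helper78.AlgSpLocP Groth.Agent.Lib.Helper78.AlgSpBasic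

variable {S : Scheme.{u}}

set_option backward.isDefEq.respectTransparency false in
theorem locP_lft_of_mono {X Y : Space S} (f : X ⟶ Y) [Mono f.hom] (U₀ : Over S)
    (e : (yon S).obj U₀ ≅ Y.obj)
    (hU₀ : ∀ w : U₀.left, ∃ V : U₀.left.Opens, w ∈ V ∧ IsAffineOpen V ∧
      IsArtinianRing Γ(U₀.left, V) ∧ IsLocalRing Γ(U₀.left, V)) :
    LocP @LocallyOfFiniteType f.hom := by
  obtain ⟨U, a, hae, has⟩ := X.property.atlas
  obtain ⟨h, hh⟩ := (yon S).map_surjective (a ≫ f.hom ≫ e.inv)
  have comm : a ≫ f.hom = (yon S).map h ≫ e.hom := by rw [hh]; simp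
  refine locP_of_chart Groth.Agent.Lib.Helper78.AlgSpLocPLoft.etLocalST_loft f.hom a e.hom h hae has
    (repWith_of_isIso _ e.hom) comm ?_
  apply Groth.Agent.Lib.Helper53.ArtinLft.lft_of_artinian_local_cover h.left hU₀
  intro κ _ ι P fst snd sq
  let T : Over S := Over.mk (ι ≫ U₀.hom)
  let ιo : T ⟶ U₀ := Over.homMk ι rfl
  obtain ⟨W, w1, w2, sqO, sqL⟩ := Groth.Agent.Lib.Helper30.isPullback_over' h ιo
  suffices hw : LocallyOfFiniteType w2.left by
    have h1 : (sq.isoIsPullback _ _ sqL).hom ≫ w2.left = snd := IsPullback.isoIsPullback_hom_snd _ _ sq sqL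
    rw [← h1]
    infer_instance
  have sqY := sqO.map (yon S)
  have hmono : Mono (f.hom ≫ e.inv) := mono_comp _ _
  have sqX := IsPullback.of_hasPullback (f.hom ≫ e.inv) ((yon S).map ιo)
  have hw : ((yon S).map w1 ≫ a) ≫ f.hom ≫ e.inv = (yon S).map w2 ≫ (yon S).map ιo := by
    rw [Category.assoc, ← hh]
    exact sqY.w
  have sqLeft : IsPullback (sqX.lift ((yon S).map w1 ≫ a) ((yon S).map w2) hw) ((yon S).map w1)
      (pullback.fst (f.hom ≫ e.inv) ((yon S).map ιo)) a := by
    refine IsPullback.of_right ?_ (sqX.lift_fst _ _ _) sqX.flip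
    rw [sqX.lift_snd, ← hh]
    exact sqY.flip
  have : (AlgSp.RepWith (S := S) @Etale).IsStableUnderBaseChange :=
    AlgSp.repWith_isStableUnderBaseChange _
  have haκ : RepWith @Etale (sqX.lift ((yon S).map w1 ≫ a) ((yon S).map w2) hw) :=
    MorphismProperty.of_isPullback sqLeft.flip hae
  by_cases hne : Nonempty (Points (pullback (f.hom ≫ e.inv) ((yon S).map ιo)))
  · have hXκ : IsAlgSpace (pullback (f.hom ≫ e.inv) ((yon S).map ιo)) :=
      Groth.Agent.Lib.Helper78.AlgSpFibre.isAlgSpace_of_isPullback sqX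
        (IsAlgSpace.yon_obj U₀).diag X.property (IsAlgSpace.yon_obj T)
    have hiso : IsIso (pullback.snd (f.hom ≫ e.inv) ((yon S).map ιo)) :=
      Groth.Agent.Lib.Helper51.isIso_of_mono_to_yon_field (ι ≫ U₀.hom) hXκ
        (pullback.snd (f.hom ≫ e.inv) ((yon S).map ιo)) hne
    have h2 : RepWith @Etale ((yon S).map w2) := by
      rw [← sqX.lift_snd ((yon S).map w1 ≫ a) ((yon S).map w2) hw]
      exact (repWith_isMultiplicative (S := S) @Etale).comp_mem _ _ haκ (repWith_of_isIso _ _)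
    have h3 : Etale w2.left := (repWith_yon_map_iff _ _).1 h2
    infer_instance
  · have : IsEmpty W.left := ⟨fun p => hne ⟨Points.map
      (sqX.lift ((yon S).map w1 ≫ a) ((yon S).map w2) hw) (Points.schemeEquiv W p)⟩⟩
    infer_instance

end Groth.Agent.Lib.Helper53.MonoLqfField
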