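import Groth.Agent.Lib.Helper53.MonoLqfField
import Groth.Agent.Lib.Helper78.AlgSpLocPLqf
import Groth.Agent.S10483
import Groth.Agent.S10613

/-!
# Local quasi-finiteness over a field passes to the source of a monomorphism (helper53)
-/

set_option autoImplicit false
universe u

namespace Groth.Agent.Lib.Helper53.MonoLqfField

open CategoryTheory CategoryTheory.Limits AlgebraicGeometry AlgSp
open Groth.Agent.Lib.Helper78.AlgSpLocP Groth.Agent.Lib.Helper78.AlgSpBasic

set_option backward.isDefEq.respectTransparency false in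
theorem main (k : Type u) [Field k] {X Y : AlgSp.Space (Spec (CommRingCat.of k))} (f : X ⟶ Y)
    [Mono f.hom] (q : Y.obj ⟶ (AlgSp.yon (Spec (CommRingCat.of k))).obj (Over.mk (𝟙 _)))
    (hq : AlgSp.LocP (@LocallyQuasiFinite ⊓ @LocallyOfFiniteType : MorphismProperty Scheme.{u}) q) :
    AlgSp.LocP (@LocallyQuasiFinite ⊓ @LocallyOfFiniteType : MorphismProperty Scheme.{u})
      (f.hom ≫ q) := by
  obtain ⟨U₀, e, hU₀⟩ := (Groth.Agent.S10483.result k Y q).1 hq
  have hA : LocP @LocallyOfFiniteType f.hom :=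
    locP_lft_of_mono f U₀ e (fun w => by
      obtain ⟨V, h1, h2, h3, h4, -⟩ := hU₀ w
      exact ⟨V, h1, h2, h3, h4⟩)
  have hB := ((Groth.Agent.S10613.result f).2.2.2 ⟨hA, inferInstance⟩).2.2
  obtain ⟨V, b, hb1, hb2⟩ := Y.property.atlas
  exact locP_comp Groth.Agent.Lib.Helper78.AlgSpLocPLqf.etLocalST_lqf f.hom q ⟨V, b, hb1, hb2⟩ hB hq

end Groth.Agent.Lib.Helper53.MonoLqfField
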