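import Groth.Agent.Lib.Helper53.PCohFactor

set_option autoImplicit false
universe w v u
open CategoryTheory CategoryTheory.Limits CochainComplex HomComplex Pretriangulated ZeroObject

namespace Groth.Agent.Helper53.PCoh

section General

/-- a product indexed by `WalkingPair` is the binary biproduct -/
noncomputable def piWalkingPairIsoBiprod {D : Type*} [Category D] [Preadditive D]
    [HasBinaryBiproducts D] [HasFiniteProducts D] (f : WalkingPair → D) :
    ∏ᶜ f ≅ f .left ⊞ f .right where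
  hom := biprod.lift (Pi.π f .left) (Pi.π f .right)
  inv := Pi.lift (fun j => match j with
    | .left => biprod.fst
    | .right => biprod.snd)
  hom_inv_id := by
    apply Pi.hom_ext
    rintro (_ | _) <;> simp
  inv_hom_id := by
    apply biprod.hom_ext <;> simp

/-- the direct sum of two distinguished triangles, up to isomorphisms on objects -/
lemma exists_biprod_triangle {D : Type*} [Category D] [HasZeroObject D] [HasShift D ℤ]
    [Preadditive D] [∀ n : ℤ, (CategoryTheory.shiftFunctor D n).Additive] [Pretriangulated D]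
    (T₁ T₂ : Triangle D) (h₁ : T₁ ∈ distTriang D) (h₂ : T₂ ∈ distTriang D) :
    ∃ T : Triangle D, T ∈ distTriang D ∧ Nonempty (T.obj₁ ≅ T₁.obj₁ ⊞ T₂.obj₁) ∧
      Nonempty (T.obj₂ ≅ T₁.obj₂ ⊞ T₂.obj₂) ∧ Nonempty (T.obj₃ ≅ T₁.obj₃ ⊞ T₂.obj₃) := by
  let T : WalkingPair → Triangle D := fun j => match j with
    | .left => T₁
    | .right => T₂
  have hT : ∀ j, T j ∈ distTriang D := by
    rintro (_ | _)
    · exact h₁
    · exact h₂
  exact ⟨productTriangle T, productTriangle_distinguished T hT,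
    ⟨piWalkingPairIsoBiprod (fun j => (T j).obj₁)⟩,
    ⟨piWalkingPairIsoBiprod (fun j => (T j).obj₂)⟩,
    ⟨piWalkingPairIsoBiprod (fun j => (T j).obj₃)⟩⟩

end General

variable {C : Type u} [Category.{v} C] [Abelian C] [HasDerivedCategory.{w} C]

omit [Abelian C] [HasDerivedCategory.{w} C] in
lemma isOfFiniteType_of_epi {P : ObjectProperty C} {A B : C} (f : A ⟶ B) [Epi f]
    (h : PCoh.IsOfFiniteType P A) : PCoh.IsOfFiniteType P B := by
  obtain ⟨L, π, hL, hπ⟩ := h
  exact ⟨L, π ≫ f, hL, epi_comp _ _⟩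

lemma epi_dH_map_biprod_fst (X Y : DerivedCategory C) [HasBinaryBiproduct X Y] (i : ℤ) :
    Epi ((dH C i).map (biprod.fst : X ⊞ Y ⟶ X)) := by
  have : IsSplitEpi ((dH C i).map (biprod.fst : X ⊞ Y ⟶ X)) :=
    IsSplitEpi.mk' ⟨(dH C i).map biprod.inl, by
      rw [← Functor.map_comp, biprod.inl_fst, CategoryTheory.Functor.map_id]⟩
  infer_instance

lemma epi_dH_map_biprod_snd (X Y : DerivedCategory C) [HasBinaryBiproduct X Y] (i : ℤ) :
    Epi ((dH C i).map (biprod.snd : X ⊞ Y ⟶ Y)) := by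
  have : IsSplitEpi ((dH C i).map (biprod.snd : X ⊞ Y ⟶ Y)) :=
    IsSplitEpi.mk' ⟨(dH C i).map biprod.inr, by
      rw [← Functor.map_comp, biprod.inr_snd, CategoryTheory.Functor.map_id]⟩
  infer_instance

lemma isZero_dH_biprod (X Y : DerivedCategory C) [HasBinaryBiproduct X Y] (i : ℤ)
    (hX : IsZero ((dH C i).obj X)) (hY : IsZero ((dH C i).obj Y)) :
    IsZero ((dH C i).obj (X ⊞ Y)) := by
  rw [IsZero.iff_id_eq_zero, ← CategoryTheory.Functor.map_id, ← biprod.total, Functor.map_add,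
    Functor.map_comp, Functor.map_comp, hX.eq_of_tgt ((dH C i).map biprod.fst) 0,
    hY.eq_of_tgt ((dH C i).map biprod.snd) 0, zero_comp, zero_comp, add_zero]

variable (P : ObjectProperty C) [P.IsClosedUnderIsomorphisms] [P.ContainsZero]

omit [P.IsClosedUnderIsomorphisms] [P.ContainsZero] in
/-- a map from a single `P`-object inducing an epimorphism on `H^N` -/
lemma exists_single_hom_epi (hql : PCoh.IsQuasiLiftable P) (N : ℤ) (F : DerivedCategory C)
    (h : PCoh.IsOfFiniteType P ((dH C N).obj F)) :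
    ∃ (L : C) (_ : P L)
      (α : (dQ C).obj ((HomologicalComplex.single C (ComplexShape.up ℤ) N).obj L) ⟶ F),
      Epi ((dH C N).map α) := by
  let F₁ := (dQ C).objPreimage F
  let e : (dQ C).obj F₁ ≅ F := (dQ C).objObjPreimageIso F
  obtain ⟨L, z, hL, hz⟩ := exists_cycles_of_isOfFiniteType hql F₁ N
    (isOfFiniteType_of_iso (homologyIsoOfIso e N).symm h)
  let a : (HomologicalComplex.single C (ComplexShape.up ℤ) N).obj L ⟶ F₁ :=
    HomologicalComplex.mkHomFromSingle (z ≫ F₁.iCycles N) (fun k _ => by simp)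
  have ha : Epi (HomologicalComplex.homologyMap a N) := epi_homologyMap_mkHomFromSingle _ N z hz
  refine ⟨L, hL, (dQ C).map a ≫ e.hom, ?_⟩
  rw [Functor.map_comp]
  have := (epi_dH_map_Q_iff a N).2 ha
  infer_instance

omit [P.IsClosedUnderIsomorphisms] [P.ContainsZero] in
/-- cohomology vanishing of the cone of a map which is epi on `H^N` from an object
acyclic above `N` -/
lemma isZero_dH_obj₃ (T : Triangle (DerivedCategory C)) (hT : T ∈ distTriang (DerivedCategory C))
    (N : ℤ) (hepi : Epi ((dH C N).map T.mor₁))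
    (h₁ : ∀ i : ℤ, N < i → IsZero ((dH C i).obj T.obj₁))
    (h₂ : ∀ i : ℤ, N < i → IsZero ((dH C i).obj T.obj₂)) :
    ∀ i : ℤ, N ≤ i → IsZero ((dH C i).obj T.obj₃) := by
  intro i hi
  have ex2 := DerivedCategory.HomologySequence.exact₂ T hT i
  have ex3 := DerivedCategory.HomologySequence.exact₃ T hT i (i + 1) rfl
  have hepi' : Epi ((dH C i).map T.mor₁) := by
    rcases (show i = N ∨ N < i by lia) with h | h
    · rw [h]; exact hepi
    · exact (h₂ i h).epi _
  have h0 : (dH C i).map T.mor₂ = 0 := ex2.epi_f_iff.1 hepi'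
  have hδ : DerivedCategory.HomologySequence.δ T i (i + 1) rfl = 0 :=
    (h₁ (i + 1) (by lia)).eq_of_tgt _ _
  have hepi2 : Epi ((dH C i).map T.mor₂) := ex3.epi_f_iff.2 hδ
  exact IsZero.of_epi_eq_zero _ h0

variable (hsum : ∀ X Y : C, P X → P Y → P (X ⨯ Y))
  (hqs : PCoh.IsQuasiStableUnderKernels P) (hql : PCoh.IsQuasiLiftable P)

include hsum hqs hql

/-- S5605 (⇐) -/
theorem IsNPC.biprod (n : ℤ) (X Y : DerivedCategory C) [HasBinaryBiproduct X Y]
    (hX : IsNPC P n X) (hY : IsNPC P n Y) : IsNPC P n (X ⊞ Y) :=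
  IsNPC.obj₂ P hsum hqs hql n (binaryBiproductTriangle X Y)
    (binaryBiproductTriangle_distinguished X Y) hX hY

/-- S5605 (⇒), by induction on the cohomological amplitude above `n` -/
theorem IsNPC.of_biprod_aux (n : ℤ) (d : ℕ) :
    ∀ (X Y : DerivedCategory C), IsNPC P n (X ⊞ Y) →
      (∀ i : ℤ, n + d ≤ i → IsZero ((dH C i).obj X)) →
      (∀ i : ℤ, n + d ≤ i → IsZero ((dH C i).obj Y)) → IsNPC P n X ∧ IsNPC P n Y := by
  induction d with
  | zero =>
    intro X Y _ hX hY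
    exact ⟨IsNPC.of_acyclic P n X (fun i hi => hX i (by push_cast; lia)),
      IsNPC.of_acyclic P n Y (fun i hi => hY i (by push_cast; lia))⟩
  | succ d ih =>
    intro X Y hS hX hY
    obtain ⟨N, hN⟩ : ∃ N : ℤ, N = n + d := ⟨_, rfl⟩
    have hXN : ∀ i : ℤ, N < i → IsZero ((dH C i).obj X) := fun i hi => hX i (by push_cast; lia)
    have hYN : ∀ i : ℤ, N < i → IsZero ((dH C i).obj Y) := fun i hi => hY i (by push_cast; lia)
    have hSft : PCoh.IsOfFiniteType P ((dH C N).obj (X ⊞ Y)) :=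
      IsNPC.isOfFiniteType P hqs N _ (hS.mono (by lia))
        (fun i hi => isZero_dH_biprod X Y i (hXN i hi) (hYN i hi))
    have := epi_dH_map_biprod_fst X Y N
    have := epi_dH_map_biprod_snd X Y N
    obtain ⟨LX, hLX, αX, hαX⟩ := exists_single_hom_epi P hql N X
      (isOfFiniteType_of_epi ((dH C N).map biprod.fst) hSft)
    obtain ⟨LY, hLY, αY, hαY⟩ := exists_single_hom_epi P hql N Y
      (isOfFiniteType_of_epi ((dH C N).map biprod.snd) hSft)
    obtain ⟨GX, gX, kX, hTX⟩ := distinguished_cocone_triangle αX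
    obtain ⟨GY, gY, kY, hTY⟩ := distinguished_cocone_triangle αY
    have hAX : ∀ m : ℤ, IsNPC P m ((dQ C).obj
        ((HomologicalComplex.single C (ComplexShape.up ℤ) N).obj LX)) := fun m =>
      ⟨_, isStrictPC_single P m N LX hLX, ⟨Iso.refl _⟩⟩
    have hAY : ∀ m : ℤ, IsNPC P m ((dQ C).obj
        ((HomologicalComplex.single C (ComplexShape.up ℤ) N).obj LY)) := fun m =>
      ⟨_, isStrictPC_single P m N LY hLY, ⟨Iso.refl _⟩⟩
    have hAac : ∀ (L : C) (i : ℤ), N < i → IsZero ((dH C i).obj ((dQ C).obj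
        ((HomologicalComplex.single C (ComplexShape.up ℤ) N).obj L))) := fun L i hi =>
      IsZero.of_iso (HomologicalComplex.isZero_single_obj_homology _ _ _ _ (by lia)) (dHQIso _ i)
    obtain ⟨T, hT, ⟨e₁⟩, ⟨e₂⟩, ⟨e₃⟩⟩ := exists_biprod_triangle _ _ hTX hTY
    have hG : IsNPC P n (GX ⊞ GY) := by
      refine (IsNPC.obj₃ P hsum hqs hql n T hT ?_ ?_).of_iso e₃
      · exact (IsNPC.biprod P hsum hqs hql (n + 1) _ _ (hAX _) (hAY _)).of_iso e₁.symm
      · exact hS.of_iso e₂.symm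
    have hGX := isZero_dH_obj₃ _ hTX N hαX (hAac LX) hXN
    have hGY := isZero_dH_obj₃ _ hTY N hαY (hAac LY) hYN
    obtain ⟨h1, h2⟩ := ih GX GY hG (fun i hi => hGX i (by lia)) (fun i hi => hGY i (by lia))
    exact ⟨IsNPC.obj₂ P hsum hqs hql n _ hTX (hAX n) h1,
      IsNPC.obj₂ P hsum hqs hql n _ hTY (hAY n) h2⟩

omit [P.IsClosedUnderIsomorphisms] [P.ContainsZero] hsum hql hqs in
/-- an `n`-pc object has bounded above cohomology -/
lemma IsNPC.exists_bound (n : ℤ) (F : DerivedCategory C) (h : IsNPC P n F) :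
    ∃ b : ℤ, ∀ i : ℤ, b < i → IsZero ((dH C i).obj F) := by
  obtain ⟨E, ⟨⟨b, hb⟩, _⟩, ⟨e⟩⟩ := h
  exact ⟨b, fun i hi => IsZero.of_iso (isZero_homology_of_isZero_X E i (hb i hi))
    (homologyIsoOfIso e i).symm⟩

/-- S5605 (⇒) -/
theorem IsNPC.of_biprod (n : ℤ) (X Y : DerivedCategory C) [HasBinaryBiproduct X Y]
    (hS : IsNPC P n (X ⊞ Y)) : IsNPC P n X ∧ IsNPC P n Y := by
  obtain ⟨b, hb⟩ := IsNPC.exists_bound P n _ hS
  have hX : ∀ i : ℤ, b < i → IsZero ((dH C i).obj X) := fun i hi => by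
    have := epi_dH_map_biprod_fst X Y i
    exact IsZero.of_epi_eq_zero ((dH C i).map biprod.fst) ((hb i hi).eq_of_src _ _)
  have hY : ∀ i : ℤ, b < i → IsZero ((dH C i).obj Y) := fun i hi => by
    have := epi_dH_map_biprod_snd X Y i
    exact IsZero.of_epi_eq_zero ((dH C i).map biprod.snd) ((hb i hi).eq_of_src _ _)
  obtain ⟨d, hd⟩ : ∃ d : ℕ, b + 1 - n ≤ (d : ℤ) := ⟨(b + 1 - n).toNat, by lia⟩
  exact IsNPC.of_biprod_aux P hsum hqs hql n d X Y
    (hS.of_iso (biprod.uniqueUpToIso X Y (BinaryBiproduct.isBilimit X Y)))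
    (fun i hi => hX i (by lia)) (fun i hi => hY i (by lia))

end Groth.Agent.Helper53.PCoh
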