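import Groth.Agent.Lib.Helper53.PCohLimit
import Groth.Agent.Lib.Helper53.PCohSum
import Mathlib.Algebra.Homology.DerivedCategory.Fractions

set_option autoImplicit false
universe w v u
open CategoryTheory CategoryTheory.Limits CochainComplex HomComplex Pretriangulated ZeroObject

namespace Groth.Agent.Helper53.PCoh

variable {C : Type u} [Category.{v} C] [Abelian C] [HasDerivedCategory.{w} C]
  (P : ObjectProperty C) [P.IsClosedUnderIsomorphisms] [P.ContainsZero]
  (hsum : ∀ X Y : C, P X → P Y → P (X ⨯ Y))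
  (hqs : PCoh.IsQuasiStableUnderKernels P) (hql : PCoh.IsQuasiLiftable P)

include hsum hqs hql

/-- S12101 -/
theorem exists_factorisation_strictPCAll (n : ℤ) (E F : CochainComplex C ℤ)
    (hE : PCoh.IsStrictPCAll P E) (hF : PCoh.IsPC P ((dQ C).obj F)) (u : E ⟶ F)
    (hiso : ∀ j : ℤ, n < j → IsIso (HomologicalComplex.homologyMap u j))
    (hepi : Epi (HomologicalComplex.homologyMap u n)) :
    ∃ (E' : CochainComplex C ℤ) (v : E ⟶ E') (u' : E' ⟶ F), v ≫ u' = u ∧
      PCoh.IsStrictPCAll P E' ∧ QuasiIso u' ∧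
      (∀ j : ℤ, Mono (v.f j)) ∧ (∀ j : ℤ, n ≤ j → IsIso (v.f j)) := by
  obtain ⟨⟨b, hb⟩, hP⟩ := hE
  let S₀ : Stage P n F (max b n) 0 :=
    { E := E, u := u, hP := hP
      hb := fun i hi => hb i (by have := le_max_left b n; lia)
      hiso := fun j hj => hiso j (by simpa using hj)
      hepi := by
        have h0 : n - ((0 : ℕ) : ℤ) = n := by simp
        rw [h0]; exact hepi }
  obtain ⟨E', v, u', h1, ⟨h2, h3⟩, h4, h5, h6⟩ :=
    exists_factorisation_of_stage hsum hqs hql (fun m => hF m) (le_max_right b n) S₀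
  exact ⟨E', v, u', h1, ⟨⟨_, h2⟩, h3⟩, h4, h5, h6⟩

omit [HasDerivedCategory.{w} C] hsum hqs hql in
lemma isStrictPCAll_zero : PCoh.IsStrictPCAll P (0 : CochainComplex C ℤ) :=
  ⟨⟨0, fun i _ => isZero_zero_X i⟩, fun i => P.prop_of_isZero (isZero_zero_X i)⟩

/-- the "all degrees" analogue of S5597, with vanishing above a cohomological bound -/
theorem exists_strictPCAll_quasiIso_to (m : ℤ) (X : CochainComplex C ℤ)
    (hX : PCoh.IsPC P ((dQ C).obj X)) (hac : ∀ i : ℤ, m ≤ i → IsZero (X.homology i)) :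
    ∃ (E : CochainComplex C ℤ) (t : E ⟶ X), PCoh.IsStrictPCAll P E ∧ QuasiIso t ∧
      ∀ i : ℤ, m ≤ i → IsZero (E.X i) := by
  obtain ⟨E', v, u', _, hE', hu', _, hviso⟩ :=
    exists_factorisation_strictPCAll P hsum hqs hql m 0 X (isStrictPCAll_zero P) hX 0
      (fun j hj => isIso_of_isZero _ (isZero_homology_of_isZero_X _ j (isZero_zero_X j))
        (hac j (by lia)))
      ((hac m le_rfl).epi _)
  refine ⟨E', u', hE', hu', fun i hi => ?_⟩
  have := hviso i hi
  exact IsZero.of_iso (isZero_zero_X i) (asIso (v.f i)).symm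

omit [P.IsClosedUnderIsomorphisms] [P.ContainsZero] hsum hqs hql in
lemma IsPC.of_iso {F F' : DerivedCategory C} (h : PCoh.IsPC P F) (e : F ≅ F') :
    PCoh.IsPC P F' := fun n => IsNPC.of_iso (h n) e

/-- S5618 -/
theorem IsPC.exists_strictPCAll_bounded (m : ℤ) (F : DerivedCategory C) (hF : PCoh.IsPC P F)
    (hac : ∀ i : ℤ, m ≤ i → IsZero ((dH C i).obj F)) :
    ∃ E : CochainComplex C ℤ, (∀ i : ℤ, P (E.X i)) ∧ (∀ i : ℤ, m ≤ i → IsZero (E.X i)) ∧
      Nonempty ((dQ C).obj E ≅ F) := by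
  let F₁ := (dQ C).objPreimage F
  let e : (dQ C).obj F₁ ≅ F := (dQ C).objObjPreimageIso F
  obtain ⟨E, t, hE, ht, hvan⟩ := exists_strictPCAll_quasiIso_to P hsum hqs hql m F₁
    (IsPC.of_iso P hF e.symm)
    (fun i hi => IsZero.of_iso (hac i hi) (homologyIsoOfIso e i))
  exact ⟨E, hE.2, hvan, ⟨asIso ((dQ C).map t) ≪≫ e⟩⟩

/-- S4295 -/
theorem IsPC.exists_strictPCAll (F : DerivedCategory C) (hF : PCoh.IsPC P F) :
    ∃ E : CochainComplex C ℤ, PCoh.IsStrictPCAll P E ∧ Nonempty ((dQ C).obj E ≅ F) := by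
  obtain ⟨b, hb⟩ := IsNPC.exists_bound P 0 F (hF 0)
  obtain ⟨E, hP, hvan, he⟩ := IsPC.exists_strictPCAll_bounded P hsum hqs hql (b + 1) F hF
    (fun i hi => hb i (by lia))
  exact ⟨E, ⟨⟨b, fun i hi => hvan i (by lia)⟩, hP⟩, he⟩

omit [P.IsClosedUnderIsomorphisms] [P.ContainsZero] hsum hqs hql in
lemma isPC_of_isStrictPCAll (E : CochainComplex C ℤ) (hE : PCoh.IsStrictPCAll P E) :
    PCoh.IsPC P ((dQ C).obj E) :=
  fun _ => ⟨E, ⟨hE.1, fun i _ => hE.2 i⟩, ⟨Iso.refl _⟩⟩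

/-- replacing the source of a quasi-isomorphism to a strictly pc complex -/
theorem exists_strictPCAll_of_quasiIso (E X : CochainComplex C ℤ) (hE : PCoh.IsStrictPCAll P E)
    (s : X ⟶ E) (hs : QuasiIso s) :
    ∃ (E'' : CochainComplex C ℤ) (t : E'' ⟶ X), PCoh.IsStrictPCAll P E'' ∧ QuasiIso t := by
  have hX : PCoh.IsPC P ((dQ C).obj X) :=
    IsPC.of_iso P (isPC_of_isStrictPCAll P E hE) (asIso ((dQ C).map s)).symm
  obtain ⟨b, hb⟩ := IsNPC.exists_bound P 0 _ (hX 0)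
  obtain ⟨E'', t, hE'', ht, _⟩ := exists_strictPCAll_quasiIso_to P hsum hqs hql (b + 1) X hX
    (fun i hi => IsZero.of_iso (hb i (by lia)) (dHQIso X i).symm)
  exact ⟨E'', t, hE'', ht⟩

/-- S4296 -/
theorem exists_roof_strictPCAll (E E' : CochainComplex C ℤ) (hE : PCoh.IsStrictPCAll P E)
    (α : (dQ C).obj E ⟶ (dQ C).obj E') :
    ∃ (E'' : CochainComplex C ℤ) (s : E'' ⟶ E) (f : E'' ⟶ E'), PCoh.IsStrictPCAll P E'' ∧
      QuasiIso s ∧ (dQ C).map s ≫ α = (dQ C).map f := by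
  obtain ⟨X', s, hs, g, hα⟩ := DerivedCategory.right_fac α
  have hs' : QuasiIso s := (DerivedCategory.isIso_Q_map_iff_quasiIso (φ := s)).1 hs
  obtain ⟨E'', t, hE'', ht⟩ := exists_strictPCAll_of_quasiIso P hsum hqs hql E X' hE s hs'
  refine ⟨E'', t ≫ s, t ≫ g, hE'', inferInstance, ?_⟩
  rw [hα, Functor.map_comp, Functor.map_comp, Category.assoc, IsIso.hom_inv_id_assoc]

/-- S4297 -/
theorem exists_homotopy_strictPCAll (E E' : CochainComplex C ℤ) (hE : PCoh.IsStrictPCAll P E)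
    (f g : E ⟶ E') (hfg : (dQ C).map f = (dQ C).map g) :
    ∃ (E'' : CochainComplex C ℤ) (s : E'' ⟶ E), PCoh.IsStrictPCAll P E'' ∧ QuasiIso s ∧
      Nonempty (Homotopy (s ≫ f) (s ≫ g)) := by
  have h1 : DerivedCategory.Qh.map ((HomotopyCategory.quotient C (ComplexShape.up ℤ)).map f) =
      DerivedCategory.Qh.map ((HomotopyCategory.quotient C (ComplexShape.up ℤ)).map g) := by
    have hf := (DerivedCategory.quotientCompQhIso C).hom.naturality f
    have hg := (DerivedCategory.quotientCompQhIso C).hom.naturality g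
    rw [← cancel_mono ((DerivedCategory.quotientCompQhIso C).hom.app E')]
    exact hf.trans ((congrArg _ hfg).trans hg.symm)
  rw [MorphismProperty.map_eq_iff_precomp DerivedCategory.Qh
    (HomotopyCategory.quasiIso C (ComplexShape.up ℤ))] at h1
  obtain ⟨Z, s, hs, hsfg⟩ := h1
  obtain ⟨X', rfl⟩ := HomotopyCategory.quotient_obj_surjective Z
  obtain ⟨s, rfl⟩ := (HomotopyCategory.quotient _ _).map_surjective s
  have hs' : QuasiIso s := (HomotopyCategory.quotient_map_mem_quasiIso_iff s).1 hs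
  obtain ⟨E'', t, hE'', ht⟩ := exists_strictPCAll_of_quasiIso P hsum hqs hql E X' hE s hs'
  have H : Homotopy (s ≫ f) (s ≫ g) := by
    apply HomotopyCategory.homotopyOfEq
    rw [Functor.map_comp, Functor.map_comp]
    exact hsfg
  refine ⟨E'', t ≫ s, hE'', inferInstance, ⟨?_⟩⟩
  have H' := H.compLeft t
  exact (Homotopy.ofEq (Category.assoc _ _ _)).trans (H'.trans (Homotopy.ofEq (Category.assoc _ _ _).symm))

end Groth.Agent.Helper53.PCoh
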