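import Groth.Agent.Lib.Helper53.PCohPerfect

set_option autoImplicit false
universe w v u
open CategoryTheory CategoryTheory.Limits CochainComplex HomComplex Pretriangulated ZeroObject

namespace Groth.Agent.Helper53.PCoh

variable {C : Type u} [Category.{v} C] [Abelian C]

section Cycles

variable (K : CochainComplex C ℤ)

/-- `toCycles i (i+1)` is an epimorphism when `K` is exact at `i+1` -/
lemma epi_toCycles_of_isZero_homology (i j : ℤ) (hij : i + 1 = j) (h : IsZero (K.homology j)) :
    Epi (K.toCycles i j) :=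
  Preadditive.epi_of_isZero_cokernel' _ (K.homologyIsCokernel i j (by subst hij; simp)) h

/-- the short complex `Z^i ⟶ K^i ⟶ Z^{i+1}` -/
noncomputable def cyclesShortComplex (i j : ℤ) : ShortComplex C :=
  ShortComplex.mk (K.iCycles i) (K.toCycles i j) (by
    rw [← cancel_mono (K.iCycles j), Category.assoc, HomologicalComplex.toCycles_i, zero_comp,
      HomologicalComplex.iCycles_d])

lemma cyclesShortComplex_exact (i j : ℤ) (hij : i + 1 = j) : (cyclesShortComplex K i j).Exact := by
  refine ShortComplex.exact_of_f_is_kernel _ ?_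
  exact isKernelOfComp (K.iCycles j) (K.d i j) (K.cyclesIsKernel i j (by subst hij; simp)) _
    (HomologicalComplex.toCycles_i K i j)

end Cycles

variable (P : ObjectProperty C) [P.IsClosedUnderIsomorphisms] [P.ContainsZero]
  (hsum : ∀ X Y : C, P X → P Y → P (X ⨯ Y))
  (hlift : ∀ (E F : C) (u : E ⟶ F), Epi u → P F → IsSplitEpi u)
  (hst : ∀ (E F : C) (u : E ⟶ F), Epi u → P E → P F → P (kernel u))

include hst in
omit [P.ContainsZero] in
/-- kernels of epimorphisms between `P`-objects, for an arbitrary kernel -/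
lemma prop_of_exact_of_epi (S : ShortComplex C) (hS : S.Exact) [Mono S.f] [Epi S.g]
    (h₂ : P S.X₂) (h₃ : P S.X₃) : P S.X₁ := by
  have hk := hst _ _ S.g inferInstance h₂ h₃
  exact P.prop_of_iso (IsLimit.conePointUniqueUpToIso (kernelIsKernel S.g) hS.fIsKernel) hk

include hst in
/-- cycles of a bounded above complex, exact above `b` and with `P`-terms from `b` on -/
lemma prop_cycles (K : CochainComplex C ℤ) (b c : ℤ) (hc : ∀ i : ℤ, c < i → IsZero (K.X i))
    (hP : ∀ i : ℤ, b ≤ i → P (K.X i)) (hex : ∀ i : ℤ, b < i → IsZero (K.homology i)) (d : ℕ) :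
    ∀ i : ℤ, b ≤ i → c + 1 - d ≤ i → P (K.cycles i) := by
  induction d with
  | zero =>
    intro i _ hi
    exact P.prop_of_isZero (IsZero.of_mono (K.iCycles i) (hc i (by push_cast at hi; lia)))
  | succ d ih =>
    intro i hbi hi
    by_cases h : c + 1 - d ≤ i
    · exact ih i hbi h
    · have h1 := ih (i + 1) (by lia) (by push_cast at hi; lia)
      have := epi_toCycles_of_isZero_homology K i (i + 1) rfl (hex _ (by lia))
      have hm : Mono (cyclesShortComplex K i (i + 1)).f := by
        change Mono (K.iCycles i); infer_instance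
      have he : Epi (cyclesShortComplex K i (i + 1)).g := by
        change Epi (K.toCycles i (i + 1)); infer_instance
      exact prop_of_exact_of_epi P hst _ (cyclesShortComplex_exact K i (i + 1) rfl) (hP i hbi) h1

include hsum hlift in
omit [P.ContainsZero] in
/-- extensions by `P`-objects split -/
lemma prop_of_exact_of_prop (S : ShortComplex C) (hS : S.Exact) [Mono S.f] [Epi S.g]
    (h₁ : P S.X₁) (h₃ : P S.X₃) : P S.X₂ := by
  have := hlift _ _ S.g inferInstance h₃
  let spl := ShortComplex.Splitting.ofExactOfSection S hS (section_ S.g) (IsSplitEpi.id S.g)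
    inferInstance
  exact P.prop_of_iso spl.isoBinaryBiproduct.symm (prop_biprod P hsum h₁ h₃)

variable [HasDerivedCategory.{w} C]

include hst in
/-- S5610 -/
theorem exists_strictlyPerfect_truncated (a b c : ℤ) (hab : a ≤ b) (F : CochainComplex C ℤ)
    (hP : ∀ i : ℤ, P (F.X i)) (hvan : ∀ i : ℤ, i < a ∨ c < i → IsZero (F.X i))
    (hcoh : ∀ i : ℤ, b < i → IsZero (F.homology i)) :
    ∃ F' : CochainComplex C ℤ, (∀ i : ℤ, P (F'.X i)) ∧
      (∀ i : ℤ, i < a ∨ min b c < i → IsZero (F'.X i)) ∧
      Nonempty ((dQ C).obj F' ≅ (dQ C).obj F) := by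
  by_cases hcb : c ≤ b
  · rw [min_eq_right hcb]
    exact ⟨F, hP, hvan, ⟨Iso.refl _⟩⟩
  · rw [min_eq_left (by lia)]
    have hLE : F.IsLE b := by
      rw [isLE_iff]
      intro i hi
      rw [HomologicalComplex.exactAt_iff_isZero_homology]
      exact hcoh i hi
    have hZ : P (F.cycles b) :=
      prop_cycles P hst F b c (fun i hi => hvan i (Or.inr hi)) (fun i _ => hP i) hcoh
        (c + 1 - b).toNat b le_rfl (by lia)
    refine ⟨F.truncLE b, fun i => ?_, fun i hi => ?_, ⟨asIso ((dQ C).map (F.ιTruncLE b))⟩⟩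
    · rcases lt_trichotomy i b with h | h | h
      · exact P.prop_of_iso (F.truncLEXIso b i h).symm (hP i)
      · subst h
        exact P.prop_of_iso (F.truncLEXIsoCycles i).symm hZ
      · exact P.prop_of_isZero ((F.truncLE b).isZero_of_isStrictlyLE b i h)
    · rcases hi with hi | hi
      · exact IsZero.of_iso (hvan i (Or.inl hi)) (F.truncLEXIso b i (by lia))
      · exact (F.truncLE b).isZero_of_isStrictlyLE b i hi

include hsum hlift hst in
/-- S5621 -/
theorem prop_first_term_of_perfectAmplitude (a b : ℤ) (F : CochainComplex C ℤ)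
    (hvan : ∀ i : ℤ, i < a ∨ b < i → IsZero (F.X i)) (hP : ∀ i : ℤ, a < i → P (F.X i))
    (hamp : ∃ E : CochainComplex C ℤ, (∀ i : ℤ, P (E.X i)) ∧
      (∀ i : ℤ, i < a ∨ b < i → IsZero (E.X i)) ∧ Nonempty ((dQ C).obj E ≅ (dQ C).obj F)) :
    P (F.X a) := by
  obtain ⟨E, hPE, hvE, ⟨e⟩⟩ := hamp
  have := isKProjective_of_prop P hlift E b (fun i hi => hvE i (Or.inr hi)) hPE
  obtain ⟨φ, hφ⟩ := exists_chain_map_of_isKProjective E F e.hom
  have hqi : QuasiIso φ := (DerivedCategory.isIso_Q_map_iff_quasiIso (φ := φ)).1 (by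
    change IsIso ((dQ C).map φ)
    rw [hφ]; infer_instance)
  have hMac : ∀ i : ℤ, IsZero ((mappingCone φ).homology i) := fun i =>
    isZero_homology_mappingCone φ i (i + 1) rfl inferInstance inferInstance
  have hMX : ∀ i : ℤ, a + 1 ≤ i → P ((mappingCone φ).X i) := fun i hi =>
    prop_mappingCone_X P hsum φ i (hPE _) (hP i (by lia))
  have hMb : ∀ i : ℤ, b < i → IsZero ((mappingCone φ).X i) := fun i hi => by
    rw [mappingCone.isZero_X_iff]
    exact ⟨hvE _ (Or.inr (by lia)), hvan _ (Or.inr hi)⟩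
  have hZ : P ((mappingCone φ).cycles (a + 1)) :=
    prop_cycles P hst (mappingCone φ) (a + 1) b hMb hMX (fun i _ => hMac i)
      (b + 1 - (a + 1)).toNat (a + 1) le_rfl (by lia)
  have hX2 : IsZero ((mappingCone φ).X (a - 2)) := by
    rw [mappingCone.isZero_X_iff]
    exact ⟨hvE _ (Or.inl (by lia)), hvan _ (Or.inl (by lia))⟩
  have hZ1 : IsZero ((mappingCone φ).cycles (a - 1)) := by
    have := epi_toCycles_of_isZero_homology (mappingCone φ) (a - 2) (a - 1) (by lia) (hMac _)
    exact IsZero.of_epi ((mappingCone φ).toCycles (a - 2) (a - 1)) hX2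
  have hdmono : Mono ((mappingCone φ).d (a - 1) a) :=
    Preadditive.mono_of_isZero_kernel' _ ((mappingCone φ).cyclesIsKernel (a - 1) a (by simp)) hZ1
  have hmono : Mono ((mappingCone φ).toCycles (a - 1) a) := by
    have h := (mappingCone φ).toCycles_i (a - 1) a
    rw [← h] at hdmono
    exact mono_of_mono _ ((mappingCone φ).iCycles a)
  have hepi : Epi ((mappingCone φ).toCycles (a - 1) a) :=
    epi_toCycles_of_isZero_homology _ (a - 1) a (by lia) (hMac a)
  have hiso : IsIso ((mappingCone φ).toCycles (a - 1) a) := isIso_of_mono_of_epi _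
  have hXa1 : P ((mappingCone φ).X (a - 1)) :=
    prop_mappingCone_X P hsum φ (a - 1) (hPE _) (P.prop_of_isZero (hvan _ (Or.inl (by lia))))
  have hZa : P ((mappingCone φ).cycles a) :=
    P.prop_of_iso (asIso ((mappingCone φ).toCycles (a - 1) a)) hXa1
  have hm : Mono (cyclesShortComplex (mappingCone φ) a (a + 1)).f := by
    change Mono ((mappingCone φ).iCycles a); infer_instance
  have he : Epi (cyclesShortComplex (mappingCone φ) a (a + 1)).g :=
    epi_toCycles_of_isZero_homology _ a (a + 1) rfl (hMac _)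
  have hMa : P ((mappingCone φ).X a) :=
    prop_of_exact_of_prop P hsum hlift _ (cyclesShortComplex_exact (mappingCone φ) a (a + 1) rfl)
      hZa hZ
  have hbi : P (E.X (a + 1) ⊞ F.X a) :=
    P.prop_of_iso (HomologicalComplex.homotopyCofiber.XIsoBiprod φ a (a + 1) rfl) hMa
  have hk := hst _ _ (biprod.fst : E.X (a + 1) ⊞ F.X a ⟶ E.X (a + 1)) inferInstance hbi (hPE _)
  exact P.prop_of_iso kernelBiprodFstIso hk

end Groth.Agent.Helper53.PCoh
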