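import Groth.Agent.Lib.Helper53.PCohCone

set_option autoImplicit false
universe w v u
open CategoryTheory CategoryTheory.Limits CochainComplex HomComplex Pretriangulated ComposableArrows

namespace Groth.Agent.Helper53.PCoh

section Four

variable {A : Type u} [Category.{v} A] [Abelian A]

/-- Unbundled epi four lemma. Rows `B ⟶ C ⟶ D ⟶ E`. -/
lemma epi_four {B C D E B' C' D' E' : A} (g : B ⟶ C) (h : C ⟶ D) (i : D ⟶ E)
    (g' : B' ⟶ C') (h' : C' ⟶ D') (i' : D' ⟶ E')
    (β : B ⟶ B') (γ : C ⟶ C') (δ : D ⟶ D') (ε : E ⟶ E')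
    (c₁ : g ≫ γ = β ≫ g') (c₂ : h ≫ δ = γ ≫ h') (c₃ : i ≫ ε = δ ≫ i')
    (w₁ : h ≫ i = 0) (e₁ : (ShortComplex.mk h i w₁).Exact)
    (w₂ : g' ≫ h' = 0) (e₂ : (ShortComplex.mk g' h' w₂).Exact) (w₃ : h' ≫ i' = 0)
    (hβ : Epi β) (hδ : Epi δ) (hε : Mono ε) : Epi γ := by
  let φ : mk₃ g h i ⟶ mk₃ g' h' i' := homMk₃ β γ δ ε c₁ c₂ c₃
  exact Abelian.epi_of_epi_of_epi_of_mono' φ e₁.exact_toComposableArrows
    e₂.exact_toComposableArrows w₃ hβ hδ hε

/-- Unbundled mono four lemma. Rows `A ⟶ B ⟶ C ⟶ D`. -/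
lemma mono_four {A₀ B C D A' B' C' D' : A} (f : A₀ ⟶ B) (g : B ⟶ C) (h : C ⟶ D)
    (f' : A' ⟶ B') (g' : B' ⟶ C') (h' : C' ⟶ D')
    (α : A₀ ⟶ A') (β : B ⟶ B') (γ : C ⟶ C') (δ : D ⟶ D')
    (c₁ : f ≫ β = α ≫ f') (c₂ : g ≫ γ = β ≫ g') (c₃ : h ≫ δ = γ ≫ h')
    (w₀ : f ≫ g = 0)
    (w₁ : g ≫ h = 0) (e₁ : (ShortComplex.mk g h w₁).Exact)
    (w₂ : f' ≫ g' = 0) (e₂ : (ShortComplex.mk f' g' w₂).Exact)
    (hα : Epi α) (hβ : Mono β) (hδ : Mono δ) : Mono γ := by
  let φ : mk₃ f g h ⟶ mk₃ f' g' h' := homMk₃ α β γ δ c₁ c₂ c₃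
  exact Abelian.mono_of_epi_of_mono_of_mono' φ w₀ e₁.exact_toComposableArrows
    e₂.exact_toComposableArrows hα hβ hδ

lemma epi_map_iff_of_natIso {D₁ : Type*} {D₂ : Type*} [Category D₁] [Category D₂]
    {G H : D₁ ⥤ D₂} (e : G ≅ H) {X Y : D₁} (f : X ⟶ Y) : Epi (G.map f) ↔ Epi (H.map f) := by
  constructor
  · intro h
    have : H.map f = e.inv.app X ≫ G.map f ≫ e.hom.app Y := by simp
    rw [this]; infer_instance
  · intro h
    have : G.map f = e.hom.app X ≫ H.map f ≫ e.inv.app Y := by simp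
    rw [this]; infer_instance

lemma mono_map_iff_of_natIso {D₁ : Type*} {D₂ : Type*} [Category D₁] [Category D₂]
    {G H : D₁ ⥤ D₂} (e : G ≅ H) {X Y : D₁} (f : X ⟶ Y) : Mono (G.map f) ↔ Mono (H.map f) := by
  constructor
  · intro h
    have : H.map f = e.inv.app X ≫ G.map f ≫ e.hom.app Y := by simp
    rw [this]; infer_instance
  · intro h
    have : G.map f = e.hom.app X ≫ H.map f ≫ e.inv.app Y := by simp
    rw [this]; infer_instance

end Four

variable {C : Type u} [Category.{v} C] [Abelian C]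


/-- abbreviation: quotient functor to the homotopy category -/
noncomputable abbrev qF (C : Type u) [Category.{v} C] [Abelian C] :=
  HomotopyCategory.quotient C (ComplexShape.up ℤ)

/-- abbreviation: the homology functor on the homotopy category -/
noncomputable abbrev hF (C : Type u) [Category.{v} C] [Abelian C] (i : ℤ) :=
  HomotopyCategory.homologyFunctor C (ComplexShape.up ℤ) i

lemma epi_homologyFunctor_map_quotient_iff {K L : CochainComplex C ℤ} (f : K ⟶ L) (i : ℤ) :
    Epi ((hF C i).map ((qF C).map f)) ↔ Epi (HomologicalComplex.homologyMap f i) :=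
  epi_map_iff_of_natIso (HomotopyCategory.homologyFunctorFactors C (ComplexShape.up ℤ) i) f

lemma mono_homologyFunctor_map_quotient_iff {K L : CochainComplex C ℤ} (f : K ⟶ L) (i : ℤ) :
    Mono ((hF C i).map ((qF C).map f)) ↔ Mono (HomologicalComplex.homologyMap f i) :=
  mono_map_iff_of_natIso (HomotopyCategory.homologyFunctorFactors C (ComplexShape.up ℤ) i) f

section Compare

variable {A E F : CochainComplex C ℤ} (u : E ⟶ F) (a : A ⟶ mappingCocone u)
    (u' : mappingCone (a ≫ mappingCocone.fst u) ⟶ F)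
    (ψ : (qF C).mapTriangle.obj (mappingCone.triangle (a ≫ mappingCocone.fst u)) ⟶
        (qF C).mapTriangle.obj (mappingCocone.triangle u))
    (h₁ : ψ.hom₁ = (qF C).map a)
    (h₂ : ψ.hom₂ = 𝟙 ((qF C).obj E))
    (h₃ : ψ.hom₃ = (qF C).map u')

include h₁ h₂ h₃

lemma epi_homologyMap_of_triangleh_map (i j : ℤ) (hij : i + 1 = j)
    (ha : Epi (HomologicalComplex.homologyMap a j)) :
    Epi (HomologicalComplex.homologyMap u' i) := by
  rw [← epi_homologyFunctor_map_quotient_iff] at ha ⊢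
  have hT₁ := HomotopyCategory.mappingCone_triangleh_distinguished (a ≫ mappingCocone.fst u)
  have hT₂ := mappingCocone_triangleh_distinguished u
  let T₁ := (qF C).mapTriangle.obj (mappingCone.triangle (a ≫ mappingCocone.fst u))
  let T₂ := (qF C).mapTriangle.obj (mappingCocone.triangle u)
  have key := epi_four (((hF C 0).shift i).map T₁.mor₂) ((hF C 0).homologySequenceδ T₁ i j hij)
    (((hF C 0).shift j).map T₁.mor₁)
    (((hF C 0).shift i).map T₂.mor₂) ((hF C 0).homologySequenceδ T₂ i j hij)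
    (((hF C 0).shift j).map T₂.mor₁)
    (((hF C 0).shift i).map ψ.hom₂) (((hF C 0).shift i).map ψ.hom₃)
    (((hF C 0).shift j).map ψ.hom₁) (((hF C 0).shift j).map ψ.hom₂)
    (by rw [← Functor.map_comp, ← Functor.map_comp, ψ.comm₂])
    ((hF C 0).homologySequenceδ_naturality _ _ ψ i j hij).symm
    (by rw [← Functor.map_comp, ← Functor.map_comp, ψ.comm₁])
    _ ((hF C 0).homologySequence_exact₁ _ hT₁ i j hij)
    _ ((hF C 0).homologySequence_exact₃ _ hT₂ i j hij)
    ((hF C 0).homologySequenceδ_comp _ hT₂ i j hij)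
    (by have : IsIso ψ.hom₂ := by rw [h₂]; exact IsIso.id _
        infer_instance)
    (by rw [h₁]; exact ha)
    (by have : IsIso ψ.hom₂ := by rw [h₂]; exact IsIso.id _
        infer_instance)
  rw [h₃] at key
  exact key

lemma mono_homologyMap_of_triangleh_map (i j : ℤ) (hij : i + 1 = j)
    (ha : Epi (HomologicalComplex.homologyMap a i))
    (ha' : Mono (HomologicalComplex.homologyMap a j)) :
    Mono (HomologicalComplex.homologyMap u' i) := by
  rw [← epi_homologyFunctor_map_quotient_iff] at ha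
  rw [← mono_homologyFunctor_map_quotient_iff] at ha' ⊢
  have hT₁ := HomotopyCategory.mappingCone_triangleh_distinguished (a ≫ mappingCocone.fst u)
  have hT₂ := mappingCocone_triangleh_distinguished u
  let T₁ := (qF C).mapTriangle.obj (mappingCone.triangle (a ≫ mappingCocone.fst u))
  let T₂ := (qF C).mapTriangle.obj (mappingCocone.triangle u)
  have key := mono_four (((hF C 0).shift i).map T₁.mor₁) (((hF C 0).shift i).map T₁.mor₂)
    ((hF C 0).homologySequenceδ T₁ i j hij)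
    (((hF C 0).shift i).map T₂.mor₁) (((hF C 0).shift i).map T₂.mor₂)
    ((hF C 0).homologySequenceδ T₂ i j hij)
    (((hF C 0).shift i).map ψ.hom₁) (((hF C 0).shift i).map ψ.hom₂)
    (((hF C 0).shift i).map ψ.hom₃) (((hF C 0).shift j).map ψ.hom₁)
    (by rw [← Functor.map_comp, ← Functor.map_comp, ψ.comm₁])
    (by rw [← Functor.map_comp, ← Functor.map_comp, ψ.comm₂])
    ((hF C 0).homologySequenceδ_naturality _ _ ψ i j hij).symm
    ((hF C 0).homologySequence_comp _ hT₁ i)
    _ ((hF C 0).homologySequence_exact₃ _ hT₁ i j hij)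
    _ ((hF C 0).homologySequence_exact₂ _ hT₂ i)
    (by rw [h₁]; exact ha)
    (by have : IsIso ψ.hom₂ := by rw [h₂]; exact IsIso.id _
        infer_instance)
    (by rw [h₁]; exact ha')
  rw [h₃] at key
  exact key

end Compare

end Groth.Agent.Helper53.PCoh
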