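import Mathlib.Algebra.Homology.DerivedCategory.HomologySequence
import Mathlib.Algebra.Homology.HomotopyCategory.MappingCocone
import Mathlib.Algebra.Homology.Embedding.CochainComplex
import Mathlib.CategoryTheory.Abelian.DiagramLemmas.Four

set_option autoImplicit false
universe w v u
open CategoryTheory CategoryTheory.Limits CochainComplex HomComplex Pretriangulated

namespace Groth.Agent.Helper53.PCoh

variable {C : Type u} [Category.{v} C] [Abelian C]

/-- Homotopy extension for maps out of a mapping cone. -/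
lemma exists_desc_of_homotopy {A E F : CochainComplex C ℤ} (w : A ⟶ E) (φ : mappingCone w ⟶ F)
    (u : E ⟶ F) (H : Homotopy (mappingCone.inr w ≫ φ) u) :
    ∃ φ' : mappingCone w ⟶ F, mappingCone.inr w ≫ φ' = u ∧ Nonempty (Homotopy φ' φ) := by
  obtain ⟨z, hz⟩ := Cochain.equivHomotopy _ _ H
  let α : Cochain A F (-1) := (mappingCone.inl w).comp (Cochain.ofHom φ) (add_zero _)
  have hα : δ (-1) 0 α = Cochain.ofHom (w ≫ (mappingCone.inr w ≫ φ)) := by
    simp [α]
  let α' : Cochain A F (-1) := α - (Cochain.ofHom w).comp z (zero_add _)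
  have hα' : δ (-1) 0 α' = Cochain.ofHom (w ≫ u) := by
    simp only [α', δ_sub, hα, Cochain.ofHom_comp, hz, δ_ofHom_comp, Cochain.comp_add]
    abel
  refine ⟨mappingCone.desc w α' u hα', by simp, ⟨mappingCone.descHomotopy w _ _ 0 (-z) ?_ ?_⟩⟩
  · simp [α', α]; abel
  · simp [hz]

/-- The mapping cocone triangle is distinguished in the homotopy category. -/
lemma mappingCocone_triangleh_distinguished {K L : CochainComplex C ℤ} (φ : K ⟶ L) :
    (HomotopyCategory.quotient C (ComplexShape.up ℤ)).mapTriangle.obj (mappingCocone.triangle φ) ∈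
      distTriang (HomotopyCategory C (ComplexShape.up ℤ)) := by
  rw [rotate_distinguished_triangle]
  exact isomorphic_distinguished _ (HomotopyCategory.mappingCone_triangleh_distinguished φ) _
    ((HomotopyCategory.quotient C (ComplexShape.up ℤ)).mapTriangleRotateIso.app _ ≪≫
      (HomotopyCategory.quotient C (ComplexShape.up ℤ)).mapTriangle.mapIso
        (mappingCocone.rotateTriangleIso φ))

/-- Main technical lemma. -/
theorem exists_desc_cone_of_cocone {A E F : CochainComplex C ℤ} (u : E ⟶ F)
    (a : A ⟶ mappingCocone u) :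
    ∃ (u' : mappingCone (a ≫ mappingCocone.fst u) ⟶ F)
      (ψ : (HomotopyCategory.quotient C (ComplexShape.up ℤ)).mapTriangle.obj
          (mappingCone.triangle (a ≫ mappingCocone.fst u)) ⟶
        (HomotopyCategory.quotient C (ComplexShape.up ℤ)).mapTriangle.obj
          (mappingCocone.triangle u)),
      mappingCone.inr (a ≫ mappingCocone.fst u) ≫ u' = u ∧
      ψ.hom₁ = (HomotopyCategory.quotient C (ComplexShape.up ℤ)).map a ∧
      ψ.hom₂ = 𝟙 ((HomotopyCategory.quotient C (ComplexShape.up ℤ)).obj E) ∧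
      ψ.hom₃ = (HomotopyCategory.quotient C (ComplexShape.up ℤ)).map u' := by
  set w := a ≫ mappingCocone.fst u with hw
  let T₁ := (HomotopyCategory.quotient C (ComplexShape.up ℤ)).mapTriangle.obj
    (mappingCone.triangle w)
  let T₂ := (HomotopyCategory.quotient C (ComplexShape.up ℤ)).mapTriangle.obj
    (mappingCocone.triangle u)
  let b : T₁.obj₂ ⟶ T₂.obj₂ := 𝟙 ((HomotopyCategory.quotient C (ComplexShape.up ℤ)).obj E)
  have comm₁ : T₁.mor₁ ≫ b =
      (HomotopyCategory.quotient C (ComplexShape.up ℤ)).map a ≫ T₂.mor₁ := by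
    change (HomotopyCategory.quotient C (ComplexShape.up ℤ)).map w ≫
      𝟙 ((HomotopyCategory.quotient C (ComplexShape.up ℤ)).obj E) =
      (HomotopyCategory.quotient C (ComplexShape.up ℤ)).map a ≫
        (HomotopyCategory.quotient C (ComplexShape.up ℤ)).map (mappingCocone.fst u)
    rw [Category.comp_id, ← Functor.map_comp]
  obtain ⟨c, hc₁, hc₂⟩ := complete_distinguished_triangle_morphism T₁ T₂
    (HomotopyCategory.mappingCone_triangleh_distinguished w)
    (mappingCocone_triangleh_distinguished u)
    ((HomotopyCategory.quotient C (ComplexShape.up ℤ)).map a) b comm₁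
  obtain ⟨φ, hφ⟩ := (HomotopyCategory.quotient C (ComplexShape.up ℤ)).map_surjective
    (X := mappingCone w) (Y := F) c
  have H : Homotopy (mappingCone.inr w ≫ φ) u := by
    apply HomotopyCategory.homotopyOfEq
    rw [Functor.map_comp, hφ]
    refine hc₁.trans ?_
    exact Category.id_comp _
  obtain ⟨u', hu', ⟨H'⟩⟩ := exists_desc_of_homotopy w φ u H
  have e : (HomotopyCategory.quotient C (ComplexShape.up ℤ)).map u' = c :=
    (HomotopyCategory.eq_of_homotopy _ _ H').trans hφ
  exact ⟨u', { hom₁ := (HomotopyCategory.quotient C (ComplexShape.up ℤ)).map a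
               hom₂ := b
               hom₃ := c
               comm₁ := comm₁
               comm₂ := hc₁
               comm₃ := hc₂ }, hu', rfl, rfl, e.symm⟩

/-- If `a` is a quasi-isomorphism, so is the `u'` produced by `exists_desc_cone_of_cocone`. -/
lemma quasiIso_of_triangleh_map {A E F : CochainComplex C ℤ} (u : E ⟶ F)
    (a : A ⟶ mappingCocone u) (ha : QuasiIso a)
    (u' : mappingCone (a ≫ mappingCocone.fst u) ⟶ F)
    (ψ : (HomotopyCategory.quotient C (ComplexShape.up ℤ)).mapTriangle.obj
          (mappingCone.triangle (a ≫ mappingCocone.fst u)) ⟶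
        (HomotopyCategory.quotient C (ComplexShape.up ℤ)).mapTriangle.obj
          (mappingCocone.triangle u))
    (h₁ : ψ.hom₁ = (HomotopyCategory.quotient C (ComplexShape.up ℤ)).map a)
    (h₂ : ψ.hom₂ = 𝟙 ((HomotopyCategory.quotient C (ComplexShape.up ℤ)).obj E))
    (h₃ : ψ.hom₃ = (HomotopyCategory.quotient C (ComplexShape.up ℤ)).map u') :
    QuasiIso u' := by
  let _ : HasDerivedCategory.{max u v} C := HasDerivedCategory.standard C
  have hT₁ := (DerivedCategory.Qh (C := C)).map_distinguished _
    (HomotopyCategory.mappingCone_triangleh_distinguished (a ≫ mappingCocone.fst u))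
  have hT₂ := (DerivedCategory.Qh (C := C)).map_distinguished _
    (mappingCocone_triangleh_distinguished u)
  have k₁ : IsIso ((DerivedCategory.Qh (C := C)).map
      ((HomotopyCategory.quotient C (ComplexShape.up ℤ)).map a)) := by
    rw [DerivedCategory.isIso_Qh_map_iff, HomotopyCategory.quotient_map_mem_quasiIso_iff]
    exact ha
  have k₂ : IsIso ((DerivedCategory.Qh (C := C)).map
      (𝟙 ((HomotopyCategory.quotient C (ComplexShape.up ℤ)).obj E))) := by
    rw [CategoryTheory.Functor.map_id]; infer_instance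
  have i₁ : IsIso ((DerivedCategory.Qh (C := C)).mapTriangle.map ψ).hom₁ := by
    change IsIso (DerivedCategory.Qh.map ψ.hom₁)
    rw [h₁]; exact k₁
  have i₂ : IsIso ((DerivedCategory.Qh (C := C)).mapTriangle.map ψ).hom₂ := by
    change IsIso (DerivedCategory.Qh.map ψ.hom₂)
    rw [h₂]; exact k₂
  have i₃ := isIso₃_of_isIso₁₂ _ hT₁ hT₂ i₁ i₂
  change IsIso (DerivedCategory.Qh.map ψ.hom₃) at i₃
  rw [h₃] at i₃
  have k₃ : IsIso ((DerivedCategory.Qh (C := C)).map
      ((HomotopyCategory.quotient C (ComplexShape.up ℤ)).map u')) := i₃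
  rw [DerivedCategory.isIso_Qh_map_iff, HomotopyCategory.quotient_map_mem_quasiIso_iff] at k₃
  exact k₃

lemma mono_inr_f {A E : CochainComplex C ℤ} (w : A ⟶ E) (i : ℤ) :
    Mono ((mappingCone.inr w).f i) :=
  mono_of_mono_fac (mappingCone.inr_f_snd_v w i)

lemma isIso_inr_f_of_isZero {A E : CochainComplex C ℤ} (w : A ⟶ E) (i j : ℤ) (hij : i + 1 = j)
    (h : IsZero (A.X j)) : IsIso ((mappingCone.inr w).f i) := by
  refine ⟨(mappingCone.snd w).v i i (add_zero i), mappingCone.inr_f_snd_v w i, ?_⟩
  have := mappingCone.id_X w i j hij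
  rw [h.eq_of_tgt ((mappingCone.fst w).1.v i j hij) 0, zero_comp, zero_add] at this
  exact this

/-- If `u` is an `n`-quasi-isomorphism, its mapping cocone is cohomologically `≤ n`. -/
lemma mappingCocone_exactAt {E F : CochainComplex C ℤ} (u : E ⟶ F) (i j : ℤ) (hij : i + 1 = j)
    (hepi : Epi (HomologicalComplex.homologyMap u i))
    (hmono : Mono (HomologicalComplex.homologyMap u j)) :
    (mappingCocone u).ExactAt j := by
  let _ : HasDerivedCategory.{max u v} C := HasDerivedCategory.standard C
  have hT := DerivedCategory.mappingCocone_triangle_distinguished u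
  have ex3 := homologyMap_exact₃_of_distTriang _ hT i j hij
  have ex1 := homologyMap_exact₁_of_distTriang _ hT i j hij
  have ex2 := homologyMap_exact₂_of_distTriang _ hT j
  have hδ : homologyδOfTriangle (mappingCocone.triangle u) i j hij = 0 := ex3.epi_f_iff.1 hepi
  have h1 : Mono (HomologicalComplex.homologyMap (mappingCocone.fst u) j) :=
    ex1.mono_g_iff.2 hδ
  have h2 : HomologicalComplex.homologyMap (mappingCocone.fst u) j = 0 :=
    ex2.mono_g_iff.1 hmono
  rw [HomologicalComplex.exactAt_iff_isZero_homology]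
  exact IsZero.of_mono_eq_zero _ h2

/-- SGA 6 I 1.4-type factorisation: an `n`-quasi-isomorphism factors as a degreewise mono which
is an iso in degrees `≥ n`, followed by a quasi-isomorphism. -/
theorem exists_factorisation (n : ℤ) (E F : CochainComplex C ℤ) (u : E ⟶ F)
    (hiso : ∀ i : ℤ, n < i → IsIso (HomologicalComplex.homologyMap u i))
    (hepi : Epi (HomologicalComplex.homologyMap u n)) :
    ∃ (E' : CochainComplex C ℤ) (v : E ⟶ E') (u' : E' ⟶ F), v ≫ u' = u ∧ QuasiIso u' ∧
      (∀ i : ℤ, Mono (v.f i)) ∧ (∀ i : ℤ, n ≤ i → IsIso (v.f i)) := by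
  have hLE : (mappingCocone u).IsLE n := by
    rw [isLE_iff]
    intro j hj
    refine mappingCocone_exactAt u (j - 1) j (by lia) ?_ ?_
    · rcases (show j - 1 = n ∨ n < j - 1 by lia) with h | h
      · rw [h]; exact hepi
      · have := hiso (j - 1) h; infer_instance
    · have := hiso j hj; infer_instance
  have ha : QuasiIso ((mappingCocone u).ιTruncLE n) := inferInstance
  obtain ⟨u', ψ, h0, h1, h2, h3⟩ := exists_desc_cone_of_cocone u ((mappingCocone u).ιTruncLE n)
  refine ⟨_, mappingCone.inr _, u', h0, quasiIso_of_triangleh_map u _ ha u' ψ h1 h2 h3,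
    fun i => mono_inr_f _ i, fun i hi => isIso_inr_f_of_isZero _ i (i + 1) rfl ?_⟩
  exact ((mappingCocone u).truncLE n).isZero_of_isStrictlyLE n (i + 1) (by lia)

end Groth.Agent.Helper53.PCoh
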