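import Groth.Agent.Lib.Helper53.PCohDerived

set_option autoImplicit false
universe w v u
open CategoryTheory CategoryTheory.Limits CochainComplex HomComplex Pretriangulated ZeroObject

namespace Groth.Agent.Helper53.PCoh

variable {C : Type u} [Category.{v} C] [Abelian C] [HasDerivedCategory.{w} C]

/-- abbreviation: cohomology functor on `D(C)` -/
noncomputable abbrev dH (C : Type u) [Category.{v} C] [Abelian C] [HasDerivedCategory.{w} C]
    (i : ℤ) := DerivedCategory.homologyFunctor C i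

/-- abbreviation -/
noncomputable abbrev dQ (C : Type u) [Category.{v} C] [Abelian C] [HasDerivedCategory.{w} C] :=
  DerivedCategory.Q (C := C)

lemma isIso_dH_map_Q_iff {K L : CochainComplex C ℤ} (f : K ⟶ L) (i : ℤ) :
    IsIso ((dH C i).map ((dQ C).map f)) ↔ IsIso (HomologicalComplex.homologyMap f i) :=
  NatIso.isIso_map_iff (DerivedCategory.homologyFunctorFactors C i) f

lemma epi_dH_map_Q_iff {K L : CochainComplex C ℤ} (f : K ⟶ L) (i : ℤ) :
    Epi ((dH C i).map ((dQ C).map f)) ↔ Epi (HomologicalComplex.homologyMap f i) :=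
  epi_map_iff_of_natIso (DerivedCategory.homologyFunctorFactors C i) f

lemma mono_dH_map_Q_iff {K L : CochainComplex C ℤ} (f : K ⟶ L) (i : ℤ) :
    Mono ((dH C i).map ((dQ C).map f)) ↔ Mono (HomologicalComplex.homologyMap f i) :=
  mono_map_iff_of_natIso (DerivedCategory.homologyFunctorFactors C i) f

/-- `H^i(Q K) ≅ H^i(K)` -/
noncomputable def dHQIso (K : CochainComplex C ℤ) (i : ℤ) :
    (dH C i).obj ((dQ C).obj K) ≅ K.homology i :=
  (DerivedCategory.homologyFunctorFactors C i).app K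

/-- homology of a complex representing `F` -/
noncomputable def homologyIsoOfIso {K : CochainComplex C ℤ} {F : DerivedCategory C}
    (e : (dQ C).obj K ≅ F) (i : ℤ) : K.homology i ≅ (dH C i).obj F :=
  (dHQIso K i).symm ≪≫ (dH C i).mapIso e

variable (P : ObjectProperty C) [P.IsClosedUnderIsomorphisms]

/-- criterion (ii') ⇒ (i'): an `n`-isomorphism from a strictly `n`-pc complex. -/
theorem IsNPC.of_nIso (n : ℤ) (E : CochainComplex C ℤ) (hE : PCoh.IsStrictPC P n E)
    (F : DerivedCategory C) (α : (dQ C).obj E ⟶ F)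
    (hiso : ∀ i : ℤ, n < i → IsIso ((dH C i).map α)) (hepi : Epi ((dH C n).map α)) :
    IsNPC P n F := by
  let e : (dQ C).obj ((dQ C).objPreimage F) ≅ F := (dQ C).objObjPreimageIso F
  obtain ⟨Y', g, s, hs, hfac⟩ := DerivedCategory.left_fac (α ≫ e.inv)
  have hg : (dQ C).map g = α ≫ e.inv ≫ (dQ C).map s := by
    have := hfac =≫ (dQ C).map s
    simp only [Category.assoc, IsIso.inv_hom_id, Category.comp_id] at this
    exact this.symm
  have hes : IsIso (e.inv ≫ (dQ C).map s) := inferInstance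
  have hiso' : ∀ i : ℤ, n < i → IsIso (HomologicalComplex.homologyMap g i) := by
    intro i hi
    rw [← isIso_dH_map_Q_iff, hg, Functor.map_comp]
    have := hiso i hi
    infer_instance
  have hepi' : Epi (HomologicalComplex.homologyMap g n) := by
    rw [← epi_dH_map_Q_iff, hg, Functor.map_comp]
    infer_instance
  obtain ⟨E', v, u', _, hu', _, hviso⟩ := exists_factorisation n E Y' g hiso' hepi'
  obtain ⟨⟨b, hb⟩, hP⟩ := hE
  refine ⟨E', ⟨⟨max b (n - 1), fun i hi => ?_⟩, fun i hi => ?_⟩, ⟨?_⟩⟩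
  · have := hviso i (by have := le_max_right b (n - 1); lia)
    exact IsZero.of_iso (hb i (by have := le_max_left b (n - 1); lia)) (asIso (v.f i)).symm
  · have := hviso i hi
    exact P.prop_of_iso (asIso (v.f i)) (hP i hi)
  · exact asIso ((dQ C).map u') ≪≫ (asIso ((dQ C).map s)).symm ≪≫ e

omit [HasDerivedCategory.{w} C] in
/-- the zero complex is strictly `n`-pc for all `n` -/
lemma isStrictPC_zero [P.ContainsZero] (n : ℤ) : PCoh.IsStrictPC P n (0 : CochainComplex C ℤ) :=
  ⟨⟨0, fun i _ => isZero_zero_X i⟩, fun i _ => P.prop_of_isZero (isZero_zero_X i)⟩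

/-- an object acyclic in degrees `≥ n` is `n`-pc -/
lemma IsNPC.of_acyclic [P.ContainsZero] (n : ℤ) (F : DerivedCategory C)
    (hac : ∀ i : ℤ, n ≤ i → IsZero ((dH C i).obj F)) : IsNPC P n F := by
  refine IsNPC.of_nIso P n 0 (isStrictPC_zero P n) F 0 (fun i hi => ?_) ?_
  · refine isIso_of_isZero _ ?_ (hac i (by lia))
    exact (dH C i).map_isZero ((dQ C).map_isZero (isZero_zero _))
  · exact (hac n le_rfl).epi _

/-- S5602 in `D(C)` -/
theorem IsNPC.isOfFiniteType (hqs : PCoh.IsQuasiStableUnderKernels P) (n : ℤ)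
    (F : DerivedCategory C) (h : IsNPC P n F)
    (hac : ∀ i : ℤ, n < i → IsZero ((dH C i).obj F)) :
    PCoh.IsOfFiniteType P ((dH C n).obj F) := by
  obtain ⟨E, hE, ⟨e⟩⟩ := h
  refine isOfFiniteType_of_iso (homologyIsoOfIso e n) ?_
  exact Groth.Agent.S5602.result P hqs n E hE
    (fun i hi => IsZero.of_iso (hac i hi) (homologyIsoOfIso e i))

omit [HasDerivedCategory.{w} C] in
/-- the single complex on a `P`-object is strictly `m`-pc for all `m` -/
lemma isStrictPC_single [P.ContainsZero] (m n : ℤ) (L : C) (hL : P L) :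
    PCoh.IsStrictPC P m ((HomologicalComplex.single C (ComplexShape.up ℤ) n).obj L) := by
  refine ⟨⟨n, fun i hi => HomologicalComplex.isZero_single_obj_X _ _ _ _ (by lia)⟩, fun i _ => ?_⟩
  by_cases h : i = n
  · subst h
    exact P.prop_of_iso (HomologicalComplex.singleObjXSelf _ i L).symm hL
  · exact P.prop_of_isZero (HomologicalComplex.isZero_single_obj_X _ _ _ _ h)

/-- S5603 (⇐) -/
theorem IsNPC.of_isOfFiniteType [P.ContainsZero] (hql : PCoh.IsQuasiLiftable P) (n : ℤ)
    (F : DerivedCategory C) (hac : ∀ i : ℤ, n < i → IsZero ((dH C i).obj F))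
    (h : PCoh.IsOfFiniteType P ((dH C n).obj F)) : IsNPC P n F := by
  let F₁ := (dQ C).objPreimage F
  let e : (dQ C).obj F₁ ≅ F := (dQ C).objObjPreimageIso F
  obtain ⟨L, z, hL, hz⟩ := exists_cycles_of_isOfFiniteType hql F₁ n
    (isOfFiniteType_of_iso (homologyIsoOfIso e n).symm h)
  let a : (HomologicalComplex.single C (ComplexShape.up ℤ) n).obj L ⟶ F₁ :=
    HomologicalComplex.mkHomFromSingle (z ≫ F₁.iCycles n) (fun k _ => by simp)
  have ha : Epi (HomologicalComplex.homologyMap a n) := epi_homologyMap_mkHomFromSingle _ n z hz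
  refine IsNPC.of_nIso P n _ (isStrictPC_single P n n L hL) F ((dQ C).map a ≫ e.hom)
    (fun i hi => ?_) ?_
  · refine isIso_of_isZero _ ?_ (hac i hi)
    exact IsZero.of_iso (HomologicalComplex.isZero_single_obj_homology _ _ _ _ (by lia))
      (dHQIso _ i)
  · rw [Functor.map_comp]
    have := (epi_dH_map_Q_iff a n).2 ha
    infer_instance

omit [HasDerivedCategory.{w} C] in
/-- chain-level (i') ⇒ (ii'): a strictly `n`-pc complex receives an `n`-quasi-isomorphism from a
strictly perfect complex concentrated in `[n, B]`. -/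
theorem exists_strictlyPerfect_nQuasiIso [P.ContainsZero]
    (hsum : ∀ X Y : C, P X → P Y → P (X ⨯ Y))
    (hqs : PCoh.IsQuasiStableUnderKernels P) (hql : PCoh.IsQuasiLiftable P) (n : ℤ)
    (E₀ : CochainComplex C ℤ) (hE₀ : PCoh.IsStrictPC P n E₀) :
    ∃ (G : CochainComplex C ℤ) (B : ℤ) (g : G ⟶ E₀), (∀ i : ℤ, P (G.X i)) ∧
      (∀ i : ℤ, i < n → IsZero (G.X i)) ∧ (∀ i : ℤ, B < i → IsZero (G.X i)) ∧
      (∀ i : ℤ, n < i → IsIso (HomologicalComplex.homologyMap g i)) ∧
      Epi (HomologicalComplex.homologyMap g n) := by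
  obtain ⟨⟨b, hb⟩, hPF⟩ := hE₀
  obtain ⟨B, hB⟩ : ∃ B : ℤ, B = max b (n - 1) := ⟨_, rfl⟩
  have hB1 : b ≤ B := hB ▸ le_max_left _ _
  have hB2 : n - 1 ≤ B := hB ▸ le_max_right _ _
  obtain ⟨d, hd⟩ : ∃ d : ℕ, (d : ℤ) = B + 1 - n := ⟨(B + 1 - n).toNat, by lia⟩
  obtain ⟨G, g, hGP, hGlow, hGhigh, hiso, hepi⟩ :=
    exists_approximation P hsum hqs hql n E₀ E₀ hPF (𝟙 _) inferInstance B
      (fun i hi => hb i (by lia)) d (by lia)
  have hn : B + 1 - (d : ℤ) = n := by lia
  rw [hn] at hGlow hiso hepi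
  exact ⟨G, B, g, hGP, hGlow, hGhigh, hiso, hepi⟩

end Groth.Agent.Helper53.PCoh
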