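import Groth.Agent.Lib.Helper53.PCohModule
import Groth.Agent.Lib.Helper53.PCohCoherent
import Groth.Agent.Lib.Helper53.PCohAll
import Groth.Agent.Lib.Helper53.CoherentRing
import Groth.Prelude.Def_DRing2

/-!
# Bridge between `DRing.IsPseudoCoherent` and the abstract `IsNPC (FF R)`; coherent rings
-/

set_option autoImplicit false
set_option linter.unusedSectionVars false
universe u
open CategoryTheory CategoryTheory.Limits

namespace Groth.Agent.Helper53.PCohDRing

open Groth.Agent.Helper53.PCoh Groth.Agent.Helper53.PCohMod Groth.Agent.Helper53.CohRing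

attribute [local instance] HasDerivedCategory.standard

variable (R : Type u) [CommRing R]

/-- the prelude's `m`-pseudo-coherence is the abstract one for the class of finite free modules. -/
theorem isPseudoCoherent_iff_isNPC (m : ℤ) (K : Dual.D R) :
    DRing.IsPseudoCoherent R m K ↔ IsNPC (FF R) m K := by
  constructor
  · rintro ⟨E, a, b, α, hvan, hff, hiso, hepi⟩
    exact IsNPC.of_nIso (FF R) m E ⟨⟨b, fun i hi => hvan i (Or.inr hi)⟩, fun i _ => hff i⟩ K α
      hiso hepi
  · rintro ⟨E₀, hE₀, ⟨e⟩⟩
    obtain ⟨G, B, g, hP, hlow, hhigh, hiso, hepi⟩ :=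
      exists_strictlyPerfect_nQuasiIso (FF R) (ff_sum R) (ff_hqs R) (ff_hql R) m E₀ hE₀
    refine ⟨G, m, B, (dQ _).map g ≫ e.hom, ?_, hP, fun i hi => ?_, ?_⟩
    · rintro i (hi | hi)
      · exact hlow i hi
      · exact hhigh i hi
    · rw [Functor.map_comp]
      have := (isIso_dH_map_Q_iff g i).2 (hiso i hi)
      infer_instance
    · rw [Functor.map_comp]
      have := (epi_dH_map_Q_iff g m).2 hepi
      infer_instance

/-- the prelude's pseudo-coherence is the abstract one. -/
theorem isPseudoCoherent'_iff_isPC (K : Dual.D R) :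
    DRing.IsPseudoCoherent' R K ↔ PCoh.IsPC (FF R) K := by
  constructor
  · rintro ⟨E, b, hvan, hff, ⟨e⟩⟩
    exact IsPC.of_iso (FF R) (isPC_of_isStrictPCAll (FF R) E ⟨⟨b, hvan⟩, hff⟩) e
  · intro h
    obtain ⟨E, ⟨⟨b, hb⟩, hP⟩, ⟨e⟩⟩ :=
      IsPC.exists_strictPCAll (FF R) (ff_sum R) (ff_hqs R) (ff_hql R) K h
    exact ⟨E, b, hb, hP, ⟨e⟩⟩

section Coherent

variable {R}
variable (hR : ∀ I : Ideal R, I.FG → Module.FinitePresentation R I)

include hR in
lemma hcoh_FF : ∀ (X E : ModuleCat.{u} R) (u : E ⟶ X), FF R X → FF R E →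
    PCoh.IsOfFiniteType (FF R) (kernel u) := by
  intro X E u hX hE
  obtain ⟨_, _⟩ := hX
  obtain ⟨_, _⟩ := hE
  have hk : (LinearMap.ker u.hom).FG := fg_ker_of_finite_free (subFP_self hR) u.hom
  have : Module.Finite R (ModuleCat.of R (LinearMap.ker u.hom)) := Module.Finite.iff_fg.2 hk
  exact isOfFiniteType_of_iso (ModuleCat.kernelIsoKer u).symm (isOfFiniteType_of_finite R _)

include hR in
lemma isCoh_iff_finitePresentation (M : ModuleCat.{u} R) :
    IsCoh (FF R) M ↔ Module.FinitePresentation R M := by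
  constructor
  · rintro ⟨⟨L, π, ⟨hL1, hL2⟩, hπ⟩, h2⟩
    have hk := h2 L π ⟨hL1, hL2⟩
    have : Module.Finite R (kernel π : ModuleCat.{u} R) := finite_of_isOfFiniteType R _ hk
    have hk' : (LinearMap.ker π.hom).FG := by
      have : Module.Finite R (ModuleCat.of R (LinearMap.ker π.hom)) :=
        Module.Finite.equiv (ModuleCat.kernelIsoKer π).toLinearEquiv
      exact Module.Finite.iff_fg.1 this
    have : Module.Projective R L := Module.Projective.of_free
    have : Module.FinitePresentation R L := Module.finitePresentation_of_projective R L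
    exact Module.finitePresentation_of_surjective π.hom ((ModuleCat.epi_iff_surjective _).1 hπ) hk'
  · intro hM
    refine ⟨isOfFiniteType_of_finite R M, fun E u ⟨_, _⟩ => ?_⟩
    have hk : (LinearMap.ker u.hom).FG := fg_ker_of_finitePresentation (subFP_self hR) u.hom
    have : Module.Finite R (ModuleCat.of R (LinearMap.ker u.hom)) := Module.Finite.iff_fg.2 hk
    exact isOfFiniteType_of_iso (ModuleCat.kernelIsoKer u).symm (isOfFiniteType_of_finite R _)

include hR in
/-- Stacks 0EWZ-type: over a coherent ring, `m`-pseudo-coherence is read off from cohomology. -/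
theorem isPseudoCoherent_iff_homology (K : Dual.D R) (b : ℤ)
    (hb : ∀ i : ℤ, b < i → Subsingleton (Dual.HD R K i)) (m : ℤ) :
    DRing.IsPseudoCoherent R m K ↔
      Module.Finite R (Dual.HD R K m) ∧
        ∀ i : ℤ, m < i → Module.FinitePresentation R (Dual.HD R K i) := by
  rw [isPseudoCoherent_iff_isNPC,
    isNPC_iff_coherent_homology (hcoh_FF hR) (ff_sum R) (ff_hql R) m K b
      (fun i hi => by
        have := hb i hi
        exact ModuleCat.isZero_of_subsingleton _)]
  constructor
  · rintro ⟨h1, h2⟩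
    exact ⟨finite_of_isOfFiniteType R _ h1, fun i hi =>
      (isCoh_iff_finitePresentation hR _).1 (h2 i hi)⟩
  · rintro ⟨h1, h2⟩
    exact ⟨isOfFiniteType_of_finite R _, fun i hi =>
      (isCoh_iff_finitePresentation hR _).2 (h2 i hi)⟩

include hR in
theorem isPseudoCoherent'_iff_homology (K : Dual.D R) (b : ℤ)
    (hb : ∀ i : ℤ, b < i → Subsingleton (Dual.HD R K i)) :
    DRing.IsPseudoCoherent' R K ↔ ∀ i : ℤ, Module.FinitePresentation R (Dual.HD R K i) := by
  rw [isPseudoCoherent'_iff_isPC]
  constructor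
  · intro h i
    have h1 := (isPseudoCoherent_iff_isNPC R (i - 1) K).2 (h (i - 1))
    exact ((isPseudoCoherent_iff_homology hR K b hb (i - 1)).1 h1).2 i (by lia)
  · intro h m
    refine (isPseudoCoherent_iff_isNPC R m K).1
      ((isPseudoCoherent_iff_homology hR K b hb m).2 ⟨?_, fun i _ => h i⟩)
    have := h m
    infer_instance

end Coherent

end Groth.Agent.Helper53.PCohDRing
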