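import Groth.Agent.Lib.Helper53.PCohResolve

set_option autoImplicit false
universe w v u
open CategoryTheory CategoryTheory.Limits CochainComplex HomComplex Pretriangulated ZeroObject

namespace Groth.Agent.Helper53.PCoh

variable {C : Type u} [Category.{v} C] [Abelian C] [HasDerivedCategory.{w} C]

/-- `F ∈ D(C)` is `n`-pseudo-coherent. -/
def IsNPC (P : ObjectProperty C) (n : ℤ) (F : DerivedCategory C) : Prop :=
  ∃ E : CochainComplex C ℤ, PCoh.IsStrictPC P n E ∧ Nonempty (DerivedCategory.Q.obj E ≅ F)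

lemma isNPC_iff (P : ObjectProperty C) (n : ℤ) (F : DerivedCategory C) :
    IsNPC P n F ↔
      ∃ E : CochainComplex C ℤ, PCoh.IsStrictPC P n E ∧ Nonempty (DerivedCategory.Q.obj E ≅ F) :=
  Iff.rfl

lemma IsNPC.of_iso {P : ObjectProperty C} {n : ℤ} {F F' : DerivedCategory C} (h : IsNPC P n F)
    (e : F ≅ F') : IsNPC P n F' := by
  obtain ⟨E, hE, ⟨e'⟩⟩ := h
  exact ⟨E, hE, ⟨e' ≪≫ e⟩⟩

omit [HasDerivedCategory.{w} C] in
lemma isStrictPC_mono {P : ObjectProperty C} {n m : ℤ} (hnm : n ≤ m) {E : CochainComplex C ℤ}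
    (h : PCoh.IsStrictPC P n E) : PCoh.IsStrictPC P m E :=
  ⟨h.1, fun i hi => h.2 i (by lia)⟩

lemma IsNPC.mono {P : ObjectProperty C} {n m : ℤ} (hnm : n ≤ m) {F : DerivedCategory C}
    (h : IsNPC P n F) : IsNPC P m F := by
  obtain ⟨E, hE, e⟩ := h
  exact ⟨E, isStrictPC_mono hnm hE, e⟩

omit [HasDerivedCategory.{w} C] in
lemma isStrictPC_shift {P : ObjectProperty C} {n : ℤ} {E : CochainComplex C ℤ}
    (h : PCoh.IsStrictPC P n E) (a m : ℤ) (hm : m + a = n) :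
    PCoh.IsStrictPC P m (E⟦a⟧) := by
  obtain ⟨⟨b, hb⟩, hP⟩ := h
  exact ⟨⟨b - a, fun i hi => hb (i + a) (by lia)⟩, fun i hi => hP (i + a) (by lia)⟩

lemma IsNPC.shift {P : ObjectProperty C} {n : ℤ} {F : DerivedCategory C} (h : IsNPC P n F)
    (a m : ℤ) (hm : m + a = n) : IsNPC P m (F⟦a⟧) := by
  obtain ⟨E, hE, ⟨e⟩⟩ := h
  exact ⟨E⟦a⟧, isStrictPC_shift hE a m hm,
    ⟨(DerivedCategory.Q.commShiftIso a).app E ≪≫ (CategoryTheory.shiftFunctor (DerivedCategory C) a).mapIso e⟩⟩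

variable (P : ObjectProperty C) [P.IsClosedUnderIsomorphisms] [P.ContainsZero]
  (hsum : ∀ X Y : C, P X → P Y → P (X ⨯ Y))
  (hqs : PCoh.IsQuasiStableUnderKernels P) (hql : PCoh.IsQuasiLiftable P)

include hsum hqs hql

/-- Representing a morphism `Q(E₁) ⟶ Q(F₀)` of `D(C)`, `E₁` strictly `m`-pc, by a chain map out
of a strictly `m`-pc complex. -/
lemma exists_chain_map_of_hom (m : ℤ) (E₁ F₀ : CochainComplex C ℤ) (hE₁ : PCoh.IsStrictPC P m E₁)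
    (f : DerivedCategory.Q.obj E₁ ⟶ DerivedCategory.Q.obj F₀) :
    ∃ (E' : CochainComplex C ℤ) (t : E' ⟶ E₁) (φ : E' ⟶ F₀), PCoh.IsStrictPC P m E' ∧
      QuasiIso t ∧ DerivedCategory.Q.map t ≫ f = DerivedCategory.Q.map φ := by
  obtain ⟨X', s, hs, g, hf⟩ := DerivedCategory.right_fac f
  have hs' : QuasiIso s := (DerivedCategory.isIso_Q_map_iff_quasiIso (φ := s)).1 hs
  obtain ⟨F', v, hF', hv⟩ := exists_strictPC_quasiIso_to P hsum hqs hql m X' E₁ hE₁ s hs'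
  refine ⟨F', v ≫ s, v ≫ g, hF', inferInstance, ?_⟩
  rw [hf, Functor.map_comp, Functor.map_comp, Category.assoc, IsIso.hom_inv_id_assoc]

/-- Triangle lemma, with the representing chain map. -/
theorem exists_cone_representation (n : ℤ) (T : Triangle (DerivedCategory C))
    (hT : T ∈ distTriang (DerivedCategory C)) (h₁ : IsNPC P (n + 1) T.obj₁)
    (h₂ : IsNPC P n T.obj₂) :
    ∃ (E' F₀ : CochainComplex C ℤ) (φ : E' ⟶ F₀), PCoh.IsStrictPC P (n + 1) E' ∧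
      PCoh.IsStrictPC P n F₀ ∧
      Nonempty (DerivedCategory.Q.mapTriangle.obj (mappingCone.triangle φ) ≅ T) := by
  obtain ⟨E₁, hE₁, ⟨e₁⟩⟩ := h₁
  obtain ⟨F₀, hF₀, ⟨e₂⟩⟩ := h₂
  obtain ⟨E', t, φ, hE', ht, hφ⟩ := exists_chain_map_of_hom P hsum hqs hql (n + 1) E₁ F₀ hE₁
    (e₁.hom ≫ T.mor₁ ≫ e₂.inv)
  let a : DerivedCategory.Q.obj E' ≅ T.obj₁ := asIso (DerivedCategory.Q.map t) ≪≫ e₁
  refine ⟨E', F₀, φ, hE', hF₀, ⟨isoTriangleOfIso₁₂ _ _
    (DerivedCategory.mappingCone_triangle_distinguished φ) hT a e₂ ?_⟩⟩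
  change DerivedCategory.Q.map φ ≫ e₂.hom = (DerivedCategory.Q.map t ≫ e₁.hom) ≫ T.mor₁
  rw [← hφ]
  simp

/-- Triangle lemma (SGA 6 I 2.5 (b), first case). -/
theorem IsNPC.obj₃ (n : ℤ) (T : Triangle (DerivedCategory C))
    (hT : T ∈ distTriang (DerivedCategory C)) (h₁ : IsNPC P (n + 1) T.obj₁)
    (h₂ : IsNPC P n T.obj₂) : IsNPC P n T.obj₃ := by
  obtain ⟨E', F₀, φ, hE', hF₀, ⟨e⟩⟩ := exists_cone_representation P hsum hqs hql n T hT h₁ h₂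
  exact ⟨mappingCone φ, isStrictPC_mappingCone P hsum n φ hE' hF₀, ⟨Triangle.π₃.mapIso e⟩⟩

theorem IsNPC.obj₂ (n : ℤ) (T : Triangle (DerivedCategory C))
    (hT : T ∈ distTriang (DerivedCategory C)) (h₁ : IsNPC P n T.obj₁)
    (h₃ : IsNPC P n T.obj₃) : IsNPC P n T.obj₂ :=
  IsNPC.obj₃ P hsum hqs hql n T.invRotate (inv_rot_of_distTriang _ hT)
    (h₃.shift (-1) (n + 1) (by lia)) h₁

theorem IsNPC.obj₁ (n : ℤ) (T : Triangle (DerivedCategory C))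
    (hT : T ∈ distTriang (DerivedCategory C)) (h₂ : IsNPC P (n + 1) T.obj₂)
    (h₃ : IsNPC P n T.obj₃) : IsNPC P (n + 1) T.obj₁ := by
  have h := IsNPC.obj₃ P hsum hqs hql n T.rotate (rot_of_distTriang _ hT) h₂ h₃
  exact (h.shift (-1) (n + 1) (by lia)).of_iso ((shiftEquiv (DerivedCategory C) (1 : ℤ)).unitIso.symm.app T.obj₁)

end Groth.Agent.Helper53.PCoh
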