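import Groth.Agent.Lib.Helper53.PCohObj
import Mathlib.Algebra.Homology.Augment

/-!
# `n`-finite presentation versus `(-n)`-pseudo-coherence (S12102) (helper53)
-/

set_option autoImplicit false
universe w v u
open CategoryTheory CategoryTheory.Limits CochainComplex HomComplex Pretriangulated ZeroObject

namespace Groth.Agent.Helper53.PCoh

section Chain

variable {C : Type u} [Category.{v} C] [Abelian C]

lemma chain_exactAt_zero_iff (K : ChainComplex C ℕ) : K.ExactAt 0 ↔ Epi (K.d 1 0) := by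
  rw [HomologicalComplex.exactAt_iff' K 1 0 0 ((ChainComplex.prev ℕ 0).trans rfl) ChainComplex.next_nat_zero]
  exact ShortComplex.exact_iff_epi _ (K.shape 0 0 (by simp))

lemma chain_exactAt_succ_iff (K : ChainComplex C ℕ) (j : ℕ) :
    K.ExactAt (j + 1) ↔ (ShortComplex.mk (K.d (j + 2) (j + 1)) (K.d (j + 1) j)
      (K.d_comp_d _ _ _)).Exact :=
  HomologicalComplex.exactAt_iff' K (j + 2) (j + 1) j ((ChainComplex.prev ℕ (j + 1)).trans rfl) (ChainComplex.next_nat_succ j)

/-- splice data -/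
lemma exact_comp_mono {X Y Z W : C} (a : X ⟶ Y) (b : Y ⟶ Z) (m : Z ⟶ W) [Mono m]
    (w : a ≫ b = 0) (h : (ShortComplex.mk a b w).Exact) :
    (ShortComplex.mk a (b ≫ m) (by rw [reassoc_of% w, zero_comp])).Exact := by
  let φ : ShortComplex.mk a b w ⟶ ShortComplex.mk a (b ≫ m) (by rw [reassoc_of% w, zero_comp]) :=
    { τ₁ := 𝟙 _, τ₂ := 𝟙 _, τ₃ := m }
  have : Epi φ.τ₁ := by dsimp [φ]; infer_instance
  have : IsIso φ.τ₂ := by dsimp [φ]; infer_instance
  have : Mono φ.τ₃ := by dsimp [φ]; infer_instance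
  exact (ShortComplex.exact_iff_of_epi_of_isIso_of_mono φ).1 h

lemma exact_epi_comp_kernel {X Y Z : C} (π : Y ⟶ Z) (p : X ⟶ kernel π) [Epi p] :
    (ShortComplex.mk (p ≫ kernel.ι π) π (by simp)).Exact := by
  let φ : ShortComplex.mk (p ≫ kernel.ι π) π (by simp) ⟶
      ShortComplex.mk (kernel.ι π) π (kernel.condition π) :=
    { τ₁ := p, τ₂ := 𝟙 _, τ₃ := 𝟙 _ }
  have : Epi φ.τ₁ := by dsimp [φ]; infer_instance
  have : IsIso φ.τ₂ := by dsimp [φ]; infer_instance
  have : Mono φ.τ₃ := by dsimp [φ]; infer_instance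
  exact (ShortComplex.exact_iff_of_epi_of_isIso_of_mono φ).2
    (ShortComplex.exact_of_f_is_kernel _ (kernelIsKernel π))

lemma exact_epi_comp_kernel' {X Y Z : C} (π : Y ⟶ Z) (p : X ⟶ kernel π) [Epi p] (f : X ⟶ Y)
    (hf : f = p ≫ kernel.ι π) : (ShortComplex.mk f π (by rw [hf]; simp)).Exact := by
  subst hf
  exact exact_epi_comp_kernel π p

end Chain

variable {C : Type u} [Category.{v} C] [Abelian C] [HasDerivedCategory.{w} C]
  {P : ObjectProperty C} [P.IsClosedUnderIsomorphisms] [P.ContainsZero]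

lemma IsObjNPC.of_isOfFiniteType (hql : PCoh.IsQuasiLiftable P) {X : C}
    (h : PCoh.IsOfFiniteType P X) : IsObjNPC P 0 X :=
  IsNPC.of_isOfFiniteType P hql 0 _ (fun i hi => isZero_dH_single X i (by lia))
    (isOfFiniteType_of_iso (dHSingleIso X).symm h)

variable (hsum : ∀ X Y : C, P X → P Y → P (X ⨯ Y))
  (hqs : PCoh.IsQuasiStableUnderKernels P) (hql : PCoh.IsQuasiLiftable P)

include hsum hqs hql

/-- the short exact sequence `0 → Z_{t+1} → K_{t+1} → Z_t → 0` of a chain complex exact at `t` -/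
lemma isObjNPC_cycles_step (K : ChainComplex C ℕ) (t : ℕ) (hex : K.ExactAt t) (m : ℤ)
    (h₁ : IsObjNPC P (m + 1) (K.cycles (t + 1))) (h₂ : P (K.X (t + 1))) :
    IsObjNPC P m (K.cycles t) := by
  have hr : (ComplexShape.down ℕ).Rel (t + 1) t := rfl
  let S : ShortComplex C := ShortComplex.mk (K.iCycles (t + 1))
    (K.toCycles (t + 1) t) (by
      rw [← cancel_mono (K.iCycles t), Category.assoc, HomologicalComplex.toCycles_i,
        zero_comp, HomologicalComplex.iCycles_d])
  have hS : S.Exact := by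
    refine ShortComplex.exact_of_f_is_kernel _ ?_
    exact isKernelOfComp (K.iCycles t) (K.d (t + 1) t)
      (K.cyclesIsKernel (t + 1) t ((ComplexShape.down ℕ).next_eq' hr)) _
      (HomologicalComplex.toCycles_i K _ _)
  have hm : Mono S.f := by change Mono (K.iCycles _); infer_instance
  have he : Epi S.g :=
    Preadditive.epi_of_isZero_cokernel' _
      (K.homologyIsCokernel (t + 1) t ((ComplexShape.down ℕ).prev_eq' hr))
      ((HomologicalComplex.exactAt_iff_isZero_homology _ _).1 hex)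
  have hSE : S.ShortExact := { exact := hS }
  exact IsNPC.obj₃ P hsum hqs hql m _ hSE.singleTriangle_distinguished h₁
    (IsObjNPC.of_prop h₂ m)

/-- (⇒) of S12102 -/
theorem isObjNPC_of_presentation (K : ChainComplex C ℕ) (n : ℕ)
    (hex : ∀ j : ℕ, j ≤ n → K.ExactAt j)
    (hP : ∀ j : ℕ, 1 ≤ j → j ≤ n + 1 → P (K.X j)) :
    IsObjNPC P (-(n : ℤ)) (K.X 0) := by
  have hr : (ComplexShape.down ℕ).Rel (n + 1) n := rfl
  have key : ∀ k : ℕ, k ≤ n → IsObjNPC P (-(k : ℤ)) (K.cycles (n - k)) := by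
    intro k
    induction k with
    | zero =>
      intro _
      have he : Epi (K.toCycles (n + 1) n) :=
        Preadditive.epi_of_isZero_cokernel' _
          (K.homologyIsCokernel (n + 1) n ((ComplexShape.down ℕ).prev_eq' hr))
          ((HomologicalComplex.exactAt_iff_isZero_homology _ _).1 (hex n le_rfl))
      have : PCoh.IsOfFiniteType P (K.cycles n) :=
        ⟨K.X (n + 1), K.toCycles (n + 1) n, hP (n + 1) (by lia) le_rfl, he⟩
      simpa using IsObjNPC.of_isOfFiniteType hql this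
    | succ k ih =>
      intro hk
      have h1 := ih (by lia)
      have e1 : n - k = (n - (k + 1)) + 1 := by lia
      rw [e1] at h1
      have h2 := isObjNPC_cycles_step hsum hqs hql K (n - (k + 1)) (hex _ (by lia))
        (-((k + 1 : ℕ) : ℤ)) (by
          have e2 : -((k + 1 : ℕ) : ℤ) + 1 = -(k : ℤ) := by push_cast; ring
          rw [e2]
          exact h1) (hP _ (by lia) (by lia))
      exact h2
  have h0 := key n le_rfl
  rw [Nat.sub_self] at h0
  have : IsIso (K.iCycles 0) :=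
    K.isIso_iCycles 0 _ rfl (by simp)
  exact h0.of_iso (asIso (K.iCycles 0))


/-- (⇐) of S12102 -/
theorem exists_presentation_of_isObjNPC (n : ℕ) : ∀ F : C, IsObjNPC P (-(n : ℤ)) F →
    ∃ K : ChainComplex C ℕ, Nonempty (K.X 0 ≅ F) ∧ (∀ j : ℕ, j ≤ n → K.ExactAt j) ∧
      (∀ j : ℕ, n + 1 < j → IsZero (K.X j)) ∧ (∀ j : ℕ, 1 ≤ j → j ≤ n + 1 → P (K.X j)) := by
  induction n with
  | zero =>
    intro F hF
    obtain ⟨E₁, π, hE₁, hπ⟩ := IsObjNPC.isOfFiniteType hqs (by simpa using hF)
    let K₀ : ChainComplex C ℕ := (ChainComplex.single₀ C).obj E₁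
    have w : K₀.d 1 0 ≫ (HomologicalComplex.singleObjXSelf (ComplexShape.down ℕ) 0 E₁).hom ≫ π
        = 0 := by
      rw [HomologicalComplex.single_obj_d, zero_comp]
    refine ⟨ChainComplex.augment K₀ _ w, ⟨Iso.refl _⟩, ?_, ?_, ?_⟩
    · intro j hj
      obtain rfl : j = 0 := by lia
      rw [chain_exactAt_zero_iff]
      show Epi ((HomologicalComplex.singleObjXSelf (ComplexShape.down ℕ) 0 E₁).hom ≫ π)
      infer_instance
    · intro j hj
      obtain ⟨i, rfl⟩ : ∃ i, j = i + 2 := ⟨j - 2, by lia⟩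
      show IsZero (K₀.X (i + 1))
      exact HomologicalComplex.isZero_single_obj_X _ _ _ _ (by simp)
    · intro j h1 h2
      obtain rfl : j = 1 := by lia
      show P (K₀.X 0)
      exact P.prop_of_iso (HomologicalComplex.singleObjXSelf (ComplexShape.down ℕ) 0 E₁).symm hE₁
  | succ n ih =>
    intro F hF
    have hF0 : IsObjNPC P 0 F := hF.mono (by push_cast; lia)
    obtain ⟨E₁, π, hE₁, hπ⟩ := IsObjNPC.isOfFiniteType hqs hF0
    let S : ShortComplex C := ShortComplex.mk (kernel.ι π) π (kernel.condition π)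
    have hS : S.ShortExact :=
      { exact := ShortComplex.exact_of_f_is_kernel _ (kernelIsKernel π)
        mono_f := by dsimp [S]; infer_instance
        epi_g := hπ }
    have hZ : IsObjNPC P (-(n : ℤ)) (kernel π) := by
      have h := IsObjNPC.of_shortExact₁ hsum hqs hql S hS (-((n + 1 : ℕ) : ℤ))
        (IsObjNPC.of_prop hE₁ _) hF
      have e2 : -((n + 1 : ℕ) : ℤ) + 1 = -(n : ℤ) := by push_cast; ring
      rw [e2] at h
      exact h
    obtain ⟨K', ⟨e'⟩, hex', hz', hP'⟩ := ih _ hZ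
    have hepi : Epi (K'.d 1 0) := (chain_exactAt_zero_iff K').1 (hex' 0 (by lia))
    let T : ChainComplex C ℕ := ChainComplex.truncate.obj K'
    have w₁ : T.d 1 0 ≫ K'.d 1 0 ≫ e'.hom ≫ kernel.ι π = 0 := by
      show K'.d 2 1 ≫ K'.d 1 0 ≫ e'.hom ≫ kernel.ι π = 0
      rw [K'.d_comp_d_assoc, zero_comp]
    let A : ChainComplex C ℕ := ChainComplex.augment T (K'.d 1 0 ≫ e'.hom ≫ kernel.ι π) w₁
    have w₂ : A.d 1 0 ≫ π = 0 := by
      show (K'.d 1 0 ≫ e'.hom ≫ kernel.ι π) ≫ π = 0
      rw [Category.assoc, Category.assoc, kernel.condition, comp_zero, comp_zero]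
    refine ⟨ChainComplex.augment A π w₂, ⟨Iso.refl _⟩, ?_, ?_, ?_⟩
    · intro j hj
      match j with
      | 0 =>
        rw [chain_exactAt_zero_iff]
        exact hπ
      | 1 =>
        rw [chain_exactAt_succ_iff]
        exact exact_epi_comp_kernel' π (K'.d 1 0 ≫ e'.hom) (K'.d 1 0 ≫ e'.hom ≫ kernel.ι π)
          (Category.assoc _ _ _).symm
      | 2 =>
        rw [chain_exactAt_succ_iff]
        have h1 := (chain_exactAt_succ_iff K' 0).1 (hex' 1 (by lia))
        have h2 := exact_comp_mono (K'.d 2 1) (K'.d 1 0) (e'.hom ≫ kernel.ι π)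
          (K'.d_comp_d _ _ _) h1
        exact h2
      | i + 3 =>
        rw [chain_exactAt_succ_iff]
        have h1 := (chain_exactAt_succ_iff K' (i + 1)).1 (hex' (i + 2) (by lia))
        exact h1
    · intro j hj
      obtain ⟨i, rfl⟩ : ∃ i, j = i + 2 := ⟨j - 2, by lia⟩
      show IsZero (K'.X (i + 1))
      exact hz' _ (by lia)
    · intro j h1 h2
      match j with
      | 0 => lia
      | 1 => exact hE₁
      | i + 2 =>
        show P (K'.X (i + 1))
        exact hP' _ (by lia) (by lia)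

end Groth.Agent.Helper53.PCoh
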