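import Groth.Agent.Lib.Helper53.PCohCrit

set_option autoImplicit false
universe w v u
open CategoryTheory CategoryTheory.Limits CochainComplex HomComplex Pretriangulated ZeroObject
  HomologicalComplex

namespace Groth.Agent.Helper53.PCoh

variable {C : Type u} [Category.{v} C] [Abelian C]

/-- Strengthened form of `exists_modification_of_cycles`: the new term in degree `n` is in `P`
as soon as the old one is. -/
theorem exists_modification_of_cycles' {P : ObjectProperty C} [P.IsClosedUnderIsomorphisms]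
    (hsum : ∀ X Y : C, P X → P Y → P (X ⨯ Y))
    (n : ℤ) (E F : CochainComplex C ℤ) (u : E ⟶ F)
    (hiso : ∀ i : ℤ, n + 1 < i → IsIso (HomologicalComplex.homologyMap u i))
    (hepi : Epi (HomologicalComplex.homologyMap u (n + 1)))
    (L : C) (hL : P L) (z : L ⟶ (mappingCocone u).cycles (n + 1))
    (hz : Epi (z ≫ (mappingCocone u).homologyπ (n + 1))) :
    ∃ (E' : CochainComplex C ℤ) (v : E ⟶ E') (u' : E' ⟶ F), v ≫ u' = u ∧ (∀ i : ℤ, Mono (v.f i)) ∧
      (∀ i : ℤ, i ≠ n → IsIso (v.f i)) ∧ (P (E.X n) → P (E'.X n)) ∧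
      (∀ i : ℤ, n < i → IsIso (HomologicalComplex.homologyMap u' i)) ∧
      Epi (HomologicalComplex.homologyMap u' n) := by
  set a : (single C (ComplexShape.up ℤ) (n + 1)).obj L ⟶ mappingCocone u :=
    mkHomFromSingle (z ≫ (mappingCocone u).iCycles (n + 1)) (fun k _ => by simp) with ha
  have ha_epi : Epi (HomologicalComplex.homologyMap a (n + 1)) :=
    epi_homologyMap_mkHomFromSingle _ (n + 1) z hz
  have hD : ∀ j : ℤ, n + 1 < j → IsZero ((mappingCocone u).homology j) := by
    intro j hj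
    rw [← HomologicalComplex.exactAt_iff_isZero_homology]
    refine mappingCocone_exactAt u (j - 1) j (by lia) ?_ ?_
    · rcases (show j - 1 = n + 1 ∨ n + 1 < j - 1 by lia) with h | h
      · rw [h]; exact hepi
      · have := hiso (j - 1) h; infer_instance
    · have := hiso j hj; infer_instance
  have hA : ∀ j : ℤ, j ≠ n + 1 →
      IsZero (((single C (ComplexShape.up ℤ) (n + 1)).obj L).homology j) :=
    fun j hj => isZero_single_obj_homology _ _ _ _ hj
  obtain ⟨u', ψ, h0, h1, h2, h3⟩ := exists_desc_cone_of_cocone u a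
  refine ⟨_, mappingCone.inr _, u', h0, fun i => mono_inr_f _ i, fun i hi => ?_, ?_, ?_, ?_⟩
  · exact isIso_inr_f_of_isZero _ i (i + 1) rfl (isZero_single_obj_X _ _ _ _ (by lia))
  · intro hE
    exact prop_mappingCone_X P hsum _ n
      (P.prop_of_iso (singleObjXSelf _ (n + 1) L).symm hL) hE
  · intro i hi
    have hm : Mono (HomologicalComplex.homologyMap u' i) := by
      refine mono_homologyMap_of_triangleh_map u a u' ψ h1 h2 h3 i (i + 1) rfl ?_ ?_
      · rcases (show i = n + 1 ∨ n + 1 < i by lia) with h | h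
        · rw [h]; exact ha_epi
        · exact (hD i h).epi _
      · exact (hA (i + 1) (by lia)).mono _
    have he : Epi (HomologicalComplex.homologyMap u' i) :=
      epi_homologyMap_of_triangleh_map u a u' ψ h1 h2 h3 i (i + 1) rfl
        ((hD (i + 1) (by lia)).epi _)
    exact isIso_of_mono_of_epi _
  · exact epi_homologyMap_of_triangleh_map u a u' ψ h1 h2 h3 n (n + 1) rfl ha_epi

/-- Strengthened S5628. -/
theorem exists_modification' {P : ObjectProperty C} [P.IsClosedUnderIsomorphisms]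
    (hsum : ∀ X Y : C, P X → P Y → P (X ⨯ Y)) (hql : PCoh.IsQuasiLiftable P)
    (n : ℤ) (E F : CochainComplex C ℤ) (u : E ⟶ F)
    (hiso : ∀ i : ℤ, n + 1 < i → IsIso (HomologicalComplex.homologyMap u i))
    (hepi : Epi (HomologicalComplex.homologyMap u (n + 1)))
    (hcone : PCoh.IsOfFiniteType P ((CochainComplex.mappingCone u).homology n)) :
    ∃ (E' : CochainComplex C ℤ) (v : E ⟶ E') (u' : E' ⟶ F), v ≫ u' = u ∧ (∀ i : ℤ, Mono (v.f i)) ∧
      (∀ i : ℤ, i ≠ n → IsIso (v.f i)) ∧ (P (E.X n) → P (E'.X n)) ∧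
      (∀ i : ℤ, n < i → IsIso (HomologicalComplex.homologyMap u' i)) ∧
      Epi (HomologicalComplex.homologyMap u' n) := by
  obtain ⟨L, z, hL, hz⟩ := exists_cycles_of_isOfFiniteType hql (mappingCocone u) (n + 1)
    (isOfFiniteType_of_iso (mappingCoconeHomologyIso u n (n + 1) rfl).symm hcone)
  exact exists_modification_of_cycles' hsum n E F u hiso hepi L hL z hz

variable [HasDerivedCategory.{w} C]

/-- finite type of `H^k(cone u)` for `u` a `(k+1)`-quasi-isomorphism from a strictly `n`-pc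
complex to an `n`-pc complex, `n ≤ k`. -/
lemma isOfFiniteType_homology_mappingCone_of_isNPC (P : ObjectProperty C)
    [P.IsClosedUnderIsomorphisms] [P.ContainsZero]
    (hsum : ∀ X Y : C, P X → P Y → P (X ⨯ Y)) (hqs : PCoh.IsQuasiStableUnderKernels P)
    (hql : PCoh.IsQuasiLiftable P) (n k : ℤ) (hnk : n ≤ k) {E F : CochainComplex C ℤ}
    (u : E ⟶ F) (hE : PCoh.IsStrictPC P n E) (hF : IsNPC P n ((dQ C).obj F))
    (hiso : ∀ i : ℤ, k + 1 < i → IsIso (HomologicalComplex.homologyMap u i))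
    (hepi : Epi (HomologicalComplex.homologyMap u (k + 1))) :
    PCoh.IsOfFiniteType P ((mappingCone u).homology k) := by
  have hM : IsNPC P n ((dQ C).obj (mappingCone u)) :=
    IsNPC.obj₃ P hsum hqs hql n _ (DerivedCategory.mappingCone_triangle_distinguished u)
      ⟨E, isStrictPC_mono (by lia) hE, ⟨Iso.refl _⟩⟩ hF
  have hac : ∀ i : ℤ, k < i → IsZero ((dH C i).obj ((dQ C).obj (mappingCone u))) := by
    intro i hi
    refine IsZero.of_iso ?_ (dHQIso _ i)
    refine isZero_homology_mappingCone u i (i + 1) rfl ?_ ?_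
    · rcases (show i = k + 1 ∨ k + 1 < i by lia) with h | h
      · rw [h]; exact hepi
      · have := hiso i h; infer_instance
    · have := hiso (i + 1) (by lia); infer_instance
  exact isOfFiniteType_of_iso (dHQIso _ k)
    (IsNPC.isOfFiniteType P hqs k _ (hM.mono hnk) hac)

/-- S12100 by induction. -/
theorem exists_factorisation_strictPC_aux (P : ObjectProperty C)
    [P.IsClosedUnderIsomorphisms] [P.ContainsZero]
    (hsum : ∀ X Y : C, P X → P Y → P (X ⨯ Y)) (hqs : PCoh.IsQuasiStableUnderKernels P)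
    (hql : PCoh.IsQuasiLiftable P) (n : ℤ) (F : CochainComplex C ℤ)
    (hF : IsNPC P n ((dQ C).obj F)) (d : ℕ) :
    ∀ (i : ℤ) (E : CochainComplex C ℤ) (u : E ⟶ F), i ≤ n + d → PCoh.IsStrictPC P n E →
      (∀ j : ℤ, i < j → IsIso (HomologicalComplex.homologyMap u j)) →
      Epi (HomologicalComplex.homologyMap u i) →
      ∃ (E' : CochainComplex C ℤ) (v : E ⟶ E') (u' : E' ⟶ F), v ≫ u' = u ∧
        PCoh.IsStrictPC P n E' ∧ QuasiIso u' ∧
        (∀ j : ℤ, Mono (v.f j)) ∧ (∀ j : ℤ, i ≤ j → IsIso (v.f j)) := by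
  induction d with
  | zero =>
    intro i E u hi hE hiso hepi
    obtain ⟨E', v, u', hvu, hu', hmono, hviso⟩ := exists_factorisation i E F u hiso hepi
    obtain ⟨⟨b, hb⟩, hP⟩ := hE
    refine ⟨E', v, u', hvu, ⟨⟨max b (n - 1), fun j hj => ?_⟩, fun j hj => ?_⟩, hu', hmono, hviso⟩
    · have := hviso j (by have := le_max_right b (n - 1); push_cast at hi; lia)
      exact IsZero.of_iso (hb j (by have := le_max_left b (n - 1); lia)) (asIso (v.f j)).symm
    · have := hviso j (by push_cast at hi; lia)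
      exact P.prop_of_iso (asIso (v.f j)) (hP j hj)
  | succ d ih =>
    intro i E u hi hE hiso hepi
    by_cases hi' : i ≤ n + d
    · exact ih i E u hi' hE hiso hepi
    · obtain ⟨k, hk⟩ : ∃ k : ℤ, i = k + 1 := ⟨i - 1, by lia⟩
      subst hk
      have hnk : n ≤ k := by push_cast at hi; lia
      have hcone := isOfFiniteType_homology_mappingCone_of_isNPC P hsum hqs hql n k hnk u hE hF
        hiso hepi
      obtain ⟨E₁, v₁, u₁, hvu₁, hmono₁, hviso₁, hPk, hiso₁, hepi₁⟩ :=
        exists_modification' hsum hql k E F u hiso hepi hcone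
      have hE₁ : PCoh.IsStrictPC P n E₁ := by
        obtain ⟨⟨b, hb⟩, hP⟩ := hE
        refine ⟨⟨max b k, fun j hj => ?_⟩, fun j hj => ?_⟩
        · have := hviso₁ j (by have := le_max_right b k; lia)
          exact IsZero.of_iso (hb j (by have := le_max_left b k; lia)) (asIso (v₁.f j)).symm
        · by_cases hjk : j = k
          · subst hjk
            exact hPk (hP j hj)
          · have := hviso₁ j hjk
            exact P.prop_of_iso (asIso (v₁.f j)) (hP j hj)
      obtain ⟨E', v', u', hvu', hE', hu', hmono', hviso'⟩ :=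
        ih k E₁ u₁ (by push_cast at hi; lia) hE₁ hiso₁ hepi₁
      refine ⟨E', v₁ ≫ v', u', by rw [Category.assoc, hvu', hvu₁], hE', hu', fun j => ?_,
        fun j hj => ?_⟩
      · have := hmono₁ j
        have := hmono' j
        rw [HomologicalComplex.comp_f]
        exact mono_comp _ _
      · have := hviso₁ j (by lia)
        have := hviso' j (by lia)
        rw [HomologicalComplex.comp_f]
        infer_instance

/-- S12100. -/
theorem exists_factorisation_strictPC (P : ObjectProperty C)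
    [P.IsClosedUnderIsomorphisms] [P.ContainsZero]
    (hsum : ∀ X Y : C, P X → P Y → P (X ⨯ Y)) (hqs : PCoh.IsQuasiStableUnderKernels P)
    (hql : PCoh.IsQuasiLiftable P) (n i : ℤ) (E F : CochainComplex C ℤ)
    (hE : PCoh.IsStrictPC P n E) (hF : IsNPC P n ((dQ C).obj F)) (u : E ⟶ F)
    (hiso : ∀ j : ℤ, i < j → IsIso (HomologicalComplex.homologyMap u j))
    (hepi : Epi (HomologicalComplex.homologyMap u i)) :
    ∃ (E' : CochainComplex C ℤ) (v : E ⟶ E') (u' : E' ⟶ F), v ≫ u' = u ∧
      PCoh.IsStrictPC P n E' ∧ QuasiIso u' ∧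
      (∀ j : ℤ, Mono (v.f j)) ∧ (∀ j : ℤ, i ≤ j → IsIso (v.f j)) :=
  exists_factorisation_strictPC_aux P hsum hqs hql n F hF (i - n).toNat i E u (by lia) hE hiso hepi

/-- S5617. -/
theorem IsNPC.exists_strictPC_bounded (P : ObjectProperty C)
    [P.IsClosedUnderIsomorphisms] [P.ContainsZero]
    (hsum : ∀ X Y : C, P X → P Y → P (X ⨯ Y)) (hqs : PCoh.IsQuasiStableUnderKernels P)
    (hql : PCoh.IsQuasiLiftable P) (n m : ℤ) (F : DerivedCategory C) (hF : IsNPC P n F)
    (hac : ∀ i : ℤ, m ≤ i → IsZero ((dH C i).obj F)) :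
    ∃ E : CochainComplex C ℤ, PCoh.IsStrictPC P n E ∧ (∀ i : ℤ, m ≤ i → IsZero (E.X i)) ∧
      Nonempty ((dQ C).obj E ≅ F) := by
  obtain ⟨E₀, hE₀, ⟨e⟩⟩ := hF
  have hac' : ∀ i : ℤ, m ≤ i → IsZero (E₀.homology i) := fun i hi =>
    IsZero.of_iso (hac i hi) (homologyIsoOfIso e i)
  obtain ⟨E', v, u', _, hE', hu', _, hviso⟩ :=
    exists_factorisation_strictPC P hsum hqs hql n m 0 E₀ (isStrictPC_zero P n)
      ⟨E₀, hE₀, ⟨Iso.refl _⟩⟩ 0
      (fun j hj => isIso_of_isZero _ (isZero_homology_of_isZero_X _ j (isZero_zero_X j))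
        (hac' j (by lia)))
      ((hac' m le_rfl).epi _)
  refine ⟨E', hE', fun i hi => ?_, ⟨asIso ((dQ C).map u') ≪≫ e⟩⟩
  have := hviso i hi
  exact IsZero.of_iso (isZero_zero_X i) (asIso (v.f i)).symm

end Groth.Agent.Helper53.PCoh
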