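import Groth.Agent.Lib.Helper53.PCohTrunc
import Mathlib.Algebra.Homology.DerivedCategory.ShortExact
import Mathlib.Algebra.Homology.HomologicalComplexAbelian

set_option autoImplicit false
universe w v u w' v' u'
open CategoryTheory CategoryTheory.Limits CochainComplex HomComplex Pretriangulated ZeroObject

namespace Groth.Agent.Helper53.PCoh

section TopTerm

variable {C : Type u} [Category.{v} C] [Abelian C]

/-- inclusion of the top term of a complex vanishing above `hi` -/
noncomputable def topInclusion (G : CochainComplex C ℤ) (hi : ℤ)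
    (hG : IsZero (G.X (hi + 1))) :
    (HomologicalComplex.single C (ComplexShape.up ℤ) hi).obj (G.X hi) ⟶ G :=
  HomologicalComplex.mkHomFromSingle (𝟙 (G.X hi)) (fun k hk => by
    simp only [ComplexShape.up_Rel] at hk
    subst hk
    exact hG.eq_of_tgt _ _)

lemma isIso_topInclusion_f (G : CochainComplex C ℤ) (hi : ℤ) (hG : IsZero (G.X (hi + 1))) :
    IsIso ((topInclusion G hi hG).f hi) := by
  unfold topInclusion
  rw [HomologicalComplex.mkHomFromSingle_f]
  infer_instance

lemma mono_topInclusion_f (G : CochainComplex C ℤ) (hi : ℤ) (hG : IsZero (G.X (hi + 1))) (i : ℤ) :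
    Mono ((topInclusion G hi hG).f i) := by
  by_cases h : i = hi
  · subst h
    have := isIso_topInclusion_f G i hG
    infer_instance
  · exact (HomologicalComplex.isZero_single_obj_X _ _ _ _ h).mono _

instance (G : CochainComplex C ℤ) (hi : ℤ) (hG : IsZero (G.X (hi + 1))) :
    Mono (topInclusion G hi hG) :=
  HomologicalComplex.mono_of_mono_f _ (mono_topInclusion_f G hi hG)

/-- the quotient of `G` by its top term -/
noncomputable def topQuotient (G : CochainComplex C ℤ) (hi : ℤ) (hG : IsZero (G.X (hi + 1))) :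
    CochainComplex C ℤ := cokernel (topInclusion G hi hG)

/-- terms of the quotient -/
noncomputable def topQuotientXIso (G : CochainComplex C ℤ) (hi : ℤ) (hG : IsZero (G.X (hi + 1)))
    (i : ℤ) : (topQuotient G hi hG).X i ≅ cokernel ((topInclusion G hi hG).f i) :=
  PreservesCokernel.iso (HomologicalComplex.eval C (ComplexShape.up ℤ) i) (topInclusion G hi hG)

lemma isZero_topQuotient_X (G : CochainComplex C ℤ) (hi : ℤ) (hG : IsZero (G.X (hi + 1))) :
    IsZero ((topQuotient G hi hG).X hi) := by
  have := isIso_topInclusion_f G hi hG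
  exact IsZero.of_iso (isZero_cokernel_of_epi _) (topQuotientXIso G hi hG hi)

/-- in the other degrees the quotient agrees with `G` -/
noncomputable def topQuotientXIso' (G : CochainComplex C ℤ) (hi : ℤ) (hG : IsZero (G.X (hi + 1)))
    (i : ℤ) (h : i ≠ hi) : (topQuotient G hi hG).X i ≅ G.X i := by
  have h0 : (topInclusion G hi hG).f i = 0 :=
    (HomologicalComplex.isZero_single_obj_X _ _ _ _ h).eq_of_src _ _
  exact topQuotientXIso G hi hG i ≪≫ cokernelIsoOfEq h0 ≪≫ cokernelZeroIsoTarget

/-- the short exact sequence `0 ⟶ G^hi[-hi] ⟶ G ⟶ G' ⟶ 0` -/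
noncomputable def topShortComplex (G : CochainComplex C ℤ) (hi : ℤ) (hG : IsZero (G.X (hi + 1))) :
    ShortComplex (CochainComplex C ℤ) :=
  ShortComplex.mk (topInclusion G hi hG) (cokernel.π _) (cokernel.condition _)

lemma topShortComplex_shortExact (G : CochainComplex C ℤ) (hi : ℤ)
    (hG : IsZero (G.X (hi + 1))) : (topShortComplex G hi hG).ShortExact := by
  refine ShortComplex.ShortExact.mk' ?_ ?_ ?_
  · exact ShortComplex.exact_of_g_is_cokernel _ (cokernelIsCokernel _)
  · change Mono (topInclusion G hi hG); infer_instance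
  · change Epi (cokernel.π (topInclusion G hi hG)); infer_instance

end TopTerm

section Functor

variable {C : Type u} [Category.{v} C] [Abelian C] [HasDerivedCategory.{w} C]
  {C' : Type u'} [Category.{v'} C'] [Abelian C'] [HasDerivedCategory.{w'} C']
  (u : DerivedCategory C ⥤ DerivedCategory C') [u.CommShift ℤ] [u.IsTriangulated]

/-- `H^i(X⟦k⟧) ≅ H^{k+i}(X)` -/
noncomputable def dHShiftIso (X : DerivedCategory C) (k i j : ℤ) (h : k + i = j) :
    (dH C i).obj (X⟦k⟧) ≅ (dH C j).obj X :=
  ((DerivedCategory.homologyFunctor C 0).shiftIso k i j h).app X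

variable (b : ℤ)
  (hii : ∀ F : DerivedCategory C, (∀ i : ℤ, 0 < i → IsZero ((dH C i).obj F)) →
      ∀ i : ℤ, b < i → IsZero ((dH C' i).obj (u.obj F)))

include hii

omit [u.IsTriangulated] in
/-- way-out property, shifted -/
lemma isZero_dH_map_obj (k : ℤ) (X : DerivedCategory C)
    (hX : ∀ i : ℤ, k < i → IsZero ((dH C i).obj X)) :
    ∀ i : ℤ, k + b < i → IsZero ((dH C' i).obj (u.obj X)) := by
  have h1 : ∀ i : ℤ, 0 < i → IsZero ((dH C i).obj (X⟦k⟧)) := fun i hi =>
    IsZero.of_iso (hX (k + i) (by lia)) (dHShiftIso X k i (k + i) rfl)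
  have h2 := hii (X⟦k⟧) h1
  intro i hi
  refine IsZero.of_iso (h2 (i - k) (by lia)) ?_
  exact (dHShiftIso (u.obj X) k (i - k) i (by lia)).symm ≪≫
    (dH C' (i - k)).mapIso ((u.commShiftIso k).app X).symm

omit [u.IsTriangulated] in
/-- acyclic objects are sent to acyclic objects -/
lemma isZero_dH_map_obj_of_acyclic (X : DerivedCategory C)
    (hX : ∀ i : ℤ, IsZero ((dH C i).obj X)) (j : ℤ) : IsZero ((dH C' j).obj (u.obj X)) :=
  isZero_dH_map_obj u b hii (j - b - 1) X (fun i _ => hX i) j (by lia)

variable (P : ObjectProperty C) [P.IsClosedUnderIsomorphisms] [P.ContainsZero]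
  (P' : ObjectProperty C') [P'.IsClosedUnderIsomorphisms] [P'.ContainsZero]
  (hsum' : ∀ X Y : C', P' X → P' Y → P' (X ⨯ Y))
  (hqs' : PCoh.IsQuasiStableUnderKernels P') (hql' : PCoh.IsQuasiLiftable P') (a : ℤ)
  (hi' : ∀ E : C, P E → IsNPC P' a (u.obj ((DerivedCategory.singleFunctor C 0).obj E)))

include hsum' hqs' hql' hi'

/-- the image of a strictly perfect complex concentrated in `[lo, hi]` is `(hi + a)`-pc -/
theorem isNPC_map_of_strictlyPerfect (len : ℕ) :
    ∀ (G : CochainComplex C ℤ) (lo hi : ℤ), (∀ i : ℤ, P (G.X i)) →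
      (∀ i : ℤ, i < lo ∨ hi < i → IsZero (G.X i)) → hi + 1 - lo ≤ len →
      IsNPC P' (hi + a) (u.obj ((dQ C).obj G)) := by
  induction len with
  | zero =>
    intro G lo hi _ hvan hlen
    refine IsNPC.of_acyclic P' _ _ (fun j _ => ?_)
    refine isZero_dH_map_obj_of_acyclic u b hii _ (fun i => ?_) j
    refine IsZero.of_iso (isZero_homology_of_isZero_X G i (hvan i ?_)) (dHQIso G i)
    push_cast at hlen
    lia
  | succ len ih =>
    intro G lo hi hP hvan hlen
    have hG : IsZero (G.X (hi + 1)) := hvan _ (Or.inr (by lia))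
    have hS := topShortComplex_shortExact G hi hG
    have hT := DerivedCategory.triangleOfSES_distinguished hS
    have huT := u.map_distinguished _ hT
    -- first vertex
    have h₁ : IsNPC P' (hi + a) (u.mapTriangle.obj (DerivedCategory.triangleOfSES hS)).obj₁ := by
      have h0 := hi' (G.X hi) (hP hi)
      have h0' := IsNPC.shift h0 (-hi) (hi + a) (by lia)
      refine h0'.of_iso ?_
      refine ((u.commShiftIso (-hi)).app _).symm ≪≫ u.mapIso ?_
      exact ((DerivedCategory.singleFunctors C).shiftIso (-hi) hi 0 (by lia)).app (G.X hi) ≪≫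
        (DerivedCategory.singleFunctorIsoCompQ C hi).app (G.X hi)
    -- third vertex
    have h₃ : IsNPC P' (hi + a) (u.mapTriangle.obj (DerivedCategory.triangleOfSES hS)).obj₃ := by
      have := ih (topQuotient G hi hG) lo (hi - 1) (fun i => ?_) (fun i hi' => ?_)
        (by push_cast at hlen; lia)
      · exact this.mono (by lia)
      · by_cases h : i = hi
        · subst h
          exact P.prop_of_isZero (isZero_topQuotient_X G i hG)
        · exact P.prop_of_iso (topQuotientXIso' G hi hG i h).symm (hP i)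
      · by_cases h : i = hi
        · subst h
          exact isZero_topQuotient_X G i hG
        · refine IsZero.of_iso (hvan i ?_) (topQuotientXIso' G hi hG i h)
          rcases hi' with h' | h'
          · exact Or.inl h'
          · exact Or.inr (by lia)
    exact IsNPC.obj₂ P' hsum' hqs' hql' (hi + a) _ huT h₁ h₃

variable (hsum : ∀ X Y : C, P X → P Y → P (X ⨯ Y))
  (hqs : PCoh.IsQuasiStableUnderKernels P) (hql : PCoh.IsQuasiLiftable P)

include hsum hqs hql

/-- S5620 -/
theorem isNPC_map_of_bounds (m n : ℤ) (F : DerivedCategory C) (hF : IsNPC P m F)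
    (hac : ∀ i : ℤ, n < i → IsZero ((dH C i).obj F)) :
    IsNPC P' (max (m + b) (n + a)) (u.obj F) ∧
      ∀ i : ℤ, n + b < i → IsZero ((dH C' i).obj (u.obj F)) := by
  have hac' := isZero_dH_map_obj u b hii n F hac
  refine ⟨?_, hac'⟩
  obtain ⟨N, hN⟩ : ∃ N : ℤ, N = max (m + b) (n + a) := ⟨_, rfl⟩
  have hN1 : m + b ≤ N := hN ▸ le_max_left _ _
  have hN2 : n + a ≤ N := hN ▸ le_max_right _ _
  rw [← hN]
  by_cases hmn : n < m
  · exact IsNPC.of_acyclic P' N _ (fun i hi => hac' i (by lia))
  · obtain ⟨E, ⟨_, hPE⟩, hvan, ⟨e⟩⟩ :=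
      IsNPC.exists_strictPC_bounded P hsum hqs hql m (n + 1) F hF (fun i hi => hac i (by lia))
    obtain ⟨d, hd⟩ : ∃ d : ℕ, (d : ℤ) = n + 1 - m := ⟨(n + 1 - m).toNat, by lia⟩
    obtain ⟨G, g, hGP, hGlow, hGhigh, hiso, hepi⟩ :=
      exists_approximation P hsum hqs hql m E E hPE (𝟙 _) inferInstance n
        (fun i hi => hvan i (by lia)) d (by lia)
    have hm : n + 1 - (d : ℤ) = m := by lia
    rw [hm] at hGlow hiso hepi
    have hT := DerivedCategory.mappingCone_triangle_distinguished g
    have huT := u.map_distinguished _ hT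
    have h₁ : IsNPC P' N (u.obj ((dQ C).obj G)) :=
      (isNPC_map_of_strictlyPerfect u b hii P P' hsum' hqs' hql' a hi' (n + 1 - m).toNat G m n hGP
        (fun i hi => by
          rcases hi with h | h
          · exact hGlow i h
          · exact hGhigh i h) (by lia)).mono hN2
    have h₃ : IsNPC P' N (u.obj ((dQ C).obj (mappingCone g))) := by
      refine IsNPC.of_acyclic P' N _ (fun i hi => ?_)
      refine isZero_dH_map_obj u b hii (m - 1) _ (fun j hj => ?_) i (by lia)
      refine IsZero.of_iso ?_ (dHQIso _ j)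
      refine isZero_homology_mappingCone g j (j + 1) rfl ?_ ?_
      · rcases (show j = m ∨ m < j by lia) with h | h
        · rw [h]; exact hepi
        · have := hiso j h; infer_instance
      · have := hiso (j + 1) (by lia); infer_instance
    exact (IsNPC.obj₂ P' hsum' hqs' hql' N _ huT h₁ h₃).of_iso (u.mapIso e)

end Functor

end Groth.Agent.Helper53.PCoh
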