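import Groth.Agent.Lib.Helper53.PCohObj

set_option autoImplicit false
universe w v u
open CategoryTheory CategoryTheory.Limits CochainComplex HomComplex Pretriangulated ZeroObject

namespace Groth.Agent.Helper53.PCoh

variable {C : Type u} [Category.{v} C] [Abelian C] [HasDerivedCategory.{w} C]
  (P : ObjectProperty C) [P.IsClosedUnderIsomorphisms] [P.ContainsZero]
  (hsum : ∀ X Y : C, P X → P Y → P (X ⨯ Y))
  (hqs : PCoh.IsQuasiStableUnderKernels P) (hql : PCoh.IsQuasiLiftable P)
  (P₁ : ObjectProperty C) (hle : ∀ X : C, P X → P₁ X)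
  (hpc : ∀ X : C, P₁ X → PCoh.IsPC P ((DerivedCategory.singleFunctor C 0).obj X))

include hsum hqs hql hpc

/-- S5607 (⇒) -/
theorem isNPC_of_isNPC_intermediate (n : ℤ) (F : DerivedCategory C) (h : IsNPC P₁ n F) :
    IsNPC P n F := by
  obtain ⟨E, ⟨⟨b, hb⟩, hE⟩, ⟨e⟩⟩ := h
  exact (isNPC_of_termwise hsum hqs hql n E b hb
    (fun i hi => hpc (E.X i) (hE i hi) (n - i))).of_iso e

include hle

omit [P.ContainsZero] hsum in
/-- S5606, first half -/
theorem isQuasiLiftable_intermediate : PCoh.IsQuasiLiftable P₁ := by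
  intro E F u hu hF
  have h0 : IsObjNPC P 0 F := hpc F hF 0
  obtain ⟨L, π, hL, hπ⟩ := h0.isOfFiniteType hqs
  obtain ⟨L', v₀, hL', hv₀⟩ := hql (pullback u π) L (pullback.snd u π) inferInstance hL
  refine ⟨L', v₀ ≫ pullback.fst u π, hle _ hL', ?_⟩
  rw [Category.assoc, pullback.condition, ← Category.assoc]
  exact epi_comp _ _

/-- S5606, second half -/
theorem isQuasiStableUnderKernels_intermediate : PCoh.IsQuasiStableUnderKernels P₁ := by
  intro K hex ⟨n₀, hn₀⟩ hP
  have hac : ∀ i : ℕ, IsZero (K.homology i) := fun i => by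
    rw [← HomologicalComplex.exactAt_iff_isZero_homology]; exact hex i
  have key := isObjNPC_cycles_chain hsum hqs hql K (fun t => n₀ + 1 - t) n₀
    (fun t ht => by simp only [ComplexShape.up_Rel]; lia)
    (hn₀ _ (by lia)) (-(n₀ : ℤ))
    (fun t ht1 ht2 => hpc _ (hP _ (by lia)) _)
    (fun t _ => hac _) n₀ le_rfl
  have h1 : n₀ + 1 - n₀ = 1 := by lia
  have h2 : -(n₀ : ℤ) + (n₀ : ℤ) = 0 := by lia
  simp only [h1, h2] at key
  have hZ := key.isOfFiniteType hqs
  -- `K.X 0 ≅ K.cycles 1`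
  have hepi : Epi (K.toCycles 0 1) :=
    Preadditive.epi_of_isZero_cokernel' _ (K.homologyIsCokernel 0 1 (by simp)) (hac 1)
  have hmono : Mono (K.toCycles 0 1) := by
    have hd : Mono (K.d 0 1) := by
      have h := hex 0
      rw [HomologicalComplex.exactAt_iff' _ 0 0 1 (by simp) (by simp)] at h
      rw [ShortComplex.exact_iff_mono _ (K.shape 0 0 (by simp))] at h
      exact h
    have h := K.toCycles_i 0 1
    rw [← h] at hd
    exact mono_of_mono _ (K.iCycles 1)
  have hiso : IsIso (K.toCycles 0 1) := isIso_of_mono_of_epi _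
  obtain ⟨L, π, hL, hπ⟩ := hZ
  exact ⟨L, π ≫ inv (K.toCycles 0 1), hle _ hL, inferInstance⟩

end Groth.Agent.Helper53.PCoh
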