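import Groth.Agent.Lib.Helper53.PCohFactor
import Mathlib.Algebra.Homology.HomologicalComplexLimits
import Mathlib.CategoryTheory.Limits.Constructions.EventuallyConstant
import Mathlib.CategoryTheory.Functor.OfSequence

set_option autoImplicit false
universe w v u
open CategoryTheory CategoryTheory.Limits CochainComplex HomComplex Pretriangulated ZeroObject

namespace Groth.Agent.Helper53.PCoh

variable {C : Type u} [Category.{v} C] [Abelian C]

/-- a chain map which is an isomorphism in degrees `j-1, j, j+1` is an isomorphism on `H^j` -/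
lemma isIso_homologyMap_of_isIso_f {K L : CochainComplex C ℤ} (φ : K ⟶ L) (j : ℤ)
    (h₁ : IsIso (φ.f (j - 1))) (h₂ : IsIso (φ.f j)) (h₃ : IsIso (φ.f (j + 1))) :
    IsIso (HomologicalComplex.homologyMap φ j) := by
  have e₁ : IsIso (φ.f ((ComplexShape.up ℤ).prev j)) := by
    rw [CochainComplex.prev]; exact h₁
  have e₃ : IsIso (φ.f ((ComplexShape.up ℤ).next j)) := by
    rw [CochainComplex.next]; exact h₃
  have t₁ : Epi ((HomologicalComplex.shortComplexFunctor C (ComplexShape.up ℤ) j).map φ).τ₁ := by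
    change Epi (φ.f ((ComplexShape.up ℤ).prev j)); infer_instance
  have t₂ : IsIso ((HomologicalComplex.shortComplexFunctor C (ComplexShape.up ℤ) j).map φ).τ₂ := by
    change IsIso (φ.f j); infer_instance
  have t₃ : Mono ((HomologicalComplex.shortComplexFunctor C (ComplexShape.up ℤ) j).map φ).τ₃ := by
    change Mono (φ.f ((ComplexShape.up ℤ).next j)); infer_instance
  exact ShortComplex.isIso_homologyMap_of_epi_of_isIso_of_mono' _ t₁ t₂ t₃

section Seq

variable (D : ℕ ⥤ CochainComplex C ℤ)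

lemma map_homOfLE_succ (a b : ℕ) (hab : a ≤ b) :
    D.map (homOfLE (hab.trans (Nat.le_add_right b 1))) =
      D.map (homOfLE hab) ≫ D.map (homOfLE (Nat.le_add_right b 1)) := by
  rw [← Functor.map_comp]
  rfl

/-- transition maps are monomorphisms degreewise if the steps are -/
lemma mono_map_f (hf : ∀ k i, Mono ((D.map (homOfLE (Nat.le_add_right k 1))).f i)) (a b : ℕ)
    (hab : a ≤ b) (i : ℤ) : Mono ((D.map (homOfLE hab)).f i) := by
  induction b, hab using Nat.le_induction with
  | base =>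
    have : homOfLE (le_refl a) = 𝟙 a := rfl
    rw [this, CategoryTheory.Functor.map_id]
    change Mono (𝟙 _)
    infer_instance
  | succ b hab ih =>
    rw [map_homOfLE_succ D a b hab, HomologicalComplex.comp_f]
    have := hf b i
    exact mono_comp _ _

/-- transition maps are isomorphisms in degree `i` beyond the stage where degree `i` stabilises -/
lemma isIso_map_f (i : ℤ) (K : ℕ)
    (hf : ∀ k, K ≤ k → IsIso ((D.map (homOfLE (Nat.le_add_right k 1))).f i)) (a b : ℕ)
    (hKa : K ≤ a) (hab : a ≤ b) : IsIso ((D.map (homOfLE hab)).f i) := by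
  induction b, hab using Nat.le_induction with
  | base =>
    have : homOfLE (le_refl a) = 𝟙 a := rfl
    rw [this, CategoryTheory.Functor.map_id]
    change IsIso (𝟙 _)
    infer_instance
  | succ b hab ih =>
    rw [map_homOfLE_succ D a b hab, HomologicalComplex.comp_f]
    have := hf b (hKa.trans hab)
    infer_instance

/-- degreewise eventual constancy -/
lemma isEventuallyConstantFrom_eval (i : ℤ) (K : ℕ)
    (hf : ∀ k, K ≤ k → IsIso ((D.map (homOfLE (Nat.le_add_right k 1))).f i)) :
    (D ⋙ HomologicalComplex.eval C (ComplexShape.up ℤ) i).IsEventuallyConstantFrom K := by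
  intro b φ
  have : φ = homOfLE (leOfHom φ) := rfl
  rw [this]
  exact isIso_map_f D i K hf K b le_rfl (leOfHom φ)

/-- The union of a degreewise eventually constant sequence of complexes. -/
theorem exists_union (K : ℤ → ℕ)
    (hK : ∀ i k, K i ≤ k → IsIso ((D.map (homOfLE (Nat.le_add_right k 1))).f i)) :
    ∃ (E' : CochainComplex C ℤ) (ι : ∀ k, D.obj k ⟶ E'),
      (∀ (a b : ℕ) (hab : a ≤ b), D.map (homOfLE hab) ≫ ι b = ι a) ∧
      (∀ i k, K i ≤ k → IsIso ((ι k).f i)) ∧
      ∀ (F : CochainComplex C ℤ) (u : ∀ k, D.obj k ⟶ F),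
        (∀ k, D.map (homOfLE (Nat.le_add_right k 1)) ≫ u (k + 1) = u k) →
        ∃ u' : E' ⟶ F, ∀ k, ι k ≫ u' = u k := by
  have hec := fun i => isEventuallyConstantFrom_eval D i (K i) (hK i)
  have : ∀ i, HasColimit (D ⋙ HomologicalComplex.eval C (ComplexShape.up ℤ) i) :=
    fun i => (hec i).hasColimit
  refine ⟨(HomologicalComplex.coconeOfHasColimitEval D).pt,
    fun k => (HomologicalComplex.coconeOfHasColimitEval D).ι.app k, ?_, ?_, ?_⟩
  · intro a b hab
    exact (HomologicalComplex.coconeOfHasColimitEval D).w (homOfLE hab)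
  · intro i k hk
    exact (hec i).isIso_ι_of_isColimit' (colimit.isColimit _) k (homOfLE hk)
  · intro F u hu
    let c : Cocone D := Cocone.mk F (NatTrans.ofSequence (fun k => u k) (by
      intro k
      rw [hu k]
      simp))
    refine ⟨(HomologicalComplex.isColimitCoconeOfHasColimitEval D).desc c, fun k => ?_⟩
    exact (HomologicalComplex.isColimitCoconeOfHasColimitEval D).fac c k

end Seq

section Stages

variable [HasDerivedCategory.{w} C] (P : ObjectProperty C) (n : ℤ) (F : CochainComplex C ℤ) (B : ℤ)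

/-- a stage of the inductive construction: a `(n - k)`-quasi-isomorphism to `F` from a complex
with all terms in `P`, zero above `B` -/
structure Stage (k : ℕ) where
  /-- the complex -/
  E : CochainComplex C ℤ
  /-- the map -/
  u : E ⟶ F
  hP : ∀ i : ℤ, P (E.X i)
  hb : ∀ i : ℤ, B < i → IsZero (E.X i)
  hiso : ∀ j : ℤ, n - k < j → IsIso (HomologicalComplex.homologyMap u j)
  hepi : Epi (HomologicalComplex.homologyMap u (n - k))

variable {P n F B}

/-- one step of the construction -/
structure Step {k : ℕ} (S : Stage P n F B k) where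
  /-- the next stage -/
  S' : Stage P n F B (k + 1)
  /-- the transition map -/
  v : S.E ⟶ S'.E
  comm : v ≫ S'.u = S.u
  mono : ∀ i : ℤ, Mono (v.f i)
  iso : ∀ i : ℤ, i ≠ n - k - 1 → IsIso (v.f i)

variable [P.IsClosedUnderIsomorphisms] [P.ContainsZero]

lemma nonempty_step (hsum : ∀ X Y : C, P X → P Y → P (X ⨯ Y))
    (hqs : PCoh.IsQuasiStableUnderKernels P) (hql : PCoh.IsQuasiLiftable P)
    (hF : ∀ m : ℤ, IsNPC P m ((dQ C).obj F)) (hBn : n ≤ B) {k : ℕ} (S : Stage P n F B k) :
    Nonempty (Step S) := by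
  obtain ⟨m, hm⟩ : ∃ m : ℤ, m + 1 = n - k := ⟨n - k - 1, by lia⟩
  have hiso := S.hiso
  have hepi := S.hepi
  rw [← hm] at hiso hepi
  have hcone := isOfFiniteType_homology_mappingCone_of_isNPC P hsum hqs hql m m le_rfl S.u
    ⟨⟨B, S.hb⟩, fun i _ => S.hP i⟩ (hF m) hiso hepi
  obtain ⟨E₁, v₁, u₁, hvu₁, hmono₁, hviso₁, hPk, hiso₁, hepi₁⟩ :=
    exists_modification' hsum hql m S.E F S.u hiso hepi hcone
  have hm' : n - ((k + 1 : ℕ) : ℤ) = m := by push_cast; lia
  refine ⟨{ S' := { E := E₁, u := u₁, hP := fun i => ?_, hb := fun i hi => ?_, hiso := ?_,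
                     hepi := ?_ }
            v := v₁, comm := hvu₁, mono := hmono₁, iso := fun i hi => hviso₁ i (by lia) }⟩
  · by_cases him : i = m
    · subst him
      exact hPk (S.hP i)
    · have := hviso₁ i him
      exact P.prop_of_iso (asIso (v₁.f i)) (S.hP i)
  · have := hviso₁ i (by lia)
    exact IsZero.of_iso (S.hb i hi) (asIso (v₁.f i)).symm
  · rw [hm']; exact hiso₁
  · rw [hm']; exact hepi₁

/-- the sequence of stages -/
noncomputable def stage (hsum : ∀ X Y : C, P X → P Y → P (X ⨯ Y))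
    (hqs : PCoh.IsQuasiStableUnderKernels P) (hql : PCoh.IsQuasiLiftable P)
    (hF : ∀ m : ℤ, IsNPC P m ((dQ C).obj F)) (hBn : n ≤ B) (S₀ : Stage P n F B 0) :
    (k : ℕ) → Stage P n F B k
  | 0 => S₀
  | k + 1 => (nonempty_step hsum hqs hql hF hBn (stage hsum hqs hql hF hBn S₀ k)).some.S'

/-- the transition maps -/
noncomputable def stageMap (hsum : ∀ X Y : C, P X → P Y → P (X ⨯ Y))
    (hqs : PCoh.IsQuasiStableUnderKernels P) (hql : PCoh.IsQuasiLiftable P)
    (hF : ∀ m : ℤ, IsNPC P m ((dQ C).obj F)) (hBn : n ≤ B) (S₀ : Stage P n F B 0) (k : ℕ) :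
    (stage hsum hqs hql hF hBn S₀ k).E ⟶ (stage hsum hqs hql hF hBn S₀ (k + 1)).E :=
  (nonempty_step hsum hqs hql hF hBn (stage hsum hqs hql hF hBn S₀ k)).some.v

/-- S12101 from an initial stage -/
theorem exists_factorisation_of_stage (hsum : ∀ X Y : C, P X → P Y → P (X ⨯ Y))
    (hqs : PCoh.IsQuasiStableUnderKernels P) (hql : PCoh.IsQuasiLiftable P)
    (hF : ∀ m : ℤ, IsNPC P m ((dQ C).obj F)) (hBn : n ≤ B) (S₀ : Stage P n F B 0) :
    ∃ (E' : CochainComplex C ℤ) (v : S₀.E ⟶ E') (u' : E' ⟶ F), v ≫ u' = S₀.u ∧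
      ((∀ i : ℤ, B < i → IsZero (E'.X i)) ∧ ∀ i : ℤ, P (E'.X i)) ∧ QuasiIso u' ∧
      (∀ j : ℤ, Mono (v.f j)) ∧ (∀ j : ℤ, n ≤ j → IsIso (v.f j)) := by
  let St := stage hsum hqs hql hF hBn S₀
  let sm := stageMap hsum hqs hql hF hBn S₀
  let D : ℕ ⥤ CochainComplex C ℤ := Functor.ofSequence sm
  have hDsucc : ∀ k, D.map (homOfLE (Nat.le_add_right k 1)) = sm k :=
    fun k => Functor.ofSequence_map_homOfLE_succ sm k
  have hstep : ∀ k, Step (St k) := fun k => (nonempty_step hsum hqs hql hF hBn (St k)).some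
  have hsm_mono : ∀ k i, Mono ((sm k).f i) := fun k i =>
    (nonempty_step hsum hqs hql hF hBn (St k)).some.mono i
  have hsm_iso : ∀ (k : ℕ) (i : ℤ), i ≠ n - k - 1 → IsIso ((sm k).f i) := fun k i hi =>
    (nonempty_step hsum hqs hql hF hBn (St k)).some.iso i hi
  have hsm_comm : ∀ k, sm k ≫ (St (k + 1)).u = (St k).u := fun k =>
    (nonempty_step hsum hqs hql hF hBn (St k)).some.comm
  let K : ℤ → ℕ := fun i => (n - i).toNat
  have hK : ∀ i k, K i ≤ k → IsIso ((D.map (homOfLE (Nat.le_add_right k 1))).f i) := by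
    intro i k hk
    rw [hDsucc k]
    exact hsm_iso k i (by simp only [K] at hk; lia)
  have hmonoD : ∀ k i, Mono ((D.map (homOfLE (Nat.le_add_right k 1))).f i) := by
    intro k i
    rw [hDsucc k]
    exact hsm_mono k i
  obtain ⟨E', ι, hnat, hιiso, hdesc⟩ := exists_union D K hK
  obtain ⟨u', hu'⟩ := hdesc F (fun k => (St k).u) (fun k => by
    rw [hDsucc k]
    exact hsm_comm k)
  have hXiso : ∀ i : ℤ, (D.obj (K i)).X i ≅ E'.X i := fun i => by
    have := hιiso i (K i) le_rfl
    exact asIso ((ι (K i)).f i)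
  have hmono : ∀ j : ℤ, Mono ((ι 0).f j) := by
    intro j
    have h1 := hnat 0 (K j) (Nat.zero_le _)
    have h2 : (ι 0).f j = (D.map (homOfLE (Nat.zero_le (K j)))).f j ≫ (ι (K j)).f j := by
      rw [← HomologicalComplex.comp_f, h1]
    have := mono_map_f D hmonoD 0 (K j) (Nat.zero_le _) j
    have := hιiso j (K j) le_rfl
    rw [h2]
    exact mono_comp _ _
  have hqi : QuasiIso u' := by
    rw [quasiIso_iff]
    intro j
    rw [quasiIsoAt_iff_isIso_homologyMap]
    obtain ⟨k, hk⟩ : ∃ k : ℕ, k = K (j - 1) := ⟨_, rfl⟩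
    have h1 : IsIso (HomologicalComplex.homologyMap (ι k) j) :=
      isIso_homologyMap_of_isIso_f (ι k) j (hιiso (j - 1) k (by lia))
        (hιiso j k (by simp only [K] at hk ⊢; lia))
        (hιiso (j + 1) k (by simp only [K] at hk ⊢; lia))
    have h2 : IsIso (HomologicalComplex.homologyMap (ι k ≫ u') j) := by
      rw [hu' k]
      exact (St k).hiso j (by simp only [K] at hk; lia)
    rw [HomologicalComplex.homologyMap_comp] at h2
    exact IsIso.of_isIso_comp_left (HomologicalComplex.homologyMap (ι k) j) _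
  refine ⟨E', ι 0, u', hu' 0, ⟨fun i hi => ?_, fun i => ?_⟩, hqi, hmono, fun j hj => ?_⟩
  · exact IsZero.of_iso ((St (K i)).hb i hi) (hXiso i).symm
  · exact P.prop_of_iso (hXiso i) ((St (K i)).hP i)
  · exact hιiso j 0 (by simp only [K]; lia)

end Stages

end Groth.Agent.Helper53.PCoh
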