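import Groth.Agent.Lib.Helper53.PCohCompare
import Groth.Prelude.Def_PCoh
import Mathlib.Algebra.Homology.SingleHomology

set_option autoImplicit false
universe w v u
open CategoryTheory CategoryTheory.Limits CochainComplex HomComplex Pretriangulated HomologicalComplex

namespace Groth.Agent.Helper53.PCoh

variable {C : Type u} [Category.{v} C] [Abelian C]

/-- The map from a single complex given by a family of cycles that surjects onto homology is an
epimorphism on homology in that degree. -/
lemma epi_homologyMap_mkHomFromSingle (D : CochainComplex C ℤ) (j : ℤ) {L : C}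
    (z : L ⟶ D.cycles j) (hz : Epi (z ≫ D.homologyπ j)) :
    Epi (HomologicalComplex.homologyMap
      (mkHomFromSingle (z ≫ D.iCycles j) (fun k _ => by simp)) j) := by
  set a : (single C (ComplexShape.up ℤ) j).obj L ⟶ D :=
    mkHomFromSingle (z ≫ D.iCycles j) (fun k _ => by simp) with ha
  have h1 : cyclesMap a j = (singleObjCyclesSelfIso (ComplexShape.up ℤ) j L).hom ≫ z := by
    rw [← cancel_mono (D.iCycles j), cyclesMap_i, ha, mkHomFromSingle_f,
      singleObjCyclesSelfIso_hom]
    simp
  have h2 : ((single C (ComplexShape.up ℤ) j).obj L).homologyπ j ≫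
      HomologicalComplex.homologyMap a j =
      (singleObjCyclesSelfIso (ComplexShape.up ℤ) j L).hom ≫ z ≫ D.homologyπ j := by
    rw [homologyπ_naturality, h1, Category.assoc]
  have : Epi (((single C (ComplexShape.up ℤ) j).obj L).homologyπ j ≫
      HomologicalComplex.homologyMap a j) := by
    rw [h2]; infer_instance
  exact epi_of_epi (((single C (ComplexShape.up ℤ) j).obj L).homologyπ j) _

/-- The cokernel of `inr` in degree `i` is `A.X (i+1)`. -/
noncomputable def cokernelInrIso {A E : CochainComplex C ℤ} (w : A ⟶ E) (i j : ℤ) (hij : i + 1 = j) :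
    cokernel ((mappingCone.inr w).f i) ≅ A.X j where
  hom := cokernel.desc _ ((mappingCone.fst w).1.v i j hij) (by simp)
  inv := (mappingCone.inl w).v j i (by lia) ≫ cokernel.π _
  hom_inv_id := by
    rw [← cancel_epi (cokernel.π _)]
    have := mappingCone.id_X w i j hij
    simp only [cokernel.π_desc_assoc, Category.comp_id]
    rw [← Category.assoc]
    have h2 : (mappingCone.fst w).1.v i j hij ≫ (mappingCone.inl w).v j i (by lia) =
        𝟙 _ - (mappingCone.snd w).v i i (add_zero i) ≫ (mappingCone.inr w).f i := by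
      rw [← this]; abel
    rw [h2, Preadditive.sub_comp, Category.id_comp, Category.assoc, cokernel.condition,
      comp_zero, sub_zero]
  inv_hom_id := by simp

/-- From finite type of homology and quasi-liftability: a `P`-object mapping to cycles and
surjecting onto homology. -/
lemma exists_cycles_of_isOfFiniteType {P : ObjectProperty C} (hql : PCoh.IsQuasiLiftable P)
    (D : CochainComplex C ℤ) (j : ℤ) (h : PCoh.IsOfFiniteType P (D.homology j)) :
    ∃ (L : C) (z : L ⟶ D.cycles j), P L ∧ Epi (z ≫ D.homologyπ j) := by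
  obtain ⟨L₀, π, hL₀, hπ⟩ := h
  obtain ⟨L, v₀, hL, hv₀⟩ := hql (pullback π (D.homologyπ j)) L₀ (pullback.fst _ _)
    inferInstance hL₀
  refine ⟨L, v₀ ≫ pullback.snd _ _, hL, ?_⟩
  rw [Category.assoc, ← pullback.condition, ← Category.assoc]
  infer_instance

/-- homology of the mapping cocone is the shifted homology of the mapping cone -/
noncomputable def mappingCoconeHomologyIso {E F : CochainComplex C ℤ} (u : E ⟶ F) (n m : ℤ)
    (h : n + 1 = m) : (mappingCocone u).homology m ≅ (mappingCone u).homology n :=
  ((HomologicalComplex.homologyFunctor C (ComplexShape.up ℤ) 0).shiftIso (-1) m n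
    (by lia)).app (mappingCone u)

/-- Core construction (SGA 6 I): given a cycle-level surjection onto `H^m` of the cocone from
a `P`-object, modify `E` in degree `n = m - 1`. -/
theorem exists_modification_of_cycles {P : ObjectProperty C} [P.IsClosedUnderIsomorphisms]
    (n m : ℤ) (hnm : n + 1 = m) (E F : CochainComplex C ℤ) (u : E ⟶ F)
    (hiso : ∀ i : ℤ, m < i → IsIso (HomologicalComplex.homologyMap u i))
    (hepi : Epi (HomologicalComplex.homologyMap u m))
    (L : C) (hL : P L) (z : L ⟶ (mappingCocone u).cycles m)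
    (hz : Epi (z ≫ (mappingCocone u).homologyπ m)) :
    ∃ (E' : CochainComplex C ℤ) (v : E ⟶ E') (u' : E' ⟶ F), v ≫ u' = u ∧ (∀ i : ℤ, Mono (v.f i)) ∧
      (∀ i : ℤ, i ≠ n → IsIso (v.f i)) ∧ P (cokernel (v.f n)) ∧
      (∀ i : ℤ, n < i → IsIso (HomologicalComplex.homologyMap u' i)) ∧
      Epi (HomologicalComplex.homologyMap u' n) := by
  set a : (single C (ComplexShape.up ℤ) m).obj L ⟶ mappingCocone u :=
    mkHomFromSingle (z ≫ (mappingCocone u).iCycles m) (fun k _ => by simp) with ha
  have ha_epi : Epi (HomologicalComplex.homologyMap a m) :=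
    epi_homologyMap_mkHomFromSingle _ m z hz
  have hD : ∀ j : ℤ, m < j → IsZero ((mappingCocone u).homology j) := by
    intro j hj
    rw [← HomologicalComplex.exactAt_iff_isZero_homology]
    refine mappingCocone_exactAt u (j - 1) j (by lia) ?_ ?_
    · rcases (show j - 1 = m ∨ m < j - 1 by lia) with h | h
      · rw [h]; exact hepi
      · have := hiso (j - 1) h; infer_instance
    · have := hiso j hj; infer_instance
  have hA : ∀ j : ℤ, j ≠ m → IsZero (((single C (ComplexShape.up ℤ) m).obj L).homology j) :=
    fun j hj => isZero_single_obj_homology _ _ _ _ hj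
  obtain ⟨u', ψ, h0, h1, h2, h3⟩ := exists_desc_cone_of_cocone u a
  refine ⟨_, mappingCone.inr _, u', h0, fun i => mono_inr_f _ i, fun i hi => ?_, ?_, ?_, ?_⟩
  · exact isIso_inr_f_of_isZero _ i (i + 1) rfl (isZero_single_obj_X _ _ _ _ (by lia))
  · exact P.prop_of_iso ((cokernelInrIso _ n m hnm).trans (singleObjXSelf _ m L)).symm hL
  · intro i hi
    have hm : Mono (HomologicalComplex.homologyMap u' i) := by
      refine mono_homologyMap_of_triangleh_map u a u' ψ h1 h2 h3 i (i + 1) rfl ?_ ?_
      · rcases (show i = m ∨ m < i by lia) with h | h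
        · rw [h]; exact ha_epi
        · exact (hD i h).epi _
      · exact (hA (i + 1) (by lia)).mono _
    have he : Epi (HomologicalComplex.homologyMap u' i) :=
      epi_homologyMap_of_triangleh_map u a u' ψ h1 h2 h3 i (i + 1) rfl
        ((hD (i + 1) (by lia)).epi _)
    exact isIso_of_mono_of_epi _
  · exact epi_homologyMap_of_triangleh_map u a u' ψ h1 h2 h3 n m hnm ha_epi

lemma isOfFiniteType_of_iso {P : ObjectProperty C} {X Y : C} (e : X ≅ Y)
    (h : PCoh.IsOfFiniteType P X) : PCoh.IsOfFiniteType P Y := by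
  obtain ⟨L, π, hL, hπ⟩ := h
  exact ⟨L, π ≫ e.hom, hL, inferInstance⟩

/-- S5628: adding a `P`-object in degree `n`. -/
theorem exists_modification {P : ObjectProperty C} [P.IsClosedUnderIsomorphisms]
    (hql : PCoh.IsQuasiLiftable P)
    (n : ℤ) (E F : CochainComplex C ℤ) (u : E ⟶ F)
    (hiso : ∀ i : ℤ, n + 1 < i → IsIso (HomologicalComplex.homologyMap u i))
    (hepi : Epi (HomologicalComplex.homologyMap u (n + 1)))
    (hcone : PCoh.IsOfFiniteType P ((CochainComplex.mappingCone u).homology n)) :
    ∃ (E' : CochainComplex C ℤ) (v : E ⟶ E') (u' : E' ⟶ F), v ≫ u' = u ∧ (∀ i : ℤ, Mono (v.f i)) ∧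
      (∀ i : ℤ, i ≠ n → IsIso (v.f i)) ∧ P (cokernel (v.f n)) ∧
      (∀ i : ℤ, n < i → IsIso (HomologicalComplex.homologyMap u' i)) ∧
      Epi (HomologicalComplex.homologyMap u' n) := by
  obtain ⟨L, z, hL, hz⟩ := exists_cycles_of_isOfFiniteType hql (mappingCocone u) (n + 1)
    (isOfFiniteType_of_iso (mappingCoconeHomologyIso u n (n + 1) rfl).symm hcone)
  exact exists_modification_of_cycles n (n + 1) rfl E F u hiso hepi L hL z hz

end Groth.Agent.Helper53.PCoh
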