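import Groth.Agent.Lib.Helper53.PCohSum
import Groth.Agent.Lib.Helper53.PCohPerfect2
import Mathlib.Algebra.Homology.DerivedCategory.SingleTriangle

set_option autoImplicit false
universe w v u
open CategoryTheory CategoryTheory.Limits CochainComplex HomComplex Pretriangulated ZeroObject

namespace Groth.Agent.Helper53.PCoh

variable {C : Type u} [Category.{v} C] [Abelian C] [HasDerivedCategory.{w} C]

/-- object-level `m`-pseudo-coherence: `X[0]` is `m`-pc -/
def IsObjNPC (P : ObjectProperty C) (m : ℤ) (X : C) : Prop :=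
  IsNPC P m ((DerivedCategory.singleFunctor C 0).obj X)

/-- `single_0 X` as `Q` of the single complex -/
noncomputable def singleObjIso (X : C) : (DerivedCategory.singleFunctor C 0).obj X ≅
    (dQ C).obj ((HomologicalComplex.single C (ComplexShape.up ℤ) 0).obj X) :=
  (DerivedCategory.singleFunctorIsoCompQ C 0).app X

/-- cohomology of `single_0 X` -/
lemma isZero_dH_single (X : C) (i : ℤ) (hi : i ≠ 0) :
    IsZero ((dH C i).obj ((DerivedCategory.singleFunctor C 0).obj X)) :=
  IsZero.of_iso (HomologicalComplex.isZero_single_obj_homology _ _ _ _ hi)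
    ((dH C i).mapIso (singleObjIso X) ≪≫ dHQIso _ i)

/-- `H^0(single_0 X) ≅ X` -/
noncomputable def dHSingleIso (X : C) :
    (dH C 0).obj ((DerivedCategory.singleFunctor C 0).obj X) ≅ X :=
  (dH C 0).mapIso (singleObjIso X) ≪≫ dHQIso _ 0 ≪≫
    HomologicalComplex.singleObjHomologySelfIso (ComplexShape.up ℤ) 0 X

variable {P : ObjectProperty C}

lemma IsObjNPC.mono {m m' : ℤ} (h : m ≤ m') {X : C} (hX : IsObjNPC P m X) : IsObjNPC P m' X :=
  IsNPC.mono h hX

lemma IsObjNPC.of_iso {m : ℤ} {X Y : C} (hX : IsObjNPC P m X) (e : X ≅ Y) : IsObjNPC P m Y :=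
  IsNPC.of_iso hX ((DerivedCategory.singleFunctor C 0).mapIso e)

variable [P.IsClosedUnderIsomorphisms] [P.ContainsZero]

lemma IsObjNPC.of_prop {X : C} (hX : P X) (m : ℤ) : IsObjNPC P m X :=
  ⟨_, isStrictPC_single P m 0 X hX, ⟨(singleObjIso X).symm⟩⟩

lemma IsObjNPC.of_isZero {X : C} (hX : IsZero X) (m : ℤ) : IsObjNPC P m X :=
  IsObjNPC.of_prop (P.prop_of_isZero hX) m

omit [P.ContainsZero] in
/-- `0`-pc objects are of finite type -/
lemma IsObjNPC.isOfFiniteType (hqs : PCoh.IsQuasiStableUnderKernels P) {X : C}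
    (hX : IsObjNPC P 0 X) : PCoh.IsOfFiniteType P X :=
  isOfFiniteType_of_iso (dHSingleIso X)
    (IsNPC.isOfFiniteType P hqs 0 _ hX (fun i hi => isZero_dH_single X i (by lia)))

variable (hsum : ∀ X Y : C, P X → P Y → P (X ⨯ Y))
  (hqs : PCoh.IsQuasiStableUnderKernels P) (hql : PCoh.IsQuasiLiftable P)

include hsum hqs hql

lemma IsObjNPC.biprod {m : ℤ} {X Y : C} (hX : IsObjNPC P m X) (hY : IsObjNPC P m Y) :
    IsObjNPC P m (X ⊞ Y) := by
  have := preservesBinaryBiproducts_of_preservesBiproducts (DerivedCategory.singleFunctor C 0)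
  exact (IsNPC.biprod P hsum hqs hql m _ _ hX hY).of_iso
    ((DerivedCategory.singleFunctor C 0).mapBiprod X Y).symm

/-- kernel of an epimorphism: 2-of-3 for short exact sequences -/
lemma IsObjNPC.of_shortExact₁ (S : ShortComplex C) (hS : S.ShortExact) (m : ℤ)
    (h₂ : IsObjNPC P (m + 1) S.X₂) (h₃ : IsObjNPC P m S.X₃) : IsObjNPC P (m + 1) S.X₁ :=
  IsNPC.obj₁ P hsum hqs hql m _ hS.singleTriangle_distinguished h₂ h₃

/-- Descending induction along a chain of indices: cycles of a complex which is exact along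
the chain and whose terms are pseudo-coherent at increasing levels. -/
lemma isObjNPC_cycles_chain {ι : Type*} {c : ComplexShape ι} (K : HomologicalComplex C c)
    (idx : ℕ → ι) (T : ℕ) (hrel : ∀ t, t < T → c.Rel (idx (t + 1)) (idx t))
    (h0 : IsZero (K.X (idx 0))) (ℓ : ℤ)
    (hX : ∀ t, 1 ≤ t → t ≤ T → IsObjNPC P (ℓ + t) (K.X (idx t)))
    (hex : ∀ t, t < T → IsZero (K.homology (idx t))) :
    ∀ t, t ≤ T → IsObjNPC P (ℓ + t) (K.cycles (idx t)) := by
  intro t
  induction t with
  | zero =>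
    intro _
    exact IsObjNPC.of_isZero (IsZero.of_mono (K.iCycles (idx 0)) h0) _
  | succ t ih =>
    intro ht
    have h1 := ih (by lia)
    have hr := hrel t (by lia)
    let S : ShortComplex C := ShortComplex.mk (K.iCycles (idx (t + 1)))
      (K.toCycles (idx (t + 1)) (idx t)) (by
        rw [← cancel_mono (K.iCycles (idx t)), Category.assoc, HomologicalComplex.toCycles_i,
          zero_comp, HomologicalComplex.iCycles_d])
    have hS : S.Exact := by
      refine ShortComplex.exact_of_f_is_kernel _ ?_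
      exact isKernelOfComp (K.iCycles (idx t)) (K.d (idx (t + 1)) (idx t))
        (K.cyclesIsKernel (idx (t + 1)) (idx t) (c.next_eq' hr)) _
        (HomologicalComplex.toCycles_i K _ _)
    have hm : Mono S.f := by change Mono (K.iCycles _); infer_instance
    have he : Epi S.g :=
      Preadditive.epi_of_isZero_cokernel' _
        (K.homologyIsCokernel (idx (t + 1)) (idx t) (c.prev_eq' hr)) (hex t (by lia))
    have hSE : S.ShortExact := { exact := hS }
    have := IsObjNPC.of_shortExact₁ hsum hqs hql S hSE (ℓ + t)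
      (by have := hX (t + 1) (by lia) ht; push_cast at this; convert this using 1; ring) h1
    push_cast
    convert this using 1
    ring

omit [Abelian C] [HasDerivedCategory.{w} C] hsum hqs hql in
lemma isOfFiniteType_of_isZero {X : C} (hX : IsZero X) : PCoh.IsOfFiniteType P X :=
  ⟨X, 𝟙 X, P.prop_of_isZero hX, inferInstance⟩

/-- generalised S5602: terms pseudo-coherent at the appropriate levels -/
theorem isOfFiniteType_homology_of_termwise (k : ℤ) (K : CochainComplex C ℤ) (c : ℤ)
    (hc : ∀ i : ℤ, c < i → IsZero (K.X i))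
    (hK : ∀ i : ℤ, k ≤ i → IsObjNPC P (k - i) (K.X i))
    (hex : ∀ i : ℤ, k < i → IsZero (K.homology i)) :
    PCoh.IsOfFiniteType P (K.homology k) := by
  obtain ⟨c', hc'⟩ : ∃ c' : ℤ, c' = max c k := ⟨_, rfl⟩
  have h1 : c ≤ c' := hc' ▸ le_max_left _ _
  have h2 : k ≤ c' := hc' ▸ le_max_right _ _
  obtain ⟨T, hT⟩ : ∃ T : ℕ, (T : ℤ) = c' + 1 - k := ⟨(c' + 1 - k).toNat, by lia⟩
  have key := isObjNPC_cycles_chain hsum hqs hql K (fun t => c' + 1 - (t : ℤ)) T
    (fun t _ => by simp only [ComplexShape.up_Rel]; push_cast; ring)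
    (hc _ (by push_cast; lia)) (k - c' - 1)
    (fun t ht1 ht2 => by
      have := hK (c' + 1 - (t : ℤ)) (by lia)
      convert this using 1
      ring)
    (fun t ht => hex _ (by lia)) T le_rfl
  have hk : c' + 1 - (T : ℤ) = k := by lia
  have hl : k - c' - 1 + (T : ℤ) = 0 := by lia
  simp only [hk, hl] at key
  have hZ := key.isOfFiniteType hqs
  exact isOfFiniteType_of_epi (K.homologyπ k) hZ

/-- generalisation of `isOfFiniteType_homology_mappingCone` -/
lemma isOfFiniteType_homology_mappingCone_termwise (k : ℤ) {G E F : CochainComplex C ℤ}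
    (g : G ⟶ E) (u : E ⟶ F) (hu : QuasiIso u) (B : ℤ) (hGP : ∀ i : ℤ, P (G.X i))
    (hGB : ∀ i : ℤ, B < i → IsZero (G.X i)) (hFB : ∀ i : ℤ, B < i → IsZero (F.X i))
    (hF : ∀ i : ℤ, k ≤ i → IsObjNPC P (k - i) (F.X i))
    (hiso : ∀ i : ℤ, k + 1 < i → IsIso (HomologicalComplex.homologyMap g i))
    (hepi : Epi (HomologicalComplex.homologyMap g (k + 1))) :
    PCoh.IsOfFiniteType P ((mappingCone g).homology k) := by
  have hMB : ∀ i : ℤ, B < i → IsZero ((mappingCone (g ≫ u)).X i) := fun i hi => by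
    rw [mappingCone.isZero_X_iff]
    exact ⟨hGB _ (by lia), hFB _ hi⟩
  have hM : ∀ i : ℤ, k ≤ i → IsObjNPC P (k - i) ((mappingCone (g ≫ u)).X i) := fun i hi =>
    (IsObjNPC.biprod hsum hqs hql (IsObjNPC.of_prop (hGP (i + 1)) _) (hF i hi)).of_iso
      (HomologicalComplex.homotopyCofiber.XIsoBiprod (g ≫ u) i (i + 1) rfl).symm
  have hac : ∀ i : ℤ, k < i → IsZero ((mappingCone (g ≫ u)).homology i) := by
    intro i hi
    refine isZero_homology_mappingCone (g ≫ u) i (i + 1) rfl ?_ ?_
    · rw [HomologicalComplex.homologyMap_comp]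
      have : Epi (HomologicalComplex.homologyMap g i) := by
        rcases (show i = k + 1 ∨ k + 1 < i by lia) with h | h
        · rw [h]; exact hepi
        · have := hiso i h; infer_instance
      exact epi_comp _ _
    · rw [HomologicalComplex.homologyMap_comp]
      have := hiso (i + 1) (by lia)
      exact mono_comp _ _
  have hft := isOfFiniteType_homology_of_termwise hsum hqs hql k _ B hMB hM hac
  have hq := quasiIso_mappingCone_map_comp g u hu
  exact isOfFiniteType_of_iso
    (asIso (HomologicalComplex.homologyMap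
      (mappingCone.map g (g ≫ u) (𝟙 G) u (by rw [Category.id_comp])) k)).symm hft

/-- generalisation of `exists_approximation` -/
theorem exists_approximation_termwise
    (n : ℤ) (E F : CochainComplex C ℤ) (hF : ∀ i : ℤ, n ≤ i → IsObjNPC P (n - i) (F.X i))
    (u : E ⟶ F) (hu : QuasiIso u) (B : ℤ) (hB : ∀ i : ℤ, B < i → IsZero (F.X i)) (d : ℕ) :
    n ≤ B + 1 - d → ∃ (G : CochainComplex C ℤ) (g : G ⟶ E), (∀ i : ℤ, P (G.X i)) ∧
      (∀ i : ℤ, i < B + 1 - d → IsZero (G.X i)) ∧ (∀ i : ℤ, B < i → IsZero (G.X i)) ∧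
      (∀ i : ℤ, B + 1 - d < i → IsIso (HomologicalComplex.homologyMap g i)) ∧
      Epi (HomologicalComplex.homologyMap g (B + 1 - d)) := by
  induction d with
  | zero =>
    intro _
    have hE : ∀ i : ℤ, B < i → IsZero (E.homology i) := fun i hi =>
      IsZero.of_iso (isZero_homology_of_isZero_X F i (hB i hi))
        (asIso (HomologicalComplex.homologyMap u i))
    refine ⟨0, 0, fun i => P.prop_of_isZero (isZero_zero_X i), fun i _ => isZero_zero_X i,
      fun i _ => isZero_zero_X i, fun i hi => ?_, ?_⟩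
    · exact isIso_of_isZero _ (isZero_homology_of_isZero_X _ i (isZero_zero_X i))
        (hE i (by push_cast at hi; lia))
    · exact (hE _ (by push_cast; lia)).epi _
  | succ d ih =>
    intro hd
    obtain ⟨G, g, hGP, hGlow, hGhigh, hiso, hepi⟩ := ih (by push_cast at hd; lia)
    obtain ⟨k, hk⟩ : ∃ k : ℤ, k = B + 1 - ((d + 1 : ℕ) : ℤ) := ⟨_, rfl⟩
    have hk' : B + 1 - (d : ℤ) = k + 1 := by push_cast at hk; lia
    rw [← hk] at hd ⊢
    rw [hk'] at hGlow hiso hepi
    have hcone : PCoh.IsOfFiniteType P ((mappingCone g).homology k) :=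
      isOfFiniteType_homology_mappingCone_termwise hsum hqs hql k g u hu B hGP hGhigh hB
        (fun i hi => (hF i (by lia)).mono (by lia)) hiso hepi
    obtain ⟨G', v, g', hvg, _, hviso, hcok, hiso', hepi'⟩ :=
      exists_modification hql k G E g hiso hepi hcone
    have hGk : IsZero (G.X k) := hGlow k (by lia)
    have hv0 : v.f k = 0 := hGk.eq_of_src _ _
    have hπ : IsIso (cokernel.π (v.f k)) := by
      rw [hv0]; infer_instance
    have hX : ∀ i : ℤ, i ≠ k → (G.X i ≅ G'.X i) := fun i hi => by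
      have := hviso i hi
      exact asIso (v.f i)
    refine ⟨G', g', fun i => ?_, fun i hi => ?_, fun i hi => ?_, hiso', hepi'⟩
    · by_cases hik : i = k
      · subst hik
        exact P.prop_of_iso (asIso (cokernel.π (v.f i))).symm hcok
      · exact P.prop_of_iso (hX i hik) (hGP i)
    · exact IsZero.of_iso (hGlow i (by lia)) (hX i (by lia)).symm
    · exact IsZero.of_iso (hGhigh i hi) (hX i (by lia)).symm

/-- S5619 -/
theorem isNPC_of_termwise (n : ℤ) (F : CochainComplex C ℤ) (b : ℤ)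
    (hb : ∀ i : ℤ, b < i → IsZero (F.X i))
    (hfp : ∀ i : ℤ, n ≤ i → IsObjNPC P (n - i) (F.X i)) : IsNPC P n ((dQ C).obj F) := by
  obtain ⟨B, hB⟩ : ∃ B : ℤ, B = max b (n - 1) := ⟨_, rfl⟩
  have hB1 : b ≤ B := hB ▸ le_max_left _ _
  have hB2 : n - 1 ≤ B := hB ▸ le_max_right _ _
  obtain ⟨d, hd⟩ : ∃ d : ℕ, (d : ℤ) = B + 1 - n := ⟨(B + 1 - n).toNat, by lia⟩
  obtain ⟨G, g, hGP, hGlow, hGhigh, hiso, hepi⟩ :=
    exists_approximation_termwise hsum hqs hql n F F hfp (𝟙 _) inferInstance B
      (fun i hi => hb i (by lia)) d (by lia)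
  have hn : B + 1 - (d : ℤ) = n := by lia
  rw [hn] at hiso hepi
  refine IsNPC.of_nIso P n G ⟨⟨B, hGhigh⟩, fun i _ => hGP i⟩ _ ((dQ C).map g)
    (fun i hi => (isIso_dH_map_Q_iff g i).2 (hiso i hi)) ((epi_dH_map_Q_iff g n).2 hepi)

end Groth.Agent.Helper53.PCoh
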