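import Groth.Agent.Lib.Helper53.PCohCrit
import Mathlib.Algebra.Homology.DerivedCategory.KProjective

set_option autoImplicit false
universe w v u
open CategoryTheory CategoryTheory.Limits CochainComplex HomComplex Pretriangulated ZeroObject

namespace Groth.Agent.Helper53.PCoh

variable {C : Type u} [Category.{v} C] [Abelian C]

/-- if every epimorphism onto `X` splits, `X` is projective -/
lemma projective_of_isSplitEpi (X : C) (h : ∀ (E : C) (u : E ⟶ X), Epi u → IsSplitEpi u) :
    Projective X where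
  factors {E Y} f e _ := by
    have hs := h _ (pullback.snd e f) inferInstance
    refine ⟨section_ (pullback.snd e f) ≫ pullback.fst e f, ?_⟩
    rw [Category.assoc, pullback.condition, ← Category.assoc, IsSplitEpi.id, Category.id_comp]

variable (P : ObjectProperty C)
  (hlift : ∀ (E F : C) (u : E ⟶ F), Epi u → P F → IsSplitEpi u)

include hlift in
lemma projective_of_prop (X : C) (hX : P X) : Projective X :=
  projective_of_isSplitEpi X (fun E u hu => hlift E X u hu hX)

include hlift in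
/-- bounded above complexes with terms in a liftable class are K-projective -/
lemma isKProjective_of_prop (E : CochainComplex C ℤ) (b : ℤ) (hb : ∀ i : ℤ, b < i → IsZero (E.X i))
    (hP : ∀ i : ℤ, P (E.X i)) : E.IsKProjective := by
  have : E.IsStrictlyLE b := by
    rw [isStrictlyLE_iff]
    exact hb
  have : ∀ n : ℤ, Projective (E.X n) := fun n => projective_of_prop P hlift _ (hP n)
  exact isKProjective_of_projective E b

variable [HasDerivedCategory.{w} C]

/-- morphisms in `D(C)` out of a K-projective complex are represented by chain maps -/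
lemma exists_chain_map_of_isKProjective (K L : CochainComplex C ℤ) [K.IsKProjective]
    (α : (dQ C).obj K ⟶ (dQ C).obj L) : ∃ φ : K ⟶ L, (dQ C).map φ = α := by
  obtain ⟨g, hg⟩ := (IsKProjective.Qh_map_bijective K
    ((HomotopyCategory.quotient C (ComplexShape.up ℤ)).obj L)).surjective
    ((DerivedCategory.quotientCompQhIso C).hom.app K ≫ α ≫
      (DerivedCategory.quotientCompQhIso C).inv.app L)
  obtain ⟨φ, rfl⟩ := (HomotopyCategory.quotient _ _).map_surjective g
  refine ⟨φ, ?_⟩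
  have h := (DerivedCategory.quotientCompQhIso C).hom.naturality φ
  rw [← cancel_epi ((DerivedCategory.quotientCompQhIso C).hom.app K), ← h]
  change DerivedCategory.Qh.map ((HomotopyCategory.quotient C (ComplexShape.up ℤ)).map φ) ≫ _ = _
  rw [hg]
  simp

variable [P.IsClosedUnderIsomorphisms] (hsum : ∀ X Y : C, P X → P Y → P (X ⨯ Y))

include hlift hsum in
/-- S5609 -/
theorem exists_strictlyPerfect_obj₃ (T : Triangle (DerivedCategory C))
    (hT : T ∈ distTriang (DerivedCategory C))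
    (h₁ : ∃ (E : CochainComplex C ℤ) (a b : ℤ), (∀ i : ℤ, i < a ∨ b < i → IsZero (E.X i)) ∧
      (∀ i : ℤ, P (E.X i)) ∧ Nonempty ((dQ C).obj E ≅ T.obj₁))
    (h₂ : ∃ (E : CochainComplex C ℤ) (a b : ℤ), (∀ i : ℤ, i < a ∨ b < i → IsZero (E.X i)) ∧
      (∀ i : ℤ, P (E.X i)) ∧ Nonempty ((dQ C).obj E ≅ T.obj₂)) :
    ∃ (E : CochainComplex C ℤ) (a b : ℤ), (∀ i : ℤ, i < a ∨ b < i → IsZero (E.X i)) ∧
      (∀ i : ℤ, P (E.X i)) ∧ Nonempty ((dQ C).obj E ≅ T.obj₃) := by
  obtain ⟨E₁, a₁, b₁, hv₁, hP₁, ⟨e₁⟩⟩ := h₁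
  obtain ⟨E₂, a₂, b₂, hv₂, hP₂, ⟨e₂⟩⟩ := h₂
  have := isKProjective_of_prop P hlift E₁ b₁ (fun i hi => hv₁ i (Or.inr hi)) hP₁
  obtain ⟨φ, hφ⟩ := exists_chain_map_of_isKProjective E₁ E₂ (e₁.hom ≫ T.mor₁ ≫ e₂.inv)
  refine ⟨mappingCone φ, min (a₁ - 1) a₂, max b₁ b₂, fun i hi => ?_, fun i => ?_, ⟨?_⟩⟩
  · rw [mappingCone.isZero_X_iff]
    rcases hi with hi | hi
    · exact ⟨hv₁ _ (Or.inl (by have := min_le_left (a₁ - 1) a₂; lia)),
        hv₂ _ (Or.inl (by have := min_le_right (a₁ - 1) a₂; lia))⟩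
    · exact ⟨hv₁ _ (Or.inr (by have := le_max_left b₁ b₂; lia)),
        hv₂ _ (Or.inr (by have := le_max_right b₁ b₂; lia))⟩
  · exact prop_mappingCone_X P hsum φ i (hP₁ _) (hP₂ _)
  · refine Triangle.π₃.mapIso (isoTriangleOfIso₁₂ _ _
      (DerivedCategory.mappingCone_triangle_distinguished φ) hT e₁ e₂ ?_)
    change (dQ C).map φ ≫ e₂.hom = e₁.hom ≫ T.mor₁
    rw [hφ]
    simp

end Groth.Agent.Helper53.PCoh
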