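import Groth.Agent.Lib.Helper53.PCohModify
import Groth.Agent.S5602

set_option autoImplicit false
universe w v u
open CategoryTheory CategoryTheory.Limits CochainComplex HomComplex Pretriangulated ZeroObject

namespace Groth.Agent.Helper53.PCoh

variable {C : Type u} [Category.{v} C] [Abelian C]

/-- the cone of a quasi-isomorphism is acyclic in the homotopy category -/
lemma subcategoryAcyclic_mappingCone_of_quasiIso {E F : CochainComplex C ℤ} (u : E ⟶ F)
    (hu : QuasiIso u) :
    HomotopyCategory.subcategoryAcyclic C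
      ((HomotopyCategory.quotient C (ComplexShape.up ℤ)).obj (mappingCone u)) := by
  have h := (HomotopyCategory.subcategoryAcyclic C).trW_iff_of_distinguished _
    (HomotopyCategory.mappingCone_triangleh_distinguished u)
  refine h.1 ?_
  rw [← HomotopyCategory.quasiIso_eq_trW_subcategoryAcyclic]
  exact (HomotopyCategory.quotient_map_mem_quasiIso_iff u).2 hu

/-- If `u` is a quasi-isomorphism then `cone g ⟶ cone (g ≫ u)` is a quasi-isomorphism. -/
lemma quasiIso_mappingCone_map_comp {G E F : CochainComplex C ℤ} (g : G ⟶ E) (u : E ⟶ F)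
    (hu : QuasiIso u) :
    QuasiIso (mappingCone.map g (g ≫ u) (𝟙 G) u (by rw [Category.id_comp])) := by
  refine (HomotopyCategory.quotient_map_mem_quasiIso_iff _).1 ?_
  rw [HomotopyCategory.quasiIso_eq_trW_subcategoryAcyclic]
  exact ObjectProperty.trW.mk _ (HomotopyCategory.mappingConeCompTriangleh_distinguished g u)
    (subcategoryAcyclic_mappingCone_of_quasiIso u hu)

/-- cone version of `mappingCocone_exactAt` -/
lemma isZero_homology_mappingCone {E F : CochainComplex C ℤ} (u : E ⟶ F) (i j : ℤ)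
    (hij : i + 1 = j) (hepi : Epi (HomologicalComplex.homologyMap u i))
    (hmono : Mono (HomologicalComplex.homologyMap u j)) :
    IsZero ((mappingCone u).homology i) := by
  have h := mappingCocone_exactAt u i j hij hepi hmono
  rw [HomologicalComplex.exactAt_iff_isZero_homology] at h
  exact IsZero.of_iso h (mappingCoconeHomologyIso u i j hij).symm

lemma prop_biprod (P : ObjectProperty C) [P.IsClosedUnderIsomorphisms]
    (hsum : ∀ X Y : C, P X → P Y → P (X ⨯ Y)) {X Y : C} (hX : P X) (hY : P Y) : P (X ⊞ Y) :=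
  P.prop_of_iso (biprod.isoProd X Y).symm (hsum X Y hX hY)

lemma prop_mappingCone_X (P : ObjectProperty C) [P.IsClosedUnderIsomorphisms]
    (hsum : ∀ X Y : C, P X → P Y → P (X ⨯ Y)) {G F : CochainComplex C ℤ} (φ : G ⟶ F) (i : ℤ)
    (hG : P (G.X (i + 1))) (hF : P (F.X i)) : P ((mappingCone φ).X i) :=
  P.prop_of_iso (HomologicalComplex.homotopyCofiber.XIsoBiprod φ i (i + 1) rfl).symm (prop_biprod P hsum hG hF)

/-- the cone of a map from a strictly `(n+1)`-pc complex to a strictly `n`-pc complex is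
strictly `n`-pc -/
lemma isStrictPC_mappingCone (P : ObjectProperty C) [P.IsClosedUnderIsomorphisms]
    (hsum : ∀ X Y : C, P X → P Y → P (X ⨯ Y)) (n : ℤ) {G F : CochainComplex C ℤ} (φ : G ⟶ F)
    (hG : PCoh.IsStrictPC P (n + 1) G) (hF : PCoh.IsStrictPC P n F) :
    PCoh.IsStrictPC P n (mappingCone φ) := by
  obtain ⟨⟨b₁, hb₁⟩, hP₁⟩ := hG
  obtain ⟨⟨b₂, hb₂⟩, hP₂⟩ := hF
  refine ⟨⟨max b₁ b₂, fun i hi => ?_⟩, fun i hi => ?_⟩
  · rw [mappingCone.isZero_X_iff]
    exact ⟨hb₁ _ (by have := le_max_left b₁ b₂; lia), hb₂ _ (by have := le_max_right b₁ b₂; lia)⟩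
  · exact prop_mappingCone_X P hsum φ i (hP₁ _ (by lia)) (hP₂ _ hi)

lemma isIso_of_isZero {X Y : C} (f : X ⟶ Y) (hX : IsZero X) (hY : IsZero Y) : IsIso f :=
  ⟨⟨0, hX.eq_of_src _ _, hY.eq_of_src _ _⟩⟩

lemma isZero_zero_X (i : ℤ) : IsZero ((0 : CochainComplex C ℤ).X i) :=
  (HomologicalComplex.eval C (ComplexShape.up ℤ) i).map_isZero (isZero_zero _)

lemma isZero_homology_of_isZero_X (K : CochainComplex C ℤ) (i : ℤ) (h : IsZero (K.X i)) :
    IsZero (K.homology i) := by
  rw [← HomologicalComplex.exactAt_iff_isZero_homology]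
  exact HomologicalComplex.ExactAt.of_isZero h

/-- finite type of `H^k(cone g)` when `u` is a quasi-iso to a strictly pc complex -/
lemma isOfFiniteType_homology_mappingCone (P : ObjectProperty C) [P.IsClosedUnderIsomorphisms]
    (hsum : ∀ X Y : C, P X → P Y → P (X ⨯ Y)) (hqs : PCoh.IsQuasiStableUnderKernels P)
    (k : ℤ) {G E F : CochainComplex C ℤ} (g : G ⟶ E) (u : E ⟶ F) (hu : QuasiIso u)
    (hG : PCoh.IsStrictPC P (k + 1) G) (hF : PCoh.IsStrictPC P k F)
    (hiso : ∀ i : ℤ, k + 1 < i → IsIso (HomologicalComplex.homologyMap g i))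
    (hepi : Epi (HomologicalComplex.homologyMap g (k + 1))) :
    PCoh.IsOfFiniteType P ((mappingCone g).homology k) := by
  have hM := isStrictPC_mappingCone P hsum k (g ≫ u) hG hF
  have hac : ∀ i : ℤ, k < i → IsZero ((mappingCone (g ≫ u)).homology i) := by
    intro i hi
    refine isZero_homology_mappingCone (g ≫ u) i (i + 1) rfl ?_ ?_
    · rw [HomologicalComplex.homologyMap_comp]
      have : Epi (HomologicalComplex.homologyMap g i) := by
        rcases (show i = k + 1 ∨ k + 1 < i by lia) with h | h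
        · rw [h]; exact hepi
        · have := hiso i h; infer_instance
      exact epi_comp _ _
    · rw [HomologicalComplex.homologyMap_comp]
      have := hiso (i + 1) (by lia)
      exact mono_comp _ _
  have hft := Groth.Agent.S5602.result P hqs k _ hM hac
  have hq := quasiIso_mappingCone_map_comp g u hu
  exact isOfFiniteType_of_iso
    (asIso (HomologicalComplex.homologyMap
      (mappingCone.map g (g ≫ u) (𝟙 G) u (by rw [Category.id_comp])) k)).symm hft

/-- Downward induction: approximating `E` (quasi-isomorphic to the strictly `n`-pc `F`) by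
bounded complexes with terms in `P`. -/
theorem exists_approximation (P : ObjectProperty C) [P.IsClosedUnderIsomorphisms]
    [P.ContainsZero] (hsum : ∀ X Y : C, P X → P Y → P (X ⨯ Y))
    (hqs : PCoh.IsQuasiStableUnderKernels P) (hql : PCoh.IsQuasiLiftable P)
    (n : ℤ) (E F : CochainComplex C ℤ) (hPF : ∀ i : ℤ, n ≤ i → P (F.X i)) (u : E ⟶ F)
    (hu : QuasiIso u) (B : ℤ) (hB : ∀ i : ℤ, B < i → IsZero (F.X i)) (d : ℕ) :
    n ≤ B + 1 - d → ∃ (G : CochainComplex C ℤ) (g : G ⟶ E), (∀ i : ℤ, P (G.X i)) ∧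
      (∀ i : ℤ, i < B + 1 - d → IsZero (G.X i)) ∧ (∀ i : ℤ, B < i → IsZero (G.X i)) ∧
      (∀ i : ℤ, B + 1 - d < i → IsIso (HomologicalComplex.homologyMap g i)) ∧
      Epi (HomologicalComplex.homologyMap g (B + 1 - d)) := by
  induction d with
  | zero =>
    intro _
    have hE : ∀ i : ℤ, B < i → IsZero (E.homology i) := fun i hi =>
      IsZero.of_iso (isZero_homology_of_isZero_X F i (hB i hi))
        (asIso (HomologicalComplex.homologyMap u i))
    refine ⟨0, 0, fun i => P.prop_of_isZero (isZero_zero_X i), fun i _ => isZero_zero_X i,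
      fun i _ => isZero_zero_X i, fun i hi => ?_, ?_⟩
    · exact isIso_of_isZero _ (isZero_homology_of_isZero_X _ i (isZero_zero_X i))
        (hE i (by push_cast at hi; lia))
    · exact (hE _ (by push_cast; lia)).epi _
  | succ d ih =>
    intro hd
    obtain ⟨G, g, hGP, hGlow, hGhigh, hiso, hepi⟩ := ih (by push_cast at hd; lia)
    obtain ⟨k, hk⟩ : ∃ k : ℤ, k = B + 1 - ((d + 1 : ℕ) : ℤ) := ⟨_, rfl⟩
    have hk' : B + 1 - (d : ℤ) = k + 1 := by push_cast at hk; lia
    rw [← hk] at hd ⊢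
    rw [hk'] at hGlow hiso hepi
    have hcone : PCoh.IsOfFiniteType P ((mappingCone g).homology k) :=
      isOfFiniteType_homology_mappingCone P hsum hqs k g u hu
        ⟨⟨B, hGhigh⟩, fun i _ => hGP i⟩ ⟨⟨B, hB⟩, fun i hi => hPF i (by lia)⟩ hiso hepi
    obtain ⟨G', v, g', hvg, _, hviso, hcok, hiso', hepi'⟩ :=
      exists_modification hql k G E g hiso hepi hcone
    have hGk : IsZero (G.X k) := hGlow k (by lia)
    have hv0 : v.f k = 0 := hGk.eq_of_src _ _
    have hπ : IsIso (cokernel.π (v.f k)) := by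
      rw [hv0]; infer_instance
    have hX : ∀ i : ℤ, i ≠ k → (G.X i ≅ G'.X i) := fun i hi => by
      have := hviso i hi
      exact asIso (v.f i)
    refine ⟨G', g', fun i => ?_, fun i hi => ?_, fun i hi => ?_, hiso', hepi'⟩
    · by_cases hik : i = k
      · subst hik
        exact P.prop_of_iso (asIso (cokernel.π (v.f i))).symm hcok
      · exact P.prop_of_iso (hX i hik) (hGP i)
    · exact IsZero.of_iso (hGlow i (by lia)) (hX i (by lia)).symm
    · exact IsZero.of_iso (hGhigh i hi) (hX i (by lia)).symm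

/-- S5597: lifting strict `n`-pseudo-coherence along a quasi-isomorphism. -/
theorem exists_strictPC_quasiIso_to (P : ObjectProperty C) [P.IsClosedUnderIsomorphisms]
    [P.ContainsZero] (hsum : ∀ X Y : C, P X → P Y → P (X ⨯ Y))
    (hqs : PCoh.IsQuasiStableUnderKernels P) (hql : PCoh.IsQuasiLiftable P)
    (n : ℤ) (E F : CochainComplex C ℤ) (hF : PCoh.IsStrictPC P n F) (u : E ⟶ F)
    (hu : QuasiIso u) :
    ∃ (F' : CochainComplex C ℤ) (v : F' ⟶ E), PCoh.IsStrictPC P n F' ∧ QuasiIso v := by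
  obtain ⟨⟨b, hb⟩, hPF⟩ := hF
  obtain ⟨B, hB⟩ : ∃ B : ℤ, B = max b (n - 1) := ⟨_, rfl⟩
  have hB1 : b ≤ B := hB ▸ le_max_left _ _
  have hB2 : n - 1 ≤ B := hB ▸ le_max_right _ _
  obtain ⟨d, hd⟩ : ∃ d : ℕ, (d : ℤ) = B + 1 - n := ⟨(B + 1 - n).toNat, by lia⟩
  obtain ⟨G, g, hGP, hGlow, hGhigh, hiso, hepi⟩ :=
    exists_approximation P hsum hqs hql n E F hPF u hu B (fun i hi => hb i (by lia)) d (by lia)
  have hn : B + 1 - (d : ℤ) = n := by lia
  rw [hn] at hiso hepi
  obtain ⟨E', v, u', _, hu', _, hviso⟩ := exists_factorisation n G E g hiso hepi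
  refine ⟨E', u', ⟨⟨B, fun i hi => ?_⟩, fun i hi => ?_⟩, hu'⟩
  · have := hviso i (by lia)
    exact IsZero.of_iso (hGhigh i hi) (asIso (v.f i)).symm
  · have := hviso i hi
    exact P.prop_of_iso (asIso (v.f i)) (hGP i)

end Groth.Agent.Helper53.PCoh
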