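import Groth.Agent.S9964
import Groth.Agent.S9971
import Groth.Agent.S9974
import Groth.Agent.S10519
import Groth.Agent.S10531
import Groth.Agent.S10506
import Groth.Agent.Lib.Helper30.AlgSpMor
import Groth.Agent.Lib.Helper78.AlgSpPostcomp
import Groth.Agent.Lib.Helper78.AlgSpFibre

/-!
# Quasi-compact immersions of algebraic spaces are fpqc local on the base.  By helper53.
The argument of the reference: quasi-compactness descends; take the scheme theoretic image `Z` of `f`;
its formation commutes with the flat base changes `Y i ⟶ Y`; over each `Y i` the map to the scheme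
theoretic image is an open immersion; open immersions descend.
-/

set_option autoImplicit false
set_option linter.style.haveILetI false
universe u
open CategoryTheory CategoryTheory.Limits AlgebraicGeometry Opposite

namespace Groth.Agent.Helper53.QcImmFpqc

open AlgSp
open Groth.Agent.Lib.Helper30

variable {S : Scheme.{u}}

theorem repWith_isImmersion_of_isClosedImmersion' {F G : Sp S} {f : F ⟶ G}
    (h : RepWith @IsClosedImmersion f) : RepWith @IsImmersion f := by
  refine MorphismProperty.relative_monotone ?_ _ h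
  intro A B k hk
  have : IsClosedImmersion k.left := hk
  show IsImmersion k.left
  infer_instance

theorem repWith_isImmersion_of_isOpenImmersion' {F G : Sp S} {f : F ⟶ G}
    (h : RepWith @IsOpenImmersion f) : RepWith @IsImmersion f := by
  refine MorphismProperty.relative_monotone ?_ _ h
  intro A B k hk
  have : IsOpenImmersion k.left := hk
  show IsImmersion k.left
  infer_instance

theorem qcImm_of_fpqc_cover {ι : Type u} {Y : Sp S} (Yi : ι → Sp S) (g : ∀ i, Yi i ⟶ Y)
    (hY : IsAlgSpace Y) (hYi : ∀ i, IsAlgSpace (Yi i)) (hcov : IsFpqcCover Yi g)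
    {X : Sp S} (f : X ⟶ Y) (hX : IsAlgSpace X)
    (Xi : ι → Sp S) (p : ∀ i, Xi i ⟶ Yi i) (q : ∀ i, Xi i ⟶ X)
    (hXi : ∀ i, IsAlgSpace (Xi i)) (sq : ∀ i, IsPullback (q i) (p i) f (g i))
    (H : ∀ i, RepWith (@IsImmersion ⊓ @QuasiCompact) (p i)) :
    RepWith (@IsImmersion ⊓ @QuasiCompact) f := by
  have hpimm : ∀ i, RepWith @IsImmersion (p i) := fun i =>
    ⟨(H i).1, fun _ _ a fst snd s => ((H i).2 a fst snd s).1⟩
  have hpqc : ∀ i, RepWith @QuasiCompact (p i) := fun i =>
    ⟨(H i).1, fun _ _ a fst snd s => ((H i).2 a fst snd s).2⟩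
  have hpqcm : ∀ i, IsQuasiCompactMor (p i) := fun i => isQuasiCompactMor_of_repWith (hpqc i)
  have hfqc : IsQuasiCompactMor f :=
    ((Groth.Agent.S10519.result S) Yi g hY hYi hcov f hX Xi p q hXi sq).2 hpqcm
  -- scheme theoretic image
  let Xs : Space S := ⟨X, hX⟩
  let Ys : Space S := ⟨Y, hY⟩
  let fs : Xs ⟶ Ys := ObjectProperty.homMk f
  obtain ⟨Zs, is, hZ⟩ := Groth.Agent.S9964.result fs
  have hZ' : IsSchImage f is.hom := hZ
  obtain ⟨f', hf'⟩ := hZ'.2.1
  -- the pieces
  have sqZ : ∀ k, IsPullback (pullback.fst is.hom (g k)) (pullback.snd is.hom (g k)) is.hom (g k) :=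
    fun k => IsPullback.of_hasPullback _ _
  have hZk : ∀ k, IsAlgSpace (pullback is.hom (g k)) := fun k =>
    Groth.Agent.Lib.Helper78.AlgSpFibre.isAlgSpace_of_isPullback (sqZ k) hY.diag Zs.property (hYi k)
  let Yis : ι → Space S := fun k => ⟨Yi k, hYi k⟩
  let Xis : ι → Space S := fun k => ⟨Xi k, hXi k⟩
  let Zks : ι → Space S := fun k => ⟨pullback is.hom (g k), hZk k⟩
  let gs : ∀ k, Yis k ⟶ Ys := fun k => ObjectProperty.homMk (g k)
  let ps : ∀ k, Xis k ⟶ Yis k := fun k => ObjectProperty.homMk (p k)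
  let qs : ∀ k, Xis k ⟶ Xs := fun k => ObjectProperty.homMk (q k)
  let i1s : ∀ k, Zks k ⟶ Zs := fun k => ObjectProperty.homMk (pullback.fst is.hom (g k))
  let iXs : ∀ k, Zks k ⟶ Yis k := fun k => ObjectProperty.homMk (pullback.snd is.hom (g k))
  have hIm : ∀ k, IsSchImage (p k) (pullback.snd is.hom (g k)) := fun k =>
    Groth.Agent.S9974.result (gs k) (hcov.1 k) fs hfqc is hZ (qs k) (ps k) (sq k) (i1s k) (iXs k) (sqZ k)
  have hw : ∀ k, (q k ≫ f') ≫ is.hom = p k ≫ g k := fun k => by
    rw [Category.assoc, hf', (sq k).w]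
  let lft : ∀ k, Xi k ⟶ pullback is.hom (g k) := fun k => pullback.lift (q k ≫ f') (p k) (hw k)
  have hl1 : ∀ k, lft k ≫ pullback.fst is.hom (g k) = q k ≫ f' := fun k => pullback.lift_fst _ _ _
  have hl2 : ∀ k, lft k ≫ pullback.snd is.hom (g k) = p k := fun k => pullback.lift_snd _ _ _
  let lfts : ∀ k, Xis k ⟶ Zks k := fun k => ObjectProperty.homMk (lft k)
  have hopen : ∀ k, RepWith @IsOpenImmersion (lft k) := fun k =>
    (Groth.Agent.S9971.result (ps k) (hpimm k) (Or.inl (hpqcm k)) (iXs k) (hIm k) (lfts k)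
      (by apply ObjectProperty.hom_ext; exact hl2 k)).1
  have sqX : ∀ k, IsPullback (q k) (lft k) f' (pullback.fst is.hom (g k)) := fun k => by
    refine IsPullback.of_bot ?_ (hl1 k).symm (sqZ k)
    rw [hl2, hf']
    exact sq k
  -- the cover of Z
  have hcovZ : IsFpqcCover (fun k => pullback is.hom (g k)) (fun k => pullback.fst is.hom (g k)) :=
    Groth.Agent.S10506.result is Yis gs Zks i1s iXs sqZ hcov
  have hf'open : RepWith @IsOpenImmersion f' :=
    ((Groth.Agent.S10531.result S) (fun k => pullback is.hom (g k))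
      (fun k => pullback.fst is.hom (g k)) Zs.property hZk hcovZ f' hX Xi lft q hXi sqX).2 hopen
  have himm : RepWith @IsImmersion f := by
    have := (repWith_isMultiplicative (S := S) @IsImmersion).comp_mem _ _
      (repWith_isImmersion_of_isOpenImmersion' hf'open)
      (repWith_isImmersion_of_isClosedImmersion' hZ'.1)
    rwa [hf'] at this
  have hqc : RepWith @QuasiCompact f :=
    ⟨himm.1, fun _ _ a fst snd s => quasiCompact_of_isQuasiCompactMor hfqc a fst snd s⟩
  exact Groth.Agent.Lib.Helper78.AlgSpPostcomp.repWith_inf himm hqc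

end Groth.Agent.Helper53.QcImmFpqc
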