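import Mathlib
import Groth.Agent.Lib.Helper53.ExtFilteredShift
import Groth.Agent.Lib.Helper47.RDerLES

/-!
# Right derived functors and filtered colimits: dimension shifting

If `R⁰F` commutes with `Λ`-indexed filtered colimits and `Λ`-indexed colimits of injectives are
`F`-acyclic, then every `RⁿF` commutes with `Λ`-indexed colimits.
-/

set_option autoImplicit false
universe u v' v''

open CategoryTheory CategoryTheory.Limits Opposite

namespace Groth.Agent.Helper53.RDerColim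

open Groth.Agent.Helper53.ExtColim

section General

variable {ℬ : Type v''} [Category.{u} ℬ] [Abelian ℬ]

/-- exactness of a short complex of functors can be checked pointwise. -/
lemma functor_exact_of_app {I : Type*} [Category I] (T : ShortComplex (I ⥤ ℬ))
    (h : ∀ j : I, (T.map ((evaluation I ℬ).obj j)).Exact) : T.Exact := by
  rw [ShortComplex.exact_iff_isZero_homology]
  apply Functor.isZero
  intro j
  have e := T.mapHomologyIso ((evaluation I ℬ).obj j)
  exact IsZero.of_iso ((ShortComplex.exact_iff_isZero_homology _).1 (h j)) e.symm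

/-- comparison of two right exact sequences. -/
lemma isIso_of_cokernel_comparison (SX SY : ShortComplex ℬ) (hX : SX.Exact) (hY : SY.Exact)
    [Epi SX.g] [Epi SY.g] (φ : SX ⟶ SY) [Epi φ.τ₁] [IsIso φ.τ₂] : IsIso φ.τ₃ := by
  have h0 : SY.f ≫ inv φ.τ₂ ≫ SX.g = 0 := by
    rw [← cancel_epi φ.τ₁, φ.comm₁₂_assoc, IsIso.hom_inv_id_assoc, SX.zero, comp_zero]
  refine ⟨hY.desc (inv φ.τ₂ ≫ SX.g) h0, ?_, ?_⟩
  · rw [← cancel_epi SX.g, ← φ.comm₂₃_assoc, hY.g_desc, IsIso.hom_inv_id_assoc, Category.comp_id]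
  · rw [← cancel_epi SY.g, hY.g_desc_assoc, Category.assoc, ← φ.comm₂₃, IsIso.inv_hom_id_assoc,
      Category.comp_id]

end General

section Shift

variable {𝒜 : Type v'} [Category.{u} 𝒜] [Abelian 𝒜] [IsGrothendieckAbelian.{u} 𝒜]
variable {ℬ : Type v''} [Category.{u} ℬ] [Abelian ℬ] [IsGrothendieckAbelian.{u} ℬ]
variable (F : 𝒜 ⥤ ℬ) [F.Additive] (Δ : RDer.DerivedLES F)
variable {Λ : Type u} [SmallCategory Λ] [IsFiltered Λ]

/-- the connecting maps as a natural transformation. -/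
noncomputable def δNat (D : Λ ⥤ 𝒜) (q : ℕ) :
    quo D ⋙ F.rightDerived q ⟶ D ⋙ F.rightDerived (q + 1) where
  app i := Δ.δ (sAt D i) (sAt_shortExact D i) q (q + 1) rfl
  naturality i j f :=
    Δ.δ_natural (sAt_shortExact D i) (sAt_shortExact D j) (sAtMap D f) q (q + 1) rfl

/-- the sequence of diagrams `RᵠF(I(D)) ⟶ RᵠF(I(D)/D) ⟶ Rᵠ⁺¹F(D)`. -/
noncomputable def sDiag (D : Λ ⥤ 𝒜) (q : ℕ) : ShortComplex (Λ ⥤ ℬ) :=
  ShortComplex.mk (Functor.whiskerRight (cokernel.π (emb D)) (F.rightDerived q)) (δNat F Δ D q) (by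
    ext i
    exact Δ.comp_δ (sAt D i) (sAt_shortExact D i) q (q + 1) rfl)

lemma sDiag_exact (D : Λ ⥤ 𝒜) (q : ℕ) : (sDiag F Δ D q).Exact :=
  functor_exact_of_app _ (fun i => Δ.exact₃ (sAt D i) (sAt_shortExact D i) q (q + 1) rfl)

lemma epi_δ_of_isZero {S : ShortComplex 𝒜} (hS : S.ShortExact) (q : ℕ)
    (h : IsZero ((F.rightDerived (q + 1)).obj S.X₂)) : Epi (Δ.δ S hS q (q + 1) rfl) :=
  (Δ.exact₁ S hS q (q + 1) rfl).epi_f (h.eq_of_tgt _ _)

instance epi_sDiag_g (D : Λ ⥤ 𝒜) (q : ℕ) : Epi (sDiag F Δ D q).g := by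
  have : ∀ i, Epi ((sDiag F Δ D q).g.app i) := fun i =>
    epi_δ_of_isZero F Δ (sAt_shortExact D i) q
      (Functor.isZero_rightDerived_obj_injective_succ F q _)
  exact NatTrans.epi_of_epi_app _

/-- the bottom row `RᵠF(colim I(D)) ⟶ RᵠF(colim I(D)/D) ⟶ Rᵠ⁺¹F(colim D)`. -/
noncomputable def sBot (D : Λ ⥤ 𝒜) (q : ℕ) : ShortComplex ℬ :=
  ShortComplex.mk ((F.rightDerived q).map (sColim D).g)
    (Δ.δ (sColim D) (sColim_shortExact D) q (q + 1) rfl)
    (Δ.comp_δ (sColim D) (sColim_shortExact D) q (q + 1) rfl)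

/-- the comparison of the two rows. -/
noncomputable def rowMap (D : Λ ⥤ 𝒜) (q : ℕ) : (sDiag F Δ D q).map colim ⟶ sBot F Δ D q where
  τ₁ := colimit.post (D ⋙ injF 𝒜) (F.rightDerived q)
  τ₂ := colimit.post (quo D) (F.rightDerived q)
  τ₃ := colimit.post D (F.rightDerived (q + 1))
  comm₁₂ := by
    apply colimit.hom_ext
    intro i
    change colimit.ι _ i ≫ colimit.post (D ⋙ injF 𝒜) (F.rightDerived q) ≫
        (F.rightDerived q).map (colimMap (cokernel.π (emb D))) =
      colimit.ι _ i ≫ colimMap (Functor.whiskerRight (cokernel.π (emb D)) (F.rightDerived q)) ≫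
        colimit.post (quo D) (F.rightDerived q)
    rw [ι_colimMap_assoc, colimit.ι_post, colimit.ι_post_assoc, ← Functor.map_comp, ι_colimMap,
      Functor.map_comp]
    rfl
  comm₂₃ := by
    apply colimit.hom_ext
    intro i
    have e1 : colimit.ι (quo D ⋙ F.rightDerived q) i ≫
        colimit.post (quo D) (F.rightDerived q) =
          (F.rightDerived q).map (colimit.ι (quo D) i) := colimit.ι_post _ _ _
    have e2 : colimit.ι (quo D ⋙ F.rightDerived q) i ≫ colimMap (δNat F Δ D q) ≫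
        colimit.post D (F.rightDerived (q + 1)) =
          (δNat F Δ D q).app i ≫ (F.rightDerived (q + 1)).map (colimit.ι D i) := by
      rw [ι_colimMap_assoc, colimit.ι_post]
    refine Eq.trans ?_ e2.symm
    refine (Category.assoc _ _ _).symm.trans ?_
    exact (congrArg (fun x => x ≫ Δ.δ (sColim D) (sColim_shortExact D) q (q + 1) rfl) e1).trans
      (Δ.δ_natural (sAt_shortExact D i) (sColim_shortExact D) (sAtToColim D i) q (q + 1) rfl)

include Δ

/-- dimension shifting. -/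
theorem isIso_post_succ (q : ℕ)
    (hq : ∀ D : Λ ⥤ 𝒜, IsIso (colimit.post D (F.rightDerived q)))
    (hacyc : ∀ D : Λ ⥤ 𝒜, (∀ i, Injective (D.obj i)) →
      IsZero ((F.rightDerived (q + 1)).obj (colimit D))) (D : Λ ⥤ 𝒜) :
    IsIso (colimit.post D (F.rightDerived (q + 1))) := by
  have hinjD : ∀ i, Injective ((D ⋙ injF 𝒜).obj i) := fun i =>
    inferInstanceAs (Injective ((injF 𝒜).obj (D.obj i)))
  have h1 : ((sDiag F Δ D q).map colim).Exact := (sDiag_exact F Δ D q).map colim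
  have h2 : (sBot F Δ D q).Exact := Δ.exact₃ (sColim D) (sColim_shortExact D) q (q + 1) rfl
  have : Epi ((sDiag F Δ D q).map colim).g :=
    inferInstanceAs (Epi (colim.map (sDiag F Δ D q).g))
  have : Epi (sBot F Δ D q).g :=
    epi_δ_of_isZero F Δ (sColim_shortExact D) q (hacyc (D ⋙ injF 𝒜) hinjD)
  have : IsIso (rowMap F Δ D q).τ₁ := hq _
  have : IsIso (rowMap F Δ D q).τ₂ := hq _
  exact isIso_of_cokernel_comparison _ _ h1 h2 (rowMap F Δ D q)

/-- all degrees. -/
theorem isIso_post (h0 : ∀ D : Λ ⥤ 𝒜, IsIso (colimit.post D (F.rightDerived 0)))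
    (hacyc : ∀ D : Λ ⥤ 𝒜, (∀ i, Injective (D.obj i)) →
      ∀ q : ℕ, IsZero ((F.rightDerived (q + 1)).obj (colimit D))) :
    ∀ (q : ℕ) (D : Λ ⥤ 𝒜), IsIso (colimit.post D (F.rightDerived q))
  | 0 => h0
  | q + 1 => isIso_post_succ F Δ q (isIso_post h0 hacyc q) (fun D hD => hacyc D hD q)

theorem preservesColimitsOfShape_rightDerived
    (h0 : PreservesColimitsOfShape Λ (F.rightDerived 0))
    (hacyc : ∀ D : Λ ⥤ 𝒜, (∀ i, Injective (D.obj i)) →
      ∀ q : ℕ, IsZero ((F.rightDerived (q + 1)).obj (colimit D))) (q : ℕ) :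
    PreservesColimitsOfShape Λ (F.rightDerived q) :=
  ⟨fun {D} => by
    have := isIso_post F Δ (fun D => inferInstance) hacyc q D
    exact preservesColimit_of_isIso_post _ _⟩

end Shift

end Groth.Agent.Helper53.RDerColim
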