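import Groth.Agent.Lib.Helper53.PCohAmp
import Groth.Agent.Lib.Helper53.PCohTrunc
import Mathlib.CategoryTheory.Abelian.SerreClass.Basic
import Mathlib.CategoryTheory.Abelian.Subcategory
import Mathlib.Algebra.Homology.DerivedCategory.ExactFunctor
import Mathlib.Algebra.Homology.DerivedCategory.TStructure
import Mathlib.Algebra.Homology.DerivedCategory.Fractions

set_option autoImplicit false
set_option linter.unusedSectionVars false
universe w w' v u
open CategoryTheory CategoryTheory.Limits

namespace Groth.Agent.Helper53.SerreD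

open Groth.Agent.Helper53.PCoh

section General

variable {C : Type*} [Category C] [Abelian C] [HasDerivedCategory C]

lemma Q_map_eq_of_homotopy {K L : CochainComplex C ℤ} {f g : K ⟶ L} (H : Homotopy f g) :
    DerivedCategory.Q.map f = DerivedCategory.Q.map g := by
  have hf := (DerivedCategory.quotientCompQhIso C).hom.naturality f
  have hg := (DerivedCategory.quotientCompQhIso C).hom.naturality g
  have h : (HomotopyCategory.quotient C (ComplexShape.up ℤ) ⋙ DerivedCategory.Qh).map f =
      (HomotopyCategory.quotient C (ComplexShape.up ℤ) ⋙ DerivedCategory.Qh).map g := by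
    dsimp
    rw [HomotopyCategory.eq_of_homotopy _ _ H]
  rw [← cancel_epi ((DerivedCategory.quotientCompQhIso C).hom.app K), ← hf, ← hg, h]

end General

section Lift

variable {B : Type*} [Category B] [Preadditive B] {A : Type*} [Category A] [Preadditive A]
  (F : B ⥤ A) [F.Additive] [F.Full] [F.Faithful] {ι : Type*} {c : ComplexShape ι}

/-- lifting homotopies along a fully faithful additive functor -/
noncomputable def liftHomotopy {K L : HomologicalComplex B c} {f g : K ⟶ L}
    (H : Homotopy ((F.mapHomologicalComplex c).map f) ((F.mapHomologicalComplex c).map g)) :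
    Homotopy f g where
  hom i j := F.preimage (X := K.X i) (Y := L.X j) (H.hom i j)
  zero i j hij := F.map_injective (by
    erw [Functor.map_preimage]
    rw [Functor.map_zero]
    exact H.zero i j hij)
  comm i := by
    have h := H.comm i
    apply F.map_injective
    simp only [dNext, prevD, AddMonoidHom.mk'_apply] at h ⊢
    rw [Functor.map_add, Functor.map_add, Functor.map_comp, Functor.map_comp]
    erw [Functor.map_preimage, Functor.map_preimage]
    exact h

end Lift

variable {A : Type u} [Category.{v} A] [Abelian A]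
  (P : ObjectProperty A)

/-- lift a complex with terms in `P` to the full subcategory -/
def liftComplex (E : CochainComplex A ℤ) (hE : ∀ i, P (E.X i)) :
    CochainComplex P.FullSubcategory ℤ where
  X i := ⟨E.X i, hE i⟩
  d i j := P.homMk (E.d i j)
  shape i j hij := by
    apply P.hom_ext
    exact E.shape i j hij
  d_comp_d' i j k _ _ := by
    apply P.hom_ext
    exact E.d_comp_d i j k


/-- the lifted complex maps to the original one -/
def liftComplexIso (E : CochainComplex A ℤ) (hE : ∀ i, P (E.X i)) :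
    (P.ι.mapHomologicalComplex (ComplexShape.up ℤ)).obj (liftComplex P E hE) ≅ E :=
  HomologicalComplex.Hom.isoOfComponents (fun i => Iso.refl _) (by
    intro i j _
    exact (Category.id_comp _).trans (Category.comp_id _).symm)

variable [P.IsSerreClass] [P.IsClosedUnderKernels] [P.IsClosedUnderCokernels]
  [P.IsClosedUnderFiniteProducts]

lemma isZero_liftComplex_X (E : CochainComplex A ℤ) (hE : ∀ i, P (E.X i)) (i : ℤ)
    (h : IsZero (E.X i)) : IsZero ((liftComplex P E hE).X i) := by
  rw [IsZero.iff_id_eq_zero]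
  apply P.hom_ext
  exact (IsZero.iff_id_eq_zero _).1 h

variable [HasDerivedCategory.{w} A] [HasDerivedCategory.{w'} P.FullSubcategory]
  [PreservesFiniteLimits P.ι] [PreservesFiniteColimits P.ι]
  (hlift : ∀ (X Y : A) (π : X ⟶ Y), Epi π → P Y →
    ∃ (X' : A) (i : X' ⟶ X), Mono i ∧ P X' ∧ Epi (i ≫ π))

include hlift

lemma hql : PCoh.IsQuasiLiftable P := by
  intro E F u hu hF
  obtain ⟨X', i, _, hX', hi⟩ := hlift E F u hu hF
  exact ⟨X', i, hX', hi⟩

omit hlift in
lemma hqs : PCoh.IsQuasiStableUnderKernels P :=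
  isQuasiStableUnderKernels_of_kernels P (fun _ _ u _ hE hF => P.prop_kernel u hE hF)

omit hlift in
lemma hsum : ∀ X Y : A, P X → P Y → P (X ⨯ Y) := fun X Y hX hY => P.prop_prod X Y hX hY

/-- essential surjectivity -/
theorem essSurj (K : DerivedCategory A) (b : ℤ) (hKb : K.IsLE b)
    (hK : ∀ n : ℤ, P ((DerivedCategory.homologyFunctor A n).obj K)) :
    ∃ M : DerivedCategory P.FullSubcategory, M.IsLE b ∧
      Nonempty (P.ι.mapDerivedCategory.obj M ≅ K) := by
  have hb : ∀ i : ℤ, b < i → IsZero ((dH A i).obj K) :=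
    fun i hi => (DerivedCategory.isLE_iff K b).1 hKb i hi
  have hPC : PCoh.IsPC P K := fun n =>
    isNPC_of_homology (hsum P) (hqs P) (hql P hlift) n K b hb
      (fun i _ => IsObjNPC.of_prop (hK i) _)
  obtain ⟨E, hE, hvan, ⟨e⟩⟩ := IsPC.exists_strictPCAll_bounded P (hsum P) (hqs P)
    (hql P hlift) (b + 1) K hPC (fun i hi => hb i (by lia))
  have : (liftComplex P E hE).IsStrictlyLE b := by
    rw [CochainComplex.isStrictlyLE_iff]
    intro i hi
    exact isZero_liftComplex_X P E hE i (hvan i (by lia))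
  refine ⟨DerivedCategory.Q.obj (liftComplex P E hE), inferInstance, ⟨?_⟩⟩
  exact P.ι.mapDerivedCategoryFactors.app _ ≪≫
    DerivedCategory.Q.mapIso (liftComplexIso P E hE) ≪≫ e


omit hlift [HasDerivedCategory.{w} A] [HasDerivedCategory.{w'} P.FullSubcategory]
  [PreservesFiniteLimits P.ι] [PreservesFiniteColimits P.ι] in
lemma isStrictPCAll_map (M₂ : CochainComplex P.FullSubcategory ℤ) (b : ℤ) [M₂.IsStrictlyLE b] :
    PCoh.IsStrictPCAll P ((P.ι.mapHomologicalComplex (ComplexShape.up ℤ)).obj M₂) :=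
  ⟨⟨b, fun i hi => P.ι.map_isZero (CochainComplex.isZero_of_isStrictlyLE M₂ b i hi)⟩,
    fun i => (M₂.X i).property⟩

/-- surjectivity on morphisms -/
theorem surjective_Q (M₂ N₂ : CochainComplex P.FullSubcategory ℤ) (b : ℤ) [M₂.IsStrictlyLE b]
    (α : P.ι.mapDerivedCategory.obj (DerivedCategory.Q.obj M₂) ⟶
      P.ι.mapDerivedCategory.obj (DerivedCategory.Q.obj N₂)) :
    ∃ φ : DerivedCategory.Q.obj M₂ ⟶ DerivedCategory.Q.obj N₂,
      P.ι.mapDerivedCategory.map φ = α := by
  let ι' := P.ι.mapHomologicalComplex (ComplexShape.up ℤ)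
  let τ := P.ι.mapDerivedCategoryFactors
  let α' : DerivedCategory.Q.obj (ι'.obj M₂) ⟶ DerivedCategory.Q.obj (ι'.obj N₂) :=
    τ.inv.app M₂ ≫ α ≫ τ.hom.app N₂
  obtain ⟨E'', s, f, hE'', hs, hsf⟩ := exists_roof_strictPCAll P (hsum P) (hqs P) (hql P hlift)
    (ι'.obj M₂) (ι'.obj N₂) (isStrictPCAll_map P M₂ b) α'
  let E_B := liftComplex P E'' hE''.2
  let e : ι'.obj E_B ≅ E'' := liftComplexIso P E'' hE''.2
  let s_B : E_B ⟶ M₂ := ι'.preimage (e.hom ≫ s)
  let f_B : E_B ⟶ N₂ := ι'.preimage (e.hom ≫ f)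
  have hs_B : QuasiIso s_B := by
    rw [← HomologicalComplex.quasiIso_map_iff_of_preservesHomology s_B P.ι]
    change QuasiIso (ι'.map s_B)
    rw [Functor.map_preimage]
    infer_instance
  refine ⟨inv (DerivedCategory.Q.map s_B) ≫ DerivedCategory.Q.map f_B, ?_⟩
  rw [Functor.map_comp, Functor.map_inv, IsIso.inv_comp_eq]
  have h1 := P.ι.mapDerivedCategoryFactors_hom_naturality s_B
  have h2 := P.ι.mapDerivedCategoryFactors_hom_naturality f_B
  rw [← cancel_mono (τ.hom.app N₂), h2, Category.assoc]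
  change _ = P.ι.mapDerivedCategory.map (DerivedCategory.Q.map s_B) ≫ α ≫ τ.hom.app N₂
  have h3 : α ≫ τ.hom.app N₂ = τ.hom.app M₂ ≫ α' := by
    simp [α']
  rw [h3, ← Category.assoc, h1, Category.assoc]
  congr 1
  change DerivedCategory.Q.map (ι'.map f_B) = DerivedCategory.Q.map (ι'.map s_B) ≫ α'
  rw [Functor.map_preimage, Functor.map_preimage, Functor.map_comp, Functor.map_comp,
    Category.assoc, hsf]


/-- injectivity on morphisms -/
theorem injective_Q (M₂ N₂ : CochainComplex P.FullSubcategory ℤ) (b : ℤ) [M₂.IsStrictlyLE b]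
    (φ : DerivedCategory.Q.obj M₂ ⟶ DerivedCategory.Q.obj N₂)
    (hφ : P.ι.mapDerivedCategory.map φ = 0) : φ = 0 := by
  let ι' := P.ι.mapHomologicalComplex (ComplexShape.up ℤ)
  let τ := P.ι.mapDerivedCategoryFactors
  obtain ⟨X', hX', s, hs, g, rfl⟩ := DerivedCategory.right_fac_of_isStrictlyLE φ b
  rw [Functor.map_comp, Functor.map_inv, IsIso.inv_comp_eq, comp_zero] at hφ
  have h2 := P.ι.mapDerivedCategoryFactors_hom_naturality g
  rw [hφ, zero_comp] at h2
  have h3 : DerivedCategory.Q.map (ι'.map g) = 0 := by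
    rw [← cancel_epi (τ.hom.app X')]
    exact h2.symm.trans comp_zero.symm
  obtain ⟨E'', s', hE'', hs', ⟨H⟩⟩ := exists_homotopy_strictPCAll P (hsum P) (hqs P)
    (hql P hlift) (ι'.obj X') (ι'.obj N₂) (isStrictPCAll_map P X' b) (ι'.map g) 0
    (by rw [h3, Functor.map_zero])
  let E_B := liftComplex P E'' hE''.2
  let e : ι'.obj E_B ≅ E'' := liftComplexIso P E'' hE''.2
  let t : E_B ⟶ X' := ι'.preimage (e.hom ≫ s')
  have ht : QuasiIso t := by
    rw [← HomologicalComplex.quasiIso_map_iff_of_preservesHomology t P.ι]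
    change QuasiIso (ι'.map t)
    rw [Functor.map_preimage]
    infer_instance
  have H' : Homotopy (ι'.map (t ≫ g)) (ι'.map 0) := by
    have H1 := H.compLeft e.hom
    refine (Homotopy.ofEq ?_).trans (H1.trans (Homotopy.ofEq ?_))
    · rw [Functor.map_comp, Functor.map_preimage, Category.assoc]
    · rw [Functor.map_zero, comp_zero, comp_zero]
  have H'' : Homotopy (t ≫ g) 0 := liftHomotopy P.ι H'
  have h4 : DerivedCategory.Q.map (t ≫ g) = 0 := by
    rw [Q_map_eq_of_homotopy H'', Functor.map_zero]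
  rw [Functor.map_comp] at h4
  have h5 : DerivedCategory.Q.map g = 0 := by
    rw [← cancel_epi (DerivedCategory.Q.map t), h4, comp_zero]
  rw [h5, comp_zero]

/-- full faithfulness on bounded above objects -/
theorem bijective_map (M N : DerivedCategory P.FullSubcategory) (b : ℤ) (hM : M.IsLE b) :
    Function.Bijective (fun φ : M ⟶ N => P.ι.mapDerivedCategory.map φ) := by
  obtain ⟨M₂, hM₂, ⟨eM⟩⟩ := DerivedCategory.exists_iso_Q_obj_of_isLE M b
  let N₂ := DerivedCategory.Q.objPreimage N
  let eN : N ≅ DerivedCategory.Q.obj N₂ := (DerivedCategory.Q.objObjPreimageIso N).symm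
  constructor
  · intro φ₁ φ₂ h
    have h0 : P.ι.mapDerivedCategory.map (eM.inv ≫ (φ₁ - φ₂) ≫ eN.hom) = 0 := by
      have h' : P.ι.mapDerivedCategory.map φ₁ = P.ι.mapDerivedCategory.map φ₂ := h
      rw [Functor.map_comp, Functor.map_comp, Functor.map_sub, h', sub_self, zero_comp,
        comp_zero]
    have h1 := injective_Q P hlift M₂ N₂ b _ h0
    have h2 : φ₁ - φ₂ = 0 := by
      rw [← cancel_epi eM.inv, ← cancel_mono eN.hom, Category.assoc, h1, comp_zero, zero_comp]
    exact sub_eq_zero.1 h2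
  · intro α
    obtain ⟨φ, hφ⟩ := surjective_Q P hlift M₂ N₂ b
      (P.ι.mapDerivedCategory.map eM.inv ≫ α ≫ P.ι.mapDerivedCategory.map eN.hom)
    refine ⟨eM.hom ≫ φ ≫ eN.inv, ?_⟩
    change P.ι.mapDerivedCategory.map (eM.hom ≫ φ ≫ eN.inv) = α
    rw [Functor.map_comp, Functor.map_comp, hφ]
    simp only [Category.assoc, ← Functor.map_comp, Iso.hom_inv_id]
    rw [CategoryTheory.Functor.map_id, Category.comp_id, ← Category.assoc, ← Functor.map_comp,
      Iso.hom_inv_id, CategoryTheory.Functor.map_id, Category.id_comp]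

end Groth.Agent.Helper53.SerreD
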