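import Groth.Agent.Lib.Helper51.AlgSpPoints
import Groth.Prelude.Def_AlgSpCov
import Groth.Prelude.Def_AlgSpInf

/-!
# Thickenings: closed immersion + surjective on points; fpqc coverings are jointly surjective.  By helper53.
-/

set_option autoImplicit false
universe u
open CategoryTheory CategoryTheory.Limits AlgebraicGeometry Opposite

namespace Groth.Agent.Helper53.ThickFpqc

open AlgSp
open Groth.Agent.Lib.Helper51 Groth.Agent.Lib.Helper52

variable {S : Scheme.{u}}

/-- an fpqc covering is jointly surjective on points. -/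
theorem exists_mem_range_of_isFpqcCover {ι : Type u} {Y : Sp S} (Yi : ι → Sp S)
    (g : ∀ i, Yi i ⟶ Y) (hcov : IsFpqcCover Yi g) (y : Points Y) :
    ∃ i, y ∈ Set.range (Points.map (g i)) := by
  induction y using Points.ind with
  | h p =>
    obtain ⟨m, W, c, hW, hc, hsurj, hl⟩ :=
      hcov.2 p.pt (inferInstance : IsAffine (Spec _)) p.toHom
    obtain ⟨j, w, hw⟩ := hsurj (IsLocalRing.closedPoint p.K)
    obtain ⟨i, l, hl⟩ := hl j
    refine ⟨i, Points.ofPt l w, ?_⟩
    rw [Points.map_ofPt, hl, ofPt_yon_map_comp, hw]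
    exact Points.ofPt_toHom p _

theorem isThickMor_iff {X X' : Sp S} (i : X ⟶ X') :
    IsThickMor i ↔ RepWith @IsClosedImmersion i ∧ Function.Surjective (Points.map i) := by
  constructor
  · intro hi
    refine ⟨⟨hi.1, fun _ _ g fst snd sq => (hi.2 g fst snd sq).1⟩, ?_⟩
    exact surjective_map_of_repWith_surjective
      ⟨hi.1, fun _ _ g fst snd sq => (hi.2 g fst snd sq).2⟩
  · rintro ⟨h1, h2⟩
    have h3 := repWith_surjective_of_surjective_map h1.1 h2
    exact ⟨h1.1, fun _ _ g fst snd sq => ⟨h1.2 g fst snd sq, h3.2 g fst snd sq⟩⟩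

end Groth.Agent.Helper53.ThickFpqc
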