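import Groth.Agent.S10587
import Groth.Agent.S10589
import Groth.Agent.S10614
import Groth.Agent.S10649
import Groth.Agent.S10191
import Groth.Agent.S9934
import Groth.Agent.Lib.Helper51.AlgSpOpen
import Groth.Agent.Lib.Helper78.AlgSpThickMor
import Groth.Agent.Lib.Helper78.AlgSpFibre

/-!
# Cartesian morphisms of thickenings: closed immersions, proper, finite, immersions.  By helper53.
Combination lemmas: given the transfer of the local properties (locally of finite type, locally
quasi-finite, unramified), the global properties transfer along a morphism of thickenings.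
-/

set_option autoImplicit false
set_option linter.style.haveILetI false
universe u
open CategoryTheory CategoryTheory.Limits AlgebraicGeometry Opposite

namespace Groth.Agent.Helper53.ThickGlobal

open AlgSp
open Groth.Agent.Lib.Helper51 Groth.Agent.Lib.Helper52 Groth.Agent.Lib.Helper30
open Groth.Agent.Lib.Helper78.AlgSpThickMor Groth.Agent.Lib.Helper78.AlgSpFibre

variable {S : Scheme.{u}}

theorem repWith_isImmersion_of_isClosedImmersion {F G : Sp S} {f : F ⟶ G}
    (h : RepWith @IsClosedImmersion f) : RepWith @IsImmersion f := by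
  refine MorphismProperty.relative_monotone ?_ _ h
  intro A B k hk
  have : IsClosedImmersion k.left := hk
  show IsImmersion k.left
  infer_instance

section Main

variable {X X' Y Y' : Space S} (i : X ⟶ X') (j : Y ⟶ Y') (f : X ⟶ Y) (f' : X' ⟶ Y')
  (hi : IsThickMor i.hom) (hj : IsThickMor j.hom) (w : i ≫ f' = f ≫ j)

include hi hj w

theorem closedImm_iff
    (hunr : LocP (@LocallyOfFiniteType ⊓ @FormallyUnramified) f.hom ↔
      LocP (@LocallyOfFiniteType ⊓ @FormallyUnramified) f'.hom) :
    RepWith @IsClosedImmersion f.hom ↔ RepWith @IsClosedImmersion f'.hom := by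
  have t1 := Groth.Agent.S10587.result i j f f' hi hj w
  rw [(Groth.Agent.S10614.result f).2.1, (Groth.Agent.S10614.result f').2.1, t1.2.2.1, hunr,
    t1.2.2.2.1]

theorem proper_iff
    (hlft : LocP @LocallyOfFiniteType f.hom ↔ LocP @LocallyOfFiniteType f'.hom) :
    IsProperMor f.hom ↔ IsProperMor f'.hom := by
  have t1 := Groth.Agent.S10587.result i j f f' hi hj w
  have t2 := Groth.Agent.S10589.result i j f f' hi hj w
  unfold IsProperMor IsFiniteTypeMor
  rw [t2.1, hlft, t1.2.1, t1.2.2.1]

theorem finite_iff
    (hlft : LocP @LocallyOfFiniteType f.hom ↔ LocP @LocallyOfFiniteType f'.hom)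
    (hlqf : LocP (@LocallyQuasiFinite ⊓ @LocallyOfFiniteType) f.hom ↔
      LocP (@LocallyQuasiFinite ⊓ @LocallyOfFiniteType) f'.hom) :
    IsFiniteMor f.hom ↔ IsFiniteMor f'.hom := by
  have h1 : IsFiniteMor f.hom ↔ IsProperMor f.hom ∧
      LocP (@LocallyQuasiFinite ⊓ @LocallyOfFiniteType) f.hom := (Groth.Agent.S10649.result f).out 0 1
  have h2 : IsFiniteMor f'.hom ↔ IsProperMor f'.hom ∧
      LocP (@LocallyQuasiFinite ⊓ @LocallyOfFiniteType) f'.hom :=
    (Groth.Agent.S10649.result f').out 0 1
  rw [h1, h2, proper_iff i j f f' hi hj w hlft, hlqf]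

omit w in
/-- The immersion clause: if closed immersions transfer for the auxiliary cartesian squares over open
subspaces of `Y'`, then immersions transfer. -/
theorem immersion_of_immersion (hcart : IsPullback i.hom f.hom f'.hom j.hom)
    (H : ∀ (U U' : Space S) (jU : U ⟶ U') (g : X ⟶ U) (g' : X' ⟶ U') (ι' : U' ⟶ Y'),
      g' ≫ ι' = f' → IsThickMor jU.hom → i ≫ g' = g ≫ jU →
      IsPullback i.hom g.hom g'.hom jU.hom →
      RepWith @IsClosedImmersion g.hom → RepWith @IsClosedImmersion g'.hom)
    (hf : RepWith @IsImmersion f.hom) : RepWith @IsImmersion f'.hom := by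
  obtain ⟨hemb, hlc⟩ := Groth.Agent.S10191.result f hf
  obtain ⟨W₀, C, hW₀, hC, hrange⟩ := hlc
  have hjh := isHomeomorph_map_of_isThickMor hj
  have hih := isHomeomorph_map_of_isThickMor hi
  set W' : Set (Points Y'.obj) := Points.map j.hom '' W₀ with hW'def
  have hW' : IsOpen W' := hjh.isOpenMap _ hW₀
  have hU' : IsAlgSpace (openSp Y'.obj W') := isAlgSpace_openSp W' hW' Y'.property
  set ι' : openSp Y'.obj W' ⟶ Y'.obj := openSpι Y'.obj W' with hι'def
  have hι' : RepWith @IsOpenImmersion ι' := repWith_isOpenImmersion_openSpι W' hW'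
  have hrι' : Set.range (Points.map ι') = W' := range_map_openSpι W'
  have w' : i.hom ≫ f'.hom = f.hom ≫ j.hom := hcart.w
  -- f' factors through the open subspace
  have hsub : Set.range (Points.map f'.hom) ⊆ Set.range (Points.map ι') := by
    rw [hrι']
    rintro _ ⟨x', rfl⟩
    obtain ⟨x, rfl⟩ := hih.surjective x'
    refine ⟨Points.map f.hom x, ?_, ?_⟩
    · have : Points.map f.hom x ∈ Set.range (Points.map f.hom) := ⟨x, rfl⟩
      rw [hrange] at this; exact this.1
    · rw [← Points.map_comp, ← Points.map_comp, w']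
  obtain ⟨g', hg'⟩ := exists_factor_of_range_subset ι' hι' f'.hom hsub
  -- the open subspace of `Y`
  have sqU : IsPullback (pullback.fst j.hom ι') (pullback.snd j.hom ι') j.hom ι' :=
    IsPullback.of_hasPullback _ _
  have hU : IsAlgSpace (pullback j.hom ι') :=
    isAlgSpace_of_isPullback sqU Y'.property.diag Y.property hU'
  let U : Space S := ⟨pullback j.hom ι', hU⟩
  let U' : Space S := ⟨openSp Y'.obj W', hU'⟩
  let jU : U ⟶ U' := ObjectProperty.homMk (pullback.snd j.hom ι')
  let ιU : U ⟶ Y := ObjectProperty.homMk (pullback.fst j.hom ι')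
  let ι'S : U' ⟶ Y' := ObjectProperty.homMk ι'
  let g'S : X' ⟶ U' := ObjectProperty.homMk g'
  have wg : f.hom ≫ j.hom = (i.hom ≫ g') ≫ ι' := by
    rw [Category.assoc, hg', w']
  let gS : X ⟶ U := ObjectProperty.homMk (sqU.lift f.hom (i.hom ≫ g') wg)
  have hg1 : gS.hom ≫ pullback.fst j.hom ι' = f.hom := sqU.lift_fst _ _ _
  have hg2 : gS.hom ≫ pullback.snd j.hom ι' = i.hom ≫ g' := sqU.lift_snd _ _ _
  have hιU : RepWith @IsOpenImmersion (pullback.fst j.hom ι') :=
    MorphismProperty.of_isPullback sqU.flip hι'
  have hjU : IsThickMor jU.hom := MorphismProperty.of_isPullback sqU hj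
  have hmono : Mono (pullback.fst j.hom ι') :=
    mono_of_repWith (fun g (_ : IsOpenImmersion g) => inferInstance) hιU
  -- the new square is cartesian
  have hbig : IsPullback i.hom (gS.hom ≫ pullback.fst j.hom ι') (g' ≫ ι') j.hom := by
    rw [hg1, hg']; exact hcart
  have hnew : IsPullback i.hom gS.hom g'S.hom jU.hom :=
    IsPullback.of_bot hbig hg2.symm sqU.flip
  -- g is an immersion with closed range
  have hgimm : RepWith @IsImmersion gS.hom := by
    apply repWith_of_comp_mono gS.hom (pullback.fst j.hom ι')
    rw [hg1]; exact hf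
  have hιUimm : RepWith @IsImmersion ιU.hom := by
    refine MorphismProperty.relative_monotone ?_ _ hιU
    intro A B k hk
    have : IsOpenImmersion k.left := hk
    show IsImmersion k.left
    infer_instance
  have hιUinj : Function.Injective (Points.map ιU.hom) :=
    @injective_map_of_mono _ _ _ (pullback.fst j.hom ι') hmono
  have hrg : Set.range (Points.map gS.hom) = Points.map ιU.hom ⁻¹' C := by
    ext u
    constructor
    · rintro ⟨x, rfl⟩
      show Points.map ιU.hom (Points.map gS.hom x) ∈ C
      rw [← Points.map_comp]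
      have h1 : gS.hom ≫ ιU.hom = f.hom := hg1
      rw [h1]
      have : Points.map f.hom x ∈ Set.range (Points.map f.hom) := ⟨x, rfl⟩
      rw [hrange] at this; exact this.2
    · intro hu
      have hu' : Points.map ιU.hom u ∈ C := hu
      have hW : Points.map ιU.hom u ∈ W₀ := by
        have h2 : Points.map j.hom (Points.map ιU.hom u) ∈ W' := by
          rw [← Points.map_comp]
          have h3 : ιU.hom ≫ j.hom = jU.hom ≫ ι' := sqU.w
          rw [h3, Points.map_comp, ← hrι']
          exact ⟨_, rfl⟩
        obtain ⟨y, hy, hyeq⟩ := h2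
        rw [← hjh.injective hyeq]; exact hy
      have hmem : Points.map ιU.hom u ∈ Set.range (Points.map f.hom) := by
        rw [hrange]; exact ⟨hW, hu'⟩
      obtain ⟨x, hx⟩ := hmem
      refine ⟨x, hιUinj ?_⟩
      rw [← Points.map_comp]
      have h1 : gS.hom ≫ ιU.hom = f.hom := hg1
      rw [h1, hx]
  have hgcl : RepWith @IsClosedImmersion gS.hom := by
    rw [Groth.Agent.S9934.result gS hgimm, hrg]
    exact hC.preimage (Points.continuous_map _)
  -- transfer
  have hg'cl : RepWith @IsClosedImmersion g'S.hom := by
    refine H U U' jU gS g'S ι'S ?_ hjU ?_ hnew hgcl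
    · apply ObjectProperty.hom_ext; exact hg'
    · apply ObjectProperty.hom_ext; exact hg2.symm
  -- compose
  have h1 : RepWith @IsImmersion g' := by
    refine MorphismProperty.relative_monotone ?_ _ hg'cl
    intro A B k hk
    have : IsClosedImmersion k.left := hk
    show IsImmersion k.left
    infer_instance
  have h2 : RepWith @IsImmersion ι' := by
    refine MorphismProperty.relative_monotone ?_ _ hι'
    intro A B k hk
    have : IsOpenImmersion k.left := hk
    show IsImmersion k.left
    infer_instance
  have := (repWith_isMultiplicative (S := S) @IsImmersion).comp_mem _ _ h1 h2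
  rwa [hg'] at this

end Main

end Groth.Agent.Helper53.ThickGlobal
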