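import Groth.Agent.Lib.Helper53.ToposGiraud
import Mathlib.CategoryTheory.Sites.Canonical
import Mathlib.CategoryTheory.Limits.Constructions.LimitsOfProductsAndEqualizers
import Mathlib.CategoryTheory.Limits.Shapes.Opposites.Equalizers
import Mathlib.CategoryTheory.Limits.Shapes.Opposites.Products
import Mathlib.CategoryTheory.Limits.Shapes.Multiequalizer
import Mathlib.CategoryTheory.Limits.Types.Limits
import Mathlib.CategoryTheory.Adjunction.AdjointFunctorTheorems

/-!
# Helper library: the canonical topology of a sheaf topos (SGA 4 II 4, IV 1)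

* covering sieves of the canonical topology of `Sh J` are exactly the sieves containing a small
  jointly epimorphic family;
* a presheaf on `Sh J` is a sheaf for the canonical topology iff it sends small colimits to limits.
-/

set_option autoImplicit false
universe w u

open CategoryTheory CategoryTheory.Limits Opposite

namespace Groth.Agent.Helper53.TF

open ToposFin

variable {C : Type u} [SmallCategory C] {J : GrothendieckTopology C}

/-- Representables are sheaves for small jointly epimorphic families. -/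
lemma isSheafFor_yoneda_of_JE {ι : Type u} {X : Sh J} {F : ι → Sh J} (π : ∀ i, F i ⟶ X)
    (h : JE π) (Z : Sh J) : Presieve.IsSheafFor (yoneda.obj Z) (Presieve.ofArrows F π) := by
  rw [Presieve.isSheafFor_arrows_iff_pullbacks]
  intro x hx
  obtain ⟨d, hd⟩ := JE.exists_desc h x (fun k l => hx k l)
  exact ⟨d, hd, fun d' hd' => h _ _ (fun i => (hd' i).trans (hd i).symm)⟩

/-- A presheaf which is a sheaf for all small jointly epimorphic families is a sheaf for every sieve
containing such a family. -/
lemma isSheafFor_sieve_of_JE (P : (Sh J)ᵒᵖ ⥤ Type w)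
    (hP : ∀ {ι : Type u} {X : Sh J} {F : ι → Sh J} (π : ∀ i, F i ⟶ X), JE π →
      Presieve.IsSheafFor P (Presieve.ofArrows F π))
    {ι : Type u} {X : Sh J} {F : ι → Sh J} (π : ∀ i, F i ⟶ X) (h : JE π) (S : Sieve X)
    (hS : ∀ i, S (π i)) : Presieve.IsSheafFor P S.arrows := by
  refine Presieve.isSheafFor_subsieve P (S := Sieve.generate (Presieve.ofArrows F π)) ?_ ?_
  · rintro Y f ⟨T, u, v, ⟨i⟩, rfl⟩
    exact S.downward_closed (hS i) u
  · intro Y f
    rw [← Sieve.pullbackArrows_comm, ← Presieve.ofArrows_pullback, ← Presieve.isSheafFor_iff_generate]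
    exact hP _ (h.pullback_snd f)

/-- A covering sieve for the canonical topology of a sheaf topos contains a small jointly
epimorphic family. -/
lemma exists_JE_of_mem_canonical {X : Sh J} (S : Sieve X)
    (hS : S ∈ Sheaf.canonicalTopology (Sh J) X) :
    ∃ (ι : Type u) (F : ι → Sh J) (π : ∀ i, F i ⟶ X), JE π ∧ ∀ i, S (π i) := by
  refine ⟨Σ U : C, {s : eps J U ⟶ X // S s}, fun p => eps J p.1, fun p => p.2.1, ?_,
    fun p => p.2.2⟩
  intro Z a b hab
  have key : ∀ ⦃Y : Sh J⦄ (f : Y ⟶ X), S f → f ≫ a = f ≫ b := by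
    intro Y f hf
    apply JE_eps_sections Y
    intro p
    have := hab ⟨p.1, ⟨(epsEquiv p.1 Y).symm p.2 ≫ f, S.downward_closed hf _⟩⟩
    simpa only [Category.assoc] using this
  exact (Sheaf.isSheaf_yoneda_obj Z S hS).isSeparatedFor.ext (fun Y f hf => key f hf)

/-- A sieve containing a small jointly epimorphic family is covering for the canonical topology. -/
lemma mem_canonical_of_JE {ι : Type u} {X : Sh J} {F : ι → Sh J} (π : ∀ i, F i ⟶ X) (h : JE π)
    (S : Sieve X) (hS : ∀ i, S (π i)) : S ∈ Sheaf.canonicalTopology (Sh J) X := by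
  refine Sheaf.mem_finestTopology_of_forall_isSheafFor ?_
  rintro _ ⟨Z, rfl⟩ Y f
  refine isSheafFor_sieve_of_JE (yoneda.obj Z) (fun π' h' => isSheafFor_yoneda_of_JE π' h' Z)
    (fun i => pullback.snd (π i) f) (h.pullback_snd f) _ (fun i => ?_)
  change S (pullback.snd (π i) f ≫ f)
  rw [← pullback.condition]
  exact S.downward_closed (hS i) _

theorem mem_canonical_iff {X : Sh J} (S : Sieve X) :
    S ∈ Sheaf.canonicalTopology (Sh J) X ↔
      ∃ (ι : Type u) (F : ι → Sh J) (π : ∀ i, F i ⟶ X), JE π ∧ ∀ i, S (π i) :=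
  ⟨exists_JE_of_mem_canonical S, fun ⟨_, _, π, h, hS⟩ => mem_canonical_of_JE π h S hS⟩

/-- A presheaf on a sheaf topos is a sheaf for the canonical topology iff it is a sheaf for all
small jointly epimorphic families. -/
theorem isSheaf_canonical_iff (P : (Sh J)ᵒᵖ ⥤ Type w) :
    Presieve.IsSheaf (Sheaf.canonicalTopology (Sh J)) P ↔
      ∀ {ι : Type u} {X : Sh J} {F : ι → Sh J} (π : ∀ i, F i ⟶ X), JE π →
        Presieve.IsSheafFor P (Presieve.ofArrows F π) := by
  constructor
  · intro hP ι X F π h
    rw [Presieve.isSheafFor_iff_generate]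
    exact hP _ (mem_canonical_of_JE π h _ (fun i => Sieve.le_generate _ _ _ (Presieve.ofArrows.mk i)))
  · intro hP X S hS
    obtain ⟨ι, F, π, hπ, hS'⟩ := exists_JE_of_mem_canonical S hS
    exact isSheafFor_sieve_of_JE P hP π hπ S hS'

section Multi

variable {ι : Type u} {X : Sh J} {F : ι → Sh J} (π : ∀ i, F i ⟶ X)

/-- The multispan index of a family: `F i ×_X F j ⇉ F i`. -/
noncomputable def jeIndex : MultispanIndex (MultispanShape.prod ι) (Sh J) where
  left p := pullback (π p.1) (π p.2)
  right i := F i
  fst p := pullback.fst (π p.1) (π p.2)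
  snd p := pullback.snd (π p.1) (π p.2)

/-- The multicofork of a family. -/
noncomputable def jeCofork : Multicofork (jeIndex π) :=
  Multicofork.ofπ (jeIndex π) X π (fun _ => pullback.condition)

/-- A small jointly epimorphic family in a topos is effective: the target is the multicoequalizer. -/
noncomputable def jeCoforkIsColimit (h : JE π) : IsColimit (jeCofork π) :=
  Multicofork.IsColimit.mk _
    (fun E => (JE.exists_desc h E.π (fun k l => E.condition (k, l))).choose)
    (fun E i => (JE.exists_desc h E.π (fun k l => E.condition (k, l))).choose_spec i)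
    (fun E _ hm => h _ _ (fun i =>
      (hm i).trans ((JE.exists_desc h E.π (fun k l => E.condition (k, l))).choose_spec i).symm))

/-- A presheaf on the topos sending small colimits to limits satisfies the sheaf condition for
small jointly epimorphic families. -/
lemma isSheafFor_of_preservesLimits (P : (Sh J)ᵒᵖ ⥤ Type w) [PreservesLimitsOfSize.{u, u} P]
    (h : JE π) : Presieve.IsSheafFor P (Presieve.ofArrows F π) := by
  rw [Presieve.isSheafFor_arrows_iff_pullbacks]
  intro x hx
  have hl : IsLimit (P.mapCone (jeCofork π).op) :=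
    isLimitOfPreserves P (jeCoforkIsColimit π h).op
  have key := (Types.isLimit_iff _).1 ⟨hl⟩
  let s : ∀ j, ((jeIndex π).multispan.op ⋙ P).obj j := fun j => match j with
    | ⟨.left p⟩ => P.map (pullback.fst (π p.1) (π p.2)).op (x p.1)
    | ⟨.right i⟩ => x i
  have hs : s ∈ Functor.sections ((jeIndex π).multispan.op ⋙ P) := by
    rintro ⟨a⟩ ⟨b⟩ ⟨f⟩
    rcases f with _ | p | p
    · simp
    · rfl
    · exact (hx p.1 p.2).symm
  obtain ⟨t, ht, htu⟩ := key s hs
  refine ⟨t, fun i => ht (op (.right i)), fun t' ht' => htu t' ?_⟩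
  rintro ⟨p | i⟩
  · change P.map (pullback.fst (π p.1) (π p.2) ≫ π p.1).op t' = _
    rw [op_comp, P.map_comp]
    exact congrArg (P.map (pullback.fst (π p.1) (π p.2)).op) (ht' p.1)
  · exact ht' i

end Multi

/-- SGA 4 IV 1.?: a presheaf on a sheaf topos which sends small colimits to limits is a sheaf for
the canonical topology. -/
theorem isSheaf_canonical_of_preservesLimits (P : (Sh J)ᵒᵖ ⥤ Type w)
    [PreservesLimitsOfSize.{u, u} P] :
    Presieve.IsSheaf (Sheaf.canonicalTopology (Sh J)) P :=
  (isSheaf_canonical_iff P).2 (fun π h => isSheafFor_of_preservesLimits π P h)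

section LocalRel

variable {A : Sh J} (rel : ∀ U : Cᵒᵖ, A.obj.obj U → A.obj.obj U → Prop)

/-- A sectionwise equivalence relation on a sheaf, compatible with restriction and local. -/
structure IsLocalEquivRel : Prop where
  equiv : ∀ U, Equivalence (rel U)
  map : ∀ {U V : Cᵒᵖ} (f : U ⟶ V) {x y : A.obj.obj U}, rel U x y →
    rel V (A.obj.map f x) (A.obj.map f y)
  loc : ∀ {U : C} (x y : A.obj.obj (op U)) (S : Sieve U), S ∈ J U →
    (∀ ⦃V : C⦄ (g : V ⟶ U), S g → rel (op V) (A.obj.map g.op x) (A.obj.map g.op y)) →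
    rel (op U) x y

variable {rel}

/-- The presheaf quotient by a local equivalence relation. -/
def relQuotPresheaf (h : IsLocalEquivRel rel) : Cᵒᵖ ⥤ Type u where
  obj U := Quot (rel U)
  map {U V} f := TypeCat.ofHom (Quot.map (A.obj.map f) (fun _ _ hxy => h.map f hxy))
  map_id U := by
    ext ⟨x⟩
    change Quot.mk _ (A.obj.map (𝟙 U) x) = Quot.mk _ x
    rw [A.obj.map_id]
    rfl
  map_comp f g := by
    ext ⟨x⟩
    change Quot.mk _ (A.obj.map (f ≫ g) x) = Quot.mk _ (A.obj.map g (A.obj.map f x))
    rw [A.obj.map_comp]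
    rfl

/-- The quotient of a sheaf by a local equivalence relation: a morphism of sheaves whose fibres on
sections are exactly the equivalence classes. -/
theorem exists_quot_of_isLocalEquivRel (h : IsLocalEquivRel rel) :
    ∃ (Q : Sh J) (q : A ⟶ Q), ∀ (U : C) (x y : A.obj.obj (op U)),
      q.hom.app (op U) x = q.hom.app (op U) y ↔ rel (op U) x y := by
  let qm : A.obj ⟶ relQuotPresheaf h :=
    { app := fun U => TypeCat.ofHom (Quot.mk _)
      naturality := fun U V f => by ext x; rfl }
  refine ⟨(presheafToSheaf J (Type u)).obj (relQuotPresheaf h),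
    ⟨qm ≫ toSheafify J (relQuotPresheaf h)⟩, ?_⟩
  intro U x y
  change (toSheafify J (relQuotPresheaf h)).app (op U) (Quot.mk _ x) =
    (toSheafify J (relQuotPresheaf h)).app (op U) (Quot.mk _ y) ↔ _
  constructor
  · intro hxy
    have hS := Presheaf.equalizerSieve_mem J (toSheafify J (relQuotPresheaf h)) (X := op U)
      (Quot.mk _ x) (Quot.mk _ y) hxy
    refine h.loc x y _ hS ?_
    intro V g hg
    have hg' : (Quot.mk _ (A.obj.map g.op x) : Quot (rel (op V))) =
        Quot.mk _ (A.obj.map g.op y) := hg
    exact (h.equiv (op V)).eqvGen_iff.1 (Quot.eqvGen_exact hg')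
  · intro hxy
    rw [Quot.sound hxy]

end LocalRel

section Converse

variable (P : (Sh J)ᵒᵖ ⥤ Type w) (hP : Presieve.IsSheaf (Sheaf.canonicalTopology (Sh J)) P)

include hP

/-- A canonical sheaf is separated for small jointly epimorphic families. -/
lemma eq_of_JE {ι : Type u} {X : Sh J} {F : ι → Sh J} (π : ∀ i, F i ⟶ X) (h : JE π)
    (t₁ t₂ : P.obj (op X)) (ht : ∀ i, P.map (π i).op t₁ = P.map (π i).op t₂) : t₁ = t₂ := by
  refine ((isSheaf_canonical_iff P).1 hP π h).isSeparatedFor.ext ?_
  rintro _ _ ⟨i⟩
  exact ht i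

/-- A canonical sheaf takes a singleton value on an initial object. -/
lemma subsingleton_of_isInitial {Z : Sh J} (hZ : IsInitial Z) : Subsingleton (P.obj (op Z)) := by
  constructor
  intro t₁ t₂
  refine eq_of_JE P hP (ι := PEmpty.{u + 1}) (F := fun _ => Z) (fun i => i.elim) ?_ t₁ t₂
    (fun i => i.elim)
  intro W a b _
  exact hZ.hom_ext a b

/-- A canonical sheaf sends small coproducts to products. -/
lemma existsUnique_of_cofan {ι : Type u} {F : ι → Sh J} (c : Cofan F) (hc : IsColimit c)
    (x : ∀ i, P.obj (op (F i))) : ∃! t : P.obj (op c.pt), ∀ i, P.map (c.inj i).op t = x i := by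
  have hs := (isSheaf_canonical_iff P).1 hP c.inj (JE_cofan_inj c hc)
  rw [Presieve.isSheafFor_arrows_iff] at hs
  refine hs x ?_
  intro i j Z gi gj comm
  by_cases hij : i = j
  · subst hij
    have := MonoCoprod.mono_inj F c hc i
    rw [(cancel_mono (c.inj i)).1 comm]
  · have hZ : IsInitial Z :=
      isInitial_of_hom_to (pullback.lift gi gj comm) (isInitial_pullback_of_ne c hc hij)
    have := subsingleton_of_isInitial P hP hZ
    exact Subsingleton.elim _ _

omit hP in
lemma epsEquiv_symm_map {U V : C} (g : V ⟶ U) {F : Sh J} (x : F.obj.obj (op U)) :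
    (epsEquiv V F).symm (F.obj.map g.op x) = epsMap J g ≫ (epsEquiv U F).symm x := by
  apply (epsEquiv V F).injective
  rw [epsEquiv_naturality_left, Equiv.apply_symm_apply, Equiv.apply_symm_apply]

/-- Key lemma: for a canonical sheaf `P` and a coequalizer `A ⇉ B → Q`, an element of `P(B)`
equalized by the two maps is equalized by any pair of maps identified in `Q`. -/
lemma map_eq_of_coequalizer {A B Q : Sh J} (f g : A ⟶ B) (q : B ⟶ Q) (w : f ≫ q = g ≫ q)
    (hq : IsColimit (Cofork.ofπ q w)) (y : P.obj (op B)) (hy : P.map f.op y = P.map g.op y)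
    {W : Sh J} (h₁ h₂ : W ⟶ B) (h : h₁ ≫ q = h₂ ≫ q) : P.map h₁.op y = P.map h₂.op y := by
  let rel : ∀ U : Cᵒᵖ, B.obj.obj U → B.obj.obj U → Prop := fun U a b =>
    P.map ((epsEquiv U.unop B).symm a).op y = P.map ((epsEquiv U.unop B).symm b).op y
  have hrel : IsLocalEquivRel rel :=
    { equiv := fun U => ⟨fun _ => rfl, fun h => h.symm, fun h h' => h.trans h'⟩
      map := by
        intro U V φ a b hab
        change P.map ((epsEquiv V.unop B).symm (B.obj.map φ.unop.op a)).op y =
          P.map ((epsEquiv V.unop B).symm (B.obj.map φ.unop.op b)).op y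
        rw [epsEquiv_symm_map, epsEquiv_symm_map, op_comp, op_comp, P.map_comp, P.map_comp]
        exact congrArg (P.map (epsMap J φ.unop).op) hab
      loc := by
        intro U a b S hS hloc
        refine eq_of_JE P hP (ι := Σ V : C, {g : V ⟶ U // S g}) (F := fun i => eps J i.1)
          (fun i => epsMap J i.2.1) ?_ _ _ ?_
        · rw [JE_epsMap_iff]
          refine J.superset_covering ?_ hS
          intro V g hg
          exact ⟨V, 𝟙 V, g,
            Presieve.ofArrows.mk (⟨V, ⟨g, hg⟩⟩ : Σ V : C, {g : V ⟶ U // S g}), by simp⟩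
        · rintro ⟨V, g, hg⟩
          have := hloc g hg
          change P.map ((epsEquiv V B).symm (B.obj.map g.op a)).op y =
            P.map ((epsEquiv V B).symm (B.obj.map g.op b)).op y at this
          rw [epsEquiv_symm_map, epsEquiv_symm_map, op_comp, op_comp, P.map_comp, P.map_comp] at this
          exact this }
  obtain ⟨Q', π', hπ'⟩ := exists_quot_of_isLocalEquivRel hrel
  have hfg : f ≫ π' = g ≫ π' := by
    ext U a
    induction U using Opposite.rec with | _ U => ?_
    change π'.hom.app (op U) (f.hom.app (op U) a) = π'.hom.app (op U) (g.hom.app (op U) a)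
    rw [hπ']
    change P.map ((epsEquiv U B).symm (f.hom.app (op U) a)).op y =
      P.map ((epsEquiv U B).symm (g.hom.app (op U) a)).op y
    rw [← epsEquiv_symm_comp, ← epsEquiv_symm_comp, op_comp, op_comp, P.map_comp, P.map_comp]
    exact congrArg (P.map ((epsEquiv U A).symm a).op) hy
  have hd : q ≫ Cofork.IsColimit.desc hq π' hfg = π' := Cofork.IsColimit.π_desc' hq π' hfg
  have h' : h₁ ≫ π' = h₂ ≫ π' := by
    rw [← hd, ← Category.assoc, ← Category.assoc, h]
  refine eq_of_JE P hP _ (JE_eps_sections W) _ _ ?_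
  rintro ⟨V, t⟩
  have ht : π'.hom.app (op V) (h₁.hom.app (op V) t) = π'.hom.app (op V) (h₂.hom.app (op V) t) :=
    congrArg (fun φ : W ⟶ Q' => φ.hom.app (op V) t) h'
  rw [hπ'] at ht
  change P.map ((epsEquiv V B).symm (h₁.hom.app (op V) t)).op y =
    P.map ((epsEquiv V B).symm (h₂.hom.app (op V) t)).op y at ht
  rw [← epsEquiv_symm_comp, ← epsEquiv_symm_comp, op_comp, op_comp, P.map_comp, P.map_comp] at ht
  exact ht

/-- A canonical sheaf sends coequalizers to equalizers. -/
lemma existsUnique_of_cofork {A B Q : Sh J} (f g : A ⟶ B) (q : B ⟶ Q) (w : f ≫ q = g ≫ q)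
    (hq : IsColimit (Cofork.ofπ q w)) (y : P.obj (op B)) (hy : P.map f.op y = P.map g.op y) :
    ∃! z : P.obj (op Q), P.map q.op z = y := by
  have hJE : JE (fun _ : PUnit.{u + 1} => q) := by
    intro Z a b hab
    exact Cofork.IsColimit.hom_ext hq (hab ⟨⟩)
  have hs := (isSheaf_canonical_iff P).1 hP _ hJE
  rw [Presieve.isSheafFor_arrows_iff] at hs
  obtain ⟨z, hz, hzu⟩ := hs (fun _ => y) (fun _ _ Z gi gj comm =>
    map_eq_of_coequalizer P hP f g q w hq y hy gi gj comm)
  exact ⟨z, hz ⟨⟩, fun z' hz' => hzu z' (fun _ => hz')⟩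

/-- SGA 4 IV 1.?: a sheaf for the canonical topology of a sheaf topos sends small colimits to
limits. -/
theorem preservesLimitsOfSize_of_isSheaf_canonical : PreservesLimitsOfSize.{u, u} P := by
  have hprod : ∀ ι : Type u, PreservesLimitsOfShape (Discrete ι) P := by
    intro ι
    apply (config := { allowSynthFailures := true }) preservesLimitsOfShape_of_discrete
    intro f
    let c : Cofan (fun i => (f i).unop) := Cofan.mk (∐ fun i => (f i).unop) (Sigma.ι _)
    have hc : IsColimit c := coproductIsCoproduct _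
    refine preservesLimit_of_preserves_limit_cone (Cofan.IsColimit.op hc) ?_
    refine ((Types.isLimit_iff _).2 ?_).some
    intro s hs
    obtain ⟨t, ht, htu⟩ := existsUnique_of_cofan P hP c hc (fun i => s ⟨i⟩)
    exact ⟨t, fun ⟨i⟩ => ht i, fun t' ht' => htu t' (fun i => ht' ⟨i⟩)⟩
  have heq : PreservesLimitsOfShape WalkingParallelPair P := by
    constructor
    intro K
    have : PreservesLimit (parallelPair (K.map WalkingParallelPairHom.left)
        (K.map WalkingParallelPairHom.right)) P := by
      obtain ⟨a, ha⟩ : ∃ a, a = K.map WalkingParallelPairHom.left := ⟨_, rfl⟩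
      obtain ⟨b, hb⟩ : ∃ b, b = K.map WalkingParallelPairHom.right := ⟨_, rfl⟩
      rw [← ha, ← hb]
      let c : Cofork a.unop b.unop :=
        Cofork.ofπ (coequalizer.π a.unop b.unop) (coequalizer.condition _ _)
      have hc : IsColimit c := coequalizerIsCoequalizer _ _
      refine preservesLimit_of_preserves_limit_cone (c.isColimitEquivIsLimitOp hc) ?_
      refine ((Types.isLimit_iff _).2 ?_).some
      intro s hs
      have h0 : P.map a (s .zero) = s .one := hs WalkingParallelPairHom.left
      have h1 : P.map b (s .zero) = s .one := hs WalkingParallelPairHom.right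
      obtain ⟨z, hz, hzu⟩ := existsUnique_of_cofork P hP a.unop b.unop _
        (coequalizer.condition _ _) hc (s .zero) (h0.trans h1.symm)
      refine ⟨z, ?_, fun z' hz' => hzu z' ?_⟩
      · rintro (_ | _)
        · exact hz
        · rw [← h0, ← hz]
          have hw := (P.mapCone (Cofork.op c)).w WalkingParallelPairHom.left
          exact (ConcreteCategory.congr_hom hw z).symm
      · exact hz' .zero
    exact preservesLimit_of_iso_diagram P (diagramIsoParallelPair K).symm
  exact preservesLimits_of_preservesEqualizers_and_products P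

end Converse

section WellPowered

lemma isSeparating_eps : (ObjectProperty.ofObj (eps J)).IsSeparating := by
  intro X Y f g h
  apply JE_eps_sections X
  intro p
  exact h _ (ObjectProperty.ofObj_apply _ p.1) _

lemma isDetecting_eps : (ObjectProperty.ofObj (eps J)).IsDetecting :=
  isSeparating_eps.isDetecting

instance wellPowered_sh : WellPowered.{u} (Sh J) :=
  wellPowered_of_isDetecting isDetecting_eps

/-- The kernel relation, on sections, of a quotient of `X`. -/
def kerRelSet (X : Sh J) (S : Subobject (op X)) : Set (Σ U : C, X.obj.obj (op U) × X.obj.obj (op U)) :=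
  {p | S.arrow.unop.hom.app (op p.1) p.2.1 = S.arrow.unop.hom.app (op p.1) p.2.2}

lemma kerRelSet_injective (X : Sh J) : Function.Injective (kerRelSet X) := by
  have key : ∀ S S' : Subobject (op X), kerRelSet X S = kerRelSet X S' →
      ∀ {T : Sh J} (g₁ g₂ : T ⟶ X), g₁ ≫ S.arrow.unop = g₂ ≫ S.arrow.unop →
        g₁ ≫ S'.arrow.unop = g₂ ≫ S'.arrow.unop := by
    intro S S' hSS' T g₁ g₂ hg
    apply JE_eps_sections T
    rintro ⟨V, t⟩
    rw [← Category.assoc, ← Category.assoc, epsEquiv_symm_comp, epsEquiv_symm_comp,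
      epsEquiv_symm_comp, epsEquiv_symm_comp]
    congr 1
    have h1 : (⟨V, (g₁.hom.app (op V) t, g₂.hom.app (op V) t)⟩ :
        Σ U : C, X.obj.obj (op U) × X.obj.obj (op U)) ∈ kerRelSet X S :=
      congrArg (fun φ : T ⟶ _ => φ.hom.app (op V) t) hg
    rw [hSS'] at h1
    exact h1
  intro S S' hSS'
  have e1 : Epi S.arrow.unop := inferInstance
  have e2 : Epi S'.arrow.unop := inferInstance
  have := effectiveEpi_of_epi S.arrow.unop
  have := effectiveEpi_of_epi S'.arrow.unop
  let d : unop (S : (Sh J)ᵒᵖ) ⟶ unop (S' : (Sh J)ᵒᵖ) :=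
    EffectiveEpi.desc S.arrow.unop S'.arrow.unop (key S S' hSS')
  let d' : unop (S' : (Sh J)ᵒᵖ) ⟶ unop (S : (Sh J)ᵒᵖ) :=
    EffectiveEpi.desc S'.arrow.unop S.arrow.unop (key S' S hSS'.symm)
  have hd : S.arrow.unop ≫ d = S'.arrow.unop := EffectiveEpi.fac _ _ _
  have hd' : S'.arrow.unop ≫ d' = S.arrow.unop := EffectiveEpi.fac _ _ _
  have h1 : d ≫ d' = 𝟙 _ := by
    rw [← cancel_epi S.arrow.unop, ← Category.assoc, hd, hd', Category.comp_id]
  have h2 : d' ≫ d = 𝟙 _ := by
    rw [← cancel_epi S'.arrow.unop, ← Category.assoc, hd', hd, Category.comp_id]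
  refine Subobject.eq_of_comm ⟨d'.op, d.op, ?_, ?_⟩ ?_
  · rw [← op_comp, h1]; rfl
  · rw [← op_comp, h2]; rfl
  · apply Quiver.Hom.unop_inj
    exact hd'

instance wellPowered_sh_op : WellPowered.{u} (Sh J)ᵒᵖ where
  subobject_small X := by
    induction X using Opposite.rec with | _ X => ?_
    exact small_of_injective (kerRelSet_injective X)

end WellPowered

section Functors

variable {D : Type u} [SmallCategory D] {K : GrothendieckTopology D}
  (f : Sh J ⥤ Sh K) [PreservesFiniteLimits f]
  (hf : ∀ {ι : Type u} {X : Sh J} {F : ι → Sh J} (π : ∀ i, F i ⟶ X), JE π →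
    JE (fun i => f.map (π i)))

include hf

/-- For a left exact functor between sheaf topoi preserving small jointly epimorphic families,
`Hom(f -, Z)` is a sheaf for the canonical topology. -/
theorem isSheaf_canonical_comp_yoneda (Z : Sh K) :
    Presieve.IsSheaf (Sheaf.canonicalTopology (Sh J)) (f.op ⋙ yoneda.obj Z) := by
  rw [isSheaf_canonical_iff]
  intro ι X F π h
  rw [Presieve.isSheafFor_arrows_iff]
  intro x hx
  have hJE := hf π h
  obtain ⟨d, hd⟩ := JE.exists_desc hJE x (fun k l => by
    have h1 := PreservesPullback.iso_inv_fst f (π k) (π l)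
    have h2 := PreservesPullback.iso_inv_snd f (π k) (π l)
    rw [← cancel_epi (PreservesPullback.iso f (π k) (π l)).hom]
    have e1 : (PreservesPullback.iso f (π k) (π l)).hom ≫ pullback.fst (f.map (π k)) (f.map (π l)) =
        f.map (pullback.fst (π k) (π l)) := PreservesPullback.iso_hom_fst f _ _
    have e2 : (PreservesPullback.iso f (π k) (π l)).hom ≫ pullback.snd (f.map (π k)) (f.map (π l)) =
        f.map (pullback.snd (π k) (π l)) := PreservesPullback.iso_hom_snd f _ _
    rw [← Category.assoc, ← Category.assoc, e1, e2]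
    exact hx k l _ (pullback.fst (π k) (π l)) (pullback.snd (π k) (π l)) pullback.condition)
  exact ⟨d, hd, fun d' hd' => hJE _ _ (fun i => (hd' i).trans (hd i).symm)⟩

/-- SGA 4 IV 1.?: a left exact functor between sheaf topoi preserving small jointly epimorphic
families preserves small colimits. -/
theorem preservesColimitsOfSize_of_preservesJE : PreservesColimitsOfSize.{u, u} f := by
  have key : ∀ Z : Sh K, PreservesLimitsOfSize.{u, u} (f.op ⋙ yoneda.obj Z) := fun Z =>
    preservesLimitsOfSize_of_isSheaf_canonical _ (isSheaf_canonical_comp_yoneda f hf Z)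
  constructor
  intro I _
  constructor
  intro D
  constructor
  intro c hc
  refine ⟨(Limits.Cocone.isColimitYonedaEquiv _).symm (fun Z => ?_)⟩
  have := key Z
  exact isLimitOfPreserves (f.op ⋙ yoneda.obj Z) hc.op

/-- ... and is a left adjoint (special adjoint functor theorem). -/
theorem isLeftAdjoint_of_preservesJE : f.IsLeftAdjoint := by
  have : PreservesColimitsOfSize.{u, u} f := preservesColimitsOfSize_of_preservesJE f hf
  exact isLeftAdjoint_of_preservesColimits_of_isSeparating isSeparating_eps f

end Functors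

end Groth.Agent.Helper53.TF
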