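import Mathlib
import Groth.Agent.Lib.Helper53.ToposCechColim
import Groth.Agent.Lib.Helper53.ExtFilteredShift
import Groth.Prelude.Def_ToposFin2

/-!
# Cohomology of coherent objects commutes with filtered colimits (SGA 4 VI 5.1, 5.2)
-/

set_option autoImplicit false
universe u

open CategoryTheory CategoryTheory.Limits Opposite Abelian

namespace Groth.Agent.Helper53.TFC

open ToposFin Groth.Agent.Helper53.TF Groth.Agent.Lib.Helper19
open Groth.Agent.Lib.Helper19.CechHom Groth.Agent.Lib.Helper19.CechTop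
open Groth.Agent.Helper53.ExtColim

variable {C : Type u} [SmallCategory C] {J : GrothendieckTopology C}

/-- the set of coherent objects. -/
def Coh (J : GrothendieckTopology C) : Set (Sh J) := {K | IsCoherent K}

lemma coh_qc : ∀ K ∈ Coh J, IsQC K := fun _ hK => hK.1

lemma coh_gen (hE : ToposFin.IsAlgebraic J) : Gen (Coh J) := by
  obtain ⟨S, hqc, hgen, hpb, -⟩ := hE
  intro X
  obtain ⟨ι, F, π, hF, hπ⟩ := hgen X
  exact ⟨ι, F, π, fun i => isCoherent_of_mem hqc hgen hpb (hF i), hπ⟩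

lemma coh_pb (hE : ToposFin.IsAlgebraic J) : PBClosed (Coh J) := by
  obtain ⟨S, hqc, hgen, hpb, heq⟩ := hE
  intro K L M f g hK hL hM
  refine ⟨pullback f g, pullback.fst f g, pullback.snd f g, ⟨?_, ?_⟩,
    IsPullback.of_hasPullback f g⟩
  · exact hM.2 _ _ f g hK.1 hL.1
  · have hg : IsQSHom g := isQSHom_of_isQS_of_algebraic hqc hgen hpb heq g hL.2
    have hfst : IsQSHom (pullback.fst f g) :=
      isQSHom_of_isPullback (IsPullback.of_hasPullback f g).flip hg
    exact isQS_of_isQSHom_of_isQS _ hfst hK.2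

variable {Λ : Type u} [SmallCategory Λ] [IsFiltered Λ]

/-- SGA 4 VI 5.1: in an algebraic topos, `Ext^q(ℤ[K], -)` commutes with filtered colimits for
coherent `K` (element form). -/
theorem surj_inj_G (hE : ToposFin.IsAlgebraic J) {K : Sh J} (hK : IsCoherent K) :
    ∀ (q : ℕ) (D : Λ ⥤ Sheaf J AddCommGrpCat.{u}),
      Surj ((G J).obj K) q D ∧ Inj ((G J).obj K) q D := by
  have hgen := coh_gen hE
  have hpb := coh_pb hE
  have hQ : HasQCGenerators J := hasQCGenerators_of_gen coh_qc hgen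
  refine surj_inj _ (fun D => ⟨?_, ?_⟩) (fun D hD q x => ?_)
  · intro x
    obtain ⟨φ, rfl⟩ := (Ext.mk₀_bijective _ _).2 x
    obtain ⟨i, y, hy⟩ := exists_lift_G D hQ hK φ
    exact ⟨i, Ext.mk₀ y, by rw [Ext.mk₀_comp_mk₀, hy]⟩
  · intro i y hy
    obtain ⟨φ, rfl⟩ := (Ext.mk₀_bijective _ _).2 y
    rw [Ext.mk₀_comp_mk₀] at hy
    have h0 : φ ≫ colimit.ι D i = 0 :=
      (Ext.mk₀_bijective _ _).1 (hy.trans (Ext.mk₀_zero _ _).symm)
    obtain ⟨j, f, hf⟩ := exists_map_eq_zero_G D hK.1 φ h0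
    exact ⟨j, f, by rw [Ext.mk₀_comp_mk₀, hf, Ext.mk₀_zero]⟩
  · have := acyclic_colimit D coh_qc hgen hpb
      (fun i L _ m => subsingleton_of_forall_eq 0 fun e =>
        have := hD i
        Ext.eq_zero_of_injective e) K hK q
    exact Subsingleton.elim _ _

/-- SGA 4 VI 5.1 (functor form). -/
theorem preservesColimitsOfShape_ext (hE : ToposFin.IsAlgebraic J) {K : Sh J} (hK : IsCoherent K)
    (q : ℕ) : PreservesColimitsOfShape Λ ((extFunctor.{u} q).obj (op ((G J).obj K))) :=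
  ⟨fun {D} => preservesColimit_extFunctor _ q D (surj_inj_G hE hK q D).1
    (surj_inj_G hE hK q D).2⟩

end Groth.Agent.Helper53.TFC
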