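import Mathlib
import Groth.Agent.Lib.Helper53.ToposCechExtColim

set_option autoImplicit false
universe u
open CategoryTheory CategoryTheory.Limits Opposite Abelian

namespace Groth.Agent.Helper53.TFC
open ToposFin Groth.Agent.Lib.Helper19.CechHom

variable {C : Type u} [SmallCategory C] (J : GrothendieckTopology C)

noncomputable def freePUnitIso : AddCommGrpCat.free.{u}.obj PUnit.{u+1} ≅ AddCommGrpCat.of (ULift.{u} ℤ) :=
  AddEquiv.toAddCommGrpIso ((FreeAbelianGroup.uniqueEquiv PUnit.{u+1}).trans AddEquiv.ulift.symm)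

noncomputable def termPresheafIso :
    (⊤_ (Sh J)).obj ≅ (Functor.const Cᵒᵖ).obj PUnit.{u+1} :=
  (IsTerminal.isTerminalObj (sheafToPresheaf J (Type u)) _ terminalIsTerminal).uniqueUpToIso
    (IsTerminal.isTerminalObj (Functor.const Cᵒᵖ) _ Types.isTerminalPUnit)

noncomputable def constZIso :
    (constantSheaf J AddCommGrpCat.{u}).obj (AddCommGrpCat.of (ULift.{u} ℤ)) ≅ (G J).obj (⊤_ (Sh J)) :=
  (presheafToSheaf J AddCommGrpCat.{u}).mapIso
    ((Functor.const Cᵒᵖ).mapIso (freePUnitIso).symm ≪≫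
      (Functor.constComp Cᵒᵖ PUnit.{u+1} AddCommGrpCat.free.{u}).symm ≪≫
      (Functor.isoWhiskerRight (termPresheafIso J).symm AddCommGrpCat.free.{u}))

/-- SGA 4 VI 5.2: cohomology of a coherent topos commutes with filtered colimits. -/
theorem preservesColimitsOfShape_functorH (hE : ToposFin.IsAlgebraic J)
    (hT : IsCoherent (⊤_ (Sh J))) (Λ : Type u) [SmallCategory Λ] [IsFiltered Λ] (q : ℕ) :
    PreservesColimitsOfShape Λ
      (Sheaf.functorH J q : Sheaf J AddCommGrpCat.{u} ⥤ AddCommGrpCat.{u}) := by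
  have := preservesColimitsOfShape_ext (Λ := Λ) hE hT q
  have e : (extFunctor.{u} q).obj (op ((G J).obj (⊤_ (Sh J)))) ≅
      (Sheaf.functorH J q : Sheaf J AddCommGrpCat.{u} ⥤ AddCommGrpCat.{u}) :=
    (extFunctor.{u} q).mapIso (constZIso J).op ≪≫
      NatIso.ofComponents (fun F => Iso.refl _) (fun f => by
        simp only [Iso.refl_hom, Category.comp_id, Category.id_comp]
        rfl)
  exact preservesColimitsOfShape_of_natIso e

end Groth.Agent.Helper53.TFC
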