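import Mathlib
import Groth.Agent.Lib.Helper53.ToposCechExtColim
import Groth.Agent.Lib.Helper53.RDerFilteredShift
import Groth.Agent.Lib.Cohomology.helper5_SiteRpushSheafify

/-!
# Higher direct images commute with filtered colimits (SGA 4 VI 5.1, direct image form)
-/

set_option autoImplicit false
universe u

open CategoryTheory CategoryTheory.Limits Opposite Abelian

namespace Groth.Agent.Helper53.TFC

open ToposFin Groth.Agent.Helper53.TF Groth.Agent.Lib.Helper19
open Groth.Agent.Lib.Helper19.CechHom Groth.Agent.Lib.Helper19.CechTop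
open Groth.Agent.Helper53.ExtColim

variable {C : Type u} [SmallCategory C] (J : GrothendieckTopology C)

/-- the free abelian sheaf on a representable is the free abelian sheaf on the associated sheaf
of sets. -/
noncomputable def freeSheafIso (W : C) : CohCx.freeSheaf J W ≅ (G J).obj (eps J W) :=
  (Adjunction.leftAdjointUniq
    ((Adjunction.whiskerRight Cᵒᵖ AddCommGrpCat.adj.{u}).comp
      (sheafificationAdjunction J AddCommGrpCat.{u}))
    (((sheafificationAdjunction J (Type u)).comp (adjG J)).ofNatIsoRight
      (Iso.refl _))).app (yoneda.obj W)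

variable {J}

/-- sections over `W` are morphisms out of `ℤ[eps W]`. -/
noncomputable def secEquiv (W : C) (F : Sheaf J AddCommGrpCat.{u}) :
    ((G J).obj (eps J W) ⟶ F) ≃ F.obj.obj (op W) :=
  ((adjG J).homEquiv _ _).trans (epsEquiv W ((U J).obj F))

lemma secEquiv_comp (W : C) {F F' : Sheaf J AddCommGrpCat.{u}} (a : (G J).obj (eps J W) ⟶ F)
    (φ : F ⟶ F') : secEquiv W F' (a ≫ φ) = (φ.hom.app (op W)).hom (secEquiv W F a) := by
  change epsEquiv W ((U J).obj F') ((adjG J).homEquiv _ _ (a ≫ φ)) = _
  rw [Adjunction.homEquiv_naturality_right]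
  exact epsEquiv_naturality_right (J := J) ((adjG J).homEquiv _ _ a) ((U J).map φ)

section Push

variable {D' : Type u} [SmallCategory D'] (K : GrothendieckTopology D') (u : D' ⥤ C)
  [u.IsContinuous K J]
variable {Λ : Type u} [SmallCategory Λ] [IsFiltered Λ]

/-- the direct image along a functor with coherent "inverse images" commutes with filtered
colimits. -/
theorem preservesColimitsOfShape_push (hE : ToposFin.IsAlgebraic J)
    (hu : ∀ V : D', IsCoherent (eps J (u.obj V))) :
    PreservesColimitsOfShape Λ (CohSite.push J K u) := by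
  have hQ : HasQCGenerators J := hasQCGenerators_of_gen coh_qc (coh_gen hE)
  refine ⟨fun {D} => ?_⟩
  apply preservesColimit_of_preserves_colimit_cocone (colimit.isColimit D)
  apply isColimitOfReflects (sheafToPresheaf K AddCommGrpCat.{u})
  apply evaluationJointlyReflectsColimits
  intro V
  have : PreservesColimitsOfShape Λ (forget AddCommGrpCat.{u}) :=
    PreservesFilteredColimitsOfSize.preserves_filtered_colimits Λ
  have : ReflectsColimit (((D ⋙ CohSite.push J K u) ⋙ sheafToPresheaf K AddCommGrpCat.{u}) ⋙
      (evaluation _ _).obj V) (forget AddCommGrpCat.{u}) :=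
    reflectsColimit_of_reflectsIsomorphisms _ _
  apply isColimitOfReflects (forget AddCommGrpCat.{u})
  apply Types.FilteredColimit.isColimitOf'
  · intro x
    have key : ∀ x : (colimit D).obj.obj (op (u.obj V.unop)),
        ∃ (i : Λ) (y : (D.obj i).obj.obj (op (u.obj V.unop))),
          x = ((colimit.ι D i).hom.app (op (u.obj V.unop))).hom y := by
      intro x
      obtain ⟨i, y, hy⟩ := exists_lift_G D hQ (hu V.unop)
        ((secEquiv (u.obj V.unop) (colimit D)).symm x)
      refine ⟨i, secEquiv (u.obj V.unop) (D.obj i) y, ?_⟩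
      have := secEquiv_comp (u.obj V.unop) y (colimit.ι D i)
      rw [hy, Equiv.apply_symm_apply] at this
      exact this
    exact key x
  · intro i x y hxy
    have key : ∀ x y : (D.obj i).obj.obj (op (u.obj V.unop)),
        ((colimit.ι D i).hom.app (op (u.obj V.unop))).hom x =
          ((colimit.ι D i).hom.app (op (u.obj V.unop))).hom y →
        ∃ (j : Λ) (f : i ⟶ j), ((D.map f).hom.app (op (u.obj V.unop))).hom x =
          ((D.map f).hom.app (op (u.obj V.unop))).hom y := by
      intro x y hxy
      let a := (secEquiv (u.obj V.unop) (D.obj i)).symm x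
      let b := (secEquiv (u.obj V.unop) (D.obj i)).symm y
      have hab : a ≫ colimit.ι D i = b ≫ colimit.ι D i := by
        apply (secEquiv (u.obj V.unop) (colimit D)).injective
        rw [secEquiv_comp, secEquiv_comp, Equiv.apply_symm_apply, Equiv.apply_symm_apply]
        exact hxy
      obtain ⟨j, f, hf⟩ := exists_map_eq_zero_G D (hu V.unop).1 (a - b) (by
        rw [Preadditive.sub_comp, hab, sub_self])
      refine ⟨j, f, ?_⟩
      have h2 : a ≫ D.map f = b ≫ D.map f := by
        rw [Preadditive.sub_comp] at hf
        exact sub_eq_zero.1 hf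
      have h3 := congrArg (secEquiv (u.obj V.unop) (D.obj j)) h2
      rw [secEquiv_comp, secEquiv_comp, Equiv.apply_symm_apply, Equiv.apply_symm_apply] at h3
      exact h3
    exact key x y hxy

/-- colimits of injectives are acyclic for the direct image. -/
theorem isZero_Rpush_colimit (hE : ToposFin.IsAlgebraic J)
    (hu : ∀ V : D', IsCoherent (eps J (u.obj V)))
    (D : Λ ⥤ Sheaf J AddCommGrpCat.{u}) (hD : ∀ i, Injective (D.obj i)) (q : ℕ) :
    IsZero ((CohSite.Rpush J K u (q + 1)).obj (colimit D)) := by
  obtain ⟨e⟩ := Groth.Agent.Lib.Cohomology.SiteRpushSh.rpush_iso_sheafify_succ J K u q (colimit D)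
  refine IsZero.of_iso ?_ e
  apply Functor.map_isZero
  apply Functor.isZero
  intro V
  have h1 : Subsingleton (Ext.{u} ((G J).obj (eps J (u.obj V.unop))) (colimit D) (q + 1)) :=
    acyclic_colimit D coh_qc (coh_gen hE) (coh_pb hE)
      (fun i L _ m => subsingleton_of_forall_eq 0 fun x =>
        have := hD i
        Ext.eq_zero_of_injective x) _ (hu V.unop) q
  have h2 : Subsingleton (Ext.{u} (CohCx.freeSheaf J (u.obj V.unop)) (colimit D) (q + 1)) :=
    subsingleton_ext_of_iso (freeSheafIso J (u.obj V.unop)) h1
  exact @AddCommGrpCat.isZero_of_subsingleton _ h2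

theorem preservesColimitsOfShape_Rpush (hE : ToposFin.IsAlgebraic J)
    (hu : ∀ V : D', IsCoherent (eps J (u.obj V))) (q : ℕ) :
    PreservesColimitsOfShape Λ (CohSite.Rpush J K u q) := by
  have h0 : PreservesColimitsOfShape Λ ((CohSite.push J K u).rightDerived 0) := by
    have := preservesColimitsOfShape_push (Λ := Λ) K u hE hu
    exact preservesColimitsOfShape_of_natIso
      (Functor.rightDerivedZeroIsoSelf (CohSite.push J K u)).symm
  exact RDerColim.preservesColimitsOfShape_rightDerived (CohSite.push J K u)
    (Groth.Agent.Lib.Helper47.RDerLES.derivedLES (CohSite.push J K u)) h0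
    (fun D hD q => isZero_Rpush_colimit K u hE hu D hD q) q

end Push

end Groth.Agent.Helper53.TFC
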