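import Mathlib
import Groth.Agent.Lib.Helper53.ToposCechExtColim
import Groth.Agent.Lib.Helper19.CechMono

/-!
# Cohomology with supports in the complement of a coherent open commutes with filtered colimits
-/

set_option autoImplicit false
universe u

open CategoryTheory CategoryTheory.Limits Opposite Abelian

namespace Groth.Agent.Helper53.TFC

open ToposFin Groth.Agent.Helper53.TF Groth.Agent.Lib.Helper19
open Groth.Agent.Lib.Helper19.CechHom Groth.Agent.Lib.Helper19.CechTop
open Groth.Agent.Helper53.ExtColim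

variable {C : Type u} [SmallCategory C] {J : GrothendieckTopology C}
variable {Λ : Type u} [SmallCategory Λ] [IsFiltered Λ]

section Supp

variable {U T : Sh J} (t : U ⟶ T) [Mono t]

/-- the short exact sequence `0 ⟶ ℤ[U] ⟶ ℤ[T] ⟶ ℤ[T]/ℤ[U] ⟶ 0`. -/
noncomputable abbrev suppS : ShortComplex (Sheaf J AddCommGrpCat.{u}) :=
  ShortComplex.mk ((G J).map t) (cokernel.π ((G J).map t)) (cokernel.condition _)

lemma suppS_shortExact : (suppS t).ShortExact :=
  ShortComplex.ShortExact.mk' (ShortComplex.exact_cokernel _)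
    (by dsimp [suppS]; infer_instance) (by dsimp [suppS]; infer_instance)

theorem surj_inj_supp (hE : ToposFin.IsAlgebraic J) (hT : IsCoherent T) (hU : IsCoherent U) :
    ∀ (q : ℕ) (D : Λ ⥤ Sheaf J AddCommGrpCat.{u}),
      Surj (cokernel ((G J).map t)) q D ∧ Inj (cokernel ((G J).map t)) q D := by
  have hgen := coh_gen hE
  have hpb := coh_pb hE
  have hQ : HasQCGenerators J := hasQCGenerators_of_gen coh_qc hgen
  have hS := suppS_shortExact t
  refine surj_inj _ (fun D => ⟨?_, ?_⟩) (fun D hD q x => ?_)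
  · intro x
    obtain ⟨φ, rfl⟩ := (Ext.mk₀_bijective _ _).2 x
    obtain ⟨i, y, hy⟩ := exists_lift_G D hQ hT (cokernel.π ((G J).map t) ≫ φ)
    obtain ⟨j, f, hf⟩ := exists_map_eq_zero_G D hU.1 ((G J).map t ≫ y) (by
      rw [Category.assoc, hy, cokernel.condition_assoc, zero_comp])
    refine ⟨j, Ext.mk₀ (cokernel.desc ((G J).map t) (y ≫ D.map f) (by
      rw [← Category.assoc]; exact hf)), ?_⟩
    rw [Ext.mk₀_comp_mk₀]
    congr 1
    rw [← cancel_epi (cokernel.π ((G J).map t)), cokernel.π_desc_assoc, Category.assoc,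
      colimit.w, hy]
  · intro i y hy
    obtain ⟨φ, rfl⟩ := (Ext.mk₀_bijective _ _).2 y
    rw [Ext.mk₀_comp_mk₀] at hy
    have h0 : φ ≫ colimit.ι D i = 0 :=
      (Ext.mk₀_bijective _ _).1 (hy.trans (Ext.mk₀_zero _ _).symm)
    obtain ⟨j, f, hf⟩ := exists_map_eq_zero_G D hT.1 (cokernel.π ((G J).map t) ≫ φ) (by
      rw [Category.assoc, h0, comp_zero])
    refine ⟨j, f, ?_⟩
    rw [Ext.mk₀_comp_mk₀]
    have : φ ≫ D.map f = 0 := by
      rw [← cancel_epi (cokernel.π ((G J).map t)), ← Category.assoc, hf, comp_zero]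
    rw [this, Ext.mk₀_zero]
  · have hac : ∀ (K : Sh J), IsCoherent K → ∀ m : ℕ,
        Subsingleton (Ext.{u} ((G J).obj K) (colimit D) (m + 1)) := fun K hK m =>
      acyclic_colimit D coh_qc hgen hpb
        (fun i L _ m => subsingleton_of_forall_eq 0 fun e =>
          have := hD i
          Ext.eq_zero_of_injective e) K hK m
    have hx : (Ext.mk₀ (suppS t).g).comp x (zero_add (q + 1)) = 0 :=
      (hac T hT q).elim _ _
    obtain ⟨x₁, rfl⟩ := Ext.contravariant_sequence_exact₃ hS _ x hx (add_comm 1 q)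
    cases q with
    | zero =>
      obtain ⟨φ, rfl⟩ := (Ext.mk₀_bijective _ _).2 x₁
      obtain ⟨i, y, hy⟩ := exists_lift_G D hQ hU φ
      have := hD i
      have hm : Mono ((G J).map t) := CechMono.mono_G_map t
      let ψ : (G J).obj T ⟶ D.obj i := Injective.factorThru y ((G J).map t)
      have hψ : (G J).map t ≫ ψ = y := Injective.comp_factorThru y _
      have hφ : φ = (suppS t).f ≫ (ψ ≫ colimit.ι D i) := by
        change φ = (G J).map t ≫ ψ ≫ colimit.ι D i
        rw [← Category.assoc, hψ, hy]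
      rw [hφ, ← Ext.mk₀_comp_mk₀]
      exact hS.extClass_comp_assoc _
    | succ q =>
      have h0 : x₁ = 0 := (hac U hU q).elim _ _
      rw [h0]
      exact Ext.comp_zero _ _ _ _ _

/-- **SGA 4 VI 5.x / S3898** (functor form). -/
theorem preservesColimitsOfShape_ext_supp (hE : ToposFin.IsAlgebraic J) (hT : IsCoherent T)
    (hU : IsCoherent U) (q : ℕ) :
    PreservesColimitsOfShape Λ ((extFunctor.{u} q).obj (op (cokernel ((G J).map t)))) :=
  ⟨fun {D} => preservesColimit_extFunctor _ q D (surj_inj_supp t hE hT hU q D).1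
    (surj_inj_supp t hE hT hU q D).2⟩

end Supp

end Groth.Agent.Helper53.TFC
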