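import Groth.Prelude.Def_SGA4c
import Mathlib.CategoryTheory.Sites.LocallySurjective
import Mathlib.CategoryTheory.Sites.LeftExact
import Mathlib.CategoryTheory.MorphismProperty.Limits
import Mathlib.CategoryTheory.Limits.Types.Pullbacks

/-!
# Helper library for the `ToposFin` family (SGA 4 VI §1: finiteness conditions in a topos)

Everything is for the topos `Sh J = Sheaf J (Type u)` of a small site.
-/

set_option autoImplicit false
universe u

open CategoryTheory CategoryTheory.Limits Opposite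

namespace Groth.Agent.Helper53.TF

section Abstract

variable {𝒞 : Type*} [Category 𝒞]

/-- A family of morphisms with common target is jointly epimorphic. -/
def JE {ι : Type*} {X : 𝒞} {F : ι → 𝒞} (π : ∀ i, F i ⟶ X) : Prop :=
  ∀ ⦃Z : 𝒞⦄ (a b : X ⟶ Z), (∀ i, π i ≫ a = π i ≫ b) → a = b

lemma epi_sigmaDesc_iff {ι : Type*} {X : 𝒞} {F : ι → 𝒞} [HasCoproduct F] (π : ∀ i, F i ⟶ X) :
    Epi (Sigma.desc π) ↔ JE π := by
  constructor
  · intro h Z a b hab
    rw [← cancel_epi (Sigma.desc π)]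
    apply Sigma.hom_ext
    intro i
    simpa using hab i
  · intro h
    constructor
    intro Z a b hab
    apply h
    intro i
    have := congrArg (fun t => Sigma.ι F i ≫ t) hab
    simpa using this

lemma JE.comp {ι : Type*} {X : 𝒞} {F : ι → 𝒞} {π : ∀ i, F i ⟶ X} (h : JE π)
    {κ : ι → Type*} {G : ∀ i, κ i → 𝒞} {ρ : ∀ i (k : κ i), G i k ⟶ F i} (hρ : ∀ i, JE (ρ i)) :
    JE (fun p : Σ i, κ i => ρ p.1 p.2 ≫ π p.1) := by
  intro Z a b hab
  apply h
  intro i
  apply hρ i
  intro k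
  simpa using hab ⟨i, k⟩

/-- If a jointly epimorphic family factors through another family, the latter is jointly epi. -/
lemma JE.of_factor {ι κ : Type*} {X : 𝒞} {F : ι → 𝒞} {π : ∀ i, F i ⟶ X} (h : JE π)
    {G : κ → 𝒞} (ρ : ∀ k, G k ⟶ X) (t : ι → κ) (φ : ∀ i, F i ⟶ G (t i))
    (hφ : ∀ i, φ i ≫ ρ (t i) = π i) : JE ρ := by
  intro Z a b hab
  apply h
  intro i
  rw [← hφ i, Category.assoc, Category.assoc, hab (t i)]

lemma isPullback_map_fst_aux {X Y X' Y' : 𝒞} {p : X' ⟶ X} {f' : X' ⟶ Y'} {f : X ⟶ Y}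
    {g : Y' ⟶ Y} (H : IsPullback p f' f g) [HasPullback f f] [HasPullback f' f']
    (m : pullback f' f' ⟶ pullback f f)
    (e1 : m ≫ pullback.fst f f = pullback.fst f' f' ≫ p)
    (e2 : m ≫ pullback.snd f f = pullback.snd f' f' ≫ p) :
    IsPullback m (pullback.fst f' f') (pullback.fst f f) p := by
  have h1 := (IsPullback.of_hasPullback f' f').flip.paste_horiz H
  rw [← e2, ← H.w] at h1
  exact IsPullback.of_right h1 e1 (IsPullback.of_hasPullback f f).flip

/-- The map on fibre squares induced by a cartesian square is a base change of `p`. -/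
lemma isPullback_map_fst {X Y X' Y' : 𝒞} {p : X' ⟶ X} {f' : X' ⟶ Y'} {f : X ⟶ Y} {g : Y' ⟶ Y}
    (H : IsPullback p f' f g) [HasPullback f f] [HasPullback f' f'] :
    IsPullback (pullback.map f' f' f f p p g H.w.symm H.w.symm) (pullback.fst f' f')
      (pullback.fst f f) p :=
  isPullback_map_fst_aux H _ (pullback.lift_fst _ _ _) (pullback.lift_snd _ _ _)

/-- The diagonal of a base change is the base change of the diagonal. -/
lemma isPullback_diagonal_of_isPullback {X Y X' Y' : 𝒞} {p : X' ⟶ X} {f' : X' ⟶ Y'} {f : X ⟶ Y}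
    {g : Y' ⟶ Y} (H : IsPullback p f' f g) [HasPullback f f] [HasPullback f' f'] :
    IsPullback p (pullback.diagonal f') (pullback.diagonal f)
      (pullback.map f' f' f f p p g H.w.symm H.w.symm) := by
  have h1 : IsPullback (pullback.diagonal f' ≫ pullback.fst f' f') p p
      (pullback.diagonal f ≫ pullback.fst f f) := by
    simp only [pullback.diagonal_fst]
    exact IsPullback.of_horiz_isIso ⟨by simp⟩
  refine (IsPullback.of_right h1 ?_ (isPullback_map_fst H).flip).flip
  apply pullback.hom_ext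
  · simp only [Category.assoc, pullback.lift_fst, pullback.diagonal_fst,
      pullback.diagonal_fst_assoc, Category.comp_id]
  · simp only [Category.assoc, pullback.lift_snd, pullback.diagonal_snd,
      pullback.diagonal_snd_assoc, Category.comp_id]

/-- The map on fibre squares induced by a cartesian square is a base change of `g`. -/
lemma isPullback_map_base {X Y X' Y' : 𝒞} {p : X' ⟶ X} {f' : X' ⟶ Y'} {f : X ⟶ Y} {g : Y' ⟶ Y}
    (H : IsPullback p f' f g) [HasPullback f f] [HasPullback f' f'] :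
    IsPullback (pullback.map f' f' f f p p g H.w.symm H.w.symm) (pullback.fst f' f' ≫ f')
      (pullback.fst f f ≫ f) g :=
  (isPullback_map_fst H).paste_vert H

/-- Left adjoints preserve jointly epimorphic families. -/
lemma JE.map_of_adj {𝒟 : Type*} [Category 𝒟] {F : 𝒞 ⥤ 𝒟} {R : 𝒟 ⥤ 𝒞} (adj : F ⊣ R)
    {ι : Type*} {X : 𝒞} {G : ι → 𝒞} {π : ∀ i, G i ⟶ X} (h : JE π) :
    JE (fun i => F.map (π i)) := by
  intro Z a b hab
  apply (adj.homEquiv _ _).injective
  apply h
  intro i
  have := congrArg (adj.homEquiv _ _) (hab i)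
  simpa [Adjunction.homEquiv_naturality_left] using this

end Abstract

section Concrete

variable {C : Type u} [SmallCategory C] {J : GrothendieckTopology C}

open ToposFin

/-- The sieve of arrows over which a section is in the image of some member of the family. -/
def coverSieve {ι : Type*} {X : Sh J} {F : ι → Sh J} (π : ∀ i, F i ⟶ X) {U : C}
    (x : X.obj.obj (op U)) : Sieve U where
  arrows V f := ∃ i, ∃ y : (F i).obj.obj (op V), (π i).hom.app _ y = X.obj.map f.op x
  downward_closed := by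
    rintro V W f ⟨i, y, hy⟩ g
    refine ⟨i, (F i).obj.map g.op y, ?_⟩
    rw [op_comp, X.obj.map_comp, ConcreteCategory.comp_apply, ← hy]
    exact NatTrans.naturality_apply (π i).hom g.op y

/-- Jointly locally surjective families are jointly epimorphic. -/
lemma JE_of_coverSieve {ι : Type*} {X : Sh J} {F : ι → Sh J} (π : ∀ i, F i ⟶ X)
    (h : ∀ (U : C) (x : X.obj.obj (op U)), coverSieve π x ∈ J U) : JE π := by
  intro Z a b hab
  ext U x
  induction U using Opposite.rec with | _ U => ?_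
  apply (((isSheaf_iff_isSheaf_of_type _ _).1 Z.2).isSeparated _ (h U x)).ext
  rintro V f ⟨i, y, hy⟩
  have h₁ := ConcreteCategory.congr_hom (a.hom.naturality f.op) x
  have h₂ := ConcreteCategory.congr_hom (b.hom.naturality f.op) x
  dsimp at h₁ h₂ ⊢
  rw [← h₁, ← h₂, ← hy]
  exact ConcreteCategory.congr_hom (congr_app ((sheafToPresheaf J _).congr_map (hab i)) (op V)) y

/-- The union of the ranges of a family of morphisms of sheaves, as a subfunctor. -/
def rangeUnion {ι : Type*} {X : Sh J} {F : ι → Sh J} (π : ∀ i, F i ⟶ X) : Subfunctor X.obj where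
  obj U := {x | ∃ i, ∃ y : (F i).obj.obj U, (π i).hom.app U y = x}
  map := by
    rintro U V f x ⟨i, y, rfl⟩
    exact ⟨i, (F i).obj.map f y, NatTrans.naturality_apply (π i).hom f y⟩

lemma coverSieve_eq {ι : Type*} {X : Sh J} {F : ι → Sh J} (π : ∀ i, F i ⟶ X) {U : C}
    (x : X.obj.obj (op U)) : coverSieve π x = (rangeUnion π).sieveOfSection x := rfl

/-- The "image" of a family: the sheafification of the union of the ranges. -/
def imgSheaf {ι : Type*} {X : Sh J} {F : ι → Sh J} (π : ∀ i, F i ⟶ X) : Sh J :=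
  ⟨((rangeUnion π).sheafify J).toFunctor, by
    rw [isSheaf_iff_isSheaf_of_type]
    apply Subfunctor.sheafify_isSheaf
    rw [← isSheaf_iff_isSheaf_of_type]
    exact X.2⟩

def imgι {ι : Type*} {X : Sh J} {F : ι → Sh J} (π : ∀ i, F i ⟶ X) : imgSheaf π ⟶ X :=
  ⟨Subfunctor.ι _⟩

def toImg {ι : Type*} {X : Sh J} {F : ι → Sh J} (π : ∀ i, F i ⟶ X) (i : ι) : F i ⟶ imgSheaf π :=
  ⟨Subfunctor.lift (π i).hom (by
    rintro U x ⟨y, rfl⟩
    exact (rangeUnion π).le_sheafify J U ⟨i, y, rfl⟩)⟩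

lemma toImg_ι {ι : Type*} {X : Sh J} {F : ι → Sh J} (π : ∀ i, F i ⟶ X) (i : ι) :
    toImg π i ≫ imgι π = π i := by
  ext1
  rfl

instance {ι : Type*} {X : Sh J} {F : ι → Sh J} (π : ∀ i, F i ⟶ X) : Mono (imgι π) :=
  (sheafToPresheaf J _).mono_of_mono_map
    (inferInstanceAs (Mono ((rangeUnion π).sheafify J).ι))

lemma coverSieve_mem_of_JE {ι : Type*} {X : Sh J} {F : ι → Sh J} (π : ∀ i, F i ⟶ X)
    (h : JE π) (U : C) (x : X.obj.obj (op U)) : coverSieve π x ∈ J U := by
  have hepi : Epi (imgι π) := by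
    constructor
    intro Z a b hab
    apply h
    intro i
    rw [← toImg_ι π i, Category.assoc, Category.assoc, hab]
  have hiso : IsIso (imgι π) := isIso_of_mono_of_epi _
  have hiso' : IsIso ((rangeUnion π).sheafify J).ι :=
    (inferInstance : IsIso ((sheafToPresheaf J _).map (imgι π)))
  have htop := (Subfunctor.eq_top_iff_isIso _).2 hiso'
  have hx : x ∈ ((rangeUnion π).sheafify J).obj (op U) := by
    rw [htop]; trivial
  exact hx

theorem JE_iff_coverSieve {ι : Type*} {X : Sh J} {F : ι → Sh J} (π : ∀ i, F i ⟶ X) :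
    JE π ↔ ∀ (U : C) (x : X.obj.obj (op U)), coverSieve π x ∈ J U :=
  ⟨coverSieve_mem_of_JE π, JE_of_coverSieve π⟩

/-- Sections of a pullback of sheaves: existence. -/
lemma exists_section_of_isPullback {P X Y Z : Sh J} {fst : P ⟶ X} {snd : P ⟶ Y} {f : X ⟶ Z}
    {g : Y ⟶ Z} (h : IsPullback fst snd f g) (U : Cᵒᵖ) (x : X.obj.obj U) (y : Y.obj.obj U)
    (hxy : f.hom.app U x = g.hom.app U y) :
    ∃ p : P.obj.obj U, fst.hom.app U p = x ∧ snd.hom.app U p = y :=
  Types.exists_of_isPullback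
    (h.map (sheafToPresheaf J (Type u) ⋙ (evaluation Cᵒᵖ (Type u)).obj U)) x y hxy

/-- Sections of a pullback of sheaves: uniqueness. -/
lemma section_ext_of_isPullback {P X Y Z : Sh J} {fst : P ⟶ X} {snd : P ⟶ Y} {f : X ⟶ Z}
    {g : Y ⟶ Z} (h : IsPullback fst snd f g) (U : Cᵒᵖ) (p q : P.obj.obj U)
    (h₁ : fst.hom.app U p = fst.hom.app U q) (h₂ : snd.hom.app U p = snd.hom.app U q) : p = q :=
  Types.ext_of_isPullback
    (h.map (sheafToPresheaf J (Type u) ⋙ (evaluation Cᵒᵖ (Type u)).obj U)) h₁ h₂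

/-- Jointly epimorphic families are stable under base change. -/
theorem JE.pullback {ι : Type*} {X X' : Sh J} {F F' : ι → Sh J} {π : ∀ i, F i ⟶ X} (h : JE π)
    (g : X' ⟶ X) (π' : ∀ i, F' i ⟶ X') (g' : ∀ i, F' i ⟶ F i)
    (hpb : ∀ i, IsPullback (g' i) (π' i) (π i) g) : JE π' := by
  rw [JE_iff_coverSieve] at h ⊢
  intro U x'
  refine J.superset_covering ?_ (h U (g.hom.app _ x'))
  rintro V f ⟨i, y, hy⟩
  have hy' : (π i).hom.app (op V) y = g.hom.app (op V) (X'.obj.map f.op x') := by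
    rw [hy]
    exact (NatTrans.naturality_apply g.hom f.op x').symm
  obtain ⟨p, -, hp⟩ := exists_section_of_isPullback (hpb i) (op V) y _ hy'
  exact ⟨i, p, hp⟩

theorem JE.pullback_snd {ι : Type*} {X X' : Sh J} {F : ι → Sh J} {π : ∀ i, F i ⟶ X} (h : JE π)
    (g : X' ⟶ X) : JE (fun i => pullback.snd (π i) g) :=
  h.pullback g _ (fun i => pullback.fst (π i) g) (fun _ => IsPullback.of_hasPullback _ _)

theorem JE.pullback_fst {ι : Type*} {X X' : Sh J} {F : ι → Sh J} {π : ∀ i, F i ⟶ X} (h : JE π)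
    (g : X' ⟶ X) : JE (fun i => pullback.fst g (π i)) :=
  h.pullback g _ (fun i => pullback.snd g (π i)) (fun _ => (IsPullback.of_hasPullback _ _).flip)

end Concrete

section QC

variable {C : Type u} [SmallCategory C] {J : GrothendieckTopology C}

open ToposFin

lemma isQC_iff (X : Sh J) : IsQC X ↔ ∀ (ι : Type u) (F : ι → Sh J) (π : ∀ i, F i ⟶ X), JE π →
    ∃ s : Finset ι, JE (fun i : s => π i) := by
  unfold IsQC
  simp only [epi_sigmaDesc_iff]

lemma isQC_exists_finset {X : Sh J} (h : IsQC X) {ι : Type*} [Small.{u} ι] {F : ι → Sh J}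
    (π : ∀ i, F i ⟶ X) (hπ : JE π) : ∃ s : Finset ι, JE (fun i : s => π i) := by
  classical
  let e : ι ≃ Shrink.{u} ι := equivShrink ι
  have h1 : JE (fun k : Shrink.{u} ι => π (e.symm k)) := by
    intro Z a b hab
    apply hπ
    intro i
    have key : ∀ k i, e.symm k = i → π i ≫ a = π i ≫ b := by
      rintro k _ rfl
      exact hab k
    exact key (e i) i (e.symm_apply_apply i)
  obtain ⟨s', hs'⟩ := (isQC_iff X).1 h _ _ _ h1
  refine ⟨s'.map e.symm.toEmbedding, ?_⟩
  intro Z a b hab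
  apply hs'
  rintro ⟨k, hk⟩
  exact hab ⟨e.symm k, Finset.mem_map.2 ⟨k, hk, rfl⟩⟩

lemma isQC_of_iso {X Y : Sh J} (e : X ≅ Y) (h : IsQC X) : IsQC Y := by
  rw [isQC_iff] at h ⊢
  intro ι F π hπ
  have h1 : JE (fun i => π i ≫ e.inv) := by
    intro Z a b hab
    have : e.inv ≫ a = e.inv ≫ b := by
      apply hπ
      intro i
      simpa using hab i
    simpa using congrArg (fun t => e.hom ≫ t) this
  obtain ⟨s, hs⟩ := h ι F _ h1
  refine ⟨s, ?_⟩
  intro Z a b hab
  have : e.hom ≫ a = e.hom ≫ b := by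
    apply hs
    intro i
    simpa using hab i
  simpa using congrArg (fun t => e.inv ≫ t) this

/-- A finite jointly epimorphic family with quasi-compact sources has quasi-compact target. -/
theorem isQC_of_finite_JE {κ : Type*} [Finite κ] {X : Sh J} (F : κ → Sh J) (π : ∀ k, F k ⟶ X)
    (hπ : JE π) (hF : ∀ k, IsQC (F k)) : IsQC X := by
  classical
  have := Fintype.ofFinite κ
  rw [isQC_iff]
  intro ι G ρ hρ
  have hk : ∀ k, ∃ s : Finset ι, JE (fun i : s => pullback.snd (ρ i) (π k)) := fun k =>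
    isQC_exists_finset (hF k) _ (hρ.pullback_snd (π k))
  choose s hs using hk
  refine ⟨Finset.biUnion Finset.univ s, ?_⟩
  intro Z a b hab
  apply hπ
  intro k
  apply hs k
  rintro ⟨i, hi⟩
  have hi' : i ∈ Finset.biUnion Finset.univ s := Finset.mem_biUnion.2 ⟨k, Finset.mem_univ _, hi⟩
  have := hab ⟨i, hi'⟩
  dsimp at this ⊢
  rw [← pullback.condition_assoc, ← pullback.condition_assoc, this]

theorem isQC_of_epi {X Y : Sh J} (f : X ⟶ Y) [Epi f] (h : IsQC X) : IsQC Y := by
  refine isQC_of_finite_JE (κ := Unit) (fun _ => X) (fun _ => f) ?_ (fun _ => h)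
  intro Z a b hab
  rw [← cancel_epi f]
  exact hab ()

theorem isQC_of_isInitial {X : Sh J} (h : IsInitial X) : IsQC X := by
  rw [isQC_iff]
  intro ι F π _
  exact ⟨∅, fun Z a b _ => h.hom_ext a b⟩

end QC

section QCHom

variable {C : Type u} [SmallCategory C] {J : GrothendieckTopology C}

open ToposFin

/-- The base property whose universal closure is quasi-compactness of morphisms. -/
def qcBase : MorphismProperty (Sh J) := fun X Y _ => IsQC Y → IsQC X

instance : (qcBase (J := J)).IsStableUnderComposition where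
  comp_mem _ _ hf hg := fun h => hf (hg h)

/-- Quasi-compact morphisms as a morphism property. -/
def QCHomP : MorphismProperty (Sh J) := fun _ _ f => IsQCHom f

/-- Quasi-separated morphisms as a morphism property. -/
def QSHomP : MorphismProperty (Sh J) := fun _ _ f => IsQSHom f

lemma QCHomP_eq : QCHomP (J := J) = qcBase.universally := by
  ext X Y f
  constructor
  · intro h X' Y' i₁ i₂ f' H hY'
    exact isQC_of_iso (H.flip.isoPullback).symm (h Y' i₂ hY')
  · intro h Y' g hY'
    exact h (pullback.fst f g) g (pullback.snd f g) (IsPullback.of_hasPullback f g).flip hY'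

lemma QSHomP_eq : QSHomP (J := J) = (QCHomP (J := J)).diagonal := rfl

instance : (QCHomP (J := J)).IsStableUnderBaseChange := by
  rw [QCHomP_eq]; infer_instance

instance : (QCHomP (J := J)).IsStableUnderComposition := by
  rw [QCHomP_eq]; infer_instance

instance : (QCHomP (J := J)).RespectsIso := by
  rw [QCHomP_eq]; infer_instance

instance : (QCHomP (J := J)).ContainsIdentities where
  id_mem X := fun _ g hY' => isQC_of_iso (asIso (pullback.snd (𝟙 X) g)).symm hY'

instance : (QCHomP (J := J)).IsMultiplicative where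

instance : (QSHomP (J := J)).IsStableUnderBaseChange := by
  rw [QSHomP_eq]; infer_instance

instance : (QSHomP (J := J)).IsStableUnderComposition := by
  rw [QSHomP_eq]; infer_instance

instance : (QSHomP (J := J)).RespectsIso := by
  rw [QSHomP_eq]; infer_instance

instance : (QSHomP (J := J)).IsMultiplicative := by
  rw [QSHomP_eq]; infer_instance

/-- Quasi-compact morphism: the `IsPullback` form. -/
lemma isQC_of_isPullback_of_isQCHom {P X Y Y' : Sh J} {fst : P ⟶ X} {snd : P ⟶ Y'} {f : X ⟶ Y}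
    {g : Y' ⟶ Y} (H : IsPullback fst snd f g) (hf : IsQCHom f) (hY' : IsQC Y') : IsQC P :=
  isQC_of_iso H.isoPullback.symm (hf Y' g hY')

lemma isQC_of_isQCHom {X Y : Sh J} (f : X ⟶ Y) (hf : IsQCHom f) (hY : IsQC Y) : IsQC X :=
  isQC_of_isPullback_of_isQCHom (IsPullback.id_horiz f) hf hY

lemma isQCHom_of_isIso {X Y : Sh J} (f : X ⟶ Y) [IsIso f] : IsQCHom f :=
  (QCHomP (J := J)).of_isIso f

lemma isQCHom_comp {X Y Z : Sh J} (f : X ⟶ Y) (g : Y ⟶ Z) (hf : IsQCHom f) (hg : IsQCHom g) :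
    IsQCHom (f ≫ g) :=
  (QCHomP (J := J)).comp_mem f g hf hg

lemma isQCHom_of_isPullback {P X Y Y' : Sh J} {fst : P ⟶ X} {snd : P ⟶ Y'} {f : X ⟶ Y}
    {g : Y' ⟶ Y} (H : IsPullback fst snd f g) (hf : IsQCHom f) : IsQCHom snd :=
  (QCHomP (J := J)).of_isPullback H hf

lemma isQCHom_of_isPullback' {P X Y Y' : Sh J} {fst : P ⟶ X} {snd : P ⟶ Y'} {f : X ⟶ Y}
    {g : Y' ⟶ Y} (H : IsPullback fst snd f g) (hg : IsQCHom g) : IsQCHom fst :=
  (QCHomP (J := J)).of_isPullback H.flip hg

/-- Quasi-separated object: the `IsPullback` form. -/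
lemma isQC_of_isPullback_of_isQS {P A B X : Sh J} {fst : P ⟶ A} {snd : P ⟶ B} {a : A ⟶ X}
    {b : B ⟶ X} (H : IsPullback fst snd a b) (hX : IsQS X) (hA : IsQC A) (hB : IsQC B) : IsQC P :=
  isQC_of_iso H.isoPullback.symm (hX A B a b hA hB)

instance : (QCHomP (J := J)).HasOfPostcompProperty QSHomP :=
  (MorphismProperty.hasOfPostcompProperty_iff_le_diagonal).2 le_rfl

lemma isQCHom_of_comp_of_isQSHom {X Y Z : Sh J} (f : X ⟶ Y) (g : Y ⟶ Z) (hg : IsQSHom g)
    (h : IsQCHom (f ≫ g)) : IsQCHom f :=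
  (QCHomP (J := J)).of_postcomp (W' := QSHomP) f g hg h

lemma isQCHom_of_comp_of_mono {X Y Z : Sh J} (f : X ⟶ Y) (g : Y ⟶ Z) [Mono g]
    (h : IsQCHom (f ≫ g)) : IsQCHom f :=
  (QCHomP (J := J)).of_postcomp (W' := MorphismProperty.monomorphisms _) f g
    (inferInstanceAs (Mono g)) h

lemma isQSHom_of_comp {X Y Z : Sh J} (f : X ⟶ Y) (g : Y ⟶ Z) (h : IsQSHom (f ≫ g)) :
    IsQSHom f := by
  have h' : IsQCHom (pullback.diagonal f ≫
      ((pullbackDiagonalMapIdIso f f g).inv ≫ pullback.snd _ _)) := by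
    rw [← pullback.diagonal_comp]; exact h
  exact isQCHom_of_comp_of_mono _ _ h'

lemma isQSHom_of_mono {X Y : Sh J} (f : X ⟶ Y) [Mono f] : IsQSHom f :=
  isQCHom_of_isIso (pullback.diagonal f)

lemma isQSHom_comp {X Y Z : Sh J} (f : X ⟶ Y) (g : Y ⟶ Z) (hf : IsQSHom f) (hg : IsQSHom g) :
    IsQSHom (f ≫ g) :=
  (QSHomP (J := J)).comp_mem f g hf hg

lemma isQSHom_of_isPullback {P X Y Y' : Sh J} {fst : P ⟶ X} {snd : P ⟶ Y'} {f : X ⟶ Y}
    {g : Y' ⟶ Y} (H : IsPullback fst snd f g) (hf : IsQSHom f) : IsQSHom snd :=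
  (QSHomP (J := J)).of_isPullback H hf

/-- If `f : X ⟶ Y` is quasi-separated and `Y` is quasi-separated then so is `X`. -/
theorem isQS_of_isQSHom_of_isQS {X Y : Sh J} (f : X ⟶ Y) (hf : IsQSHom f) (hY : IsQS Y) :
    IsQS X := by
  intro A B a b hA hB
  refine isQC_of_iso (pullbackDiagonalMapIdIso a b f) ?_
  exact hf _ _ (hY A B (a ≫ f) (b ≫ f) hA hB)

theorem isQS_of_mono {X Y : Sh J} (i : X ⟶ Y) [Mono i] (hY : IsQS Y) : IsQS X :=
  isQS_of_isQSHom_of_isQS i (isQSHom_of_mono i) hY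

/-- A finite jointly epimorphic family `f k : X k ⟶ Y` with all `f k ≫ g` quasi-compact forces
`g` to be quasi-compact. -/
theorem isQCHom_of_finite_JE {κ : Type*} [Finite κ] {Y Z : Sh J} (g : Y ⟶ Z) (X : κ → Sh J)
    (f : ∀ k, X k ⟶ Y) (hf : JE f) (h : ∀ k, IsQCHom (f k ≫ g)) : IsQCHom g := by
  intro Z' t hZ'
  refine isQC_of_finite_JE (fun k => pullback (f k) (pullback.fst g t))
    (fun k => pullback.snd (f k) (pullback.fst g t)) (hf.pullback_snd _) ?_
  intro k
  exact isQC_of_isPullback_of_isQCHom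
    ((IsPullback.of_hasPullback (f k) (pullback.fst g t)).paste_vert
      (IsPullback.of_hasPullback g t)) (h k) hZ'

/-- If `Y'` is covered by finitely many `W k` with `X ×_Y W k` quasi-compact, then `X ×_Y Y'` is
quasi-compact. -/
theorem isQC_pullback_of_finite_cover {κ : Type*} [Finite κ] {X Y Y' : Sh J} (f : X ⟶ Y)
    (g : Y' ⟶ Y) (W : κ → Sh J) (π : ∀ k, W k ⟶ Y') (hπ : JE π)
    (h : ∀ k, IsQC (pullback f (π k ≫ g))) : IsQC (pullback f g) := by
  refine isQC_of_finite_JE (fun k => pullback (pullback.snd f g) (π k))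
    (fun k => pullback.fst _ _) (hπ.pullback_fst _) ?_
  intro k
  exact isQC_of_iso ((IsPullback.of_hasPullback (pullback.snd f g) (π k)).paste_horiz
    (IsPullback.of_hasPullback f g)).isoPullback.symm (h k)

/-- With quasi-compact generators, every jointly epimorphic family can be refined by a jointly
epimorphic family with quasi-compact sources. -/
lemma exists_qc_refinement (hE : HasQCGenerators J) {ι : Type u} {X : Sh J} {F : ι → Sh J}
    (π : ∀ i, F i ⟶ X) (hπ : JE π) :
    ∃ (κ : Type u) (G : κ → Sh J) (t : κ → ι) (γ : ∀ k, G k ⟶ F (t k)),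
      (∀ k, IsQC (G k)) ∧ JE (fun k => γ k ≫ π (t k)) := by
  choose κ G γ hG hγ using fun i => hE (F i)
  refine ⟨Σ i, κ i, fun p => G p.1 p.2, fun p => p.1, fun p => γ p.1 p.2, fun p => hG p.1 p.2, ?_⟩
  exact hπ.comp (fun i => (epi_sigmaDesc_iff _).1 (hγ i))

/-- Finite version of `exists_qc_refinement` over a quasi-compact object. -/
lemma exists_finite_qc_refinement (hE : HasQCGenerators J) {ι : Type u} {X : Sh J}
    (hX : IsQC X) {F : ι → Sh J} (π : ∀ i, F i ⟶ X) (hπ : JE π) :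
    ∃ (κ : Type u) (_ : Finite κ) (G : κ → Sh J) (t : κ → ι) (γ : ∀ k, G k ⟶ F (t k)),
      (∀ k, IsQC (G k)) ∧ JE (fun k => γ k ≫ π (t k)) := by
  obtain ⟨κ, G, t, γ, hG, hγ⟩ := exists_qc_refinement hE π hπ
  obtain ⟨s, hs⟩ := isQC_exists_finset hX _ hγ
  exact ⟨s, inferInstance, fun k => G k, fun k => t k, fun k => γ k, fun k => hG k, hs⟩

/-- Quasi-compactness of a morphism is local on the target. -/
theorem isQCHom_of_JE_cover (hE : HasQCGenerators J) {A B : Sh J} (h : A ⟶ B) {ι : Type u}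
    (Bi : ι → Sh J) (q : ∀ i, Bi i ⟶ B) (hq : JE q)
    (hh : ∀ i, IsQCHom (pullback.snd h (q i))) : IsQCHom h := by
  intro W t hW
  obtain ⟨κ, _, G, τ, γ, hG, hγ⟩ := exists_finite_qc_refinement hE hW _ (hq.pullback_fst t)
  refine isQC_pullback_of_finite_cover h t G (fun k => γ k ≫ pullback.fst t (q (τ k))) hγ ?_
  intro k
  have e : (γ k ≫ pullback.fst t (q (τ k))) ≫ t =
      (γ k ≫ pullback.snd t (q (τ k))) ≫ q (τ k) := by
    simp only [Category.assoc, pullback.condition]
  have HP := (IsPullback.of_hasPullback (pullback.snd h (q (τ k)))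
    (γ k ≫ pullback.snd t (q (τ k)))).paste_horiz (IsPullback.of_hasPullback h (q (τ k)))
  rw [← e] at HP
  exact isQC_of_iso HP.isoPullback (hh (τ k) _ _ (hG k))

/-- `IsPullback` form of `isQCHom_of_JE_cover`. -/
theorem isQCHom_of_JE_cover' (hE : HasQCGenerators J) {A B : Sh J} (h : A ⟶ B) {ι : Type u}
    (Bi : ι → Sh J) (q : ∀ i, Bi i ⟶ B) (hq : JE q) (Ai : ι → Sh J) (p : ∀ i, Ai i ⟶ A)
    (hi : ∀ i, Ai i ⟶ Bi i) (H : ∀ i, IsPullback (p i) (hi i) h (q i))
    (hh : ∀ i, IsQCHom (hi i)) : IsQCHom h := by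
  refine isQCHom_of_JE_cover hE h Bi q hq (fun i => ?_)
  have : pullback.snd h (q i) = (H i).isoPullback.inv ≫ hi i := by simp
  rw [this]
  exact ((QCHomP (J := J)).cancel_left_of_respectsIso _ _).2 (hh i)

/-- Quasi-separatedness of a morphism is local on the target. -/
theorem isQSHom_of_JE_cover (hE : HasQCGenerators J) {X Y : Sh J} (f : X ⟶ Y) {ι : Type u}
    (Yi : ι → Sh J) (g : ∀ i, Yi i ⟶ Y) (hg : JE g)
    (hf : ∀ i, IsQSHom (pullback.snd f (g i))) : IsQSHom f := by
  have H : ∀ i, IsPullback (pullback.fst f (g i)) (pullback.snd f (g i)) f (g i) :=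
    fun i => IsPullback.of_hasPullback f (g i)
  refine isQCHom_of_JE_cover' hE (pullback.diagonal f)
    (fun i => pullback (pullback.snd f (g i)) (pullback.snd f (g i)))
    (fun i => pullback.map _ _ f f _ _ (g i) (H i).w.symm (H i).w.symm) ?_
    (fun i => pullback f (g i)) (fun i => pullback.fst f (g i))
    (fun i => pullback.diagonal (pullback.snd f (g i)))
    (fun i => isPullback_diagonal_of_isPullback (H i)) hf
  exact hg.pullback (pullback.fst f f ≫ f) _ _ (fun i => (isPullback_map_base (H i)).flip)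

/-- Products of jointly epimorphic families over a base are jointly epimorphic. -/
theorem JE_pullback_map {ι κ : Type*} {X X' S : Sh J} {F : ι → Sh J} {G : κ → Sh J}
    {π : ∀ i, F i ⟶ X} {ρ : ∀ j, G j ⟶ X'} (hπ : JE π) (hρ : JE ρ) (x : X ⟶ S) (x' : X' ⟶ S) :
    JE (fun p : ι × κ => pullback.map (π p.1 ≫ x) (ρ p.2 ≫ x') x x' (π p.1) (ρ p.2) (𝟙 S)
      (Category.comp_id _) (Category.comp_id _)) := by
  -- first family: base change of `ρ` along `snd : X ×_S X' ⟶ X'`
  have h1 : JE (fun j => pullback.fst (pullback.snd x x') (ρ j)) := hρ.pullback_fst _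
  -- second family: base change of `π` along `R_j ⟶ X ×_S X' ⟶ X`
  have h2 : ∀ j, JE (fun i => pullback.snd (π i)
      (pullback.fst (pullback.snd x x') (ρ j) ≫ pullback.fst x x')) := fun j => hπ.pullback_snd _
  have h3 := h1.comp h2
  refine h3.of_factor _ (fun p => (p.2, p.1)) (fun p => pullback.lift (pullback.fst _ _)
    (pullback.snd _ _ ≫ pullback.snd _ _) ?_) ?_
  · simp only [Category.assoc]
    rw [pullback.condition_assoc, Category.assoc, pullback.condition,
      ← pullback.condition_assoc]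
  · intro p
    apply pullback.hom_ext
    · simp only [Category.assoc, pullback.lift_fst, pullback.lift_fst_assoc, pullback.condition]
    · simp only [Category.assoc, pullback.lift_snd, pullback.lift_snd_assoc, pullback.condition]

/-- If `Y` is covered by quasi-separated objects via quasi-compact morphisms, `Y` is
quasi-separated. -/
theorem isQS_of_JE_cover {Y : Sh J} {ι : Type u} (Yi : ι → Sh J) (g : ∀ i, Yi i ⟶ Y) (hg : JE g)
    (hqs : ∀ i, IsQS (Yi i)) (hqc : ∀ i, IsQCHom (g i)) : IsQS Y := by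
  intro A B a b hA hB
  have hAi : ∀ i, IsQC (pullback a (g i)) := fun i =>
    isQC_of_isPullback_of_isQCHom (IsPullback.of_hasPullback a (g i)).flip (hqc i) hA
  have hBi : ∀ i, IsQC (pullback b (g i)) := fun i =>
    isQC_of_isPullback_of_isQCHom (IsPullback.of_hasPullback b (g i)).flip (hqc i) hB
  obtain ⟨s, hs⟩ := isQC_exists_finset hA _ (hg.pullback_fst a)
  refine isQC_of_iso (pullbackSymmetry b a) ?_
  refine isQC_pullback_of_finite_cover b a (fun k : s => pullback a (g k))
    (fun k => pullback.fst a (g k)) hs ?_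
  intro k
  have HP := (IsPullback.of_hasPullback (pullback.snd b (g k))
    (pullback.snd a (g k))).paste_horiz (IsPullback.of_hasPullback b (g k))
  rw [← pullback.condition (f := a) (g := g k)] at HP
  exact isQC_of_iso HP.isoPullback (hqs k _ _ _ _ (hBi k) (hAi k))

/-- A morphism from a quasi-compact object to a quasi-separated object is quasi-compact. -/
theorem isQCHom_of_isQC_of_isQS {X Y : Sh J} (f : X ⟶ Y) (hX : IsQC X) (hY : IsQS Y) :
    IsQCHom f := fun W t hW => hY X W f t hX hW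

/-- Quasi-separatedness can be checked on a cover of the source by quasi-compact morphisms. -/
theorem isQSHom_of_JE_source (hE : HasQCGenerators J) {Y Z : Sh J} (g : Y ⟶ Z) {ι : Type u}
    (X : ι → Sh J) (f : ∀ i, X i ⟶ Y) (hf : JE f) (hqc : ∀ i, IsQCHom (f i))
    (hqs : ∀ i, IsQSHom (f i ≫ g)) : IsQSHom g := by
  refine isQCHom_of_JE_cover' hE (pullback.diagonal g) (ι := ι × ι)
    (fun p => pullback (f p.1 ≫ g) (f p.2 ≫ g))
    (fun p => pullback.map (f p.1 ≫ g) (f p.2 ≫ g) g g (f p.1) (f p.2) (𝟙 _)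
      (Category.comp_id _) (Category.comp_id _))
    (JE_pullback_map hf hf g g)
    (fun p => pullback (f p.1) (f p.2))
    (fun p => pullback.fst _ _ ≫ f p.1)
    (fun p => pullback.map (f p.1) (f p.2) (f p.1 ≫ g) (f p.2 ≫ g) (𝟙 _) (𝟙 _) g
      (Category.id_comp _).symm (Category.id_comp _).symm)
    (fun p => pullback_map_diagonal_isPullback (f p.1) (f p.2) g)
    (fun p => ?_)
  apply isQCHom_of_comp_of_isQSHom _ (pullback.fst (f p.1 ≫ g) (f p.2 ≫ g))
  · exact isQSHom_of_isPullback (IsPullback.of_hasPullback _ _).flip (hqs p.2)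
  · have : pullback.map (f p.1) (f p.2) (f p.1 ≫ g) (f p.2 ≫ g) (𝟙 _) (𝟙 _) g
        (Category.id_comp _).symm (Category.id_comp _).symm ≫
          pullback.fst (f p.1 ≫ g) (f p.2 ≫ g) = pullback.fst (f p.1) (f p.2) := by
      rw [pullback.lift_fst, Category.comp_id]
    rw [this]
    exact isQCHom_of_isPullback (IsPullback.of_hasPullback _ _).flip (hqc p.2)

/-- If `X` is quasi-separated and covered by quasi-compact `X i` with all `X i ×_Y X j`
quasi-separated, then `f : X ⟶ Y` is quasi-separated. -/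
theorem isQSHom_of_cover_qs_products (hE : HasQCGenerators J) {X Y : Sh J} (f : X ⟶ Y)
    {ι : Type u} (Xi : ι → Sh J) (g : ∀ i, Xi i ⟶ X) (hg : JE g) (hqc : ∀ i, IsQC (Xi i))
    (hqs : ∀ i j, IsQS (pullback (g i ≫ f) (g j ≫ f))) (hX : IsQS X) : IsQSHom f :=
  isQCHom_of_JE_cover' hE (pullback.diagonal f) (ι := ι × ι)
    (fun p => pullback (g p.1 ≫ f) (g p.2 ≫ f))
    (fun p => pullback.map (g p.1 ≫ f) (g p.2 ≫ f) f f (g p.1) (g p.2) (𝟙 _)
      (Category.comp_id _) (Category.comp_id _))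
    (JE_pullback_map hg hg f f)
    (fun p => pullback (g p.1) (g p.2))
    (fun p => pullback.fst _ _ ≫ g p.1)
    (fun p => pullback.map (g p.1) (g p.2) (g p.1 ≫ f) (g p.2 ≫ f) (𝟙 _) (𝟙 _) f
      (Category.id_comp _).symm (Category.id_comp _).symm)
    (fun p => pullback_map_diagonal_isPullback (g p.1) (g p.2) f)
    (fun p => isQCHom_of_isQC_of_isQS _ (hX _ _ _ _ (hqc p.1) (hqc p.2)) (hqs p.1 p.2))

instance mono_prod_lift_pullback {A B S : Sh J} (u : A ⟶ S) (v : B ⟶ S) :
    Mono (prod.lift (pullback.fst u v) (pullback.snd u v)) :=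
  ⟨fun a b hab => by
    apply pullback.hom_ext
    · have h1 := congrArg (fun t => t ≫ prod.fst) hab
      simp only [Category.assoc, prod.lift_fst] at h1
      exact h1
    · have h1 := congrArg (fun t => t ≫ prod.snd) hab
      simp only [Category.assoc, prod.lift_snd] at h1
      exact h1⟩

end QCHom

section Coprod

variable {C : Type u} [SmallCategory C] {J : GrothendieckTopology C}

open ToposFin

noncomputable def isInitial_of_hom_to {A I : Sh J} (f : A ⟶ I) (hI : IsInitial I) :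
    IsInitial A :=
  have := hI.isIso_to f
  hI.ofIso (asIso f).symm

lemma isQCHom_of_isInitial {X Y : Sh J} (f : X ⟶ Y) (hX : IsInitial X) : IsQCHom f :=
  fun _ t _ => isQC_of_isInitial (isInitial_of_hom_to (pullback.fst f t) hX)

lemma JE_cofan_inj {ι : Type*} {F : ι → Sh J} (c : Cofan F) (hc : IsColimit c) : JE c.inj :=
  fun _ _ _ hab => Cofan.IsColimit.hom_ext hc _ _ hab

/-- Coproducts in the topos are disjoint. -/
noncomputable def isInitial_pullback_of_ne {ι : Type*} {F : ι → Sh J} (c : Cofan F) (hc : IsColimit c)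
    {i j : ι} (hij : i ≠ j) : IsInitial (pullback (c.inj i) (c.inj j)) := by
  classical
  let T : Sh J := ⊤_ (Sh J)
  let χ : c.pt ⟶ T ⨿ T := Cofan.IsColimit.desc hc (fun k =>
    if k = i then terminal.from (F k) ≫ coprod.inl else terminal.from (F k) ≫ coprod.inr)
  have h1 : c.inj i ≫ χ = terminal.from (F i) ≫ coprod.inl := by
    rw [Cofan.IsColimit.fac]
    exact if_pos rfl
  have h2 : c.inj j ≫ χ = terminal.from (F j) ≫ coprod.inr := by
    rw [Cofan.IsColimit.fac]
    exact if_neg hij.symm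
  have e : terminal.from (pullback (c.inj i) (c.inj j)) ≫ (coprod.inl : T ⟶ T ⨿ T) =
      terminal.from (pullback (c.inj i) (c.inj j)) ≫ (coprod.inr : T ⟶ T ⨿ T) :=
    calc terminal.from (pullback (c.inj i) (c.inj j)) ≫ (coprod.inl : T ⟶ T ⨿ T)
        = (pullback.fst (c.inj i) (c.inj j) ≫ terminal.from (F i)) ≫ coprod.inl := by
          rw [terminal.comp_from]
      _ = pullback.fst (c.inj i) (c.inj j) ≫ c.inj i ≫ χ := by rw [Category.assoc, h1]
      _ = pullback.snd (c.inj i) (c.inj j) ≫ c.inj j ≫ χ := by rw [pullback.condition_assoc]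
      _ = (pullback.snd (c.inj i) (c.inj j) ≫ terminal.from (F j)) ≫ coprod.inr := by
          rw [h2, Category.assoc]
      _ = terminal.from (pullback (c.inj i) (c.inj j)) ≫ (coprod.inr : T ⟶ T ⨿ T) := by
          rw [terminal.comp_from]
  have HP := FinitaryExtensive.isPullback_initial_to_binaryCofan (coprodIsCoprod T T)
  exact isInitial_of_hom_to (HP.lift _ _ e) initialIsInitial

/-- A "complemented" member of a jointly epimorphic family over a quasi-compact object is
quasi-compact. -/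
theorem isQC_of_complemented {X : Sh J} (hX : IsQC X) {ι : Type*} [Small.{u} ι] {F : ι → Sh J}
    (ρ : ∀ j, F j ⟶ X) (hρ : JE ρ) (i : ι) [Mono (ρ i)]
    (hdisj : ∀ j, j ≠ i → IsInitial (pullback (ρ j) (ρ i))) : IsQC (F i) := by
  classical
  rw [isQC_iff]
  intro κ U σ hσ
  let T : κ ⊕ {j // j ≠ i} → Sh J := Sum.elim U (fun j => F j.1)
  let θ : ∀ m, T m ⟶ X := Sum.rec (fun k => σ k ≫ ρ i) (fun j => ρ j.1)
  have hθ : JE θ := by
    intro Z a b hab
    apply hρ
    intro j
    by_cases hj : j = i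
    · subst hj
      apply hσ
      intro k
      have := hab (Sum.inl k)
      change (σ k ≫ ρ j) ≫ a = (σ k ≫ ρ j) ≫ b at this
      simpa using this
    · exact hab (Sum.inr ⟨j, hj⟩)
  obtain ⟨s, hs⟩ := isQC_exists_finset hX θ hθ
  have hs' := hs.pullback_snd (ρ i)
  refine ⟨s.toLeft, ?_⟩
  intro Z a b hab
  apply hs'
  rintro ⟨m, hm⟩
  cases m with
  | inl k =>
    have hk : k ∈ s.toLeft := Finset.mem_toLeft.2 hm
    have e : pullback.snd (σ k ≫ ρ i) (ρ i) = pullback.fst (σ k ≫ ρ i) (ρ i) ≫ σ k := by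
      rw [← cancel_mono (ρ i), Category.assoc, pullback.condition]
    change pullback.snd (σ k ≫ ρ i) (ρ i) ≫ a = pullback.snd (σ k ≫ ρ i) (ρ i) ≫ b
    rw [e, Category.assoc, Category.assoc, hab ⟨k, hk⟩]
  | inr j => exact (hdisj j.1 j.2).hom_ext _ _

/-- Coproduct injections are quasi-compact morphisms. -/
theorem isQCHom_cofan_inj {ι : Type*} [Small.{u} ι] {F : ι → Sh J} (c : Cofan F)
    (hc : IsColimit c) (i : ι) : IsQCHom (c.inj i) := by
  intro W t hW
  have hmono : Mono (c.inj i) := MonoCoprod.mono_inj F c hc i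
  have hJE : JE (fun j => pullback.fst t (c.inj j)) := (JE_cofan_inj c hc).pullback_fst t
  have : IsQC (pullback t (c.inj i)) := isQC_of_complemented hW _ hJE i (fun j hj =>
    isInitial_of_hom_to (pullback.map _ _ _ _ (pullback.snd _ _) (pullback.snd _ _) t
      pullback.condition pullback.condition) (isInitial_pullback_of_ne c hc hj))
  exact isQC_of_iso (pullbackSymmetry _ _) this

/-- Quasi-compactness is local on the target for covers by quasi-compact morphisms (no
generators needed). -/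
theorem isQCHom_of_JE_cover_qc {A B : Sh J} (h : A ⟶ B) {ι : Type*} [Small.{u} ι]
    (Bi : ι → Sh J) (q : ∀ i, Bi i ⟶ B) (hq : JE q) (hqc : ∀ i, IsQCHom (q i))
    (hh : ∀ i, IsQCHom (pullback.snd h (q i))) : IsQCHom h := by
  intro W t hW
  have hWi : ∀ i, IsQC (pullback t (q i)) := fun i =>
    isQC_of_isPullback_of_isQCHom (IsPullback.of_hasPullback t (q i)).flip (hqc i) hW
  obtain ⟨s, hs⟩ := isQC_exists_finset hW _ (hq.pullback_fst t)
  refine isQC_pullback_of_finite_cover h t (fun k : s => pullback t (q k))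
    (fun k => pullback.fst t (q k)) hs ?_
  intro k
  have HP := (IsPullback.of_hasPullback (pullback.snd h (q k))
    (pullback.snd t (q k))).paste_horiz (IsPullback.of_hasPullback h (q k))
  rw [← pullback.condition (f := t) (g := q k)] at HP
  exact isQC_of_iso HP.isoPullback (hh k _ _ (hWi k))

/-- `IsPullback` form of `isQCHom_of_JE_cover_qc`. -/
theorem isQCHom_of_JE_cover_qc' {A B : Sh J} (h : A ⟶ B) {ι : Type*} [Small.{u} ι]
    (Bi : ι → Sh J) (q : ∀ i, Bi i ⟶ B) (hq : JE q) (hqc : ∀ i, IsQCHom (q i))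
    (Ai : ι → Sh J) (p : ∀ i, Ai i ⟶ A)
    (hi : ∀ i, Ai i ⟶ Bi i) (H : ∀ i, IsPullback (p i) (hi i) h (q i))
    (hh : ∀ i, IsQCHom (hi i)) : IsQCHom h := by
  refine isQCHom_of_JE_cover_qc h Bi q hq hqc (fun i => ?_)
  have : pullback.snd h (q i) = (H i).isoPullback.inv ≫ hi i := by simp
  rw [this]
  exact ((QCHomP (J := J)).cancel_left_of_respectsIso _ _).2 (hh i)

/-- A morphism out of a coproduct is quasi-separated as soon as its components are. -/
theorem isQSHom_of_cofan {ι : Type*} [Small.{u} ι] {X : ι → Sh J} (c : Cofan X)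
    (hc : IsColimit c) {Y : Sh J} (f : c.pt ⟶ Y) (h : ∀ i, IsQSHom (c.inj i ≫ f)) :
    IsQSHom f := by
  classical
  have hinj : ∀ i, IsQCHom (c.inj i) := fun i => isQCHom_cofan_inj c hc i
  refine isQCHom_of_JE_cover_qc' (pullback.diagonal f) (ι := ι × ι)
    (fun p => pullback (c.inj p.1 ≫ f) (c.inj p.2 ≫ f))
    (fun p => pullback.map (c.inj p.1 ≫ f) (c.inj p.2 ≫ f) f f (c.inj p.1) (c.inj p.2) (𝟙 _)
      (Category.comp_id _) (Category.comp_id _))
    (JE_pullback_map (JE_cofan_inj c hc) (JE_cofan_inj c hc) f f)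
    (fun p => (QCHomP (J := J)).pullbackMap (hinj p.1) (hinj p.2) rfl rfl)
    (fun p => pullback (c.inj p.1) (c.inj p.2))
    (fun p => pullback.fst _ _ ≫ c.inj p.1)
    (fun p => pullback.map (c.inj p.1) (c.inj p.2) (c.inj p.1 ≫ f) (c.inj p.2 ≫ f) (𝟙 _) (𝟙 _) f
      (Category.id_comp _).symm (Category.id_comp _).symm)
    (fun p => pullback_map_diagonal_isPullback (c.inj p.1) (c.inj p.2) f)
    (fun p => ?_)
  obtain ⟨i, j⟩ := p
  by_cases hp : i = j
  · subst hp
    have hmono := MonoCoprod.mono_inj X c hc i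
    have key : pullback.diagonal (c.inj i ≫ f) = pullback.diagonal (c.inj i) ≫
        pullback.map (c.inj i) (c.inj i) (c.inj i ≫ f) (c.inj i ≫ f) (𝟙 _) (𝟙 _) f
          (Category.id_comp _).symm (Category.id_comp _).symm := by
      apply pullback.hom_ext
      · simp only [Category.assoc, pullback.lift_fst, pullback.diagonal_fst, Category.comp_id]
      · simp only [Category.assoc, pullback.lift_snd, pullback.diagonal_snd, Category.comp_id]
    have hi : IsQCHom (pullback.diagonal (c.inj i ≫ f)) := h i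
    rw [key] at hi
    exact ((QCHomP (J := J)).cancel_left_of_respectsIso _ _).1 hi
  · exact isQCHom_of_isInitial _ (isInitial_pullback_of_ne c hc hp)

end Coprod

section Alg

open ToposFin

variable {C : Type u} [SmallCategory C] {J : GrothendieckTopology C} (S : Set (Sh J))

/-- `S` is a generating set (same as `ToposFin.IsGenerating`, phrased with `JE`). -/
def Gen : Prop :=
  ∀ X : Sh J, ∃ (ι : Type u) (F : ι → Sh J) (π : ∀ i, F i ⟶ X), (∀ i, F i ∈ S) ∧ JE π

/-- Same as `ToposFin.ClosedUnderPullbacks`. -/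
def PBClosed : Prop :=
  ∀ ⦃K L M : Sh J⦄ (f : K ⟶ M) (g : L ⟶ M), K ∈ S → L ∈ S → M ∈ S →
    ∃ (P : Sh J) (p : P ⟶ K) (q : P ⟶ L), P ∈ S ∧ IsPullback p q f g

/-- Same as `ToposFin.ClosedUnderEqualizers`. -/
def EqClosed : Prop :=
  ∀ ⦃K L : Sh J⦄ (a b : K ⟶ L), K ∈ S → L ∈ S →
    ∃ (P : Sh J) (e : P ⟶ K) (w : e ≫ a = e ≫ b), P ∈ S ∧ Nonempty (IsLimit (Fork.ofι e w))

variable {S}

lemma isQS_of_iso {X Y : Sh J} (e : X ≅ Y) (h : IsQS X) : IsQS Y :=
  isQS_of_mono e.inv h

lemma hasQCGenerators_of_gen (hqc : ∀ K ∈ S, IsQC K) (hgen : Gen S) : HasQCGenerators J := by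
  intro X
  obtain ⟨ι, F, π, hF, hπ⟩ := hgen X
  exact ⟨ι, F, π, fun i => hqc _ (hF i), (epi_sigmaDesc_iff π).2 hπ⟩

lemma exists_finite_cover_of_gen (hgen : Gen S) {A : Sh J} (hA : IsQC A) :
    ∃ (κ : Type u) (_ : Finite κ) (F : κ → Sh J) (π : ∀ k, F k ⟶ A), (∀ k, F k ∈ S) ∧ JE π := by
  obtain ⟨ι, F, π, hF, hπ⟩ := hgen A
  obtain ⟨s, hs⟩ := isQC_exists_finset hA π hπ
  exact ⟨s, inferInstance, fun k => F k, fun k => π k, fun k => hF k, hs⟩

/-- If fibre products over `M` of members of a generating set are quasi-compact, then `M` is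
quasi-separated. -/
theorem isQS_of_pullbacks_qc (hgen : Gen S) (M : Sh J)
    (h : ∀ (K L : Sh J) (u : K ⟶ M) (v : L ⟶ M), K ∈ S → L ∈ S → IsQC (pullback u v)) :
    IsQS M := by
  intro A B a b hA hB
  obtain ⟨κA, _, FA, πA, hFA, hπA⟩ := exists_finite_cover_of_gen hgen hA
  obtain ⟨κB, _, FB, πB, hFB, hπB⟩ := exists_finite_cover_of_gen hgen hB
  exact isQC_of_finite_JE _ _ (JE_pullback_map hπA hπB a b)
    (fun p => h _ _ _ _ (hFA p.1) (hFB p.2))

theorem isQS_of_mem (hqc : ∀ K ∈ S, IsQC K) (hgen : Gen S) (hpb : PBClosed S) {M : Sh J}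
    (hM : M ∈ S) : IsQS M :=
  isQS_of_pullbacks_qc hgen M (fun K L u v hK hL => by
    obtain ⟨P, p, q, hP, H⟩ := hpb u v hK hL hM
    exact isQC_of_iso H.isoPullback (hqc P hP))

theorem isCoherent_of_mem (hqc : ∀ K ∈ S, IsQC K) (hgen : Gen S) (hpb : PBClosed S) {M : Sh J}
    (hM : M ∈ S) : IsCoherent M :=
  ⟨hqc M hM, isQS_of_mem hqc hgen hpb hM⟩

theorem isQS_prod_of_mem (hqc : ∀ K ∈ S, IsQC K) (hgen : Gen S) (hpb : PBClosed S)
    (heq : EqClosed S) {K L : Sh J} (hK : K ∈ S) (hL : L ∈ S) : IsQS (K ⨯ L) := by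
  refine isQS_of_pullbacks_qc hgen _ (fun M N u v hM hN => ?_)
  obtain ⟨P, p, q, hP, H⟩ := hpb (u ≫ prod.fst) (v ≫ prod.fst) hM hN hK
  obtain ⟨E, e, w, hE, ⟨hlim⟩⟩ := heq (p ≫ u ≫ prod.snd) (q ≫ v ≫ prod.snd) hP hL
  have hw : (e ≫ p) ≫ u = (e ≫ q) ≫ v := by
    apply prod.hom_ext
    · simp only [Category.assoc]
      rw [H.w]
    · simpa only [Category.assoc] using w
  let l : E ⟶ pullback u v := pullback.lift (e ≫ p) (e ≫ q) hw
  have h0 : pullback.fst u v ≫ u ≫ prod.fst = pullback.snd u v ≫ v ≫ prod.fst := by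
    rw [pullback.condition_assoc]
  let r₀ : pullback u v ⟶ P := H.lift (pullback.fst u v) (pullback.snd u v) h0
  have hr₀ : r₀ ≫ p ≫ u ≫ prod.snd = r₀ ≫ q ≫ v ≫ prod.snd := by
    rw [H.lift_fst_assoc, H.lift_snd_assoc, pullback.condition_assoc]
  let r : pullback u v ⟶ E := Fork.IsLimit.lift hlim r₀ hr₀
  have hr : r ≫ e = r₀ := Fork.IsLimit.lift_ι hlim
  have hrl : r ≫ l = 𝟙 _ := by
    apply pullback.hom_ext
    · rw [Category.assoc, pullback.lift_fst, ← Category.assoc, hr, H.lift_fst, Category.id_comp]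
    · rw [Category.assoc, pullback.lift_snd, ← Category.assoc, hr, H.lift_snd, Category.id_comp]
  have : IsSplitEpi l := ⟨⟨r, hrl⟩⟩
  exact isQC_of_epi l (hqc E hE)

/-- In an algebraic topos every morphism with quasi-separated source is quasi-separated. -/
theorem isQSHom_of_isQS_of_algebraic (hqc : ∀ K ∈ S, IsQC K) (hgen : Gen S) (hpb : PBClosed S)
    (heq : EqClosed S) {X Y : Sh J} (f : X ⟶ Y) (hX : IsQS X) : IsQSHom f := by
  obtain ⟨ι, F, π, hF, hπ⟩ := hgen X
  refine isQSHom_of_cover_qs_products (hasQCGenerators_of_gen hqc hgen) f F π hπ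
    (fun i => hqc _ (hF i)) (fun i j => ?_) hX
  exact isQS_of_mono (prod.lift (pullback.fst (π i ≫ f) (π j ≫ f))
    (pullback.snd (π i ≫ f) (π j ≫ f))) (isQS_prod_of_mem hqc hgen hpb heq (hF i) (hF j))

/-- In a locally coherent topos every morphism from a quasi-separated object to a member of the
generating set is quasi-separated. -/
theorem isQSHom_to_mem (hqc : ∀ K ∈ S, IsQC K) (hgen : Gen S) (hpb : PBClosed S)
    {X K : Sh J} (f : X ⟶ K) (hK : K ∈ S) (hX : IsQS X) : IsQSHom f := by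
  obtain ⟨ι, F, π, hF, hπ⟩ := hgen X
  refine isQSHom_of_cover_qs_products (hasQCGenerators_of_gen hqc hgen) f F π hπ
    (fun i => hqc _ (hF i)) (fun i j => ?_) hX
  obtain ⟨P, p, q, hP, H⟩ := hpb (π i ≫ f) (π j ≫ f) (hF i) (hF j) hK
  exact isQS_of_iso H.isoPullback (isQS_of_mem hqc hgen hpb hP)

end Alg

section Morphism

open ToposFin

variable {C D : Type u} [SmallCategory C] [SmallCategory D] {J : GrothendieckTopology C}
  {K : GrothendieckTopology D} {F : Sh K ⥤ Sh J} {R : Sh J ⥤ Sh K}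

/-- An inverse image functor preserves quasi-compact objects as soon as it does so on a generating
set of quasi-compact objects. -/
theorem isQC_map_of_gen (adj : F ⊣ R) {S : Set (Sh K)} (hgen : Gen S)
    (h : ∀ X ∈ S, IsQC (F.obj X)) {X : Sh K} (hX : IsQC X) : IsQC (F.obj X) := by
  obtain ⟨κ, _, G, π, hG, hπ⟩ := exists_finite_cover_of_gen hgen hX
  exact isQC_of_finite_JE (fun k => F.obj (G k)) (fun k => F.map (π k)) (hπ.map_of_adj adj)
    (fun k => h _ (hG k))

/-- An inverse image functor (left exact left adjoint) preserves quasi-separated objects as soon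
as it sends a generating set of coherent objects to coherent objects. -/
theorem isQS_map_of_gen (adj : F ⊣ R) [PreservesFiniteLimits F] (hE' : HasQCGenerators J)
    {S : Set (Sh K)} (hS : ∀ X ∈ S, IsCoherent X) (hgen : Gen S)
    (h : ∀ X ∈ S, IsCoherent (F.obj X)) {X : Sh K} (hX : IsQS X) : IsQS (F.obj X) := by
  obtain ⟨ι, G, g, hG, hg⟩ := hgen X
  have hg' : JE (fun i => F.map (g i)) := hg.map_of_adj adj
  refine isQS_of_JE_cover (fun i => F.obj (G i)) (fun i => F.map (g i)) hg'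
    (fun i => (h _ (hG i)).2) (fun i => ?_)
  refine isQCHom_of_JE_cover' hE' (F.map (g i)) (fun j => F.obj (G j)) (fun j => F.map (g j)) hg'
    (fun j => F.obj (pullback (g i) (g j))) (fun j => F.map (pullback.fst (g i) (g j)))
    (fun j => F.map (pullback.snd (g i) (g j)))
    (fun j => (IsPullback.of_hasPullback (g i) (g j)).map F) (fun j => ?_)
  refine isQCHom_of_isQC_of_isQS _ ?_ (h _ (hG j)).2
  exact isQC_map_of_gen adj hgen (fun X hX => (h X hX).1)
    (hX _ _ _ _ (hS _ (hG i)).1 (hS _ (hG j)).1)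

/-- A coherent morphism of locally coherent topoi preserves quasi-compact morphisms. -/
theorem isQCHom_map (adj : F ⊣ R) [PreservesFiniteLimits F] (hE' : HasQCGenerators J)
    {S : Set (Sh K)} (hqc : ∀ X ∈ S, IsQC X) (hgen : Gen S) (hpb : PBClosed S)
    (hFqc : ∀ X : Sh K, IsQC X → IsQC (F.obj X)) (hFqs : ∀ X : Sh K, IsQS X → IsQS (F.obj X))
    {X Y : Sh K} (v : X ⟶ Y) (hv : IsQCHom v) : IsQCHom (F.map v) := by
  obtain ⟨ι, G, g, hG, hg⟩ := hgen Y
  refine isQCHom_of_JE_cover' hE' (F.map v) (fun j => F.obj (G j)) (fun j => F.map (g j))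
    (hg.map_of_adj adj)
    (fun j => F.obj (pullback v (g j))) (fun j => F.map (pullback.fst v (g j)))
    (fun j => F.map (pullback.snd v (g j)))
    (fun j => (IsPullback.of_hasPullback v (g j)).map F) (fun j => ?_)
  exact isQCHom_of_isQC_of_isQS _ (hFqc _ (hv _ _ (hqc _ (hG j))))
    (hFqs _ (isQS_of_mem hqc hgen hpb (hG j)))

end Morphism

end Groth.Agent.Helper53.TF
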