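import Groth.Agent.Lib.Helper53.ToposFinFP
import Mathlib.CategoryTheory.Presentable.StrongGenerator

/-!
# Helper library for the `ToposFin` family: local finite presentability (SGA 4 VI 1.24)
-/

set_option autoImplicit false
universe u

open CategoryTheory CategoryTheory.Limits Opposite Cardinal

namespace Groth.Agent.Helper53.TF

open ToposFin

attribute [local instance] fact_isRegular_aleph0

variable {C : Type u} [SmallCategory C] {J : GrothendieckTopology C}

theorem isFP_iff_isFinitelyPresentable (X : Sh J) : IsFP X ↔ IsFinitelyPresentable.{u} X := by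
  rw [isFinitelyPresentable_iff_preservesFilteredColimits]
  constructor
  · intro h
    refine ⟨fun I _ _ => ⟨fun {D} => ?_⟩⟩
    have : IsIso (colimit.post D (coyoneda.obj (op X))) := (isIso_iff_bijective _).2 (h I D)
    exact preservesColimit_of_isIso_post (coyoneda.obj (op X)) D
  · intro h I _ _ D
    have : IsIso (colimit.post D (coyoneda.obj (op X))) := inferInstance
    exact (isIso_iff_bijective _).1 this

/-- A small generating family of coherent objects. -/
theorem exists_small_coherent_generators (hE : HasCoherentGenerators J) :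
    ∃ (κ : Type u) (G : κ → Sh J), (∀ k, IsCoherent (G k)) ∧
      ∀ X : Sh J, ∃ (ι : Type u) (t : ι → κ) (π : ∀ i, G (t i) ⟶ X), JE π := by
  choose ιU FU πU hFU hπU using fun U : C => hE (eps J U)
  refine ⟨Σ U, ιU U, fun p => FU p.1 p.2, fun p => hFU p.1 p.2, fun X => ?_⟩
  refine ⟨Σ (p : Σ V : C, X.obj.obj (op V)), ιU p.1, fun q => ⟨q.1.1, q.2⟩,
    fun q => πU q.1.1 q.2 ≫ (epsEquiv q.1.1 X).symm q.1.2, ?_⟩
  exact (JE_eps_sections X).comp (fun p => (epi_sigmaDesc_iff _).1 (hπU p.1))

theorem isStrongGenerator_ofObj {κ : Type u} (G : κ → Sh J)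
    (hG : ∀ X : Sh J, ∃ (ι : Type u) (t : ι → κ) (π : ∀ i, G (t i) ⟶ X), JE π) :
    (ObjectProperty.ofObj G).IsStrongGenerator := by
  rw [ObjectProperty.isStrongGenerator_iff]
  constructor
  · intro X Y f g hfg
    obtain ⟨ι, t, π, hπ⟩ := hG X
    exact hπ f g (fun i => hfg _ ⟨t i⟩ (π i))
  · intro X Y i _ hi
    obtain ⟨ι, t, π, hπ⟩ := hG Y
    have hepi : Epi i := by
      constructor
      intro Z a b hab
      apply hπ
      intro k
      obtain ⟨φ, hφ⟩ := hi _ ⟨t k⟩ (π k)
      simp only [] at hφ
      rw [← hφ, Category.assoc, hab, Category.assoc]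
    exact isIso_of_mono_of_epi i

/-- With coherent generators, every object is a small filtered colimit of objects of finite
presentation. -/
theorem exists_filtered_colimit_isFP (hE : HasCoherentGenerators J) (X : Sh J) :
    ∃ (I : Type u) (_ : SmallCategory I) (_ : IsFiltered I) (D : I ⥤ Sh J),
      (∀ i, IsFP (D.obj i)) ∧ Nonempty (X ≅ colimit D) := by
  obtain ⟨κ, G, hG, hgen⟩ := exists_small_coherent_generators hE
  have hLP : IsCardinalLocallyPresentable (Sh J) (ℵ₀ : Cardinal.{u}) := by
    rw [IsCardinalLocallyPresentable.iff_exists_isStrongGenerator]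
    refine ⟨ObjectProperty.ofObj G, inferInstance, isStrongGenerator_ofObj G hgen, ?_⟩
    rw [ObjectProperty.ofObj_le_iff]
    intro k
    exact (isFP_iff_isFinitelyPresentable _).1
      (isFP_of_isCoherent (hasQCGenerators_of_hasCoherentGenerators hE) (hG k))
  obtain ⟨Q, _, hQ⟩ := HasCardinalFilteredGenerator.exists_generator (Sh J) (ℵ₀ : Cardinal.{u})
  obtain ⟨I, _, hI, ⟨p⟩⟩ := hQ.exists_colimitsOfShape X
  have hfil : IsFiltered I := (isCardinalFiltered_aleph0_iff I).1 hI
  refine ⟨I, inferInstance, hfil, p.diag, fun i => ?_, ⟨?_⟩⟩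
  · exact (isFP_iff_isFinitelyPresentable _).2 (hQ.le_isCardinalPresentable _ (p.prop_diag_obj i))
  · exact p.isColimit.coconePointUniqueUpToIso (colimit.isColimit p.diag)

end Groth.Agent.Helper53.TF
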