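import Groth.Agent.Lib.Helper53.ToposFin
import Mathlib.CategoryTheory.Sites.Closed
import Mathlib.CategoryTheory.Sites.LocallyBijective
import Mathlib.CategoryTheory.Sites.Pullback

/-!
# Helper library for the `ToposFin` family, site-level part (SGA 4 VI §2)

Sheaves associated to representables (`ToposFin.eps J X`), sections as morphisms,
covering families versus jointly epimorphic families.
-/

set_option autoImplicit false
universe u

open CategoryTheory CategoryTheory.Limits Opposite

namespace Groth.Agent.Helper53.TF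

open ToposFin

variable {C : Type u} [SmallCategory C] {J : GrothendieckTopology C}

/-- `eps` on morphisms. -/
noncomputable abbrev epsMap (J : GrothendieckTopology C) {V X : C} (f : V ⟶ X) :
    eps J V ⟶ eps J X :=
  (presheafToSheaf J (Type u)).map (yoneda.map f)

/-- Morphisms out of `eps J X` are sections over `X`. -/
noncomputable def epsEquiv (X : C) (F : Sh J) : (eps J X ⟶ F) ≃ F.obj.obj (op X) :=
  ((sheafificationAdjunction J (Type u)).homEquiv (yoneda.obj X) F).trans yonedaEquiv

lemma epsEquiv_naturality_left {V X : C} (f : V ⟶ X) {F : Sh J} (a : eps J X ⟶ F) :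
    epsEquiv V F (epsMap J f ≫ a) = F.obj.map f.op (epsEquiv X F a) := by
  simp only [epsEquiv, Equiv.trans_apply, Adjunction.homEquiv_naturality_left]
  exact (yonedaEquiv_naturality _ f).symm

lemma epsEquiv_naturality_right {X : C} {F G : Sh J} (a : eps J X ⟶ F) (φ : F ⟶ G) :
    epsEquiv X G (a ≫ φ) = φ.hom.app _ (epsEquiv X F a) := by
  simp only [epsEquiv, Equiv.trans_apply, Adjunction.homEquiv_naturality_right]
  exact yonedaEquiv_comp _ _

/-- The universal section of `eps J X` over `X`. -/
noncomputable def epsUnit (J : GrothendieckTopology C) (X : C) : (eps J X).obj.obj (op X) :=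
  epsEquiv X (eps J X) (𝟙 _)

lemma epsEquiv_eq {X : C} {F : Sh J} (a : eps J X ⟶ F) :
    epsEquiv X F a = a.hom.app _ (epsUnit J X) := by
  have := epsEquiv_naturality_right (𝟙 (eps J X)) a
  rwa [Category.id_comp] at this

lemma epsMap_epsUnit {V X : C} (f : V ⟶ X) :
    (epsMap J f).hom.app _ (epsUnit J V) = (eps J X).obj.map f.op (epsUnit J X) := by
  rw [← epsEquiv_eq, ← Category.comp_id (epsMap J f), epsEquiv_naturality_left]
  rfl

/-- Every sheaf is covered by the sheaves `eps J V`. -/
theorem JE_eps_sections (F : Sh J) :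
    JE (fun p : Σ V : C, F.obj.obj (op V) => (epsEquiv p.1 F).symm p.2) := by
  rw [JE_iff_coverSieve]
  intro U x
  have : coverSieve (fun p : Σ V : C, F.obj.obj (op V) => (epsEquiv p.1 F).symm p.2) x = ⊤ := by
    rw [← Sieve.id_mem_iff_eq_top]
    refine ⟨⟨U, x⟩, epsUnit J U, ?_⟩
    rw [← epsEquiv_eq, Equiv.apply_symm_apply]
    simp
  rw [this]
  exact J.top_mem U

/-- Two morphisms out of `eps J X` agreeing on a covering sieve are equal. -/
lemma eps_hom_ext_of_sieve {X : C} {Z : Sh J} (a b : eps J X ⟶ Z) (S : Sieve X) (hS : S ∈ J X)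
    (h : ∀ ⦃V : C⦄ (f : V ⟶ X), S f → epsMap J f ≫ a = epsMap J f ≫ b) : a = b := by
  apply (epsEquiv X Z).injective
  apply (((isSheaf_iff_isSheaf_of_type _ _).1 Z.2).isSeparated _ hS).ext
  intro V f hf
  rw [← epsEquiv_naturality_left, ← epsEquiv_naturality_left, h f hf]

/-- The sheaf of closed sieves. -/
noncomputable def closedSievesSheaf (J : GrothendieckTopology C) : Sh J :=
  ⟨(Functor.closedSieves J).toFunctor, (isSheaf_iff_isSheaf_of_type _ _).2 (classifier_isSheaf J)⟩

/-- A family of arrows generates a covering sieve iff the corresponding family of morphisms of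
representable sheaves is jointly epimorphic. -/
theorem JE_epsMap_iff {ι : Type*} {X : C} (V : ι → C) (f : ∀ i, V i ⟶ X) :
    JE (fun i => epsMap J (f i)) ↔ Sieve.ofArrows V f ∈ J X := by
  constructor
  · intro h
    rw [← J.close_eq_top_iff_mem]
    let a' : (closedSievesSheaf J).obj.obj (op X) :=
      ⟨(J.close (Sieve.ofArrows V f) : Sieve X), J.close_isClosed _⟩
    let b' : (closedSievesSheaf J).obj.obj (op X) := ⟨(⊤ : Sieve X),
      (J.isClosed_iff_close_eq_self _).2 ((J.close_eq_top_iff_mem _).2 (J.top_mem X))⟩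
    have hab : (epsEquiv X _).symm a' = (epsEquiv X _).symm b' := by
      apply h
      intro i
      apply (epsEquiv (V i) _).injective
      rw [epsEquiv_naturality_left, epsEquiv_naturality_left, Equiv.apply_symm_apply,
        Equiv.apply_symm_apply]
      apply Subtype.ext
      change (J.close (Sieve.ofArrows V f)).pullback (f i) = (⊤ : Sieve X).pullback (f i)
      rw [← J.pullback_close, Sieve.pullback_top, J.close_eq_top_iff_mem]
      have : (Sieve.ofArrows V f).pullback (f i) = ⊤ := by
        rw [← Sieve.id_mem_iff_eq_top]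
        change Sieve.ofArrows V f (𝟙 _ ≫ f i)
        rw [Category.id_comp]
        exact Sieve.ofArrows_mk V f i
      rw [this]
      exact J.top_mem _
    have := (epsEquiv X _).symm.injective hab
    exact congrArg Subtype.val this
  · intro h Z a b hab
    refine eps_hom_ext_of_sieve a b _ h ?_
    rintro W g ⟨T, u, v, ⟨i⟩, rfl⟩
    have : epsMap J (u ≫ f i) = epsMap J u ≫ epsMap J (f i) := by
      simp [epsMap]
    rw [this, Category.assoc, Category.assoc, hab i]

lemma epsMap_comp {U V X : C} (u : U ⟶ V) (f : V ⟶ X) :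
    epsMap J (u ≫ f) = epsMap J u ≫ epsMap J f := by
  simp [epsMap]

/-- A morphism `eps J V ⟶ F` hitting a given section. -/
lemma epsMap_eq_of_section {V X : C} (g : V ⟶ X) {F : Sh J} (π : F ⟶ eps J X)
    (y : F.obj.obj (op V)) (hy : π.hom.app _ y = (eps J X).obj.map g.op (epsUnit J X)) :
    epsMap J g = (epsEquiv V F).symm y ≫ π := by
  apply (epsEquiv V _).injective
  rw [epsEquiv_naturality_right, Equiv.apply_symm_apply, hy, epsEquiv_eq, epsMap_epsUnit]

/-- SGA 4 VI 1.2: an object of the site is quasi-compact iff its associated sheaf is. -/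
theorem isQCSite_iff_isQC_eps (X : C) : IsQCSite J X ↔ IsQC (eps J X) := by
  classical
  constructor
  · intro hX
    rw [isQC_iff]
    intro ι F π hπ
    have hT := coverSieve_mem_of_JE π hπ X (epsUnit J X)
    obtain ⟨n, V, g, hg, hcov⟩ := hX _ hT
    choose i y hy using hg
    refine ⟨Finset.univ.image i, ?_⟩
    intro Z a b hab
    refine eps_hom_ext_of_sieve a b _ hcov ?_
    rintro W h ⟨T', u, v, ⟨k⟩, rfl⟩
    have hk : i k ∈ Finset.univ.image i := Finset.mem_image_of_mem _ (Finset.mem_univ k)
    rw [epsMap_comp, Category.assoc, Category.assoc,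
      epsMap_eq_of_section (g k) (π (i k)) (y k) (hy k), Category.assoc, Category.assoc,
      hab ⟨i k, hk⟩]
  · intro hQC S hS
    let ι := Σ V : C, {f : V ⟶ X // S f}
    have hJE : JE (fun p : ι => epsMap J p.2.1) := by
      rw [JE_epsMap_iff]
      refine J.superset_covering ?_ hS
      intro V f hf
      exact Sieve.ofArrows_mk (fun p : ι => p.1) (fun p : ι => p.2.1) ⟨V, ⟨f, hf⟩⟩
    obtain ⟨s, hs⟩ := isQC_exists_finset hQC _ hJE
    rw [JE_epsMap_iff (fun i : s => i.1.1) (fun i : s => i.1.2.1)] at hs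
    let e := s.equivFin
    refine ⟨s.card, fun k => (e.symm k).1.1, fun k => (e.symm k).1.2.1,
      fun k => (e.symm k).1.2.2, ?_⟩
    refine J.superset_covering ?_ hs
    rintro W h ⟨T, u, v, ⟨i⟩, rfl⟩
    refine Sieve.downward_closed _ ?_ u
    have key : ∀ j : s, j = e.symm (e i) →
        (Sieve.ofArrows (fun k => (e.symm k).1.1) (fun k => (e.symm k).1.2.1)) j.1.2.1 := by
      rintro _ rfl
      exact Sieve.ofArrows_mk (fun k => (e.symm k).1.1) (fun k => (e.symm k).1.2.1) (e i)
    exact key i (e.symm_apply_apply i).symm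

theorem hasQCGenerators_of_isQCSite (hC : ∀ X : C, IsQCSite J X) : HasQCGenerators J := by
  intro F
  exact ⟨Σ V : C, F.obj.obj (op V), fun p => eps J p.1, fun p => (epsEquiv p.1 F).symm p.2,
    fun p => (isQCSite_iff_isQC_eps p.1).1 (hC p.1),
    (epi_sigmaDesc_iff _).2 (JE_eps_sections F)⟩

lemma epsEquiv_epsMap {V X : C} (t : V ⟶ X) :
    epsEquiv V (eps J X) (epsMap J t) = (toSheafify J (yoneda.obj X)).app (op V) t := by
  rw [epsEquiv_eq, epsMap_epsUnit]
  have h1 : epsUnit J X = (toSheafify J (yoneda.obj X)).app (op X) (𝟙 X) := by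
    simp only [epsUnit, epsEquiv, Equiv.trans_apply, Adjunction.homEquiv_unit]
    rfl
  rw [h1]
  have := NatTrans.naturality_apply (toSheafify J (yoneda.obj X)) t.op (𝟙 X)
  rw [← this]
  simp

/-- Morphisms between representable sheaves are locally representable. -/
theorem localRep_mem {V X : C} (c : eps J V ⟶ eps J X) :
    (Presheaf.imageSieve (toSheafify J (yoneda.obj X)) (epsEquiv V _ c)) ∈ J V :=
  Presheaf.imageSieve_mem J (toSheafify J (yoneda.obj X)) (epsEquiv V _ c)

lemma localRep_spec {V X : C} (c : eps J V ⟶ eps J X) {V' : C} (h : V' ⟶ V)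
    (hh : Presheaf.imageSieve (toSheafify J (yoneda.obj X)) (epsEquiv V _ c) h) :
    ∃ f : V' ⟶ X, epsMap J h ≫ c = epsMap J f := by
  obtain ⟨t, ht⟩ := hh
  refine ⟨t, ?_⟩
  apply (epsEquiv V' _).injective
  rw [epsEquiv_naturality_left, epsEquiv_epsMap]
  exact ht.symm

/-- `eps` preserves fibre products. -/
lemma isPullback_epsMap {V W X : C} (f : V ⟶ X) (g : W ⟶ X) [HasPullback f g] :
    IsPullback (epsMap J (pullback.fst f g)) (epsMap J (pullback.snd f g)) (epsMap J f)
      (epsMap J g) :=
  (IsPullback.of_hasPullback f g).map (yoneda ⋙ presheafToSheaf J (Type u))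

lemma gen_range_eps : Gen (Set.range (eps J)) := fun F =>
  ⟨Σ V : C, F.obj.obj (op V), fun p => eps J p.1, fun p => (epsEquiv p.1 F).symm p.2,
    fun p => ⟨p.1, rfl⟩, JE_eps_sections F⟩

section Pullbacks

variable (hC : ∀ X : C, IsQCSite J X)

include hC

/-- Finite local representability of a morphism between representable sheaves. -/
lemma exists_finite_localRep {V X : C} (c : eps J V ⟶ eps J X) :
    ∃ (n : ℕ) (V' : Fin n → C) (g : ∀ k, V' k ⟶ V) (f : ∀ k, V' k ⟶ X),
      (∀ k, epsMap J (g k) ≫ c = epsMap J (f k)) ∧ JE (fun k => epsMap J (g k)) := by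
  obtain ⟨n, V', g, hg, hcov⟩ := hC V _ (localRep_mem c)
  choose f hf using fun k => localRep_spec c (g k) (hg k)
  exact ⟨n, V', g, f, hf, (JE_epsMap_iff V' g).2 hcov⟩

/-- SGA 4 VI 2.1, key step: fibre products of representable sheaves over a representable sheaf
are quasi-compact. -/
theorem isQC_pullback_eps [HasPullbacks C] {V W X : C} (u : eps J V ⟶ eps J X) (v : eps J W ⟶ eps J X) :
    IsQC (pullback u v) := by
  obtain ⟨n, V', g, f, hf, hg⟩ := exists_finite_localRep hC u
  obtain ⟨m, W', h, f', hf', hh⟩ := exists_finite_localRep hC v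
  refine isQC_of_finite_JE _ _ (JE_pullback_map hg hh u v) (fun p => ?_)
  refine isQC_of_iso (pullback.congrHom (hf p.1) (hf' p.2)).symm ?_
  exact isQC_of_iso (isPullback_epsMap (f p.1) (f' p.2)).isoPullback
    ((isQCSite_iff_isQC_eps _).1 (hC _))

/-- SGA 4 VI 2.1: representable sheaves are coherent. -/
theorem isCoherent_eps [HasPullbacks C] (X : C) : IsCoherent (eps J X) := by
  refine ⟨(isQCSite_iff_isQC_eps X).1 (hC X), ?_⟩
  refine isQS_of_pullbacks_qc gen_range_eps _ ?_
  rintro K L u v ⟨V, rfl⟩ ⟨W, rfl⟩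
  exact isQC_pullback_eps hC u v

omit hC in
/-- The generators of `G` whose structure map to `eps J X` is representable. -/
theorem JE_repr_generators {X : C} {G : Sh J} (g : G ⟶ eps J X) :
    JE (fun p : Σ (V : C) (f : V ⟶ X), {σ : eps J V ⟶ G // σ ≫ g = epsMap J f} => p.2.2.1) := by
  rw [JE_iff_coverSieve]
  intro U x
  refine J.superset_covering ?_ (localRep_mem ((epsEquiv U G).symm x ≫ g))
  intro U' h' hh'
  obtain ⟨f, hf⟩ := localRep_spec _ h' hh'
  refine ⟨⟨U', f, ⟨epsMap J h' ≫ (epsEquiv U G).symm x, by rw [Category.assoc, hf]⟩⟩,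
    epsUnit J U', ?_⟩
  rw [← epsEquiv_eq, epsEquiv_naturality_left, Equiv.apply_symm_apply]

omit hC in
lemma mono_pullback_mapDesc {A B F' T : Sh J} (a : A ⟶ F') (b : B ⟶ F') (w : F' ⟶ T) :
    Mono (pullback.mapDesc a b w) :=
  ⟨fun u v huv => by
    apply pullback.hom_ext
    · have := congrArg (fun t => t ≫ pullback.fst _ _) huv
      simpa only [Category.assoc, pullback.lift_fst, Category.comp_id] using this
    · have := congrArg (fun t => t ≫ pullback.snd _ _) huv
      simpa only [Category.assoc, pullback.lift_snd, Category.comp_id] using this⟩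

/-- SGA 4 VI 2.1.1: morphisms from quasi-separated objects to representable sheaves are
quasi-separated. -/
theorem isQSHom_to_eps [HasPullbacks C] {X : C} {G : Sh J} (g : G ⟶ eps J X) (hG : IsQS G) :
    IsQSHom g := by
  refine isQSHom_of_cover_qs_products (hasQCGenerators_of_isQCSite hC) g _ _
    (JE_repr_generators g) (fun p => (isQCSite_iff_isQC_eps _).1 (hC _)) (fun p q => ?_) hG
  refine isQS_of_iso (pullback.congrHom p.2.2.2 q.2.2.2).symm ?_
  exact isQS_of_iso (isPullback_epsMap p.2.1 q.2.1).isoPullback (isCoherent_eps hC _).2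

theorem isQS_pullback_over_eps [HasPullbacks C] {X : C} {G H : Sh J} (g : G ⟶ eps J X)
    (h : H ⟶ eps J X) (hG : IsQS G) (hH : IsQS H) : IsQS (pullback g h) :=
  isQS_of_isQSHom_of_isQS (pullback.snd g h)
    (isQSHom_of_isPullback (IsPullback.of_hasPullback g h) (isQSHom_to_eps hC g hG)) hH

theorem isCoherent_pullback_over_eps [HasPullbacks C] {G H F : Sh J} (a : G ⟶ F) (b : H ⟶ F)
    (hG : IsCoherent G) (hH : IsCoherent H) (hF : IsCoherent F) (X : C) (w : F ⟶ eps J X) :
    IsCoherent (pullback a b) := by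
  refine ⟨hF.2 G H a b hG.1 hH.1, ?_⟩
  have := mono_pullback_mapDesc a b w
  exact isQS_of_mono (pullback.mapDesc a b w)
    (isQS_pullback_over_eps hC (a ≫ w) (b ≫ w) hG.2 hH.2)

end Pullbacks

section SheafPullback

variable {D : Type u} [SmallCategory D] {K : GrothendieckTopology D} (G : C ⥤ D)
  [Functor.IsContinuous G J K]

lemma epsEquiv_symm_comp {X : C} {F F' : Sh J} (s : F.obj.obj (op X)) (φ : F ⟶ F') :
    (epsEquiv X F).symm s ≫ φ = (epsEquiv X F').symm (φ.hom.app _ s) := by
  apply (epsEquiv X F').injective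
  rw [epsEquiv_naturality_right, Equiv.apply_symm_apply, Equiv.apply_symm_apply]

/-- Morphisms out of the inverse image of a representable sheaf. -/
noncomputable def pullbackEpsHomEquiv (V : C) (Z : Sh K) :
    ((G.sheafPullback (Type u) J K).obj (eps J V) ⟶ Z) ≃ (eps K (G.obj V) ⟶ Z) :=
  ((G.sheafAdjunctionContinuous (Type u) J K).homEquiv (eps J V) Z).trans
    ((epsEquiv V ((G.sheafPushforwardContinuous (Type u) J K).obj Z)).trans
      (epsEquiv (G.obj V) Z).symm)

lemma pullbackEpsHomEquiv_naturality (V : C) {Z Z' : Sh K}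
    (a : (G.sheafPullback (Type u) J K).obj (eps J V) ⟶ Z) (g : Z ⟶ Z') :
    pullbackEpsHomEquiv G V Z' (a ≫ g) = pullbackEpsHomEquiv G V Z a ≫ g := by
  simp only [pullbackEpsHomEquiv, Equiv.trans_apply, Adjunction.homEquiv_naturality_right]
  rw [epsEquiv_naturality_right]
  exact (epsEquiv_symm_comp (J := K) (X := G.obj V) _ g).symm

/-- The inverse image of a representable sheaf is representable. -/
noncomputable def sheafPullbackEpsIso (V : C) :
    (G.sheafPullback (Type u) J K).obj (eps J V) ≅ eps K (G.obj V) :=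
  Coyoneda.ext _ _ (fun f => pullbackEpsHomEquiv G V _ f)
    (fun f => (pullbackEpsHomEquiv G V _).symm f)
    (fun f => Equiv.symm_apply_apply _ f) (fun f => Equiv.apply_symm_apply _ f)
    (fun f g => by
      apply (pullbackEpsHomEquiv G V _).injective
      rw [pullbackEpsHomEquiv_naturality, Equiv.apply_symm_apply, Equiv.apply_symm_apply])

omit [Functor.IsContinuous G J K] in
lemma isCoherent_of_iso {X Y : Sh J} (e : X ≅ Y) (h : IsCoherent X) : IsCoherent Y :=
  ⟨isQC_of_iso e h.1, isQS_of_iso e h.2⟩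

/-- SGA 4 VI 3.3: a morphism of sites between sites with fibre products and quasi-compact
objects induces a coherent morphism of topoi. -/
theorem sheafPullback_coherent [HasPullbacks C] [HasPullbacks D]
    (hC : ∀ X : C, IsQCSite J X) (hD : ∀ Y : D, IsQCSite K Y)
    [PreservesFiniteLimits (G.sheafPullback (Type u) J K)] :
    (∀ X : Sh J, IsQC X → IsQC ((G.sheafPullback (Type u) J K).obj X)) ∧
      (∀ X : Sh J, IsQS X → IsQS ((G.sheafPullback (Type u) J K).obj X)) := by
  have hcoh : ∀ X ∈ Set.range (eps J), IsCoherent ((G.sheafPullback (Type u) J K).obj X) := by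
    rintro _ ⟨V, rfl⟩
    exact isCoherent_of_iso (sheafPullbackEpsIso G V).symm (isCoherent_eps hD _)
  refine ⟨fun X hX => isQC_map_of_gen (G.sheafAdjunctionContinuous (Type u) J K) gen_range_eps
    (fun Y hY => (hcoh Y hY).1) hX, fun X hX => ?_⟩
  refine isQS_map_of_gen (G.sheafAdjunctionContinuous (Type u) J K)
    (hasQCGenerators_of_isQCSite hD) ?_ gen_range_eps hcoh hX
  rintro _ ⟨V, rfl⟩
  exact isCoherent_eps hC V

end SheafPullback

end Groth.Agent.Helper53.TF
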