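import Groth.Agent.Lib.Helper53.ToposFinColim
import Mathlib.CategoryTheory.Limits.Shapes.Diagonal
import Groth.Prelude.Def_SGA4a

/-!
# Helper library: exactness properties of sheaf topoi (Giraud's axioms)
-/

set_option autoImplicit false
universe u

open CategoryTheory CategoryTheory.Limits Opposite

namespace Groth.Agent.Helper53.TF

open ToposFin

variable {C : Type u} [SmallCategory C] {J : GrothendieckTopology C}

/-- Characterization of coproducts in a sheaf topos: a cofan is a coproduct iff its injections are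
jointly epimorphic, monomorphic, and pairwise disjoint. -/
theorem isColimit_cofan_of_JE {ι : Type u} {F : ι → Sh J} (c : Cofan F) (hJE : JE c.inj)
    (hmono : ∀ i, Mono (c.inj i))
    (hdisj : ∀ i j, i ≠ j → Nonempty (IsInitial (pullback (c.inj i) (c.inj j)))) :
    Nonempty (IsColimit c) := by
  classical
  have key : ∀ (Z : Sh J) (a : ∀ i, F i ⟶ Z), ∃ d : c.pt ⟶ Z, ∀ i, c.inj i ≫ d = a i := by
    intro Z a
    refine JE.exists_desc hJE a (fun k l => ?_)
    by_cases hkl : k = l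
    · subst hkl
      have : pullback.fst (c.inj k) (c.inj k) = pullback.snd (c.inj k) (c.inj k) := by
        rw [← cancel_mono (c.inj k)]
        exact pullback.condition
      rw [this]
    · obtain ⟨h0⟩ := hdisj k l hkl
      exact h0.hom_ext _ _
  choose d hd using key
  refine ⟨Cofan.IsColimit.mk c (fun s => d s.pt s.inj) (fun s i => hd s.pt s.inj i) ?_⟩
  intro s m hm
  apply hJE
  intro i
  rw [hm i, hd s.pt s.inj i]

theorem isColimit_cofan_iff {ι : Type u} {F : ι → Sh J} (c : Cofan F) :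
    Nonempty (IsColimit c) ↔ JE c.inj ∧ (∀ i, Mono (c.inj i)) ∧
      ∀ i j, i ≠ j → Nonempty (IsInitial (pullback (c.inj i) (c.inj j))) := by
  constructor
  · rintro ⟨hc⟩
    exact ⟨JE_cofan_inj c hc, fun i => MonoCoprod.mono_inj F c hc i,
      fun i j hij => ⟨isInitial_pullback_of_ne c hc hij⟩⟩
  · rintro ⟨h1, h2, h3⟩
    exact isColimit_cofan_of_JE c h1 h2 h3

lemma isIso_map_diagonal_iff_mono {V X : C} (f : V ⟶ X) :
    IsIso ((presheafToSheaf J (Type u)).map (pullback.diagonal (yoneda.map f))) ↔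
      Mono (epsMap J f) := by
  rw [← pullback.isIso_diagonal_iff]
  have e : (presheafToSheaf J (Type u)).map (pullback.diagonal (yoneda.map f)) ≫
      (PreservesPullback.iso (presheafToSheaf J (Type u)) (yoneda.map f) (yoneda.map f)).hom =
      pullback.diagonal (epsMap J f) := by
    apply pullback.hom_ext
    · rw [Category.assoc, PreservesPullback.iso_hom_fst, ← Functor.map_comp,
        pullback.diagonal_fst, pullback.diagonal_fst, CategoryTheory.Functor.map_id]
    · rw [Category.assoc, PreservesPullback.iso_hom_snd, ← Functor.map_comp,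
        pullback.diagonal_snd, pullback.diagonal_snd, CategoryTheory.Functor.map_id]
  constructor
  · intro h
    rw [← e]
    infer_instance
  · intro h
    have : (presheafToSheaf J (Type u)).map (pullback.diagonal (yoneda.map f)) =
        pullback.diagonal (epsMap J f) ≫
          (PreservesPullback.iso (presheafToSheaf J (Type u)) (yoneda.map f) (yoneda.map f)).inv := by
      rw [← e, Category.assoc, Iso.hom_inv_id, Category.comp_id]
    rw [this]
    infer_instance

/-- SGA 4 II 4.6.2-type statement: characterization of coproduct decompositions of `eps J X`. -/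
theorem isColimit_cofan_eps_iff {X : C} {ι : Type u} (Y : ι → C) (s : ∀ i, Y i ⟶ X) :
    (Sieve.ofArrows Y s ∈ J X ∧
      (∀ i, IsIso ((presheafToSheaf J (Type u)).map (pullback.diagonal (yoneda.map (s i))))) ∧
      (∀ i j, i ≠ j → Nonempty (IsInitial ((presheafToSheaf J (Type u)).obj
        (pullback (yoneda.map (s i)) (yoneda.map (s j))))))) ↔
    Nonempty (IsColimit (Cofan.mk ((presheafToSheaf J (Type u)).obj (yoneda.obj X))
      (fun i => (presheafToSheaf J (Type u)).map (yoneda.map (s i))))) := by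
  rw [isColimit_cofan_iff]
  refine and_congr (JE_epsMap_iff Y s).symm (and_congr ?_ ?_)
  · exact forall_congr' (fun i => isIso_map_diagonal_iff_mono (s i))
  · refine forall_congr' (fun i => forall_congr' (fun j => imp_congr_right (fun _ => ?_)))
    constructor
    · rintro ⟨h⟩
      exact ⟨h.ofIso (PreservesPullback.iso (presheafToSheaf J (Type u)) (yoneda.map (s i))
        (yoneda.map (s j)))⟩
    · rintro ⟨h⟩
      exact ⟨h.ofIso (PreservesPullback.iso (presheafToSheaf J (Type u)) (yoneda.map (s i))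
        (yoneda.map (s j))).symm⟩

section EquivRel

variable {R A : Sh J} (p₁ p₂ : R ⟶ A)

/-- The relation on sections of `A` induced by `R`. -/
def secRel (U : Cᵒᵖ) (x y : A.obj.obj U) : Prop :=
  ∃ r : R.obj.obj U, p₁.hom.app U r = x ∧ p₂.hom.app U r = y

lemma secRel_map {U V : Cᵒᵖ} (f : U ⟶ V) {x y : A.obj.obj U} (h : secRel p₁ p₂ U x y) :
    secRel p₁ p₂ V (A.obj.map f x) (A.obj.map f y) := by
  obtain ⟨r, rfl, rfl⟩ := h
  exact ⟨R.obj.map f r, NatTrans.naturality_apply p₁.hom f r, NatTrans.naturality_apply p₂.hom f r⟩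

/-- The presheaf quotient of `A` by `R`. -/
def quotPresheaf : Cᵒᵖ ⥤ Type u where
  obj U := Quot (secRel p₁ p₂ U)
  map {U V} f := TypeCat.ofHom (Quot.map (A.obj.map f) (fun _ _ h => secRel_map p₁ p₂ f h))
  map_id U := by
    ext ⟨x⟩
    change Quot.mk _ (A.obj.map (𝟙 U) x) = Quot.mk _ x
    rw [A.obj.map_id]
    rfl
  map_comp f g := by
    ext ⟨x⟩
    change Quot.mk _ (A.obj.map (f ≫ g) x) = Quot.mk _ (A.obj.map g (A.obj.map f x))
    rw [A.obj.map_comp]
    rfl

/-- The quotient map of presheaves. -/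
def quotMap : A.obj ⟶ quotPresheaf p₁ p₂ where
  app U := TypeCat.ofHom (Quot.mk _)
  naturality U V f := by
    ext x
    rfl

lemma quotMap_app {U : Cᵒᵖ} (x : A.obj.obj U) :
    (quotMap p₁ p₂).app U x = Quot.mk _ x := rfl

lemma quotPresheaf_map_mk {U V : Cᵒᵖ} (f : U ⟶ V) (x : A.obj.obj U) :
    (quotPresheaf p₁ p₂).map f (Quot.mk _ x) = Quot.mk _ (A.obj.map f x) := rfl

/-- The sheaf quotient (as a test object). -/
noncomputable def quotSheaf : Sh J := (presheafToSheaf J (Type u)).obj (quotPresheaf p₁ p₂)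

/-- The map to the sheaf quotient. -/
noncomputable def quotSheafMap : A ⟶ quotSheaf p₁ p₂ :=
  ⟨quotMap p₁ p₂ ≫ toSheafify J (quotPresheaf p₁ p₂)⟩

lemma quotSheafMap_app {U : Cᵒᵖ} (x : A.obj.obj U) :
    (quotSheafMap p₁ p₂).hom.app U x =
      (toSheafify J (quotPresheaf p₁ p₂)).app U (Quot.mk _ x) := rfl

lemma quotSheafMap_condition : p₁ ≫ quotSheafMap p₁ p₂ = p₂ ≫ quotSheafMap p₁ p₂ := by
  ext U r
  change (quotSheafMap p₁ p₂).hom.app U (p₁.hom.app U r) =
    (quotSheafMap p₁ p₂).hom.app U (p₂.hom.app U r)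
  rw [quotSheafMap_app, quotSheafMap_app]
  congr 1
  exact Quot.sound ⟨r, rfl, rfl⟩

lemma secRel_iff_eps {U : C} (x y : A.obj.obj (op U)) :
    secRel p₁ p₂ (op U) x y ↔ ∃ f : eps J U ⟶ R,
      f ≫ p₁ = (epsEquiv U A).symm x ∧ f ≫ p₂ = (epsEquiv U A).symm y := by
  constructor
  · rintro ⟨r, rfl, rfl⟩
    exact ⟨(epsEquiv U R).symm r, epsEquiv_symm_comp r p₁, epsEquiv_symm_comp r p₂⟩
  · rintro ⟨f, h1, h2⟩
    refine ⟨epsEquiv U R f, ?_, ?_⟩
    · rw [← epsEquiv_naturality_right, h1, Equiv.apply_symm_apply]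
    · rw [← epsEquiv_naturality_right, h2, Equiv.apply_symm_apply]

variable {p₁ p₂}

lemma secRel_equivalence (hR : SGA4.IsEquivRel p₁ p₂) (U : C) :
    Equivalence (secRel p₁ p₂ (op U)) := by
  obtain ⟨h1, h2, h3⟩ := (hR (eps J U)).2
  refine ⟨fun x => ?_, fun {x y} h => ?_, fun {x y z} h h' => ?_⟩
  · rw [secRel_iff_eps]
    exact h1 _
  · rw [secRel_iff_eps] at h ⊢
    exact h2 h
  · rw [secRel_iff_eps] at h h' ⊢
    exact h3 h h'

lemma sec_injective (hR : SGA4.IsEquivRel p₁ p₂) {U : C} (r r' : R.obj.obj (op U))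
    (h1 : p₁.hom.app _ r = p₁.hom.app _ r') (h2 : p₂.hom.app _ r = p₂.hom.app _ r') : r = r' := by
  have := (hR (eps J U)).1 (a₁ := (epsEquiv U R).symm r) (a₂ := (epsEquiv U R).symm r') (by
    simp only [epsEquiv_symm_comp, h1, h2])
  exact (epsEquiv U R).symm.injective this

/-- Effectivity of equivalence relations, on sections: two sections of `A` with the same image
in the sheaf quotient are related. -/
theorem secRel_of_quotSheafMap_eq (hR : SGA4.IsEquivRel p₁ p₂) {U : C} (x y : A.obj.obj (op U))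
    (h : (quotSheafMap p₁ p₂).hom.app _ x = (quotSheafMap p₁ p₂).hom.app _ y) :
    secRel p₁ p₂ (op U) x y := by
  rw [quotSheafMap_app, quotSheafMap_app] at h
  have hS := Presheaf.equalizerSieve_mem J (toSheafify J (quotPresheaf p₁ p₂)) (X := op U)
    (Quot.mk _ x) (Quot.mk _ y) h
  have hloc : ∀ ⦃V : C⦄ (g : V ⟶ U),
      (Presheaf.equalizerSieve (F := quotPresheaf p₁ p₂) (X := op U)
        (Quot.mk _ x) (Quot.mk _ y)).arrows g →
      ∃ r : R.obj.obj (op V), p₁.hom.app _ r = A.obj.map g.op x ∧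
        p₂.hom.app _ r = A.obj.map g.op y := by
    intro V g hg
    have hg' : (Quot.mk _ (A.obj.map g.op x) : Quot (secRel p₁ p₂ (op V))) =
        Quot.mk _ (A.obj.map g.op y) := hg
    exact (secRel_equivalence hR V).eqvGen_iff.1 (Quot.eqvGen_exact hg')
  choose r hr1 hr2 using hloc
  have hsheaf := (isSheaf_iff_isSheaf_of_type _ _).1 R.2 _ hS
  have hcompat : Presieve.FamilyOfElements.Compatible (P := R.obj)
      (fun V g hg => r g hg) := by
    intro Y₁ Y₂ Z g₁ g₂ f₁ f₂ h₁ h₂ e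
    apply sec_injective hR
    · have n1 := NatTrans.naturality_apply p₁.hom g₁.op (r f₁ h₁)
      have n2 := NatTrans.naturality_apply p₁.hom g₂.op (r f₂ h₂)
      rw [n1, n2, hr1, hr1, ← ConcreteCategory.comp_apply, ← ConcreteCategory.comp_apply,
        ← A.obj.map_comp, ← A.obj.map_comp, ← op_comp, ← op_comp, e]
    · have n1 := NatTrans.naturality_apply p₂.hom g₁.op (r f₁ h₁)
      have n2 := NatTrans.naturality_apply p₂.hom g₂.op (r f₂ h₂)
      rw [n1, n2, hr2, hr2, ← ConcreteCategory.comp_apply, ← ConcreteCategory.comp_apply,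
        ← A.obj.map_comp, ← A.obj.map_comp, ← op_comp, ← op_comp, e]
  have hr₀ : ∀ ⦃V : C⦄ (g : V ⟶ U) (hg : (Presheaf.equalizerSieve (F := quotPresheaf p₁ p₂)
      (X := op U) (Quot.mk _ x) (Quot.mk _ y)).arrows g),
      R.obj.map g.op (hsheaf.amalgamate _ hcompat) = r g hg :=
    fun V g hg => hsheaf.valid_glue hcompat g hg
  have hsep := ((isSheaf_iff_isSheaf_of_type _ _).1 A.2).isSeparated _ hS
  refine ⟨hsheaf.amalgamate _ hcompat, ?_, ?_⟩
  · apply hsep.ext
    intro V g hg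
    have n1 := NatTrans.naturality_apply p₁.hom g.op (hsheaf.amalgamate _ hcompat)
    rw [← n1, hr₀ g hg, hr1]
  · apply hsep.ext
    intro V g hg
    have n1 := NatTrans.naturality_apply p₂.hom g.op (hsheaf.amalgamate _ hcompat)
    rw [← n1, hr₀ g hg, hr2]

/-- Effectivity of equivalence relations: generalized elements. -/
theorem exists_lift_of_comp_quotSheafMap_eq (hR : SGA4.IsEquivRel p₁ p₂) {T : Sh J} (a b : T ⟶ A)
    (h : a ≫ quotSheafMap p₁ p₂ = b ≫ quotSheafMap p₁ p₂) :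
    ∃ f : T ⟶ R, f ≫ p₁ = a ∧ f ≫ p₂ = b := by
  have hloc : ∀ p : Σ V : C, T.obj.obj (op V), ∃ f : eps J p.1 ⟶ R,
      f ≫ p₁ = (epsEquiv p.1 T).symm p.2 ≫ a ∧ f ≫ p₂ = (epsEquiv p.1 T).symm p.2 ≫ b := by
    rintro ⟨V, t⟩
    have ht : (quotSheafMap p₁ p₂).hom.app _ (a.hom.app _ t) =
        (quotSheafMap p₁ p₂).hom.app _ (b.hom.app _ t) :=
      congrArg (fun φ : T ⟶ quotSheaf p₁ p₂ => φ.hom.app (op V) t) h
    obtain ⟨r, hr1, hr2⟩ := secRel_of_quotSheafMap_eq hR _ _ ht
    refine ⟨(epsEquiv V R).symm r, ?_, ?_⟩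
    · rw [epsEquiv_symm_comp, epsEquiv_symm_comp, hr1]
    · rw [epsEquiv_symm_comp, epsEquiv_symm_comp, hr2]
  choose f hf1 hf2 using hloc
  have hJE := JE_eps_sections T
  obtain ⟨d, hd⟩ := JE.exists_desc hJE f (by
    intro k l
    apply (hR _).1
    simp only [Prod.mk.injEq, Category.assoc]
    rw [hf1, hf1, hf2, hf2]
    constructor
    · rw [← Category.assoc, ← Category.assoc, pullback.condition]
    · rw [← Category.assoc, ← Category.assoc, pullback.condition])
  refine ⟨d, ?_, ?_⟩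
  · apply hJE
    intro p
    rw [← Category.assoc, hd p, hf1]
  · apply hJE
    intro p
    rw [← Category.assoc, hd p, hf2]

end EquivRel

lemma epi_pullback_snd {X Y Z : Sh J} (f : X ⟶ Z) (g : Y ⟶ Z) [Epi f] :
    Epi (pullback.snd f g) := by
  have hJE : JE (fun _ : PUnit.{u + 1} => f) := by
    intro W a b hab
    rw [← cancel_epi f]
    exact hab PUnit.unit
  have h2 := hJE.pullback_snd g
  constructor
  intro W a b hab
  exact h2 a b (fun _ => hab)

lemma effectiveEpi_of_epi {X Y : Sh J} (f : X ⟶ Y) [Epi f] : EffectiveEpi f := by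
  have hreg : IsRegularEpi f := IsRegularEpiCategory.regularEpiOfEpi _
  exact (isRegularEpi_iff_effectiveEpi _).1 hreg

/-- SGA 4 II 4.8 / IV 1.1.2 c): equivalence relations in a sheaf topos are effective and
universal. -/
theorem isEffectiveUniversalEquivRel {R A : Sh J} {p₁ p₂ : R ⟶ A}
    (hR : SGA4.IsEquivRel p₁ p₂) : SGA4.IsEffectiveUniversalEquivRel p₁ p₂ := by
  have hdesc : coequalizer.π p₁ p₂ ≫ coequalizer.desc (quotSheafMap p₁ p₂)
      (quotSheafMap_condition p₁ p₂) = quotSheafMap p₁ p₂ := coequalizer.π_desc _ _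
  have w : p₁ ≫ coequalizer.π p₁ p₂ = p₂ ≫ coequalizer.π p₁ p₂ := coequalizer.condition p₁ p₂
  refine ⟨coequalizer p₁ p₂, coequalizer.π p₁ p₂, ?_, ?_, ?_⟩
  · have hex : ∀ s : PullbackCone (coequalizer.π p₁ p₂) (coequalizer.π p₁ p₂),
        ∃ f : s.pt ⟶ R, f ≫ p₁ = s.fst ∧ f ≫ p₂ = s.snd := by
      intro s
      apply exists_lift_of_comp_quotSheafMap_eq hR
      rw [← hdesc, ← Category.assoc, ← Category.assoc, s.condition]
    choose l hl1 hl2 using hex
    refine ⟨⟨w⟩, ⟨PullbackCone.IsLimit.mk w l hl1 hl2 ?_⟩⟩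
    intro s m hm1 hm2
    apply (hR _).1
    simp only [Prod.mk.injEq]
    exact ⟨hm1.trans (hl1 s).symm, hm2.trans (hl2 s).symm⟩
  · obtain ⟨ρ, hρ1, hρ2⟩ := (hR A).2.1 (𝟙 A)
    have hxy : ∀ s : PushoutCocone p₁ p₂, s.inl = s.inr := by
      intro s
      have := congrArg (ρ ≫ ·) s.condition
      simp only [← Category.assoc, hρ1, hρ2, Category.id_comp] at this
      exact this
    refine ⟨⟨w⟩, ⟨PushoutCocone.IsColimit.mk w
      (fun s => coequalizer.desc s.inl (by rw [s.condition, hxy s])) ?_ ?_ ?_⟩⟩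
    · intro s
      exact coequalizer.π_desc _ _
    · intro s
      exact (coequalizer.π_desc _ _).trans (hxy s)
    · intro s m hm1 hm2
      apply coequalizer.hom_ext
      rw [hm1]
      exact (coequalizer.π_desc _ _).symm
  · intro B' g
    have := epi_pullback_snd (coequalizer.π p₁ p₂) g
    exact effectiveEpi_of_epi _

theorem existsUnique_desc_of_JE {ι : Type u} {F : ι → Sh J} {X : Sh J} (π : ∀ i, F i ⟶ X)
    (hJE : JE π) (hmono : ∀ i, Mono (π i))
    (hdisj : ∀ i j, i ≠ j → Nonempty (IsInitial (pullback (π i) (π j)))) {Z : Sh J}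
    (a : ∀ i, F i ⟶ Z) : ∃! d : X ⟶ Z, ∀ i, π i ≫ d = a i := by
  classical
  obtain ⟨d, hd⟩ : ∃ d : X ⟶ Z, ∀ i, π i ≫ d = a i := by
    refine JE.exists_desc hJE a (fun k l => ?_)
    by_cases hkl : k = l
    · subst hkl
      have : pullback.fst (π k) (π k) = pullback.snd (π k) (π k) := by
        rw [← cancel_mono (π k)]
        exact pullback.condition
      rw [this]
    · obtain ⟨h0⟩ := hdisj k l hkl
      exact h0.hom_ext _ _
  refine ⟨d, hd, fun d' hd' => ?_⟩
  apply hJE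
  intro i
  rw [hd i, hd' i]

/-- SGA 4 IV 1.1.2 b): small coproducts in a sheaf topos are disjoint and universal. -/
theorem hasDisjointUniversalCoproducts :
    SGA4.HasDisjointUniversalCoproducts.{u + 1, u} (Sheaf J (Type u)) := by
  intro ι X
  have hc := coproductIsCoproduct X
  refine ⟨Cofan.mk (∐ X) (Sigma.ι X), hc, ⟨?_, ?_⟩, ?_⟩
  · intro c hc i j hij s _
    exact ⟨isInitial_of_hom_to (pullback.lift s.fst s.snd s.condition)
      (isInitial_pullback_of_ne c hc hij)⟩
  · intro c hc i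
    exact MonoCoprod.mono_inj X c hc i
  · intro F' c' α f hα _ hpb
    refine ⟨IsColimit.ofExistsUnique (fun s => ?_)⟩
    have h1 : JE (fun i : ι => (c'.ι.app ⟨i⟩ : F'.obj ⟨i⟩ ⟶ c'.pt)) :=
      (JE_cofan_inj _ hc).pullback f _ (fun i => α.app ⟨i⟩) (fun i => (hpb ⟨i⟩).flip)
    have h2 : ∀ i : ι, Mono (c'.ι.app ⟨i⟩ : F'.obj ⟨i⟩ ⟶ c'.pt) := fun i =>
      (hpb ⟨i⟩).mono_fst_of_mono (MonoCoprod.mono_inj X _ hc i)
    have h3 : ∀ i j : ι, i ≠ j → Nonempty (IsInitial (pullback
        (c'.ι.app ⟨i⟩ : F'.obj ⟨i⟩ ⟶ c'.pt) (c'.ι.app ⟨j⟩ : F'.obj ⟨j⟩ ⟶ c'.pt))) :=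
      fun i j hij => ⟨isInitial_of_hom_to
        (pullback.map _ _ (Sigma.ι X i) (Sigma.ι X j) (α.app ⟨i⟩) (α.app ⟨j⟩) f
          (hpb ⟨i⟩).w (hpb ⟨j⟩).w)
        (isInitial_pullback_of_ne (Cofan.mk (∐ X) (Sigma.ι X)) hc hij)⟩
    obtain ⟨d, hd, hu⟩ := existsUnique_desc_of_JE _ h1 h2 h3
      (fun i => (s.ι.app ⟨i⟩ : F'.obj ⟨i⟩ ⟶ s.pt))
    exact ⟨d, fun j => hd j.as, fun d' hd' => hu d' (fun i => hd' ⟨i⟩)⟩

end Groth.Agent.Helper53.TF
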