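import Groth.Agent.Lib.Helper53.Giraud
import Mathlib.CategoryTheory.Limits.Comma
import Mathlib.CategoryTheory.Limits.Preserves.Shapes.Pullbacks
import Mathlib.CategoryTheory.Limits.Preserves.Shapes.Equalizers
import Mathlib.CategoryTheory.Limits.Preserves.Shapes.BinaryProducts
import Mathlib.CategoryTheory.Limits.Preserves.Shapes.Terminal
import Mathlib.CategoryTheory.Limits.Shapes.KernelPair

/-!
# Helper library: the exactness axioms of Giraud for a glued category `Comma (𝟭 B) ρ`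
-/

set_option autoImplicit false
set_option linter.unusedSectionVars false
universe w v' u' v u

open CategoryTheory CategoryTheory.Limits Opposite

namespace Groth.Agent.Helper53.Glue

open Groth.Agent.Helper53.Giraud

section EquivRel

variable {E : Type v} [Category.{u} E] [HasFiniteLimits E]
  {E' : Type v'} [Category.{u'} E'] [HasFiniteLimits E']
  (F : E ⥤ E') [PreservesFiniteLimits F]

/-- Left exact functors preserve equivalence relations. -/
lemma isEquivRel_map {R A : E} {p₁ p₂ : R ⟶ A} (h : SGA4.IsEquivRel p₁ p₂) :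
    SGA4.IsEquivRel (F.map p₁) (F.map p₂) := by
  have hmono : Mono (prod.lift p₁ p₂) := by
    constructor
    intro T a b hab
    apply (h T).1
    simp only [Prod.mk.injEq]
    have h1 := congrArg (· ≫ prod.fst) hab
    have h2 := congrArg (· ≫ prod.snd) hab
    simp only [Category.assoc, prod.lift_fst, prod.lift_snd] at h1 h2
    exact ⟨h1, h2⟩
  obtain ⟨r, hr1, hr2⟩ := (h A).2.refl (𝟙 A)
  obtain ⟨s, hs1, hs2⟩ := (h R).2.symm ⟨𝟙 R, Category.id_comp p₁, Category.id_comp p₂⟩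
  obtain ⟨t, ht1, ht2⟩ := (h (pullback p₂ p₁)).2.trans
    (⟨pullback.fst p₂ p₁, rfl, rfl⟩ : ∃ f : pullback p₂ p₁ ⟶ R,
      f ≫ p₁ = pullback.fst p₂ p₁ ≫ p₁ ∧ f ≫ p₂ = pullback.fst p₂ p₁ ≫ p₂)
    (⟨pullback.snd p₂ p₁, pullback.condition.symm, rfl⟩ : ∃ f : pullback p₂ p₁ ⟶ R,
      f ≫ p₁ = pullback.fst p₂ p₁ ≫ p₂ ∧ f ≫ p₂ = pullback.snd p₂ p₁ ≫ p₂)
  have hmonoF : Mono (prod.lift (F.map p₁) (F.map p₂)) := by
    have e : prod.lift (F.map p₁) (F.map p₂) = F.map (prod.lift p₁ p₂) ≫ prodComparison F A A := by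
      apply prod.hom_ext
      · simp only [prod.lift_fst, Category.assoc, prodComparison_fst, ← F.map_comp]
      · simp only [prod.lift_snd, Category.assoc, prodComparison_snd, ← F.map_comp]
    rw [e]
    infer_instance
  intro T
  refine ⟨fun a b hab => ?_, ⟨fun a => ?_, fun {a b} hab => ?_, fun {a b c} hab hbc => ?_⟩⟩
  · simp only [Prod.mk.injEq] at hab
    rw [← cancel_mono (prod.lift (F.map p₁) (F.map p₂))]
    apply prod.hom_ext
    · simp only [Category.assoc, prod.lift_fst, hab.1]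
    · simp only [Category.assoc, prod.lift_snd, hab.2]
  · exact ⟨a ≫ F.map r, by rw [Category.assoc, ← F.map_comp, hr1, F.map_id, Category.comp_id],
      by rw [Category.assoc, ← F.map_comp, hr2, F.map_id, Category.comp_id]⟩
  · obtain ⟨f, rfl, rfl⟩ := hab
    exact ⟨f ≫ F.map s, by rw [Category.assoc, ← F.map_comp, hs1],
      by rw [Category.assoc, ← F.map_comp, hs2]⟩
  · obtain ⟨f, rfl, hf2⟩ := hab
    obtain ⟨g, hg1, rfl⟩ := hbc
    have hpb := (IsPullback.of_hasPullback p₂ p₁).map F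
    refine ⟨hpb.lift f g (hf2.trans hg1.symm) ≫ F.map t, ?_, ?_⟩
    · rw [Category.assoc, ← F.map_comp, ht1, F.map_comp, ← Category.assoc, hpb.lift_fst]
    · rw [Category.assoc, ← F.map_comp, ht2, F.map_comp, ← Category.assoc, hpb.lift_snd]

end EquivRel

section Discrete

variable {E : Type v} [Category.{u} E] [HasFiniteLimits E]

/-- The cofan attached to a cocone over a functor from a discrete category. -/
def cofanOfCocone {ι : Type u} {F : Discrete ι ⥤ E} (c : Cocone F) :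
    Cofan (fun i => F.obj ⟨i⟩) :=
  Cofan.mk c.pt (fun i => c.ι.app ⟨i⟩)

/-- `cofanOfCocone c` is a colimit if `c` is. -/
def isColimitCofanOfCocone {ι : Type u} {F : Discrete ι ⥤ E} {c : Cocone F} (hc : IsColimit c) :
    IsColimit (cofanOfCocone c) :=
  Cofan.IsColimit.mk _ (fun t => hc.desc ⟨t.pt, Discrete.natTrans fun i => t.inj i.as⟩)
    (fun t j => hc.fac ⟨t.pt, Discrete.natTrans fun i => t.inj i.as⟩ ⟨j⟩)
    (fun t m hm => hc.uniq ⟨t.pt, Discrete.natTrans fun i => t.inj i.as⟩ m (fun j => hm j.as))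

variable (hb : SGA4.HasDisjointUniversalCoproducts.{v, u} E)

include hb

lemma isUniversalColimit_of_discrete {ι : Type u} {F : Discrete ι ⥤ E} {c : Cocone F}
    (hc : IsColimit c) : IsUniversalColimit c := by
  let e : F ≅ Discrete.functor (fun i => F.obj ⟨i⟩) := Discrete.natIsoFunctor
  obtain ⟨c₀, hc₀, -, hu⟩ := hb ι (fun i => F.obj ⟨i⟩)
  have h1 : IsUniversalColimit ((Cocone.precompose e.hom).obj c₀) := hu.precompose_isIso e.hom
  have h2 : IsColimit ((Cocone.precompose e.hom).obj c₀) :=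
    (IsColimit.precomposeHomEquiv e c₀).symm hc₀
  exact h1.of_iso (h2.uniqueUpToIso hc)

lemma mono_ι_of_discrete {ι : Type u} {F : Discrete ι ⥤ E} {c : Cocone F}
    (hc : IsColimit c) (i : Discrete ι) : Mono (c.ι.app i) :=
  (coproductDisjoint hb (fun i => F.obj ⟨i⟩)).mono_inj (isColimitCofanOfCocone hc) i.as

lemma isInitial_of_isPullback_discrete {ι : Type u} {F : Discrete ι ⥤ E} {c : Cocone F}
    (hc : IsColimit c) {i j : Discrete ι} (hij : i ≠ j) {P : E} {p₁ : P ⟶ F.obj i}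
    {p₂ : P ⟶ F.obj j} (h : IsPullback p₁ p₂ (c.ι.app i) (c.ι.app j)) :
    Nonempty (IsInitial P) :=
  (coproductDisjoint hb (fun i => F.obj ⟨i⟩)).nonempty_isInitial_of_ne
    (isColimitCofanOfCocone hc) (i := i.as) (j := j.as)
    (fun h' => hij (Discrete.ext h')) (PullbackCone.mk p₁ p₂ h.w) h.isLimit

end Discrete

section Quotient

variable {E : Type v} [Category.{u} E] [HasFiniteLimits E]

/-- A coequalizer of a reflexive pair is a pushout. -/
lemma isPushout_of_isColimit_cofork {R A Q : E} {p₁ p₂ : R ⟶ A} (r : A ⟶ R)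
    (hr₁ : r ≫ p₁ = 𝟙 A) (hr₂ : r ≫ p₂ = 𝟙 A) {π : A ⟶ Q} (w : p₁ ≫ π = p₂ ≫ π)
    (hπ : IsColimit (Cofork.ofπ π w)) : IsPushout p₁ p₂ π π := by
  have hxy : ∀ s : PushoutCocone p₁ p₂, s.inl = s.inr := by
    intro s
    have := congrArg (r ≫ ·) s.condition
    simp only [← Category.assoc, hr₁, hr₂, Category.id_comp] at this
    exact this
  refine ⟨⟨w⟩, ⟨PushoutCocone.IsColimit.mk w
    (fun s => Cofork.IsColimit.desc hπ s.inl (by rw [s.condition, hxy s])) ?_ ?_ ?_⟩⟩
  · intro s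
    exact Cofork.IsColimit.π_desc' hπ _ _
  · intro s
    exact (Cofork.IsColimit.π_desc' hπ _ _).trans (hxy s)
  · intro s m hm1 hm2
    apply Cofork.IsColimit.hom_ext hπ
    exact hm1.trans (Cofork.IsColimit.π_desc' hπ _ _).symm

variable (hc : ∀ (R A : E) (p₁ p₂ : R ⟶ A), SGA4.IsEquivRel p₁ p₂ →
  SGA4.IsEffectiveUniversalEquivRel p₁ p₂)

include hc

/-- Any coequalizer of an equivalence relation is an effective universal quotient. -/
lemma quotient_props {R A Q : E} {p₁ p₂ : R ⟶ A} (h : SGA4.IsEquivRel p₁ p₂) {π : A ⟶ Q}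
    (w : p₁ ≫ π = p₂ ≫ π) (hπ : IsColimit (Cofork.ofπ π w)) :
    IsPullback p₁ p₂ π π ∧ UEE π := by
  obtain ⟨B₀, π₀, hpb, hpo, hu⟩ := hc _ _ _ _ h
  let m : Q ⟶ B₀ := Cofork.IsColimit.desc hπ π₀ hpb.w
  have hm : π ≫ m = π₀ := Cofork.IsColimit.π_desc' hπ _ _
  let n : B₀ ⟶ Q := hpo.desc π π w
  have hn : π₀ ≫ n = π := hpo.inl_desc _ _ _
  have hmn : m ≫ n = 𝟙 Q := by
    apply Cofork.IsColimit.hom_ext hπ
    change π ≫ m ≫ n = π ≫ 𝟙 Q
    rw [← Category.assoc, hm, hn, Category.comp_id]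
  have hnm : n ≫ m = 𝟙 B₀ := by
    apply hpo.hom_ext
    · rw [← Category.assoc, hn, hm, Category.comp_id]
    · rw [← Category.assoc, hn, hm, Category.comp_id]
  have : IsIso n := ⟨m, hnm, hmn⟩
  constructor
  · exact hpb.of_iso (Iso.refl _) (Iso.refl _) (Iso.refl _) (asIso n) (by simp) (by simp)
      (by simpa using hn) (by simpa using hn)
  · rw [← hn]
    exact (UEE.of_forall hu).comp_isIso n

end Quotient

section Comma

variable {A : Type v} {B : Type v} [Category.{u} A] [Category.{u} B]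
  [HasFiniteLimits A] [HasFiniteLimits B] (ρ : A ⥤ B) [PreservesFiniteLimits ρ]

instance preservesFiniteLimits_fst : PreservesFiniteLimits (Comma.fst (𝟭 B) ρ) where
  preservesFiniteLimits _ _ _ :=
    { preservesLimit := fun {F} =>
        preservesLimit_of_preserves_limit_cone
          (Comma.coneOfPreservesIsLimit F (limit.isLimit _) (limit.isLimit _))
          (limit.isLimit _) }

instance preservesFiniteLimits_snd : PreservesFiniteLimits (Comma.snd (𝟭 B) ρ) where
  preservesFiniteLimits _ _ _ :=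
    { preservesLimit := fun {F} =>
        preservesLimit_of_preserves_limit_cone
          (Comma.coneOfPreservesIsLimit F (limit.isLimit _) (limit.isLimit _))
          (limit.isLimit _) }

omit [HasFiniteLimits A] [HasFiniteLimits B] [PreservesFiniteLimits ρ] in
lemma isIso_of_left_right {X Y : Comma (𝟭 B) ρ} (f : X ⟶ Y) [IsIso f.left] [IsIso f.right] :
    IsIso f := by
  refine ⟨⟨{ left := inv f.left, right := inv f.right, w := ?_ }, ?_, ?_⟩⟩
  · have := f.w
    simp only [Functor.id_map] at this ⊢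
    rw [IsIso.inv_comp_eq, ← Category.assoc, this, Category.assoc, ← ρ.map_comp,
      IsIso.hom_inv_id, ρ.map_id, Category.comp_id]
  · ext <;> simp
  · ext <;> simp

omit [HasFiniteLimits A] [HasFiniteLimits B] [PreservesFiniteLimits ρ] in
lemma mono_of_left_right {X Y : Comma (𝟭 B) ρ} (f : X ⟶ Y) [Mono f.left] [Mono f.right] :
    Mono f := by
  constructor
  intro Z g h hgh
  ext
  · rw [← cancel_mono f.left, ← Comma.comp_left, ← Comma.comp_left, hgh]
  · rw [← cancel_mono f.right, ← Comma.comp_right, ← Comma.comp_right, hgh]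

omit [HasFiniteLimits A] [HasFiniteLimits B] [PreservesFiniteLimits ρ] in
/-- An object of the glued category with initial components is initial. -/
def isInitialOfLeftRight (Z : Comma (𝟭 B) ρ) (h₁ : IsInitial Z.left) (h₂ : IsInitial Z.right) :
    IsInitial Z :=
  IsInitial.ofUniqueHom
    (fun W => { left := h₁.to _, right := h₂.to _, w := h₁.hom_ext _ _ })
    (fun W m => by
      ext
      · exact h₁.hom_ext _ _
      · exact h₂.hom_ext _ _)

end Comma

section CommaB

variable {A : Type v} {B : Type v} [Category.{u} A] [Category.{u} B]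
  [HasFiniteLimits A] [HasFiniteLimits B] (ρ : A ⥤ B) [PreservesFiniteLimits ρ]
  [HasColimitsOfSize.{u, u} A] [HasColimitsOfSize.{u, u} B]

/-- Axiom (b) of Giraud for the glued category. -/
theorem hasDisjointUniversalCoproducts
    (hbA : SGA4.HasDisjointUniversalCoproducts.{v, u} A)
    (hbB : SGA4.HasDisjointUniversalCoproducts.{v, u} B) :
    SGA4.HasDisjointUniversalCoproducts (Comma (𝟭 B) ρ) := by
  intro ι X
  refine ⟨colimit.cocone (Discrete.functor X), colimit.isColimit _, ⟨?_, ?_⟩, ?_⟩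
  · intro c hc i j hij s hs
    have hpb : IsPullback s.fst s.snd (c.inj i) (c.inj j) := IsPullback.of_isLimit hs
    obtain ⟨h₁⟩ := isInitial_of_isPullback_discrete hbB
      (isColimitOfPreserves (Comma.fst (𝟭 B) ρ) hc) (i := ⟨i⟩) (j := ⟨j⟩)
      (fun h => hij (congrArg Discrete.as h)) (hpb.map (Comma.fst (𝟭 B) ρ))
    obtain ⟨h₂⟩ := isInitial_of_isPullback_discrete hbA
      (isColimitOfPreserves (Comma.snd (𝟭 B) ρ) hc) (i := ⟨i⟩) (j := ⟨j⟩)
      (fun h => hij (congrArg Discrete.as h)) (hpb.map (Comma.snd (𝟭 B) ρ))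
    exact ⟨isInitialOfLeftRight ρ _ h₁ h₂⟩
  · intro c hc i
    have h1 : Mono (c.inj i).left :=
      mono_ι_of_discrete hbB (isColimitOfPreserves (Comma.fst (𝟭 B) ρ) hc) ⟨i⟩
    have h2 : Mono (c.inj i).right :=
      mono_ι_of_discrete hbA (isColimitOfPreserves (Comma.snd (𝟭 B) ρ) hc) ⟨i⟩
    exact mono_of_left_right ρ (c.inj i)
  · intro F' c' α f hα heq hpb
    refine ⟨Comma.fstSndJointlyReflectColimit ?_ ?_⟩
    · refine (isUniversalColimit_of_discrete hbB
        (isColimitOfPreserves (Comma.fst (𝟭 B) ρ) (colimit.isColimit (Discrete.functor X)))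
        ((Comma.fst (𝟭 B) ρ).mapCocone c') (Functor.whiskerRight α _)
        ((Comma.fst (𝟭 B) ρ).map f) ?_ (.of_discrete _)
        (fun j => (hpb j).map (Comma.fst (𝟭 B) ρ))).some
      ext j
      have := congrArg (fun t => (Comma.fst (𝟭 B) ρ).map (t.app j)) hα
      simpa using this
    · refine (isUniversalColimit_of_discrete hbA
        (isColimitOfPreserves (Comma.snd (𝟭 B) ρ) (colimit.isColimit (Discrete.functor X)))
        ((Comma.snd (𝟭 B) ρ).mapCocone c') (Functor.whiskerRight α _)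
        ((Comma.snd (𝟭 B) ρ).map f) ?_ (.of_discrete _)
        (fun j => (hpb j).map (Comma.snd (𝟭 B) ρ))).some
      ext j
      have := congrArg (fun t => (Comma.snd (𝟭 B) ρ).map (t.app j)) hα
      simpa using this

end CommaB

section CommaC

variable {A : Type v} {B : Type v} [Category.{u} A] [Category.{u} B]
  [HasFiniteLimits A] [HasFiniteLimits B] (ρ : A ⥤ B) [PreservesFiniteLimits ρ]
  [HasColimitsOfSize.{u, u} A] [HasColimitsOfSize.{u, u} B]

lemma effectiveEpi_of_left_right {X Y : Comma (𝟭 B) ρ} (f : X ⟶ Y) (h₁ : EffectiveEpi f.left)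
    (h₂ : EffectiveEpi f.right) : EffectiveEpi f := by
  apply effectiveEpi_of_kernelPair f
  apply Comma.fstSndJointlyReflectColimit
  · refine (isColimitMapCoconeCoforkEquiv (Comma.fst (𝟭 B) ρ) pullback.condition).symm ?_
    have hpb := (IsPullback.of_hasPullback f f).map (Comma.fst (𝟭 B) ρ)
    exact isColimitCoforkOfEffectiveEpi f.left hpb.cone hpb.isLimit
  · refine (isColimitMapCoconeCoforkEquiv (Comma.snd (𝟭 B) ρ) pullback.condition).symm ?_
    have hpb := (IsPullback.of_hasPullback f f).map (Comma.snd (𝟭 B) ρ)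
    exact isColimitCoforkOfEffectiveEpi f.right hpb.cone hpb.isLimit

/-- Axiom (c) of Giraud for the glued category. -/
theorem isEffectiveUniversalEquivRel
    (hcA : ∀ (R A' : A) (p₁ p₂ : R ⟶ A'), SGA4.IsEquivRel p₁ p₂ →
      SGA4.IsEffectiveUniversalEquivRel p₁ p₂)
    (hcB : ∀ (R B' : B) (p₁ p₂ : R ⟶ B'), SGA4.IsEquivRel p₁ p₂ →
      SGA4.IsEffectiveUniversalEquivRel p₁ p₂)
    {R Ob : Comma (𝟭 B) ρ} {p₁ p₂ : R ⟶ Ob} (hR : SGA4.IsEquivRel p₁ p₂) :
    SGA4.IsEffectiveUniversalEquivRel p₁ p₂ := by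
  have h₁ : SGA4.IsEquivRel p₁.left p₂.left := isEquivRel_map (Comma.fst (𝟭 B) ρ) hR
  have h₂ : SGA4.IsEquivRel p₁.right p₂.right := isEquivRel_map (Comma.snd (𝟭 B) ρ) hR
  have w : p₁ ≫ coequalizer.π p₁ p₂ = p₂ ≫ coequalizer.π p₁ p₂ := coequalizer.condition p₁ p₂
  have hπ : IsColimit (Cofork.ofπ (coequalizer.π p₁ p₂) w) := coequalizerIsCoequalizer p₁ p₂
  have hπ₁ := isColimitMapCoconeCoforkEquiv (Comma.fst (𝟭 B) ρ) w
    (isColimitOfPreserves (Comma.fst (𝟭 B) ρ) hπ)
  have hπ₂ := isColimitMapCoconeCoforkEquiv (Comma.snd (𝟭 B) ρ) w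
    (isColimitOfPreserves (Comma.snd (𝟭 B) ρ) hπ)
  obtain ⟨hpb₁, hu₁⟩ := quotient_props hcB h₁ _ hπ₁
  obtain ⟨hpb₂, hu₂⟩ := quotient_props hcA h₂ _ hπ₂
  obtain ⟨r, hr1, hr2⟩ := (hR Ob).2.refl (𝟙 Ob)
  refine ⟨coequalizer p₁ p₂, coequalizer.π p₁ p₂, ?_,
    isPushout_of_isColimit_cofork r hr1 hr2 w hπ, ?_⟩
  · refine IsPullback.of_isLimit' ⟨w⟩ (Comma.fstSndJointlyReflectLimit ?_ ?_)
    · exact (isLimitMapConePullbackConeEquiv (Comma.fst (𝟭 B) ρ) w).symm hpb₁.isLimit
    · exact (isLimitMapConePullbackConeEquiv (Comma.snd (𝟭 B) ρ) w).symm hpb₂.isLimit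
  · intro B' g
    apply effectiveEpi_of_left_right
    · exact hu₁ _ _ _ ((IsPullback.of_hasPullback _ g).map (Comma.fst (𝟭 B) ρ))
    · exact hu₂ _ _ _ ((IsPullback.of_hasPullback _ g).map (Comma.snd (𝟭 B) ρ))

end CommaC

section CommaD

variable {A : Type v} {B : Type v} [Category.{u} A] [Category.{u} B] (ρ : A ⥤ B) [HasInitial B]
  {ιA ιB : Type w} (GA : ιA → A) (GB : ιB → B) (P : ObjectProperty A)

/-- The generating family of the glued category. -/
noncomputable def genObj :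
    ιA ⊕ (Σ (v : ιB) (X₀ : Subtype P), GB v ⟶ ρ.obj X₀.1) → Comma (𝟭 B) ρ
  | Sum.inl i => { left := ⊥_ B, right := GA i, hom := initial.to _ }
  | Sum.inr ⟨v, X₀, b⟩ => { left := GB v, right := X₀.1, hom := b }

/-- Axiom (d) of Giraud for the glued category, under a solution-set condition. -/
theorem isDetecting_genObj (hA : (ObjectProperty.ofObj GA).IsDetecting)
    (hB : (ObjectProperty.ofObj GB).IsDetecting)
    (hP : ∀ (X : A) (v : ιB) (z : GB v ⟶ ρ.obj X),
      ∃ (X₀ : A) (_ : P X₀) (g : X₀ ⟶ X) (b : GB v ⟶ ρ.obj X₀), b ≫ ρ.map g = z) :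
    (ObjectProperty.ofObj (genObj ρ GA GB P)).IsDetecting := by
  intro X Y f hf
  have hf' : ∀ p, ∀ h : genObj ρ GA GB P p ⟶ Y, ∃! h' : genObj ρ GA GB P p ⟶ X, h' ≫ f = h :=
    fun p => hf _ (ObjectProperty.ofObj_apply _ p)
  have hr : IsIso f.right := by
    apply hA
    rintro _ ⟨i⟩ h
    let m : genObj ρ GA GB P (Sum.inl i) ⟶ Y :=
      { left := initial.to _, right := h, w := initial.hom_ext _ _ }
    obtain ⟨l, hl, hl'⟩ := hf' (Sum.inl i) m
    refine ⟨l.right, congrArg CommaMorphism.right hl, ?_⟩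
    intro r' hr'
    let m' : genObj ρ GA GB P (Sum.inl i) ⟶ X :=
      { left := initial.to _, right := r', w := initial.hom_ext _ _ }
    have : m' = l := hl' m' (by
      ext
      · exact initial.hom_ext _ _
      · exact hr')
    rw [← this]
  have huniq : ∀ (v : ιB) (y₁ y₂ : GB v ⟶ X.left), y₁ ≫ f.left = y₂ ≫ f.left → y₁ = y₂ := by
    intro v y₁ y₂ hy
    have hz : y₁ ≫ X.hom = y₂ ≫ X.hom := by
      rw [← cancel_mono (ρ.map f.right)]
      have hw : f.left ≫ Y.hom = X.hom ≫ ρ.map f.right := f.w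
      rw [Category.assoc, Category.assoc, ← hw, ← Category.assoc, ← Category.assoc, hy]
    obtain ⟨X₀, hX₀, g, b, hb⟩ := hP X.right v (y₁ ≫ X.hom)
    let m₁ : genObj ρ GA GB P (Sum.inr ⟨v, ⟨X₀, hX₀⟩, b⟩) ⟶ X :=
      { left := y₁, right := g, w := hb.symm }
    let m₂ : genObj ρ GA GB P (Sum.inr ⟨v, ⟨X₀, hX₀⟩, b⟩) ⟶ X :=
      { left := y₂, right := g, w := (hb.trans hz).symm }
    have h12 : m₁ ≫ f = m₂ ≫ f := by
      ext
      · exact hy
      · rfl
    have : m₁ = m₂ := (hf' _ (m₂ ≫ f)).unique h12 rfl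
    exact congrArg CommaMorphism.left this
  have hl : IsIso f.left := by
    apply hB
    rintro _ ⟨v⟩ y'
    obtain ⟨X₀, hX₀, g, b, hb⟩ := hP Y.right v (y' ≫ Y.hom)
    let m : genObj ρ GA GB P (Sum.inr ⟨v, ⟨X₀, hX₀⟩, b⟩) ⟶ Y :=
      { left := y', right := g, w := hb.symm }
    obtain ⟨l, hl, -⟩ := hf' _ m
    refine ⟨l.left, congrArg CommaMorphism.left hl, ?_⟩
    intro y₂ hy₂
    exact huniq v _ _ (hy₂.trans (congrArg CommaMorphism.left hl).symm)
  exact isIso_of_left_right ρ f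

end CommaD

end Groth.Agent.Helper53.Glue
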