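import Groth.Agent.Lib.Helper53.ToposFinSite
import Mathlib.CategoryTheory.Presentable.OrthogonalReflection
import Mathlib.CategoryTheory.Presentable.Presheaf
import Mathlib.CategoryTheory.Presentable.Type
import Mathlib.CategoryTheory.Presentable.Adjunction

/-!
# Helper library: sheaf topoi on small sites are locally presentable
-/

set_option autoImplicit false
universe u

open CategoryTheory CategoryTheory.Limits Opposite

namespace Groth.Agent.Helper53.TF

open ToposFin

section General

variable {𝒜 : Type (u + 1)} [Category.{u} 𝒜]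

/-- A small family of presentable objects is uniformly presentable. -/
lemma exists_cardinal_presentable {I : Type u} (X : I → 𝒜) (hX : ∀ i, IsPresentable.{u} (X i))
    (κ₀ : Cardinal.{u}) :
    ∃ (κ : Cardinal.{u}) (_ : Fact κ.IsRegular), κ₀ ≤ κ ∧ ∀ i, IsCardinalPresentable (X i) κ := by
  choose κi hκi hpi using fun i => (hX i).exists_cardinal
  let μ : Cardinal.{u} := max (max κ₀ Cardinal.aleph0) (⨆ i, κi i)
  have hμ : Cardinal.aleph0 ≤ μ := le_trans (le_max_right _ _) (le_max_left _ _)
  have hreg : Fact (Order.succ μ).IsRegular := ⟨Cardinal.isRegular_succ hμ⟩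
  refine ⟨Order.succ μ, hreg, ?_, fun i => ?_⟩
  · exact le_trans (le_trans (le_max_left _ _) (le_max_left _ _)) (Order.le_succ μ)
  · have := hκi i
    have := hpi i
    have hle : κi i ≤ Order.succ μ :=
      le_trans (le_trans (le_ciSup Cardinal.bddAbove_of_small i) (le_max_right _ _))
        (Order.le_succ μ)
    exact isCardinalPresentable_of_le (X i) hle

end General

variable {C : Type u} [SmallCategory C] (J : GrothendieckTopology C)

/-- The inclusions of covering sieves into representables. -/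
def sieveW : MorphismProperty (Cᵒᵖ ⥤ Type u) :=
  MorphismProperty.ofHoms (fun p : Σ X : C, {S : Sieve X // S ∈ J X} => p.2.1.functorInclusion)

lemma isLocal_sieveW_iff (P : Cᵒᵖ ⥤ Type u) :
    (sieveW J).isLocal P ↔ Presieve.IsSheaf J P := by
  constructor
  · intro h X S hS
    rw [Presieve.isSheafFor_iff_yonedaSheafCondition]
    intro f
    have := h _ (MorphismProperty.ofHoms.mk (⟨X, ⟨S, hS⟩⟩ : Σ X : C, {S : Sieve X // S ∈ J X}))
    exact (Function.bijective_iff_existsUnique _).1 this f
  · rintro h _ _ _ ⟨⟨X, S, hS⟩⟩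
    have := Presieve.isSheafFor_iff_yonedaSheafCondition.1 (h S hS)
    exact (Function.bijective_iff_existsUnique _).2 this

/-- The category of sheaves of sets on a small site is locally presentable. -/
theorem isLocallyPresentable_sheaf : IsLocallyPresentable.{u} (Sheaf J (Type u)) := by
  obtain ⟨κ₀, hκ₀, h₀⟩ := IsLocallyPresentable.exists_cardinal.{u} (Cᵒᵖ ⥤ Type u)
  let I := Σ X : C, {S : Sieve X // S ∈ J X}
  obtain ⟨κ, hκ, hle, hpres⟩ := exists_cardinal_presentable
    (fun p : I ⊕ I => Sum.elim (fun p : I => (p.2.1.functor : Cᵒᵖ ⥤ Type u))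
      (fun p : I => (yoneda.obj p.1 : Cᵒᵖ ⥤ Type u)) p)
    (fun _ => inferInstance) κ₀
  have : IsCardinalLocallyPresentable (Cᵒᵖ ⥤ Type u) κ :=
    IsCardinalLocallyPresentable.of_le (Cᵒᵖ ⥤ Type u) hle
  have hW : ∀ ⦃X Y : Cᵒᵖ ⥤ Type u⦄ (f : X ⟶ Y), sieveW J f →
      IsCardinalPresentable X κ ∧ IsCardinalPresentable Y κ := by
    rintro _ _ _ ⟨p⟩
    exact ⟨hpres (Sum.inl p), hpres (Sum.inr p)⟩
  have : MorphismProperty.IsSmall.{u} (sieveW J) := by
    unfold sieveW
    infer_instance
  have hloc := MorphismProperty.isLocallyPresentable_isLocal (sieveW J) κ hW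
  let F : Sheaf J (Type u) ⥤ (sieveW J).isLocal.FullSubcategory :=
    ObjectProperty.lift _ (sheafToPresheaf J (Type u)) (fun X =>
      (isLocal_sieveW_iff J _).2 ((isSheaf_iff_isSheaf_of_type _ _).1 X.property))
  have hF : F ⋙ (sieveW J).isLocal.ι = sheafToPresheaf J (Type u) := rfl
  have hfull : F.Full := by
    have : (F ⋙ (sieveW J).isLocal.ι).Full := by rw [hF]; infer_instance
    exact Functor.Full.of_comp_faithful F (sieveW J).isLocal.ι
  have hfaith : F.Faithful := by
    have : (F ⋙ (sieveW J).isLocal.ι).Faithful := by rw [hF]; infer_instance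
    exact Functor.Faithful.of_comp F (sieveW J).isLocal.ι
  have hess : F.EssSurj := by
    constructor
    intro Y
    exact ⟨⟨Y.obj, (isSheaf_iff_isSheaf_of_type _ _).2 ((isLocal_sieveW_iff J _).1 Y.property)⟩,
      ⟨Iso.refl _⟩⟩
  have : F.IsEquivalence := {}
  exact ⟨κ, hκ, F.asEquivalence.symm.isCardinalLocallyPresentable κ⟩

/-- The solution-set property of an accessible functor between sheaf topoi: maps from
representable sheaves into `ρ X` factor through `ρ` of objects in a small family. -/
theorem exists_small_solutionSet {D : Type u} [SmallCategory D] (K : GrothendieckTopology D)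
    (ρ : Sheaf J (Type u) ⥤ Sheaf K (Type u)) [ρ.IsAccessible.{u}] :
    ∃ (P : ObjectProperty (Sheaf J (Type u))) (_ : ObjectProperty.Small.{u} P),
      ∀ (X : Sheaf J (Type u)) (V : D) (z : eps K V ⟶ ρ.obj X),
        ∃ (X₀ : Sheaf J (Type u)) (_ : P X₀) (g : X₀ ⟶ X) (b : eps K V ⟶ ρ.obj X₀),
          b ≫ ρ.map g = z := by
  have hJ := isLocallyPresentable_sheaf J
  have hK := isLocallyPresentable_sheaf K
  obtain ⟨κJ, hκJ, hJ'⟩ := IsLocallyPresentable.exists_cardinal.{u} (Sheaf J (Type u))
  obtain ⟨κρ, hκρ, hρ'⟩ := Functor.IsAccessible.exists_cardinal.{u} (F := ρ)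
  obtain ⟨κ, hκ, hle, hpres⟩ := exists_cardinal_presentable
    (fun V : D => eps K V) (fun _ => inferInstance) (max κJ κρ)
  have : IsCardinalLocallyPresentable (Sheaf J (Type u)) κ :=
    IsCardinalLocallyPresentable.of_le (Sheaf J (Type u)) (le_trans (le_max_left _ _) hle)
  have : ρ.IsCardinalAccessible κ :=
    Functor.isCardinalAccessible_of_le ρ (le_trans (le_max_right _ _) hle)
  obtain ⟨P, hPs, hP⟩ := HasCardinalFilteredGenerator.exists_small_generator (Sheaf J (Type u)) κ
  refine ⟨P, hPs, fun X V z => ?_⟩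
  obtain ⟨Jc, _, _, ⟨pres⟩⟩ := hP.exists_colimitsOfShape X
  have := ρ.preservesColimitsOfShape_of_isCardinalAccessible κ Jc
  have := hpres V
  have := essentiallySmall_of_small_of_locallySmall.{u} Jc
  obtain ⟨j, b, hb⟩ := IsCardinalPresentable.exists_hom_of_isColimit κ
    (isColimitOfPreserves ρ pres.isColimit) z
  exact ⟨pres.diag.obj j, pres.prop_diag_obj j, pres.ι.app j, b, hb⟩

end Groth.Agent.Helper53.TF
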