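import Mathlib

/-!
# Elementwise lemmas on torsion in abelian groups (used through the Freyd-Mitchell embedding)
-/

set_option autoImplicit false

namespace Groth.Agent.Helper53.Tors

/-- a Bezout-type relation: `1 = c + q b` with `m ∣ q ^ k * c`. -/
lemma exists_bezout_pow (m q : ℕ) (hm : 0 < m) :
    ∃ (k : ℕ) (c b : ℤ), c + q * b = 1 ∧ (m : ℤ) ∣ (q : ℤ) ^ k * c := by
  have : NeZero m := ⟨hm.ne'⟩
  -- pigeonhole on the powers of `q` in `ZMod m`
  obtain ⟨i, j, hij, h⟩ : ∃ i j : Fin (m + 1), i ≠ j ∧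
      ((q : ZMod m) ^ (i : ℕ)) = (q : ZMod m) ^ (j : ℕ) := by
    apply Fintype.exists_ne_map_eq_of_card_lt (fun i : Fin (m + 1) => (q : ZMod m) ^ (i : ℕ))
    simp [ZMod.card]
  wlog hlt : (i : ℕ) < (j : ℕ) generalizing i j
  · refine this j i hij.symm h.symm ?_
    have : (i : ℕ) ≠ (j : ℕ) := fun e => hij (Fin.ext e)
    omega
  obtain ⟨d, hd⟩ : ∃ d : ℕ, (j : ℕ) = (i : ℕ) + (d + 1) := ⟨(j : ℕ) - (i : ℕ) - 1, by omega⟩
  refine ⟨(i : ℕ), 1 - (q : ℤ) ^ (d + 1), (q : ℤ) ^ d, by ring, ?_⟩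
  have h2 : (((q : ℤ) ^ (i : ℕ) * (1 - (q : ℤ) ^ (d + 1)) : ℤ) : ZMod m) = 0 := by
    push_cast
    rw [mul_sub, mul_one, ← pow_add, ← hd, h, sub_self]
  exact (ZMod.intCast_zmod_eq_zero_iff_dvd _ _).1 h2

variable {M : Type*} [AddCommGroup M]

/-- torsion elements decompose into a `q`-power torsion part and a `q`-divisible part. -/
lemma exists_pow_torsion_add (m q : ℕ) (hm : 0 < m) (x : M) (hx : m • x = 0) :
    ∃ (k : ℕ) (a b : M), x = a + q • b ∧ (q ^ k) • a = 0 := by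
  obtain ⟨k, c, b, h1, ⟨e, he⟩⟩ := exists_bezout_pow m q hm
  refine ⟨k, c • x, b • x, ?_, ?_⟩
  · have : x = (c + q * b) • x := by rw [h1, one_smul]
    rw [add_smul, mul_smul] at this
    rw [← natCast_zsmul (b • x) q]
    exact this
  · rw [← natCast_zsmul, ← mul_smul]
    push_cast
    rw [he, mul_comm, mul_smul, natCast_zsmul, hx, smul_zero]

/-- the stabilisation hypothesis. -/
def Stab (M : Type*) [AddCommGroup M] (q N : ℕ) : Prop :=
  ∀ k : ℕ, N ≤ k → ∀ x : M, (q ^ (k + 1)) • x = 0 →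
    ∃ z : M, (q ^ (k + 2)) • z = 0 ∧ (q ^ (k + 1)) • z = (q ^ k) • x

lemma mem_add_of_stab (q N : ℕ) (H : Stab M q N) :
    ∀ (j : ℕ) (x : M), (q ^ (N + j)) • x = 0 → ∃ a b : M, x = a + q • b ∧ (q ^ N) • a = 0 := by
  intro j
  induction j with
  | zero => intro x hx; exact ⟨x, 0, by simp, by simpa using hx⟩
  | succ j ih =>
    intro x hx
    obtain ⟨z, hz1, hz2⟩ := H (N + j) (by omega) x (by rw [← hx]; rfl)
    have hx' : (q ^ (N + j)) • (x - q • z) = 0 := by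
      rw [smul_sub, ← mul_smul, ← pow_succ, hz2, sub_self]
    obtain ⟨a, b, hab, ha⟩ := ih _ hx'
    refine ⟨a, b + z, ?_, ha⟩
    rw [smul_add, ← add_assoc, ← hab]
    abel

/-- for `S14494`: divisibility improves. -/
lemma exists_smul_succ_of_stab (q N : ℕ) (H : Stab M q N) :
    ∀ (j n : ℕ), N ≤ n → ∀ x : M, (q ^ j) • ((q ^ n) • x) = 0 →
      ∃ w : M, (q ^ n) • x = (q ^ (n + 1)) • w := by
  intro j
  induction j with
  | zero =>
    intro n _ x hx
    exact ⟨0, by simpa using hx⟩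
  | succ j ih =>
    intro n hn x hx
    have h1 : (q ^ (n + j + 1)) • x = 0 := by
      rw [← hx, ← mul_smul, ← pow_add]
      congr 2; omega
    obtain ⟨z, hz1, hz2⟩ := H (n + j) (by omega) x h1
    have h2 : (q ^ j) • ((q ^ n) • (x - q • z)) = 0 := by
      rw [smul_sub, smul_sub, ← mul_smul, ← mul_smul, ← mul_smul, ← pow_add, ← pow_succ]
      have e1 : j + n = n + j := by omega
      have e2 : j + n + 1 = n + j + 1 := by omega
      rw [e2, e1, hz2, sub_self]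
    obtain ⟨w, hw⟩ := ih n hn _ h2
    refine ⟨w + z, ?_⟩
    rw [smul_add, ← hw, smul_sub, ← mul_smul, ← pow_succ]
    abel

/-- the relative stabilisation hypothesis for two subgroups. -/
def Stab₂ (S S' : AddSubgroup M) (q N : ℕ) : Prop :=
  ∀ k : ℕ, N ≤ k → ∀ s ∈ S, (q ^ (k + 1)) • s = 0 →
    ∃ z ∈ S', (q ^ (k + 2)) • z = 0 ∧ (q ^ (k + 1)) • z = (q ^ k) • s

lemma exists_smul_of_stab₂ (S S' : AddSubgroup M) (hS : S' ≤ S) (q N : ℕ) (H : Stab₂ S S' q N) :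
    ∀ (j : ℕ), ∀ s ∈ S, (q ^ j) • ((q ^ N) • s) = 0 → ∃ s' ∈ S', (q ^ N) • s = (q ^ N) • s' := by
  intro j
  induction j with
  | zero =>
    intro s _ hs
    exact ⟨0, S'.zero_mem, by simpa using hs⟩
  | succ j ih =>
    intro s hs hx
    have h1 : (q ^ (N + j + 1)) • s = 0 := by
      rw [← hx, ← mul_smul, ← pow_add]
      congr 2; omega
    obtain ⟨z, hzS, hz1, hz2⟩ := H (N + j) (by omega) s hs h1
    have h2 : (q ^ j) • ((q ^ N) • (s - q • z)) = 0 := by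
      rw [smul_sub, smul_sub, ← mul_smul, ← mul_smul, ← mul_smul, ← pow_add, ← pow_succ]
      have e1 : j + N = N + j := by omega
      have e2 : j + N + 1 = N + j + 1 := by omega
      rw [e2, e1, hz2, sub_self]
    obtain ⟨s', hs', hw⟩ := ih (s - q • z) (S.sub_mem hs (S.nsmul_mem (hS hzS) q)) h2
    refine ⟨s' + q • z, S'.add_mem hs' (S'.nsmul_mem hzS q), ?_⟩
    rw [smul_add, ← hw, smul_sub]
    abel

end Groth.Agent.Helper53.Tors
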