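import Groth.Agent.Lib.Helper53.FMChase
import Groth.Agent.Lib.Helper53.TorsModule

/-!
# Torsion chases in an abelian category
-/

set_option autoImplicit false
universe v u

namespace Groth.Agent.Helper53.Chase

open CategoryTheory Limits

variable {𝒜 : Type u} [Category.{v} 𝒜] [Abelian 𝒜]

lemma nsmul_id_comp_nsmul_id (A : 𝒜) (a b : ℕ) : (a • 𝟙 A) ≫ (b • 𝟙 A) = (a * b) • 𝟙 A := by
  rw [Preadditive.nsmul_comp, Category.id_comp, ← mul_smul]

lemma nsmul_id_comm {A B : 𝒜} (f : A ⟶ B) (n : ℕ) : (n • 𝟙 A) ≫ f = f ≫ (n • 𝟙 B) := by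
  rw [Preadditive.nsmul_comp, Preadditive.comp_nsmul, Category.id_comp, Category.comp_id]

/-- the map induced on `n`-torsion. -/
noncomputable def kerMap {A B : 𝒜} (f : A ⟶ B) (n : ℕ) :
    kernel (n • 𝟙 A) ⟶ kernel (n • 𝟙 B) :=
  kernel.map _ _ f f (nsmul_id_comm f n)

@[reassoc (attr := simp)]
lemma kerMap_ι {A B : 𝒜} (f : A ⟶ B) (n : ℕ) :
    kerMap f n ≫ kernel.ι (n • 𝟙 B) = kernel.ι (n • 𝟙 A) ≫ f := by
  simp [kerMap]

@[simp] lemma ap_kerMap_ι {A B : 𝒜} (f : A ⟶ B) (n : ℕ) (x : El (kernel (n • 𝟙 A))) :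
    ap (kernel.ι (n • 𝟙 B)) (ap (kerMap f n) x) = ap f (ap (kernel.ι (n • 𝟙 A)) x) := by
  rw [← ap_comp, kerMap_ι, ap_comp]

instance {A B : 𝒜} (f : A ⟶ B) [Mono f] (n : ℕ) : Mono (kerMap f n) :=
  mono_of_mono_fac (kerMap_ι f n)

/-- `A` is the union of its torsion subobjects. -/
def TorsGen (A : 𝒜) : Prop :=
  ∀ ⦃T : 𝒜⦄ (c : A ⟶ T), (∀ m : ℕ, 0 < m → kernel.ι (m • 𝟙 A) ≫ c = 0) → c = 0

lemma ker_smul_ap (A : 𝒜) (n : ℕ) (x : El (kernel (n • 𝟙 A))) :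
    n • ap (kernel.ι (n • 𝟙 A)) x = 0 := by
  rw [← ap_nsmul_id, ap_eq_zero_of_comp (kernel.condition _)]

lemma exists_ker_of_smul (A : 𝒜) (n : ℕ) (x : El A) (hx : n • x = 0) :
    ∃ y : El (kernel (n • 𝟙 A)), ap (kernel.ι _) y = x :=
  kernel_lift_ap _ x (by rw [ap_nsmul_id, hx])

/-- multiplication by `q ^ k` on the `q ^ (k + 1)`-torsion. -/
noncomputable abbrev wK (A : 𝒜) (q k : ℕ) : kernel ((q ^ (k + 1)) • 𝟙 A) ⟶ A :=
  kernel.ι _ ≫ ((q ^ k) • 𝟙 A)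

/-- the stabilisation condition. -/
def StabCat (A : 𝒜) (q N : ℕ) : Prop :=
  ∀ k, N ≤ k → Dom (wK A q k) (wK A q (k + 1))

lemma stab_of_stabCat {A : 𝒜} {q N : ℕ} (h : StabCat A q N) : Tors.Stab (El A) q N := by
  intro k hk x hx
  obtain ⟨x', rfl⟩ := exists_ker_of_smul A _ x hx
  obtain ⟨z', hz'⟩ := (h k hk).exists_ap x'
  refine ⟨ap (kernel.ι _) z', ker_smul_ap _ _ _, ?_⟩
  simpa [wK] using hz'

/-- the canonical map from the `q ^ N`-torsion to `A / q A`. -/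
noncomputable abbrev ρ (A : 𝒜) (q N : ℕ) : kernel ((q ^ N) • 𝟙 A) ⟶ cokernel (q • 𝟙 A) :=
  kernel.ι _ ≫ cokernel.π _

lemma decomp (A : 𝒜) (q N : ℕ) (h : StabCat A q N) (m : ℕ) (hm : 0 < m) (x : El A)
    (hx : m • x = 0) :
    ∃ (a : El (kernel ((q ^ N) • 𝟙 A))) (b : El A), x = ap (kernel.ι _) a + q • b := by
  obtain ⟨k, a, b, hab, ha⟩ := Tors.exists_pow_torsion_add m q hm x hx
  have ha' : (q ^ (N + k)) • a = 0 := by rw [pow_add, mul_smul, ha, smul_zero]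
  obtain ⟨a', b', hab', ha''⟩ := Tors.mem_add_of_stab q N (stab_of_stabCat h) k a ha'
  obtain ⟨a'', rfl⟩ := exists_ker_of_smul A _ a' ha''
  refine ⟨a'', b' + b, ?_⟩
  rw [hab, hab', smul_add]
  abel

lemma epi_ρ {A : 𝒜} (hA : TorsGen A) {q N : ℕ} (h : StabCat A q N) : Epi (ρ A q N) := by
  apply Preadditive.epi_of_cancel_zero
  intro T c hc
  have key : cokernel.π (q • 𝟙 A) ≫ c = 0 := by
    apply hA
    intro m hm
    apply eq_zero_of_ap
    intro x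
    obtain ⟨a, b, hab⟩ := decomp A q N h m hm _ (ker_smul_ap A m x)
    have h1 : ap c (ap (cokernel.π (q • 𝟙 A)) (ap (kernel.ι ((q ^ N) • 𝟙 A)) a)) = 0 := by
      have := ap_eq_zero_of_comp hc a
      rwa [ap_comp] at this
    have h2 : ap (cokernel.π (q • 𝟙 A)) (q • b) = 0 := by
      rw [← ap_nsmul_id, ap_eq_zero_of_comp (cokernel.condition _)]
    rw [ap_comp, ap_comp, hab, map_add, map_add, h1, h2, map_zero, add_zero]
  exact (cancel_epi (cokernel.π (q • 𝟙 A))).1 (by rw [key, comp_zero])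

/-- multiplication by `q` from the `q ^ (N + 1)`-torsion to the `q ^ N`-torsion. -/
noncomputable def uK (A : 𝒜) (q N : ℕ) :
    kernel ((q ^ (N + 1)) • 𝟙 A) ⟶ kernel ((q ^ N) • 𝟙 A) :=
  kernel.lift _ (kernel.ι _ ≫ (q • 𝟙 A)) (by
    rw [Category.assoc, nsmul_id_comp_nsmul_id, mul_comm, ← pow_succ, kernel.condition])

@[reassoc (attr := simp)]
lemma uK_ι (A : 𝒜) (q N : ℕ) :
    uK A q N ≫ kernel.ι _ = kernel.ι _ ≫ (q • 𝟙 A) := by
  simp [uK]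

lemma uK_ρ (A : 𝒜) (q N : ℕ) : uK A q N ≫ ρ A q N = 0 := by
  rw [ρ, uK_ι_assoc, cokernel.condition, comp_zero]

/-- the comparison `coker (q : A[q ^ (N+1)] ⟶ A[q ^ N]) ⟶ A / q A`. -/
noncomputable def cokerCmp (A : 𝒜) (q N : ℕ) : cokernel (uK A q N) ⟶ cokernel (q • 𝟙 A) :=
  cokernel.desc _ (ρ A q N) (uK_ρ A q N)

@[reassoc (attr := simp)]
lemma π_cokerCmp (A : 𝒜) (q N : ℕ) : cokernel.π _ ≫ cokerCmp A q N = ρ A q N := by
  simp [cokerCmp]

instance (A : 𝒜) (q N : ℕ) : Mono (cokerCmp A q N) := by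
  apply mono_of_injective_ap
  rw [injective_iff_map_eq_zero]
  intro y hy
  obtain ⟨a, rfl⟩ := surjective_ap (cokernel.π (uK A q N)) y
  rw [← ap_comp, π_cokerCmp, ap_comp] at hy
  obtain ⟨b, hb⟩ := cokernel_exact_ap _ _ hy
  rw [ap_nsmul_id] at hb
  have hb' : (q ^ (N + 1)) • b = 0 := by
    rw [pow_succ, mul_smul, hb, ker_smul_ap]
  obtain ⟨b', rfl⟩ := exists_ker_of_smul A _ b hb'
  have : ap (uK A q N) b' = a := by
    apply injective_ap (kernel.ι ((q ^ N) • 𝟙 A))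
    rw [← ap_comp, uK_ι, ap_comp, ap_nsmul_id, hb]
  rw [← this, ap_eq_zero_of_comp (cokernel.condition _)]

lemma isIso_cokerCmp {A : 𝒜} {q N : ℕ} (h : Epi (ρ A q N)) : IsIso (cokerCmp A q N) := by
  have : Epi (cokerCmp A q N) := by
    have : Epi (cokernel.π (uK A q N) ≫ cokerCmp A q N) := by rw [π_cokerCmp]; exact h
    exact epi_of_epi (cokernel.π (uK A q N)) _
  exact isIso_of_mono_of_epi _

/-- `q ^ n A = q ^ (n + 1) A` for `n ≥ N`. -/
lemma dom_pow_succ {A : 𝒜} (hA : TorsGen A) {q N : ℕ} (h : StabCat A q N) (n : ℕ) (hn : N ≤ n) :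
    Dom ((q ^ n) • 𝟙 A) ((q ^ (n + 1)) • 𝟙 A) := by
  intro T c hc
  apply hA
  intro m hm
  apply eq_zero_of_ap
  intro x
  obtain ⟨k, a, b, hab, ha⟩ := Tors.exists_pow_torsion_add m q hm _ (ker_smul_ap A m x)
  obtain ⟨w, hw⟩ := Tors.exists_smul_succ_of_stab q N (stab_of_stabCat h) k n hn a
    (by rw [smul_comm, ha, smul_zero])
  have h1 : (q ^ n) • ap (kernel.ι (m • 𝟙 A)) x = ap ((q ^ (n + 1)) • 𝟙 A) (w + b) := by
    rw [hab, ap_nsmul_id, smul_add, smul_add, hw, ← mul_smul, ← pow_succ]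
  rw [ap_comp, ap_comp, ap_nsmul_id, h1, ap_eq_zero_of_comp hc]

/-- kernels of kernels. -/
noncomputable def kerKerIso {A B : 𝒜} (f : A ⟶ B) (n : ℕ) :
    kernel (n • 𝟙 (kernel f)) ≅ kernel (kerMap f n) where
  hom := kernel.lift _ (kerMap (kernel.ι f) n) (by
    rw [← cancel_mono (kernel.ι (n • 𝟙 B))]
    simp)
  inv := kernel.lift _ (kernel.lift f (kernel.ι (kerMap f n) ≫ kernel.ι (n • 𝟙 A)) (by
      rw [Category.assoc, ← kerMap_ι, kernel.condition_assoc, zero_comp])) (by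
    rw [← cancel_mono (kernel.ι f), Category.assoc, nsmul_id_comm (kernel.ι f) n,
      kernel.lift_ι_assoc, Category.assoc, kernel.condition, comp_zero, zero_comp])
  hom_inv_id := by
    rw [← cancel_mono (kernel.ι (n • 𝟙 (kernel f))), ← cancel_mono (kernel.ι f)]
    simp
  inv_hom_id := by
    rw [← cancel_mono (kernel.ι (kerMap f n)), ← cancel_mono (kernel.ι (n • 𝟙 A))]
    simp

end Groth.Agent.Helper53.Chase
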