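import Groth.Agent.Lib.Helper53.TorsChase

/-!
# Torsion of a quotient
-/

set_option autoImplicit false
universe v u

namespace Groth.Agent.Helper53.Chase

open CategoryTheory Limits

variable {𝒜 : Type u} [Category.{v} 𝒜] [Abelian 𝒜]

namespace Quot

variable (S : ShortComplex 𝒜) (m N : ℕ)

/-- `J = A[m^(N+1)] / K[m^(N+1)]`. -/
noncomputable abbrev J : 𝒜 := cokernel (kerMap S.f (m ^ (N + 1)))

/-- the canonical map `J ⟶ A / K`. -/
noncomputable def j : J S m N ⟶ S.X₃ :=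
  cokernel.desc _ (kernel.ι _ ≫ S.g) (by rw [kerMap_ι_assoc, S.zero, comp_zero])

@[reassoc (attr := simp)]
lemma π_j : cokernel.π _ ≫ j S m N = kernel.ι _ ≫ S.g := by
  simp [j]

variable {S}

lemma mono_j (hS : S.ShortExact) : Mono (j S m N) := by
  have := hS.mono_f
  apply mono_of_injective_ap
  rw [injective_iff_map_eq_zero]
  intro y hy
  obtain ⟨a, rfl⟩ := surjective_ap (cokernel.π _) y
  rw [← ap_comp, π_j, ap_comp] at hy
  obtain ⟨k, hk⟩ := exact_ap S hS.exact _ hy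
  have hk0 : (m ^ (N + 1)) • k = 0 := by
    apply injective_ap S.f
    rw [map_nsmul, hk, ker_smul_ap, map_zero]
  obtain ⟨k', rfl⟩ := exists_ker_of_smul _ _ k hk0
  have : ap (kerMap S.f _) k' = a := by
    apply injective_ap (kernel.ι _)
    rw [ap_kerMap_ι, hk]
  rw [← this, ap_eq_zero_of_comp (cokernel.condition _)]

lemma epi_kerMap_j (hS : S.ShortExact) (hgen : Epi (ρ S.X₁ m N)) :
    Epi (kerMap (j S m N) m) := by
  have := hS.mono_f
  have := hS.epi_g
  have := mono_j m N hS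
  apply epi_of_surjective_ap
  intro x
  obtain ⟨a, ha⟩ := surjective_ap S.g (ap (kernel.ι _) x)
  have h1 : ap S.g (m • a) = 0 := by rw [map_nsmul, ha, ker_smul_ap]
  obtain ⟨k, hk⟩ := exact_ap S hS.exact _ h1
  obtain ⟨k₀, hk₀⟩ := surjective_ap (ρ S.X₁ m N) (ap (cokernel.π (m • 𝟙 S.X₁)) k)
  obtain ⟨k₁, hk₁⟩ := cokernel_exact_ap (m • 𝟙 S.X₁) (k - ap (kernel.ι _) k₀)
    (by rw [map_sub, ← hk₀, ap_comp, sub_self])
  rw [ap_nsmul_id] at hk₁
  have h2 : m • (a - ap S.f k₁) = ap S.f (ap (kernel.ι _) k₀) := by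
    rw [smul_sub, ← hk, ← map_nsmul, hk₁, map_sub]
    abel
  have h3 : (m ^ (N + 1)) • (a - ap S.f k₁) = 0 := by
    rw [pow_succ, mul_smul, h2, ← map_nsmul, ker_smul_ap, map_zero]
  obtain ⟨a'', ha''⟩ := exists_ker_of_smul _ _ _ h3
  have hy : ap (j S m N) (ap (cokernel.π (kerMap S.f (m ^ (N + 1)))) a'') =
      ap (kernel.ι _) x := by
    rw [← ap_comp, π_j, ap_comp, ha'', map_sub, ha, ap_eq_zero_of_comp S.zero, sub_zero]
  have hy0 : m • (ap (cokernel.π (kerMap S.f (m ^ (N + 1)))) a'') = 0 := by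
    apply injective_ap (j S m N)
    rw [map_nsmul, hy, ker_smul_ap, map_zero]
  obtain ⟨y', hy'⟩ := exists_ker_of_smul _ _ _ hy0
  refine ⟨y', ?_⟩
  apply injective_ap (kernel.ι _)
  rw [ap_kerMap_ι, hy', hy]

/-- the `m`-torsion of `A / K` is the `m`-torsion of `J`. -/
lemma isIso_kerMap_j (hS : S.ShortExact) (hgen : Epi (ρ S.X₁ m N)) :
    IsIso (kerMap (j S m N) m) := by
  have := mono_j m N hS
  have := epi_kerMap_j m N hS hgen
  exact isIso_of_mono_of_epi _

end Quot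

end Groth.Agent.Helper53.Chase
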