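import Groth.Agent.Lib.Helper53.FinCoverField3
import Groth.Agent.Lib.Helper52.Points
import Groth.Agent.Lib.Helper51.AlgSpPoints
import Groth.Agent.Lib.Helper30.AlgSpDesc
import Groth.Agent.Lib.Helper78.AlgSpBasic
import Groth.Prelude.Def_W4decUnivBdd

/-!
# Universally bounded fibres are Zariski local on the target (for affine etale charts) (helper53)
-/

set_option autoImplicit false
universe u

namespace Groth.Agent.Lib.Helper53.UnivBddZar

open CategoryTheory CategoryTheory.Limits AlgebraicGeometry AlgSp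
open Groth.Agent.Lib.Helper78.AlgSpBasic

variable {S : Scheme.{u}}

theorem isPullback_of_comp_mono {C : Type*} [Category C] {P X Y Z W : C} {fst : P ⟶ X}
    {snd : P ⟶ Y} {a : X ⟶ Z} {b : Y ⟶ Z} (f : Z ⟶ W) [Mono f]
    (sq : IsPullback fst snd (a ≫ f) (b ≫ f)) : IsPullback fst snd a b :=
  ⟨⟨(cancel_mono f).1 (by simpa using sq.w)⟩,
    ⟨PullbackCone.IsLimit.mk _
      (fun s => sq.lift s.fst s.snd (by rw [← Category.assoc, s.condition, Category.assoc]))
      (fun s => sq.lift_fst _ _ _) (fun s => sq.lift_snd _ _ _)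
      (fun s m h1 h2 => sq.hom_ext (by rw [h1, sq.lift_fst]) (by rw [h2, sq.lift_snd]))⟩⟩

set_option backward.isDefEq.respectTransparency false in
theorem main (X : AlgSp.Space S) {ι : Type u}
    (Xi : ι → AlgSp.Space S) (j : ∀ i, Xi i ⟶ X)
    (hj : AlgSp.IsZarCover (fun i => (Xi i).obj) (fun i => (j i).hom))
    (h : ∀ (i : ι) (V : Over S) (ψ : (AlgSp.yon S).obj V ⟶ (Xi i).obj), IsAffine V.left →
      AlgSp.RepWith @Etale ψ → W4dec.HasUnivBddFibres ψ)
    (U : Over S) (φ : (AlgSp.yon S).obj U ⟶ X.obj) (hU : IsAffine U.left)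
    (hφ : AlgSp.RepWith @Etale φ) :
    W4dec.HasUnivBddFibres φ := by
  classical
  have hbc : (AlgSp.RepWith (S := S) @Etale).IsStableUnderBaseChange :=
    AlgSp.repWith_isStableUnderBaseChange _
  -- Step 1: the open pieces of `U`
  have sqi : ∀ i, IsPullback ((hj.1 i).rep.fst φ) ((yon S).map ((hj.1 i).rep.snd φ)) (j i).hom φ :=
    fun i => (hj.1 i).rep.isPullback φ
  have hoi : ∀ i, IsOpenImmersion ((hj.1 i).rep.snd φ).left := fun i => (hj.1 i).property_snd φ
  have hφi : ∀ i, RepWith @Etale ((hj.1 i).rep.fst φ) := fun i =>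
    MorphismProperty.of_isPullback (sqi i).flip hφ
  have hmono : ∀ i, Mono (j i).hom := fun i =>
    mono_of_repWith IsOpenImmersion.le_monomorphisms (hj.1 i)
  have hcovU : ∀ u : U.left, ∃ i, u ∈ ((hj.1 i).rep.snd φ).left.opensRange := by
    intro u
    obtain ⟨i, y, hy⟩ := hj.2 (Points.map φ (Points.ofScheme U u))
    obtain ⟨w, -, hw⟩ := Groth.Agent.Lib.Helper52.exists_point_of_isPullback (sqi i) y
      (Points.ofScheme U u) hy
    refine ⟨i, (Points.schemeEquiv _).symm w, ?_⟩
    apply (Points.schemeEquiv U).injective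
    have h1 := Groth.Agent.Lib.Helper51.map_yon_map_ofScheme ((hj.1 i).rep.snd φ)
      ((Points.schemeEquiv _).symm w)
    have h2 : Points.ofScheme _ ((Points.schemeEquiv ((hj.1 i).rep.pullback φ)).symm w) = w :=
      (Points.schemeEquiv _).apply_symm_apply w
    rw [h2, hw] at h1
    exact h1.symm
  -- Step 2: a finite affine refinement
  choose iu hiu using hcovU
  have hW : ∀ u : U.left, ∃ W : U.left.Opens, IsAffineOpen W ∧ u ∈ W ∧
      W.1 ⊆ ((hj.1 (iu u)).rep.snd φ).left.opensRange := fun u =>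
    exists_isAffineOpen_mem_and_subset (hiu u)
  choose W hWa hWu hWs using hW
  obtain ⟨t, ht⟩ := isCompact_univ.elim_finite_subcover (fun u => ((W u : U.left.Opens) : Set U.left))
    (fun u => (W u).isOpen) (fun u _ => Set.mem_iUnion.mpr ⟨u, hWu u⟩)
  -- the pieces
  let Vl : t → Over S := fun l => Over.mk ((W l.1).ι ≫ U.hom)
  let vl : ∀ l : t, Vl l ⟶ U := fun l => Over.homMk (W l.1).ι rfl
  have hVaff : ∀ l : t, IsAffine (Vl l).left := fun l => hWa l.1
  have hsub : ∀ l : t, Set.range (W l.1).ι ⊆ Set.range ((hj.1 (iu l.1)).rep.snd φ).left := by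
    intro l x hx
    obtain ⟨y, rfl⟩ := hx
    exact hWs l.1 y.2
  let ml : ∀ l : t, Vl l ⟶ (hj.1 (iu l.1)).rep.pullback φ := fun l =>
    Over.homMk (IsOpenImmersion.lift ((hj.1 (iu l.1)).rep.snd φ).left (W l.1).ι (hsub l)) (by
      have h1 := Over.w ((hj.1 (iu l.1)).rep.snd φ)
      rw [← h1, ← Category.assoc, IsOpenImmersion.lift_fac]
      rfl)
  have hml : ∀ l : t, ml l ≫ (hj.1 (iu l.1)).rep.snd φ = vl l := by
    intro l
    ext
    exact IsOpenImmersion.lift_fac _ _ _
  have hmlo : ∀ l : t, IsOpenImmersion (ml l).left := by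
    intro l
    have h1 : (ml l).left ≫ ((hj.1 (iu l.1)).rep.snd φ).left = (W l.1).ι :=
      IsOpenImmersion.lift_fac _ _ _
    have : IsOpenImmersion ((ml l).left ≫ ((hj.1 (iu l.1)).rep.snd φ).left) := by
      rw [h1]; infer_instance
    exact IsOpenImmersion.of_comp _ ((hj.1 (iu l.1)).rep.snd φ).left
  let ψl : ∀ l : t, (yon S).obj (Vl l) ⟶ (Xi (iu l.1)).obj := fun l =>
    (yon S).map (ml l) ≫ (hj.1 (iu l.1)).rep.fst φ
  have hψe : ∀ l : t, RepWith @Etale (ψl l) := by
    intro l
    have h2 : RepWith @Etale ((yon S).map (ml l)) :=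
      (repWith_yon_map_iff _ _).2 (inferInstanceAs (Etale (ml l).left))
    exact (repWith_isMultiplicative (S := S) @Etale).comp_mem _ _ h2 (hφi _)
  have hψj : ∀ l : t, ψl l ≫ (j (iu l.1)).hom = (yon S).map (vl l) ≫ φ := by
    intro l
    rw [Category.assoc, (sqi (iu l.1)).w, ← Category.assoc, ← Functor.map_comp, hml]
  have hbdd : ∀ l : t, ∃ n : ℕ, W4dec.DegFibresLE n (ψl l) := fun l =>
    h (iu l.1) (Vl l) (ψl l) (hVaff l) (hψe l)
  choose n hn using hbdd
  refine ⟨∑ l, n l, ?_⟩
  -- Step 3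
  intro q T c snd sq
  obtain ⟨tt, htt⟩ := (yon S).map_surjective snd
  subst htt
  have hpb : ∀ l : t, ∃ (Tl : Over S) (al : Tl ⟶ T) (bl : Tl ⟶ Vl l), IsPullback al bl tt (vl l) ∧
      IsPullback al.left bl.left tt.left (vl l).left := fun l =>
    Groth.Agent.Lib.Helper30.isPullback_over' tt (vl l)
  choose Tl al bl sqO sqL using hpb
  have hal : ∀ l : t, IsOpenImmersion (al l).left := fun l =>
    MorphismProperty.of_isPullback (P := @IsOpenImmersion) (sqL l).flip
      (inferInstanceAs (IsOpenImmersion (W l.1).ι))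
  have hcovT : ∀ x : T.left, ∃ l : t, x ∈ Set.range (al l).left := by
    intro x
    have hx := ht (Set.mem_univ (tt.left x))
    obtain ⟨u, hu⟩ := Set.mem_iUnion.mp hx
    obtain ⟨hut, hxu⟩ := Set.mem_iUnion.mp hu
    let l : t := ⟨u, hut⟩
    have hxy : tt.left x = (vl l).left ⟨tt.left x, hxu⟩ := rfl
    obtain ⟨z, hz1, -⟩ := Scheme.Pullback.exists_preimage_pullback x _ hxy
    refine ⟨l, (sqL l).isoPullback.inv z, ?_⟩
    rw [← Scheme.Hom.comp_apply, (sqL l).isoPullback_inv_fst]
    exact hz1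
  have key : ∀ l : t, IsFinite ((al l).left ≫ c.left) ∧
      ∀ s, ((al l).left ≫ c.left).finrank s ≤ n l := by
    intro l
    have sqQ := (hj.1 (iu l.1)).rep.isPullback q.toHom
    have hqo : IsOpenImmersion ((hj.1 (iu l.1)).rep.snd q.toHom).left :=
      (hj.1 (iu l.1)).property_snd q.toHom
    -- the big square
    have big : IsPullback ((yon S).map (al l) ≫ (yon S).map c) ((yon S).map (bl l)) q.toHom
        ((yon S).map (vl l) ≫ φ) :=
      (((sqO l).map (yon S)).flip.paste_vert sq.flip).flip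
    by_cases hne : Nonempty ((hj.1 (iu l.1)).rep.pullback q.toHom).left
    · -- `q` factors through `Xi`
      have hsurj : Surjective ((hj.1 (iu l.1)).rep.snd q.toHom).left := by
        constructor
        intro y
        obtain ⟨z⟩ := hne
        refine ⟨z, ?_⟩
        have : Subsingleton ↥(q.pt.left) :=
          inferInstanceAs (Subsingleton (PrimeSpectrum q.K))
        exact Subsingleton.elim _ _
      have hiso : IsIso ((hj.1 (iu l.1)).rep.snd q.toHom).left :=
        (isIso_iff_isOpenImmersion_and_surjective _).2 ⟨hqo, hsurj⟩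
      have hiso'' : IsIso ((Over.forget S).map ((hj.1 (iu l.1)).rep.snd q.toHom)) := hiso
      have hiso' : IsIso ((hj.1 (iu l.1)).rep.snd q.toHom) :=
        isIso_of_reflects_iso _ (Over.forget S)
      let m : (yon S).obj q.pt ⟶ (Xi (iu l.1)).obj :=
        (yon S).map (inv ((hj.1 (iu l.1)).rep.snd q.toHom)) ≫ (hj.1 (iu l.1)).rep.fst q.toHom
      have hm : m ≫ (j (iu l.1)).hom = q.toHom := by
        rw [Category.assoc, sqQ.w, ← Category.assoc, ← Functor.map_comp, IsIso.inv_hom_id,
          CategoryTheory.Functor.map_id, Category.id_comp]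
      let q' : AlgSp.FieldPt (Xi (iu l.1)).obj := ⟨q.K, q.str, (AlgSp.J S).uliftYonedaEquiv m⟩
      have hq't : q'.toHom = m := Equiv.symm_apply_apply _ _
      have small : IsPullback ((yon S).map (al l ≫ c)) ((yon S).map (bl l)) m (ψl l) := by
        rw [Functor.map_comp]
        apply isPullback_of_comp_mono (j (iu l.1)).hom
        rw [hm, hψj]
        exact big
      rw [← hq't] at small
      have := hn l q' (Tl l) (al l ≫ c) ((yon S).map (bl l)) small
      exact this
    · have hemp : IsEmpty (Tl l).left := by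
        constructor
        intro x
        apply hne
        have hw : ((yon S).map (bl l) ≫ ψl l) ≫ (j (iu l.1)).hom =
            ((yon S).map (al l) ≫ (yon S).map c) ≫ q.toHom := by
          rw [Category.assoc, hψj]
          exact big.w.symm
        obtain ⟨ρ, hρ⟩ := (yon S).map_surjective (sqQ.lift _ _ hw)
        exact ⟨ρ.left x⟩
      obtain ⟨e1, e2⟩ := Groth.Agent.Lib.Helper53.FinCoverField.of_isEmpty (K := q.K)
        ((al l).left ≫ c.left)
      exact ⟨e1, fun s => by rw [e2 s]; exact Nat.zero_le _⟩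
  exact Groth.Agent.Lib.Helper53.FinCoverField.main (K := q.K) c.left (fun l => (Tl l).left)
    (fun l => (al l).left) n hcovT key

end Groth.Agent.Lib.Helper53.UnivBddZar
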